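import Cfsg.Agent.Lib.Compute.CosetCardLe

/-! Coset certificate data for subgroups J1 and M11 of the O'Nan group. -/

set_option autoImplicit false
set_option maxRecDepth 100000
set_option Elab.async false

namespace Cfsg.Agent.ONan.ChainJ1Low

open Cfsg.Agent.CosetCert

/-- the coset table -/
def tab : Tab :=
  (.node (.node (.leaf 0x60008000200040001) (.leaf 0x70009000300050000)) (.node (.leaf 0x90004000600000002) (.leaf 0x80005000700010003)))

/-- base relators -/
def base : List (List ℕ) := [[0, 1, 0, 1, 0, 1, 0, 1, 0, 1]]

/-- rotations of the relators -/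
def rots : WTab :=
  (.node (.leaf [0, 1, 0, 1, 0, 1, 0, 1, 0, 1]) (.leaf [1, 0, 1, 0, 1, 0, 1, 0, 1, 0]))

/-- hints -/
def hints : List (ℕ × ℕ × Bool) := [(0, 0, false), (0, 1, false)]

/-- subgroup words -/
def sw : List (List ℕ) := []

/-- parameters -/
def P : Params := ⟨tab, 2, rots, sw⟩

/-- the tree -/
def tree : List ℕ := [
  0, 1, 3, 4, 6, 9, 11, 12, 14]

/-- known edges at a check point -/
def mask0 : ℕ := 0x5ffff

theorem treeRun_ok : stIs (runList (treeStep P) tree ⟨1, 0, []⟩) 10 mask0 = true := by decide +kernel

/-- scans -/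
def seg0 : List Phase := [.scans [
  32768]]

theorem seg0_ok :
    stIs (runList (phaseStep P) seg0 ⟨10, mask0, []⟩) 10 (2 ^ (10 * P.k) - 1) = true := by decide +kernel

/-- the certificate -/
def phases : List Phase :=
  seg0

theorem cert_ok : checkCert P 10 tree phases = true :=
  checkCert_of_run P treeRun_ok (run_last P seg0_ok)

theorem tab_ok : tableOK P 10 = true := by decide +kernel

theorem rots_ok : rotsOK base rots.entries hints = true := by decide +kernel

theorem subs_ok :
    (P.subs.all fun w => sw.any fun u => wordEq w u || wordEq w.reverse u) = true := by decide +kernel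

end Cfsg.Agent.ONan.ChainJ1Low
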