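import Cfsg.Agent.Lib.ONan.Setup

/-! Kernel checks of the deductions, part 0. -/

set_option autoImplicit false

namespace Cfsg.Agent.ONan

open Cfsg.Agent.CosetCert

theorem factsOK0 : allBelow (fun i => okFact dataON (0 + i)) 460 = true := by decide +kernel

theorem factsOK1 : allBelow (fun i => okFact dataON (460 + i)) 460 = true := by decide +kernel

theorem factsOK2 : allBelow (fun i => okFact dataON (920 + i)) 460 = true := by decide +kernel

theorem factsOK3 : allBelow (fun i => okFact dataON (1380 + i)) 460 = true := by decide +kernel

end Cfsg.Agent.ONan
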