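import Cfsg.Agent.Lib.ONan.Setup

/-! Kernel checks of the deductions, part 1. -/

set_option autoImplicit false

namespace Cfsg.Agent.ONan

open Cfsg.Agent.CosetCert

theorem factsOK4 : allBelow (fun i => okFact dataON (1840 + i)) 460 = true := by decide +kernel

theorem factsOK5 : allBelow (fun i => okFact dataON (2300 + i)) 460 = true := by decide +kernel

theorem factsOK6 : allBelow (fun i => okFact dataON (2760 + i)) 460 = true := by decide +kernel

theorem factsOK7 : allBelow (fun i => okFact dataON (3220 + i)) 460 = true := by decide +kernel

end Cfsg.Agent.ONan
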