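import Cfsg.Agent.Lib.ONan.Setup

/-! Kernel checks of the deductions, part 2. -/

set_option autoImplicit false

namespace Cfsg.Agent.ONan

open Cfsg.Agent.CosetCert

theorem factsOK8 : allBelow (fun i => okFact dataON (3680 + i)) 460 = true := by decide +kernel

theorem factsOK9 : allBelow (fun i => okFact dataON (4140 + i)) 460 = true := by decide +kernel

theorem factsOK10 : allBelow (fun i => okFact dataON (4600 + i)) 460 = true := by decide +kernel

theorem factsOK11 : allBelow (fun i => okFact dataON (5060 + i)) 460 = true := by decide +kernel

end Cfsg.Agent.ONan
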