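import Cfsg.Agent.Lib.ONan.CoverDefs

/-! Checks of the covering data, part B. -/

set_option autoImplicit false

namespace Cfsg.Agent.ONan

open Cfsg.Agent.CosetCert

theorem edge1_ok2 : allBelow (fun i => edgeCheck 1 edge1 998 hint1 (666 + i)) 332 = true := by
  decide +kernel

theorem edge2_ok : allBelow (fun i => edgeCheck 2 edge2 117 hint2 i) 117 = true := by decide +kernel

end Cfsg.Agent.ONan
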