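import Cfsg.Agent.Lib.ONan.CoverCheckA
import Cfsg.Agent.Lib.ONan.CoverCheckB
import Cfsg.Agent.Lib.ONan.CoverCheckC

/-!
Five double cosets cover every group satisfying the rules, and the subgroup image of the group of order
3753792 has index at most 122760.
-/

set_option autoImplicit false

namespace Cfsg.Agent.ONan

open Cfsg.Agent.CosetCert

noncomputable section

theorem edge1_ok {i : ℕ} (hi : i < 998) : edgeCheck 1 edge1 998 hint1 i = true := by
  rcases lt_or_ge i 333 with h | h
  · exact allBelow_spec edge1_ok0 h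
  rcases lt_or_ge i 666 with h' | h'
  · have := allBelow_spec edge1_ok1 (i := i - 333) (by omega)
    rwa [show 333 + (i - 333) = i by omega] at this
  have := allBelow_spec edge1_ok2 (i := i - 666) (by omega)
  rwa [show 666 + (i - 666) = i by omega] at this

theorem edge5_ok {i : ℕ} (hi : i < 840) : edgeCheck 5 edge5 840 hint5 i = true := by
  rcases lt_or_ge i 420 with h | h
  · exact allBelow_spec edge5_ok0 h
  have := allBelow_spec edge5_ok1 (i := i - 420) (by omega)
  rwa [show 420 + (i - 420) = i by omega] at this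

variable {G : Type*} [Group G] {ψ : H0 →* G} {g : G} {x : ℕ → G}

/-- The union of the five double cosets. -/
def U (ψ : H0 →* G) (x : ℕ → G) : Set G :=
  {z | ∃ k ∈ [0, 1, 2, 5, 8], ∃ a b : H0, z = ψ a * x k * ψ b}

theorem mul_mem_U {z : G} (hz : z ∈ U ψ x) (a b : H0) : ψ a * z * ψ b ∈ U ψ x := by
  obtain ⟨k, hk, a', b', rfl⟩ := hz
  exact ⟨k, hk, a * a', b' * b, by simp [map_mul, mul_assoc]⟩

variable (R : DRules ψ g x dataON)

include R

theorem stabFact_spec {k n : ℕ} (h : stabFact k n = true) :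
    x k * ψ (elS (fld (factTab.get n) 2)) = ψ (elS (fld (factTab.get n) 3)) * x k := by
  simp only [stabFact, Bool.and_eq_true, Nat.beq_eq, Nat.blt_eq] at h
  obtain ⟨⟨⟨⟨hn, h0⟩, h1⟩, h4⟩, hv⟩ := h
  have hf := holds_all R n hn
  have hv := psi_of_sameL ψ hv
  simp only [elL, mul_one, map_one] at hv
  simp only [Holds, dataON] at hf
  rwa [h0, h1, h4, hv, pow_zero, mul_one, mul_one] at hf

theorem kCode_spec {i : ℕ} (hi : i < 64) :
    ∃ s : H0, g * ψ s = ψ (elS (kCode i)) * g := by
  have h := kCheck_ok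
  simp only [kCheck, Bool.and_eq_true] at h
  have := stabFact_spec R (allBelow_spec h.1.1 hi)
  rw [R.x1] at this
  exact ⟨_, this⟩

/-- The right closure at node `k`: every element's translate of `x k` by `g` is covered. -/
theorem node_cover {k : ℕ} (edge : NTrie) (len : ℕ) (hint : WTab) (hlen : 0 < len)
    (hok : ∀ i < len, edgeCheck k edge len hint i = true) (h : H0) :
    x k * ψ h * g ∈ U ψ x := by
  let Dset : Set H0 := {h | ∃ σ : H0, (∃ A : H0, x k * ψ σ = ψ A * x k) ∧
    ∃ i < len, ∃ c < 64, h = σ * elS (fld (factTab.get (edge.get i)) 2) * elS (kCode c)}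
  have hk := kCheck_ok
  simp only [kCheck, Bool.and_eq_true] at hk
  have hk1 : elS (kCode 0) = 1 := by
    have := eq_of_sameL hk.1.2
    simpa [elL] using this
  have hmul : ∀ i < 64, ∀ j < 64, ∃ l < 64, elS (kCode i) * elS (kCode j) = elS (kCode l) := by
    intro i hi j hj
    have := allBelow_spec (allBelow_spec hk.2 hi) hj
    simp only [Bool.and_eq_true, Nat.blt_eq] at this
    refine ⟨_, this.1, ?_⟩
    have := eq_of_sameL this.2
    simpa [elL] using this
  have hK : ∀ z ∈ Dset, ∀ j < 64, z * elS (kCode j) ∈ Dset := by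
    rintro z ⟨σ, hσ, i, hi, c, hc, rfl⟩ j hj
    obtain ⟨l, hl, e⟩ := hmul c hc j hj
    exact ⟨σ, hσ, i, hi, l, hl, by rw [mul_assoc, e]⟩
  have hy : ∀ z ∈ Dset, z * elS yCode ∈ Dset := by
    rintro z ⟨σ, hσ, i, hi, c, hc, rfl⟩
    have h := yCheck_ok
    simp only [yCheck, Bool.and_eq_true] at h
    have hc' := allBelow_spec h.2 hc
    simp only [Bool.and_eq_true, Nat.blt_eq] at hc'
    obtain ⟨⟨⟨hr, hd⟩, -⟩, hdec⟩ := hc'
    have hj := allBelow_spec h.1 hd
    simp only [Bool.and_eq_true, Nat.blt_eq] at hj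
    obtain ⟨⟨-, hd'⟩, hcomm⟩ := hj
    have hdec := eq_of_sameL hdec
    have hcomm := eq_of_sameL hcomm
    simp only [elL, mul_one] at hdec hcomm
    have he := hok i hi
    simp only [edgeCheck, Bool.and_eq_true] at he
    have hh := allBelow_spec he.2 hr
    simp only [hintCheck, Bool.and_eq_true, Nat.blt_eq] at hh
    set hv := fld (hint.get i) (fld (kDec.getD c []) 0)
    obtain ⟨⟨hs, hq⟩, heq⟩ := hh
    have heq := eq_of_sameL heq
    simp only [elL, mul_one] at heq
    obtain ⟨A, hA⟩ := hσ
    obtain ⟨l, hl, el⟩ := hmul (Nat.mod (Nat.div hv 8192) 64) (Nat.mod_lt _ (by norm_num)) _ hd'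
    refine ⟨σ * elS (fld (factTab.get (Nat.mod hv 8192)) 2),
      ⟨A * elS (fld (factTab.get (Nat.mod hv 8192)) 3), ?_⟩, Nat.div hv 524288, hq, l, hl, ?_⟩
    · rw [map_mul, map_mul, ← mul_assoc, hA, mul_assoc, stabFact_spec R hs, ← mul_assoc]
    · rw [hdec, ← el]
      calc σ * elS (fld (factTab.get (edge.get i)) 2) *
            (elS (kCode (fld repIdx (fld (kDec.getD c []) 0))) *
              elS (kCode (fld (jPairs.getD (fld (kDec.getD c []) 1) []) 0))) * elS yCode
          = σ * (elS (fld (factTab.get (edge.get i)) 2) *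
              (elS (kCode (fld repIdx (fld (kDec.getD c []) 0))) *
                (elS (kCode (fld (jPairs.getD (fld (kDec.getD c []) 1) []) 0)) * elS yCode))) := by
            group
        _ = σ * (elS (fld (factTab.get (edge.get i)) 2) *
              (elS (kCode (fld repIdx (fld (kDec.getD c []) 0))) * elS yCode) *
                elS (kCode (fld (jPairs.getD (fld (kDec.getD c []) 1) []) 1))) := by
            rw [hcomm]; group
        _ = _ := by rw [heq]; group
  have hgen : ∀ z ∈ Dset, ∀ l < 6, z * gen0 l ∈ Dset := by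
    intro z hz l hl
    have h := allBelow_spec genWordCheck_ok hl
    simp only [Bool.and_eq_true, List.all_eq_true] at h
    have e := eq_of_sameL h.2
    simp only [elL, mul_one, elS_letCode hl] at e
    rw [e]
    have key : ∀ (w : List ℕ), (∀ i ∈ w, Nat.ble i 64 = true) → ∀ z ∈ Dset,
        z * elL (w.map wordCode) ∈ Dset := by
      intro w
      induction w with
      | nil => intro _ z hz; simpa [elL] using hz
      | cons i w ih =>
        intro hw z hz
        rw [List.map_cons, elL, ← mul_assoc]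
        refine ih (fun i' hi' => hw i' (List.mem_cons_of_mem _ hi')) _ ?_
        have hi := Nat.le_of_ble_eq_true (hw i List.mem_cons_self)
        cases hb : Nat.beq i 64 with
        | true => rw [wordCode, hb]; exact hy z hz
        | false =>
          rw [wordCode, hb]
          exact hK z hz i (lt_of_le_of_ne hi (Nat.ne_of_beq_eq_false hb))
    exact key _ h.1 z hz
  have hbase : elS (fld (factTab.get (edge.get 0)) 2) ∈ Dset :=
    ⟨1, ⟨1, by simp⟩, 0, hlen, 0, by norm_num, by rw [hk1]; group⟩
  have hall : ∀ w : H0, ∀ z ∈ Dset, z * w ∈ Dset := by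
    intro w
    have hw : w ∈ Subgroup.closure (gen0 '' {x | x < 6}) := by rw [closure_gen0]; trivial
    induction hw using Subgroup.closure_induction_right with
    | one => intro z hz; simpa using hz
    | mul_right u v _ hv ih =>
      intro z hz
      obtain ⟨l, hl, rfl⟩ := hv
      rw [← mul_assoc]
      exact hgen _ (ih z hz) l hl
    | mul_inv_cancel u v _ hv ih =>
      intro z hz
      obtain ⟨l, hl, rfl⟩ := hv
      rw [← mul_assoc, inv_eq_of_mul_eq_one_right (gen0_sq l)]
      exact hgen _ (ih z hz) l hl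
  have hh : h ∈ Dset := by
    have := hall ((elS (fld (factTab.get (edge.get 0)) 2))⁻¹ * h) _ hbase
    rwa [mul_inv_cancel_left] at this
  obtain ⟨σ, ⟨A, hA⟩, i, hi, c, hc, rfl⟩ := hh
  obtain ⟨s, hs⟩ := kCode_spec R hc
  have he := hok i hi
  simp only [edgeCheck, Bool.and_eq_true, Nat.beq_eq, Nat.blt_eq, List.any_eq_true] at he
  obtain ⟨⟨⟨⟨hn, h1⟩, hk'⟩, l, hl, hlj⟩, -⟩ := he
  have hf := holds_all R _ hn
  simp only [Holds, dataON] at hf
  rw [h1, hk', pow_one, hlj] at hf
  refine ⟨l, hl, A * elS (fld (factTab.get (edge.get i)) 3),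
    elS (fld (factTab.get (edge.get i)) 5) * s, ?_⟩
  rw [map_mul, map_mul, map_mul, map_mul]
  calc x k * (ψ σ * ψ (elS (fld (factTab.get (edge.get i)) 2)) * ψ (elS (kCode c))) * g
      = x k * ψ σ * ψ (elS (fld (factTab.get (edge.get i)) 2)) * (ψ (elS (kCode c)) * g) := by group
    _ = ψ A * (x k * ψ (elS (fld (factTab.get (edge.get i)) 2)) * g) * ψ s := by
      rw [← hs, hA]; group
    _ = _ := by rw [hf]; group

theorem x_mul_g {k : ℕ} (hk : k ∈ [0, 1, 2, 5, 8]) (h : H0) : x k * ψ h * g ∈ U ψ x := by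
  simp only [List.mem_cons, List.not_mem_nil, or_false] at hk
  rcases hk with rfl | rfl | rfl | rfl | rfl
  · exact ⟨1, by simp, h, 1, by simp [R.x0, R.x1]⟩
  · exact node_cover R edge1 998 hint1 (by norm_num) (fun i hi => edge1_ok hi) h
  · exact node_cover R edge2 117 hint2 (by norm_num) (fun i hi => allBelow_spec edge2_ok hi) h
  · exact node_cover R edge5 840 hint5 (by norm_num) (fun i hi => edge5_ok hi) h
  · exact node_cover R edge8 120 hint8 (by norm_num) (fun i hi => allBelow_spec edge8_ok hi) h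

/-- The five double cosets cover the group. -/
theorem U_eq_univ (htop : ψ.range ⊔ Subgroup.closure {g} = ⊤) (z : G) : z ∈ U ψ x := by
  have hg : ∀ w ∈ U ψ x, w * g ∈ U ψ x := by
    rintro _ ⟨k, hk, a, b, rfl⟩
    have := mul_mem_U (x_mul_g R hk b) a 1
    simpa [mul_assoc] using this
  have hψ : ∀ w ∈ U ψ x, ∀ b : H0, w * ψ b ∈ U ψ x := fun w hw b => by
    simpa using mul_mem_U hw 1 b
  have hginv : ∀ w ∈ U ψ x, w * g⁻¹ ∈ U ψ x := by
    intro w hw
    have := hg _ (hψ w hw (gen0 0 * gen0 5)⁻¹)
    rw [map_inv, ← R.gg] at this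
    simpa [mul_assoc] using this
  have key : ∀ v ∈ Subgroup.closure ((ψ.range : Set G) ∪ {g}), ∀ w ∈ U ψ x, w * v ∈ U ψ x := by
    intro v hv
    induction hv using Subgroup.closure_induction_right with
    | one => intro w hw; simpa using hw
    | mul_right u t _ ht ih =>
      intro w hw
      rw [← mul_assoc]
      rcases ht with ⟨b, rfl⟩ | ht
      · exact hψ _ (ih w hw) b
      · rw [Set.mem_singleton_iff.1 ht]; exact hg _ (ih w hw)
    | mul_inv_cancel u t _ ht ih =>
      intro w hw
      rw [← mul_assoc]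
      rcases ht with ⟨b, rfl⟩ | ht
      · rw [← map_inv]; exact hψ _ (ih w hw) b⁻¹
      · rw [Set.mem_singleton_iff.1 ht]; exact hginv _ (ih w hw)
  have := key z (by
    rw [Subgroup.closure_union, Subgroup.closure_eq, htop]; trivial) 1
      ⟨0, by simp, 1, 1, by simp [R.x0]⟩
  simpa using this

end

end Cfsg.Agent.ONan
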