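import Cfsg.Agent.Lib.ONan.CoverDefs

/-! Checks of the covering data, part A. -/

set_option autoImplicit false

namespace Cfsg.Agent.ONan

open Cfsg.Agent.CosetCert

theorem edge1_ok0 : allBelow (fun i => edgeCheck 1 edge1 998 hint1 i) 333 = true := by decide +kernel

theorem edge1_ok1 : allBelow (fun i => edgeCheck 1 edge1 998 hint1 (333 + i)) 333 = true := by
  decide +kernel

end Cfsg.Agent.ONan
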