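import Cfsg.Agent.Lib.ONan.Facts
import Cfsg.Agent.Lib.ONan.CoverData

/-! Checks of the covering data: definitions. -/

set_option autoImplicit false

namespace Cfsg.Agent.ONan

open Cfsg.Agent.CosetCert

noncomputable section

/-- The code of element `i` of the group of order 64. -/
def kCode (i : ℕ) : ℕ := fld (factTab.get (kFact.get i)) 3

/-- A fact `x k * s = A * x k`. -/
def stabFact (k n : ℕ) : Bool :=
  Nat.blt n 7360 && Nat.beq (fld (factTab.get n) 0) 0 && Nat.beq (fld (factTab.get n) 1) k &&
    Nat.beq (fld (factTab.get n) 4) k && sameL [fld (factTab.get n) 5] []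

/-- The checks on the group of order 64. -/
def kCheck : Bool :=
  allBelow (fun i => stabFact 1 (kFact.get i)) 64 &&
  sameL [kCode 0] [] &&
  allBelow (fun i => allBelow (fun j => Nat.blt (fld (kMul.get i) j) 64 &&
    sameL [kCode i, kCode j] [kCode (fld (kMul.get i) j)]) 64) 64

/-- The checks on the elements commuting past `y`. -/
def yCheck : Bool :=
  allBelow (fun d => Nat.blt (fld (jPairs.getD d []) 0) 64 && Nat.blt (fld (jPairs.getD d []) 1) 64 &&
    sameL [kCode (fld (jPairs.getD d []) 0), yCode] [yCode, kCode (fld (jPairs.getD d []) 1)]) 4 &&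
  allBelow (fun i => Nat.blt (fld (kDec.getD i []) 0) 16 && Nat.blt (fld (kDec.getD i []) 1) 4 &&
    Nat.blt (fld repIdx (fld (kDec.getD i []) 0)) 64 &&
    sameL [kCode i] [kCode (fld repIdx (fld (kDec.getD i []) 0)),
      kCode (fld (jPairs.getD (fld (kDec.getD i []) 1) []) 0)]) 64

/-- The code of letter `i` of `genWords`. -/
def wordCode (i : ℕ) : ℕ := Bool.rec (kCode i) yCode (Nat.beq i 64)

/-- The generators are products from the 64 elements and `y`. -/
def genWordCheck : Bool :=
  allBelow (fun x => ((genWords.getD x []).all fun i => Nat.ble i 64) &&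
    sameL [letCode x] ((genWords.getD x []).map wordCode)) 6

/-- One hint. -/
def hintCheck (k : ℕ) (edge : NTrie) (len : ℕ) (hint : WTab) (i j : ℕ) : Bool :=
  let h := fld (hint.get i) j
  let sf := Nat.mod h 8192
  let c := Nat.mod (Nat.div h 8192) 64
  let q := Nat.div h 524288
  stabFact k sf && Nat.blt q len &&
    sameL [fld (factTab.get (edge.get i)) 2, kCode (fld repIdx j), yCode]
      [fld (factTab.get sf) 2, fld (factTab.get (edge.get q)) 2, kCode c]

/-- The checks at edge `i`. -/
def edgeCheck (k : ℕ) (edge : NTrie) (len : ℕ) (hint : WTab) (i : ℕ) : Bool :=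
  Nat.blt (edge.get i) 7360 && Nat.beq (fld (factTab.get (edge.get i)) 0) 1 &&
    Nat.beq (fld (factTab.get (edge.get i)) 1) k &&
    [0, 1, 2, 5, 8].any (fun l => Nat.beq (fld (factTab.get (edge.get i)) 4) l) &&
    allBelow (fun j => hintCheck k edge len hint i j) 16

theorem kCheck_ok : kCheck = true := by decide +kernel
theorem yCheck_ok : yCheck = true := by decide +kernel
theorem genWordCheck_ok : genWordCheck = true := by decide +kernel
end

end Cfsg.Agent.ONan
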