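import Cfsg.Agent.Lib.ONan.HEval

/-!
Checking deductions among double cosets.

Let `ψ` map the group of order 3753792 to a group with a further element `g` satisfying `g * g = a f`, and
let `x k` be named elements with `x 0 = 1`, `x 1 = g`.  A fact is an equation
`x i * u * g ^ e = A * x j * v` with `u, A, v` coded elements of the group of order 3753792; each fact
carries a proof from earlier facts, the relators and the definitions of the `x k`.
-/

set_option autoImplicit false

namespace Cfsg.Agent.ONan

open Cfsg.Agent.CosetCert

noncomputable section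

/-- Entry `k` of a list, `0` beyond its end. -/
def fld (l : List ℕ) (k : ℕ) : ℕ :=
  List.rec (fun _ => 0) (fun x _ r k => Bool.rec (r (Nat.sub k 1)) x (Nat.beq k 0)) l k

/-- The signed code of the inverse element. -/
def flipS (s : ℕ) : ℕ := Bool.rec (Nat.sub s 1) (Nat.add s 1) (Nat.beq (Nat.mod s 2) 0)

theorem elS_flipS (s : ℕ) : elS (flipS s) = (elS s)⁻¹ := by
  cases h : Nat.beq (Nat.mod s 2) 0
  · have hm : ¬ s % 2 = 0 := Nat.ne_of_beq_eq_false h
    have h1 : (s - 1) % 2 = 0 := by omega
    have h2 : (s - 1) / 2 = s / 2 := by omega
    simp [flipS, h, elS, hm, h1, h2]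
  · have hm : s % 2 = 0 := Nat.eq_of_beq_eq_true h
    have h1 : ¬ (s + 1) % 2 = 0 := by omega
    have h2 : (s + 1) / 2 = s / 2 := by omega
    simp [flipS, h, elS, hm, h1, h2]

/-- The signed codes of the inverse product. -/
def invL (l : List ℕ) : List ℕ := (l.map flipS).reverse

theorem elL_invL (l : List ℕ) : elL (invL l) = (elL l)⁻¹ := by
  induction l with
  | nil => simp [invL, elL]
  | cons s l ih =>
    have : invL (s :: l) = invL l ++ [flipS s] := by simp [invL]
    rw [this, elL_append, ih]
    simp [elL, elS_flipS]

/-- The signed codes of the six generators. -/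
def letCode (x : ℕ) : ℕ := fld genCodes x
where
  /-- The list of codes. -/
  genCodes : List ℕ := [131712, 263424, 395136, 263778, 403542, 65856]

/-- The codes of the generators are right. -/
def letCheck : Bool :=
  allBelow (fun x => T5.beq (stepS (letCode x) base5)
    ⟨act0 x 0, act0 x 1, act0 x 2, act0 x 3, act0 x 4⟩) 6

theorem letCheck_ok : letCheck = true := by decide +kernel

theorem elS_letCode {x : ℕ} (hx : x < 6) : elS (letCode x) = gen0 x := by
  apply eq_of_image
  rw [(stepS_spec _ base5_inRange).2]
  have h := allBelow_spec letCheck_ok hx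
  simp only [T5.beq, Bool.and_eq_true, Nat.beq_eq] at h
  obtain ⟨⟨⟨⟨h1, h2⟩, h3⟩, h4⟩, h5⟩ := h
  have hp : ∀ q < 114, pt (gen0 x) q = act0 x q := fun q hq => by
    have := (pt_wprod (w := [x]) (by simpa using hx) hq).2
    simpa [wprod, actW] using this
  simp [T5.image, base5, hp]
  exact T5.casesOn (motive := fun t => t.a = act0 x 0 → t.b = act0 x 1 → t.c = act0 x 2 →
    t.d = act0 x 3 → t.e = act0 x 4 → t = ⟨act0 x 0, act0 x 1, act0 x 2, act0 x 3, act0 x 4⟩)
    (stepS (letCode x) base5) (fun a b c d e ha hb hc hd he => by subst ha hb hc hd he; rfl) h1 h2 h3 h4 h5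

/-- The signed codes of `a f`. -/
def afL : List ℕ := [letCode 0, letCode 5]

theorem elL_afL : elL afL = gen0 0 * gen0 5 := by
  simp [afL, elL, elS_letCode]

/-- A state of a chain of rewritings: the product `A * x k * u` and the word consumed. -/
structure DSt where
  A : List ℕ
  k : ℕ
  u : List ℕ
  W : List ℕ

/-- The data of facts. -/
structure DData where
  F : WTab
  P : WTab
  rels : List (List ℕ)
  defs : List (List ℕ)

variable (D : DData)

/-- One move. -/
def moveStep (n : ℕ) (st : DSt) (m : ℕ) : Option DSt :=
  let t := Nat.mod m 16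
  let f1 := D.F.get (Nat.mod (Nat.div m 16) 16384)
  let f2 := D.F.get (Nat.div m 262144)
  bif Nat.blt t 6 then some ⟨st.A, st.k, st.u ++ [letCode t], st.W ++ [t]⟩
  else bif Nat.beq t 6 then
    bif Nat.beq st.k 0 then some ⟨st.A ++ st.u, 0, [], st.W⟩ else none
  else bif Nat.beq t 7 then
    bif Nat.beq st.k 0 then some ⟨st.A ++ st.u, 1, [], st.W ++ [6]⟩ else none
  else bif !(Nat.blt (Nat.mod (Nat.div m 16) 16384) n) then none
  else bif Nat.beq t 8 then
    bif Nat.beq (fld f1 0) 0 && Nat.beq st.k (fld f1 1) then
      some ⟨st.A ++ [fld f1 3], fld f1 4, [fld f1 5, flipS (fld f1 2)] ++ st.u, st.W⟩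
    else none
  else bif Nat.beq t 9 then
    bif Nat.beq (fld f1 0) 0 && Nat.beq st.k (fld f1 4) then
      some ⟨st.A ++ [flipS (fld f1 3)], fld f1 1, [fld f1 2, flipS (fld f1 5)] ++ st.u, st.W⟩
    else none
  else bif Nat.beq t 10 then
    bif Nat.blt (Nat.div m 262144) n && Nat.beq (fld f1 0) 1 && Nat.beq st.k (fld f1 1) &&
        Nat.beq (fld f2 0) 0 && Nat.beq (fld f2 1) 1 && Nat.beq (fld f2 4) 1 &&
        sameL [fld f2 5] [] && sameL st.u [fld f1 2, fld f2 3] then
      some ⟨st.A ++ [fld f1 3], fld f1 4, [fld f1 5, fld f2 2], st.W ++ [6]⟩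
    else none
  else bif Nat.beq t 11 then
    bif Nat.beq (fld f1 0) 1 && Nat.beq st.k (fld f1 1) && sameL st.u [fld f1 2] then
      some ⟨st.A ++ [fld f1 3], fld f1 4, [fld f1 5], st.W ++ [6]⟩
    else none
  else none

/-- A list of moves. -/
def runMoves (n : ℕ) (l : List ℕ) (st : DSt) : Option DSt :=
  List.rec (fun st => some st)
    (fun m _ r st => match moveStep D n st m with
      | some st' => r st'
      | none => none) l st

/-- Inverse of a word in `a, …, f, g`. -/
def invW (w : List ℕ) : List ℕ :=
  List.rec [] (fun x _ r => r ++ Bool.rec [x] [0, 5, 6] (Nat.beq x 6)) w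

/-- Two chains from the same start. -/
def runTwo (n i h len : ℕ) (l : List ℕ) : Option (DSt × DSt) :=
  match runMoves D n (l.take len) ⟨[], i, [h], []⟩, runMoves D n (l.drop len) ⟨[], i, [h], []⟩ with
  | some s₁, some s₂ => some (s₁, s₂)
  | _, _ => none

/-- Check the proof of fact `n`. -/
def okFact (n : ℕ) : Bool :=
  let f := D.F.get n
  let e := fld f 0
  let i := fld f 1
  let u := fld f 2
  let A := fld f 3
  let j := fld f 4
  let v := fld f 5
  match D.P.get n with
  | [] => false
  | t :: p =>
    bif Nat.beq t 0 then Nat.beq e 0 && Nat.beq i j && sameL [u] [v] && sameL [A] []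
    else bif Nat.beq t 1 then
      Nat.beq e 1 && Nat.beq i 1 && Nat.beq j 0 && sameL [u] [] && sameL [v] [] && sameL [A] afL
    else bif Nat.beq t 2 then
      Nat.beq e 1 && sameL [A] [] && sameL [v] [] && D.defs.any (fun d => wordEq d [j, i, u])
    else bif Nat.beq t 3 then
      let f' := D.F.get (fld p 0)
      Nat.blt (fld p 0) n && Nat.beq e 1 && Nat.beq (fld f' 0) 1 && Nat.beq i (fld f' 4) &&
        Nat.beq j (fld f' 1) && sameL [u] [fld f' 5] && sameL [v] ([fld f' 2] ++ afL) &&
        sameL [A] [flipS (fld f' 3)]
    else bif Nat.beq t 4 then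
      let f' := D.F.get (fld p 0)
      Nat.blt (fld p 0) n && Nat.beq (fld f' 0) 0 && Nat.beq (fld f' 1) 1 && Nat.beq (fld f' 4) 1 &&
        sameL [fld f' 5] [] && Nat.beq e 0 && Nat.beq i 1 && Nat.beq j 1 && sameL [v] [] &&
        sameL [u] [fld f' 3] && sameL [A] (afL ++ [fld f' 2] ++ afL)
    else bif Nat.beq t 5 || Nat.beq t 6 then
      match runMoves D n p ⟨[], i, [u], []⟩ with
      | some st =>
        Nat.beq e (Nat.sub t 5) && wordEq st.W (Bool.rec [6] [] (Nat.beq t 5)) && Nat.beq j st.k &&
          sameL [A] st.A && sameL [v] st.u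
      | none => false
    else bif Nat.beq t 7 then
      match p with
      | i0 :: h :: len :: l =>
        match runTwo D n i0 h len l with
        | some (s₁, s₂) =>
          wordEq s₁.W s₂.W && Nat.beq e 0 && Nat.beq i s₁.k && Nat.beq j s₂.k && sameL [u] s₁.u &&
            sameL [v] s₂.u && sameL [A] (invL s₁.A ++ s₂.A)
        | none => false
      | _ => false
    else bif Nat.beq t 8 then
      match p with
      | i0 :: h :: q :: rot :: len :: l =>
        match runTwo D n i0 h len l with
        | some (s₁, s₂) =>
          let r := (D.rels.getD q []).drop rot ++ (D.rels.getD q []).take rot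
          let rest := r.drop (s₁.W.length + 1)
          Nat.beq i s₁.k && Nat.beq j s₂.k && sameL [u] s₁.u && sameL [v] s₂.u &&
            sameL [A] (invL s₁.A ++ s₂.A) &&
            ((Nat.beq e 0 && wordEq r s₁.W && wordEq s₂.W []) ||
              (Nat.beq e 1 && wordEq r (s₁.W ++ 6 :: rest) && wordEq s₂.W (invW rest)))
        | none => false
      | _ => false
    else false

variable {D} {G : Type*} [Group G] (ψ : H0 →* G) (g : G) (x : ℕ → G)

/-- The letters `a, …, f, g`. -/
def letG (l : ℕ) : G := if l = 6 then g else ψ (gen0 l)

/-- The meaning of fact `n`. -/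
def Holds (D : DData) (n : ℕ) : Prop :=
  x (fld (D.F.get n) 1) * ψ (elS (fld (D.F.get n) 2)) * g ^ fld (D.F.get n) 0 =
    ψ (elS (fld (D.F.get n) 3)) * x (fld (D.F.get n) 4) * ψ (elS (fld (D.F.get n) 5))

/-- The value of a state. -/
def DSt.val (st : DSt) : G := ψ (elL st.A) * x st.k * ψ (elL st.u)

theorem psi_single (s : ℕ) : ψ (elL [s]) = ψ (elS s) := by simp [elL]

theorem psi_of_sameL {u v : List ℕ} (h : sameL u v = true) : ψ (elL u) = ψ (elL v) := by
  rw [eq_of_sameL h]

/-- What the checks assume about the group. -/
structure DRules (D : DData) : Prop where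
  x0 : x 0 = 1
  x1 : x 1 = g
  gg : g * g = ψ (gen0 0 * gen0 5)
  rel : ∀ r ∈ D.rels, wprod (letG ψ g) r = 1
  def_ : ∀ d ∈ D.defs, x (fld d 0) = x (fld d 1) * ψ (elS (fld d 2)) * g

variable {ψ g x} (R : DRules ψ g x D)

include R

theorem moveStep_sound {n m : ℕ} {st st' : DSt} (hF : ∀ k < n, Holds ψ g x D k)
    (h : moveStep D n st m = some st') {base : G} (hv : st.val ψ x = base * wprod (letG ψ g) st.W) :
    st'.val ψ x = base * wprod (letG ψ g) st'.W := by
  simp only [DSt.val] at hv ⊢
  simp only [moveStep] at h
  set t := Nat.mod m 16 with ht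
  set a1 := Nat.mod (Nat.div m 16) 16384 with ha1
  set a2 := Nat.div m 262144 with ha2
  cases h6 : Nat.blt t 6 with
  | true =>
    simp only [h6, cond_true, Option.some.injEq] at h
    subst h
    have ht6 : t < 6 := by simpa [Nat.blt_eq] using h6
    simp only [wprod_append, elL_append, map_mul]
    rw [← mul_assoc, hv]
    have : letG ψ g t = ψ (gen0 t) := if_neg (by omega)
    simp [wprod, elL, elS_letCode ht6, this, mul_assoc]
  | false =>
    simp only [h6, cond_false] at h
    cases hN : Nat.beq t 6 with
    | true =>
      simp only [hN, cond_true] at h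
      cases hk : Nat.beq st.k 0 with
      | false => simp [hk] at h
      | true =>
        simp only [hk, cond_true, Option.some.injEq] at h
        subst h
        rw [Nat.eq_of_beq_eq_true hk, R.x0] at hv
        simpa [elL_append, elL, R.x0] using hv
    | false =>
      simp only [hN, cond_false] at h
      cases hG : Nat.beq t 7 with
      | true =>
        simp only [hG, cond_true] at h
        cases hk : Nat.beq st.k 0 with
        | false => simp [hk] at h
        | true =>
          simp only [hk, cond_true, Option.some.injEq] at h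
          subst h
          rw [Nat.eq_of_beq_eq_true hk, R.x0, mul_one] at hv
          simp only [elL_append, elL, map_mul, map_one, mul_one, R.x1, wprod_append]
          rw [hv]
          simp [wprod, letG, mul_assoc]
      | false =>
        simp only [hG, cond_false] at h
        cases hlt : Nat.blt a1 n with
        | false => simp [hlt] at h
        | true =>
          simp only [hlt, Bool.not_true, cond_false] at h
          have hf1 := hF a1 (by simpa [Nat.blt_eq] using hlt)
          simp only [Holds] at hf1
          cases h8 : Nat.beq t 8 with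
          | true =>
            simp only [h8, cond_true] at h
            cases hc : (Nat.beq (fld (D.F.get a1) 0) 0 && Nat.beq st.k (fld (D.F.get a1) 1)) with
            | false => simp [hc] at h
            | true =>
              simp only [hc, cond_true, Option.some.injEq] at h
              subst h
              simp only [Bool.and_eq_true, Nat.beq_eq] at hc
              rw [hc.1, pow_zero, mul_one] at hf1
              have hx : x (fld (D.F.get a1) 1) = ψ (elS (fld (D.F.get a1) 3)) * x (fld (D.F.get a1) 4) *
                  ψ (elS (fld (D.F.get a1) 5)) * (ψ (elS (fld (D.F.get a1) 2)))⁻¹ := by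
                rw [← hf1]; group
              rw [hc.2, hx] at hv
              simp only [elL_append, elL, elS_flipS, map_mul, map_inv, map_one, mul_one]
              rw [← hv]
              group
          | false =>
            simp only [h8, cond_false] at h
            cases h9 : Nat.beq t 9 with
            | true =>
              simp only [h9, cond_true] at h
              cases hc : (Nat.beq (fld (D.F.get a1) 0) 0 && Nat.beq st.k (fld (D.F.get a1) 4)) with
              | false => simp [hc] at h
              | true =>
                simp only [hc, cond_true, Option.some.injEq] at h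
                subst h
                simp only [Bool.and_eq_true, Nat.beq_eq] at hc
                rw [hc.1, pow_zero, mul_one] at hf1
                have hx : x (fld (D.F.get a1) 4) = (ψ (elS (fld (D.F.get a1) 3)))⁻¹ *
                    x (fld (D.F.get a1) 1) * ψ (elS (fld (D.F.get a1) 2)) *
                    (ψ (elS (fld (D.F.get a1) 5)))⁻¹ := by
                  rw [mul_assoc _ (x _) (ψ _), hf1]; group
                rw [hc.2, hx] at hv
                simp only [elL_append, elL, elS_flipS, map_mul, map_inv, map_one, mul_one]
                rw [← hv]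
                group
            | false =>
              simp only [h9, cond_false] at h
              cases h10 : Nat.beq t 10 with
              | true =>
                simp only [h10, cond_true] at h
                cases hc : (Nat.blt a2 n && Nat.beq (fld (D.F.get a1) 0) 1 &&
                    Nat.beq st.k (fld (D.F.get a1) 1) && Nat.beq (fld (D.F.get a2) 0) 0 &&
                    Nat.beq (fld (D.F.get a2) 1) 1 && Nat.beq (fld (D.F.get a2) 4) 1 &&
                    sameL [fld (D.F.get a2) 5] [] &&
                    sameL st.u [fld (D.F.get a1) 2, fld (D.F.get a2) 3]) with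
                | false => simp [hc] at h
                | true =>
                  simp only [hc, cond_true, Option.some.injEq] at h
                  subst h
                  simp only [Bool.and_eq_true, Nat.beq_eq, Nat.blt_eq] at hc
                  obtain ⟨⟨⟨⟨⟨⟨⟨hlt2, e1⟩, ek⟩, e2⟩, e3⟩, e4⟩, ew⟩, eu⟩ := hc
                  have hf2 := hF a2 hlt2
                  simp only [Holds] at hf2
                  have hw := psi_of_sameL ψ ew
                  simp only [elL, mul_one, map_one] at hw
                  rw [e2, e3, e4, pow_zero, mul_one, R.x1, hw, mul_one] at hf2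
                  rw [e1, pow_one] at hf1
                  rw [ek, psi_of_sameL ψ eu] at hv
                  simp only [elL_append, elL, map_mul, mul_one, map_one, wprod_append] at hv ⊢
                  have hl : wprod (letG ψ g) [6] = g := by simp [wprod, letG]
                  rw [hl, ← mul_assoc base, ← hv]
                  set B := ψ (elS (fld (D.F.get a1) 3))
                  set p := ψ (elS (fld (D.F.get a1) 2))
                  set c := ψ (elS (fld (D.F.get a2) 3))
                  set s := ψ (elS (fld (D.F.get a2) 2))
                  calc ψ (elL st.A) * B * x (fld (D.F.get a1) 4) * (ψ (elS (fld (D.F.get a1) 5)) * s)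
                      = ψ (elL st.A) * (B * x (fld (D.F.get a1) 4) * ψ (elS (fld (D.F.get a1) 5))) * s := by
                        group
                    _ = ψ (elL st.A) * x (fld (D.F.get a1) 1) * p * (g * s) := by rw [← hf1]; group
                    _ = _ := by rw [hf2]; group
              | false =>
                simp only [h10, cond_false] at h
                cases h11 : Nat.beq t 11 with
                | false => simp [h11] at h
                | true =>
                  simp only [h11, cond_true] at h
                  cases hc : (Nat.beq (fld (D.F.get a1) 0) 1 && Nat.beq st.k (fld (D.F.get a1) 1) &&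
                      sameL st.u [fld (D.F.get a1) 2]) with
                  | false => simp [hc] at h
                  | true =>
                    simp only [hc, cond_true, Option.some.injEq] at h
                    subst h
                    simp only [Bool.and_eq_true, Nat.beq_eq] at hc
                    obtain ⟨⟨e1, ek⟩, eu⟩ := hc
                    rw [e1, pow_one] at hf1
                    rw [ek, psi_of_sameL ψ eu] at hv
                    simp only [elL_append, elL, map_mul, mul_one, map_one, wprod_append] at hv ⊢
                    have hl : wprod (letG ψ g) [6] = g := by simp [wprod, letG]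
                    rw [hl, ← mul_assoc base, ← hv]
                    calc ψ (elL st.A) * ψ (elS (fld (D.F.get a1) 3)) * x (fld (D.F.get a1) 4) *
                          ψ (elS (fld (D.F.get a1) 5))
                        = ψ (elL st.A) * (ψ (elS (fld (D.F.get a1) 3)) * x (fld (D.F.get a1) 4) *
                            ψ (elS (fld (D.F.get a1) 5))) := by group
                      _ = _ := by rw [← hf1]; group

theorem runMoves_sound {n : ℕ} (hF : ∀ k < n, Holds ψ g x D k) {base : G} :
    ∀ (l : List ℕ) {st st' : DSt}, runMoves D n l st = some st' →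
      st.val ψ x = base * wprod (letG ψ g) st.W → st'.val ψ x = base * wprod (letG ψ g) st'.W := by
  intro l
  induction l with
  | nil => intro st st' h hv; simp only [runMoves, Option.some.injEq] at h; exact h ▸ hv
  | cons m l ih =>
    intro st st' h hv
    change (match moveStep D n st m with
      | some s => runMoves D n l s
      | none => none) = some st' at h
    cases hs : moveStep D n st m with
    | none => simp [hs] at h
    | some s =>
      simp only [hs] at h
      exact ih h (moveStep_sound R hF hs hv)

theorem letG_inv (l : ℕ) : wprod (letG ψ g) (Bool.rec [l] [0, 5, 6] (Nat.beq l 6)) = (letG ψ g l)⁻¹ := by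
  have hgg := R.gg
  rw [map_mul] at hgg
  cases h : Nat.beq l 6
  · have hl : l ≠ 6 := Nat.ne_of_beq_eq_false h
    refine eq_inv_of_mul_eq_one_left ?_
    simp [wprod, letG, hl, ← map_mul, gen0_sq]
  · obtain rfl := Nat.eq_of_beq_eq_true h
    refine eq_inv_of_mul_eq_one_left ?_
    have h05 : gen0 0 * gen0 5 * (gen0 0 * gen0 5) = 1 := by
      have h := rel0 (w := [0, 5, 0, 5]) (by decide +kernel)
      simpa [wprod, mul_assoc] using h
    simp only [wprod, List.map_cons, List.map_nil, List.prod_cons, List.prod_nil, mul_one, letG,
      show (0 : ℕ) ≠ 6 by norm_num, show (5 : ℕ) ≠ 6 by norm_num, if_false, if_true]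
    calc ψ (gen0 0) * (ψ (gen0 5) * g) * g = ψ (gen0 0) * ψ (gen0 5) * (g * g) := by group
      _ = 1 := by rw [hgg, ← map_mul, ← map_mul, h05, map_one]

theorem wprod_invW (w : List ℕ) : wprod (letG ψ g) (invW w) = (wprod (letG ψ g) w)⁻¹ := by
  induction w with
  | nil => simp [invW, wprod]
  | cons l w ih =>
    change wprod (letG ψ g) (invW w ++ Bool.rec [l] [0, 5, 6] (Nat.beq l 6)) = _
    rw [wprod_append, ih, letG_inv R, wprod_cons, mul_inv_rev]

theorem runTwo_sound {n i h len : ℕ} {l : List ℕ} {s₁ s₂ : DSt} (hF : ∀ k < n, Holds ψ g x D k)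
    (hr : runTwo D n i h len l = some (s₁, s₂)) :
    s₁.val ψ x = x i * ψ (elS h) * wprod (letG ψ g) s₁.W ∧
      s₂.val ψ x = x i * ψ (elS h) * wprod (letG ψ g) s₂.W := by
  unfold runTwo at hr
  cases h1 : runMoves D n (l.take len) ⟨[], i, [h], []⟩ with
  | none => simp [h1] at hr
  | some a =>
    cases h2 : runMoves D n (l.drop len) ⟨[], i, [h], []⟩ with
    | none => simp [h1, h2] at hr
    | some b =>
      simp only [h1, h2, Option.some.injEq, Prod.mk.injEq] at hr
      obtain ⟨rfl, rfl⟩ := hr
      exact ⟨runMoves_sound R hF _ h1 (by simp [DSt.val, elL, wprod]),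
        runMoves_sound R hF _ h2 (by simp [DSt.val, elL, wprod])⟩

theorem okFact_sound {n : ℕ} (h : okFact D n = true) (hF : ∀ k < n, Holds ψ g x D k) :
    Holds ψ g x D n := by
  simp only [Holds]
  simp only [okFact] at h
  set e := fld (D.F.get n) 0
  set i := fld (D.F.get n) 1
  set u := fld (D.F.get n) 2
  set A := fld (D.F.get n) 3
  set j := fld (D.F.get n) 4
  set v := fld (D.F.get n) 5
  cases hp : D.P.get n with
  | nil => simp [hp] at h
  | cons t p =>
    simp only [hp] at h
    cases h0 : Nat.beq t 0 with
    | true =>
      simp only [h0, cond_true, Bool.and_eq_true, Nat.beq_eq] at h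
      obtain ⟨⟨⟨he, hij⟩, huv⟩, hA⟩ := h
      have huv := psi_of_sameL ψ huv
      have hA := psi_of_sameL ψ hA
      simp only [elL, mul_one, map_one] at huv hA
      rw [he, hij, huv, hA]; simp
    | false =>
    simp only [h0, cond_false] at h
    cases h1 : Nat.beq t 1 with
    | true =>
      simp only [h1, cond_true, Bool.and_eq_true, Nat.beq_eq] at h
      obtain ⟨⟨⟨⟨⟨he, hi⟩, hj⟩, hu⟩, hv⟩, hA⟩ := h
      have hu := psi_of_sameL ψ hu
      have hv := psi_of_sameL ψ hv
      have hA := psi_of_sameL ψ hA
      simp only [elL, mul_one, map_one] at hu hv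
      rw [show elL [A] = elS A by simp [elL], elL_afL] at hA
      rw [he, hi, hj, hu, hv, hA, R.x0, R.x1]
      simpa using R.gg
    | false =>
    simp only [h1, cond_false] at h
    cases h2 : Nat.beq t 2 with
    | true =>
      simp only [h2, cond_true, Bool.and_eq_true, Nat.beq_eq, List.any_eq_true] at h
      obtain ⟨⟨⟨he, hA⟩, hv⟩, d, hd, hdeq⟩ := h
      have hA := psi_of_sameL ψ hA
      have hv := psi_of_sameL ψ hv
      simp only [elL, mul_one, map_one] at hA hv
      have hdef := R.def_ d hd
      rw [eq_of_wordEq hdeq] at hdef
      simp only [fld] at hdef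
      rw [he, hA, hv, pow_one, one_mul, mul_one]
      exact hdef.symm
    | false =>
    simp only [h2, cond_false] at h
    cases h3 : Nat.beq t 3 with
    | true =>
      simp only [h3, cond_true, Bool.and_eq_true, Nat.beq_eq, Nat.blt_eq] at h
      obtain ⟨⟨⟨⟨⟨⟨⟨hm, he⟩, he'⟩, hi⟩, hj⟩, hu⟩, hv⟩, hA⟩ := h
      have hf := hF _ hm
      simp only [Holds] at hf
      have hu := psi_of_sameL ψ hu
      have hv := psi_of_sameL ψ hv
      have hA := psi_of_sameL ψ hA
      simp only [elL, mul_one, map_one, map_mul, List.cons_append, List.nil_append, elS_flipS,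
        map_inv] at hu hv hA
      rw [he', pow_one] at hf
      rw [he, hi, hj, hu, hv, hA, pow_one, show ψ (elL afL) = g * g by rw [elL_afL, R.gg]]
      have hx : x (fld (D.F.get (fld p 0)) 4) * ψ (elS (fld (D.F.get (fld p 0)) 5)) =
          (ψ (elS (fld (D.F.get (fld p 0)) 3)))⁻¹ *
            (x (fld (D.F.get (fld p 0)) 1) * ψ (elS (fld (D.F.get (fld p 0)) 2)) * g) := by
        rw [hf]; group
      rw [hx]; group
    | false =>
    simp only [h3, cond_false] at h
    cases h4 : Nat.beq t 4 with
    | true =>
      simp only [h4, cond_true, Bool.and_eq_true, Nat.beq_eq, Nat.blt_eq] at h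
      obtain ⟨⟨⟨⟨⟨⟨⟨⟨⟨⟨hm, he'⟩, hi'⟩, hj'⟩, hv'⟩, he⟩, hi⟩, hj⟩, hv⟩, hu⟩, hA⟩ := h
      have hf := hF _ hm
      simp only [Holds] at hf
      have hu := psi_of_sameL ψ hu
      have hv := psi_of_sameL ψ hv
      have hv' := psi_of_sameL ψ hv'
      have hA := psi_of_sameL ψ hA
      simp only [elL, mul_one, map_one, map_mul, elL_append] at hu hv hv' hA
      rw [he', hi', hj', hv', R.x1, pow_zero, mul_one, mul_one] at hf
      rw [he, hi, hj, hu, hv, hA, show ψ (elL afL) = g * g by rw [elL_afL, R.gg], R.x1, pow_zero,
        mul_one, mul_one]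
      have h05 : g * g * (g * g) = 1 := by
        rw [R.gg, ← map_mul]
        have h := rel0 (w := [0, 5, 0, 5]) (by decide +kernel)
        rw [show gen0 0 * gen0 5 * (gen0 0 * gen0 5) = 1 by simpa [wprod, mul_assoc] using h, map_one]
      calc g * ψ (elS (fld (D.F.get (fld p 0)) 3))
          = g * (ψ (elS (fld (D.F.get (fld p 0)) 3)) * g) * g⁻¹ := by group
        _ = g * g * ψ (elS (fld (D.F.get (fld p 0)) 2)) * g⁻¹ := by rw [← hf]; group
        _ = g * g * ψ (elS (fld (D.F.get (fld p 0)) 2)) * (g * g) * g := by
          rw [show g⁻¹ = g * g * g from (eq_inv_of_mul_eq_one_left (by rw [← h05]; group)).symm]; group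
    | false =>
    simp only [h4, cond_false] at h
    cases h56 : (Nat.beq t 5 || Nat.beq t 6) with
    | true =>
      simp only [h56, cond_true] at h
      cases hr : runMoves D n p ⟨[], i, [u], []⟩ with
      | none => simp [hr] at h
      | some st =>
        simp only [hr, Bool.and_eq_true, Nat.beq_eq] at h
        obtain ⟨⟨⟨⟨he, hW⟩, hj⟩, hA⟩, hv⟩ := h
        have key := runMoves_sound R hF (base := x i * ψ (elS u)) p hr (by simp [DSt.val, elL, wprod])
        simp only [DSt.val] at key
        rw [← psi_of_sameL ψ hA, ← psi_of_sameL ψ hv, psi_single, psi_single, ← hj,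
          eq_of_wordEq hW] at key
        simp only [Bool.or_eq_true, Nat.beq_eq] at h56
        rcases h56 with rfl | rfl
        · rw [he, key, show (Bool.rec [6] [] (Nat.beq 5 5) : List ℕ) = [] from rfl]; simp [wprod]
        · rw [he, key, show (Bool.rec [6] [] (Nat.beq 6 5) : List ℕ) = [6] from rfl]; simp [wprod, letG]
    | false =>
    simp only [h56, cond_false] at h
    cases h7 : Nat.beq t 7 with
    | true =>
      simp only [h7, cond_true] at h
      match p, h with
      | i0 :: h' :: len :: l, h =>
        cases hr : runTwo D n i0 h' len l with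
        | none => simp [hr] at h
        | some s =>
          obtain ⟨s₁, s₂⟩ := s
          simp only [hr, Bool.and_eq_true, Nat.beq_eq] at h
          obtain ⟨⟨⟨⟨⟨⟨hW, he⟩, hi⟩, hj⟩, hu⟩, hv⟩, hA⟩ := h
          obtain ⟨k1, k2⟩ := runTwo_sound R hF hr
          simp only [DSt.val] at k1 k2
          rw [← psi_of_sameL ψ hu, psi_single, ← hi, eq_of_wordEq hW] at k1
          rw [← psi_of_sameL ψ hv, psi_single, ← hj, ← k1] at k2
          have hA' := psi_of_sameL ψ hA
          rw [psi_single, elL_append, map_mul, elL_invL, map_inv] at hA'
          rw [he, pow_zero, mul_one, hA', mul_assoc _ (x j) _, mul_assoc _ (ψ (elL s₂.A)) _,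
            ← mul_assoc (ψ (elL s₂.A)), k2]
          group
      | [], h => simp at h
      | [_], h => simp at h
      | [_, _], h => simp at h
    | false =>
    simp only [h7, cond_false] at h
    cases h8 : Nat.beq t 8 with
    | false => simp [h8] at h
    | true =>
      simp only [h8, cond_true] at h
      match p, h with
      | i0 :: h' :: q :: rot :: len :: l, h =>
        cases hr : runTwo D n i0 h' len l with
        | none => simp [hr] at h
        | some s =>
          obtain ⟨s₁, s₂⟩ := s
          simp only [hr, Bool.and_eq_true, Bool.or_eq_true, Nat.beq_eq] at h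
          obtain ⟨⟨⟨⟨⟨hi, hj⟩, hu⟩, hv⟩, hA⟩, hcase⟩ := h
          obtain ⟨k1, k2⟩ := runTwo_sound R hF hr
          simp only [DSt.val] at k1 k2
          rw [← psi_of_sameL ψ hu, psi_single, ← hi] at k1
          rw [← psi_of_sameL ψ hv, psi_single, ← hj] at k2
          have hA' := psi_of_sameL ψ hA
          rw [psi_single, elL_append, map_mul, elL_invL, map_inv] at hA'
          set r := (D.rels.getD q []).drop rot ++ (D.rels.getD q []).take rot with hrdef
          have hr1 : wprod (letG ψ g) r = 1 := by
            rw [hrdef, wprod_append]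
            refine mul_eq_one_comm.1 ?_
            rw [← wprod_append, List.take_append_drop, List.getD_eq_getElem?_getD]
            cases hq : D.rels[q]? with
            | none => simp [wprod]
            | some w => exact R.rel w (List.mem_of_getElem? hq)
          rw [hA', mul_assoc _ (x j) _, mul_assoc _ (ψ (elL s₂.A)) _, ← mul_assoc (ψ (elL s₂.A)), k2,
            eq_inv_mul_iff_mul_eq, ← mul_assoc, ← mul_assoc, k1]
          rcases hcase with ⟨⟨he, hw⟩, hw2⟩ | ⟨⟨he, hw⟩, hw2⟩
          · rw [he, eq_of_wordEq hw2, ← eq_of_wordEq hw, hr1]; simp [wprod]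
          · rw [he, eq_of_wordEq hw2, wprod_invW R, pow_one]
            rw [eq_of_wordEq hw, wprod_append, wprod_cons, ← mul_assoc, mul_eq_one_iff_eq_inv] at hr1
            rw [← hr1]
            simp [letG, mul_assoc]
      | [], h => simp at h
      | [_], h => simp at h
      | [_, _], h => simp at h
      | [_, _, _], h => simp at h
      | [_, _, _, _], h => simp at h

end

end Cfsg.Agent.ONan
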