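import Cfsg.Agent.Lib.ONan.Order
import Cfsg.Agent.Lib.Classical.SL
import Mathlib.GroupTheory.SemidirectProduct

/-!
The group of order 3753792 has a subgroup of index 2 isomorphic to PSL(3, 7): a generator is sent to a
polarity, a pair of mutually inverse symmetric matrices with the exchange of the two components.
-/

set_option autoImplicit false

namespace Cfsg.Agent.ONan

open Cfsg.Agent.CosetCert
open Matrix

noncomputable section

instance : Fact (Nat.Prime 7) := ⟨by norm_num⟩

/-- Matrices of size 3 over the field with seven elements. -/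
abbrev M3 : Type := Matrix (Fin 3) (Fin 3) (ZMod 7)

/-- The group PSL(3, 7). -/
abbrev P37 : Type := Matrix.ProjectiveSpecialLinearGroup (Fin 3) (ZMod 7)

/-- The symmetric matrices of the polarities. -/
def polS : ℕ → M3
  | 0 => !![1, 0, 0; 0, 1, 0; 0, 0, 1]
  | 1 => !![1, 0, 0; 0, 3, 6; 0, 6, 3]
  | 2 => !![1, 0, 6; 0, 3, 0; 6, 0, 6]
  | 3 => !![0, 6, 1; 6, 5, 5; 1, 5, 5]
  | 4 => !![6, 0, 0; 0, 1, 0; 0, 0, 6]
  | 5 => !![0, 1, 6; 1, 5, 5; 6, 5, 5]
  | _ => 1

/-- Their inverses. -/
def polT : ℕ → M3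
  | 0 => !![1, 0, 0; 0, 1, 0; 0, 0, 1]
  | 1 => !![1, 0, 0; 0, 3, 1; 0, 1, 3]
  | 2 => !![4, 0, 3; 0, 5, 0; 3, 0, 3]
  | 3 => !![0, 3, 4; 3, 6, 6; 4, 6, 6]
  | 4 => !![6, 0, 0; 0, 1, 0; 0, 0, 6]
  | 5 => !![0, 4, 3; 4, 6, 6; 3, 6, 6]
  | _ => 1

theorem pol_det : ∀ x : Fin 6, (polS x).det = 1 ∧ (polT x).det = 1 ∧ polS x * polT x = 1 := by
  decide +kernel

/-- The polarity matrix in the special linear group. -/
def slS (x : ℕ) : Matrix.SpecialLinearGroup (Fin 3) (ZMod 7) :=
  if h : x < 6 then ⟨polS x, (pol_det ⟨x, h⟩).1⟩ else 1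

theorem slS_val {x : ℕ} (h : x < 6) : ((slS x : Matrix.SpecialLinearGroup (Fin 3) (ZMod 7)) : M3) = polS x := by
  simp [slS, h]

theorem slS_inv {x : ℕ} (h : x < 6) : (((slS x)⁻¹ : Matrix.SpecialLinearGroup (Fin 3) (ZMod 7)) : M3) = polT x := by
  have e : slS x * ⟨polT x, (pol_det ⟨x, h⟩).2.1⟩ = 1 := by
    apply Subtype.ext
    show (slS x : M3) * polT x = 1
    rw [slS_val h]
    exact (pol_det ⟨x, h⟩).2.2
  rw [inv_eq_of_mul_eq_one_right e]

/-- The images of the polarity matrices in PSL(3, 7). -/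
def pS (x : ℕ) : P37 := QuotientGroup.mk' _ (slS x)

/-- Two elements of PSL(3, 7) with a sign. -/
def swapAut : MulAut (P37 × P37) where
  toFun p := (p.2, p.1)
  invFun p := (p.2, p.1)
  left_inv _ := rfl
  right_inv _ := rfl
  map_mul' _ _ := rfl

theorem swapAut_sq : swapAut * swapAut = 1 := MulEquiv.ext fun _ => rfl

/-- The action of the sign. -/
def signAct : Multiplicative (ZMod 2) →* MulAut (P37 × P37) where
  toFun s := if Multiplicative.toAdd s = 0 then 1 else swapAut
  map_one' := by simp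
  map_mul' s t := by
    rcases (show ∀ a : ZMod 2, a = 0 ∨ a = 1 by decide) (Multiplicative.toAdd s) with hs | hs <;>
      rcases (show ∀ a : ZMod 2, a = 0 ∨ a = 1 by decide) (Multiplicative.toAdd t) with ht | ht <;>
      simp [toAdd_mul, hs, ht, swapAut_sq, show (1 : ZMod 2) + 1 = 0 from by decide]

/-- Pairs with a sign. -/
abbrev W37 : Type := (P37 × P37) ⋊[signAct] Multiplicative (ZMod 2)

/-- The polarity with number `x`. -/
def polW (x : ℕ) : W37 := ⟨((pS x)⁻¹, pS x), Multiplicative.ofAdd 1⟩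

/-- The first component of a word of even length. -/
def pairProd : List ℕ → M3
  | x :: y :: w => polT x * polS y * pairProd w
  | _ => 1

/-- The second component of a word of even length. -/
def pairProd' : List ℕ → M3
  | x :: y :: w => polS x * polT y * pairProd' w
  | _ => 1

/-- A scalar matrix, as a Boolean test. -/
def isScalar (A : M3) : Bool :=
  decide (A = Matrix.scalar (Fin 3) (A 0 0))

theorem relsH_pol : ∀ w ∈ relsH, (w.length % 2 = 0 ∧ ∀ x ∈ w, x < 6) ∧
    isScalar (pairProd w) = true ∧ isScalar (pairProd' w) = true := by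
  decide +kernel

theorem mk_eq_one_of_scalar {g : Matrix.SpecialLinearGroup (Fin 3) (ZMod 7)}
    (h : isScalar (g : M3) = true) : (QuotientGroup.mk' _ g : P37) = 1 := by
  rw [QuotientGroup.mk'_apply, QuotientGroup.eq_one_iff, Matrix.SpecialLinearGroup.mem_center_iff]
  refine ⟨(g : M3) 0 0, ?_, (of_decide_eq_true h).symm⟩
  have hd := g.det_coe
  rw [of_decide_eq_true h, Matrix.scalar_apply, Matrix.det_diagonal] at hd
  simpa using hd

/-- The special linear element of a word of even length. -/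
def pairSL : List ℕ → Matrix.SpecialLinearGroup (Fin 3) (ZMod 7)
  | x :: y :: w => (slS x)⁻¹ * slS y * pairSL w
  | _ => 1

/-- The second special linear element of a word of even length. -/
def pairSL' : List ℕ → Matrix.SpecialLinearGroup (Fin 3) (ZMod 7)
  | x :: y :: w => slS x * (slS y)⁻¹ * pairSL' w
  | _ => 1

theorem pair_val : ∀ w : List ℕ, (∀ x ∈ w, x < 6) →
    (pairSL w : M3) = pairProd w ∧ (pairSL' w : M3) = pairProd' w
  | [], _ => by simp [pairSL, pairProd, pairSL', pairProd']
  | [_], _ => by simp [pairSL, pairProd, pairSL', pairProd']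
  | x :: y :: w, h => by
    have hx := h x (by simp)
    have hy := h y (by simp)
    obtain ⟨h1, h2⟩ := pair_val w fun z hz => h z (by simp [hz])
    constructor
    · rw [pairSL, Matrix.SpecialLinearGroup.coe_mul, Matrix.SpecialLinearGroup.coe_mul, slS_inv hx,
        slS_val hy, h1, pairProd]
    · rw [pairSL', Matrix.SpecialLinearGroup.coe_mul, Matrix.SpecialLinearGroup.coe_mul, slS_inv hy,
        slS_val hx, h2, pairProd']

theorem polW_mul_pair (x y : ℕ) : polW x * polW y = ⟨((pS x)⁻¹ * pS y, pS x * (pS y)⁻¹), 1⟩ := by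
  apply SemidirectProduct.ext
  · rw [SemidirectProduct.mul_left]
    simp [polW, signAct, swapAut]
  · rw [SemidirectProduct.mul_right]
    simp only [polW, ← ofAdd_add]
    rfl

theorem wprod_polW : ∀ w : List ℕ, w.length % 2 = 0 →
    wprod polW w = SemidirectProduct.inl
      ((QuotientGroup.mk' _ (pairSL w) : P37), (QuotientGroup.mk' _ (pairSL' w) : P37))
  | [], _ => by simp [wprod, pairSL, pairSL']; exact map_one SemidirectProduct.inl |>.symm
  | [_], h => by simp at h
  | x :: y :: w, h => by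
    have ih := wprod_polW w (by simp only [List.length_cons] at h; omega)
    rw [wprod_cons, wprod_cons, ← mul_assoc, ih, polW_mul_pair]
    simp only [pairSL, pairSL', map_mul, map_inv]
    apply SemidirectProduct.ext <;> simp [SemidirectProduct.mul_left, SemidirectProduct.mul_right, pS]

/-- The map to pairs with sign. -/
def polHom : H0 →* W37 :=
  PresentedGroup.toGroup (f := fun i : Fin 6 => polW i) (by
    rintro r ⟨w, hw, rfl⟩
    obtain ⟨⟨hev, hlt⟩, h1, h2⟩ := relsH_pol w hw
    rw [wprod_map]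
    have e : wprod (fun x => FreeGroup.lift (fun i : Fin 6 => polW i) (freeGen x)) w = wprod polW w := by
      rw [wprod, wprod]
      congr 1
      exact List.map_congr_left fun x hx => by simp [freeGen, hlt x hx]
    obtain ⟨v1, v2⟩ := pair_val w hlt
    rw [e, wprod_polW w hev, mk_eq_one_of_scalar (by rw [v1]; exact h1),
      mk_eq_one_of_scalar (by rw [v2]; exact h2)]
    exact map_one SemidirectProduct.inl)

theorem polHom_gen {x : ℕ} (hx : x < 6) : polHom (gen0 x) = polW x := by
  simp [polHom, gen0, hx]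

/-- The sign. -/
def sgn0 : H0 →* Multiplicative (ZMod 2) := SemidirectProduct.rightHom.comp polHom

/-- The even part. -/
def evenH : Subgroup H0 := sgn0.ker

theorem sgn0_gen {x : ℕ} (hx : x < 6) : sgn0 (gen0 x) = Multiplicative.ofAdd 1 := by
  simp [sgn0, polHom_gen hx, polW]

theorem evenH_index : evenH.index = 2 := by
  rw [evenH, Subgroup.index_ker]
  have : sgn0.range = ⊤ := eq_top_iff.2 fun s _ => by
    rcases (show ∀ a : ZMod 2, a = 0 ∨ a = 1 by decide) (Multiplicative.toAdd s) with h | h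
    · exact ⟨1, by rw [map_one]; exact congrArg Multiplicative.ofAdd h.symm⟩
    · exact ⟨gen0 0, by rw [sgn0_gen (by norm_num)]; exact congrArg Multiplicative.ofAdd h.symm⟩
  rw [this, Subgroup.card_top]
  simp

theorem card_evenH : Nat.card evenH = 1876896 := by
  have := evenH.index_mul_card
  rw [evenH_index, card_H0] at this
  omega

/-- The map of the even part to PSL(3, 7). -/
def evenHom : evenH →* P37 where
  toFun h := (polHom h).left.1
  map_one' := by simp
  map_mul' a b := by
    have ha : (polHom a).right = 1 := a.2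
    simp [SemidirectProduct.mul_left, ha]

/-- Words giving the elementary transvections. -/
def transWords : List (Fin 3 × Fin 3 × List ℕ) := [(0, 1, [0, 1, 0, 2, 1, 3, 2, 1, 4, 3, 2, 1, 0, 3, 2, 5, 4, 3, 2, 1, 0, 3, 2, 3, 4, 3, 2, 1]), (0, 2, [1, 0, 2, 3, 2, 1, 0, 3, 2, 1, 4, 3, 2, 1, 3, 2, 1, 4, 3, 2, 1, 3, 2, 4, 3, 2, 1, 0]), (1, 0, [0, 1, 0, 2, 1, 0, 3, 2, 1, 4, 3, 2, 1, 3, 2, 3, 5, 4, 3, 2, 1, 0, 3, 2, 4, 3, 2, 1]), (1, 2, [1, 0, 2, 3, 2, 1, 3, 4, 3, 2, 1, 0, 3, 2, 3, 4, 3, 2, 1, 0]), (2, 0, [1, 2, 3, 2, 1, 4, 3, 2, 1, 3, 2, 1, 0, 3, 4, 3, 2, 1, 3, 2, 4, 3, 2, 1, 0, 3, 2, 3]), (2, 1, [1, 0, 2, 3, 4, 3, 2, 1, 3, 2, 1, 0, 3, 4, 3, 2, 3, 2, 1, 0])]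

theorem transWords_ok : ∀ i j : Fin 3, i ≠ j → ∃ t ∈ transWords, t.1 = i ∧ t.2.1 = j ∧
    (t.2.2.length % 2 = 0 ∧ (∀ x ∈ t.2.2, x < 6)) ∧
      isScalar (pairProd t.2.2 * Matrix.transvection i j (-1)) = true := by
  decide +kernel

theorem transvection_mem_range {i j : Fin 3} (h : i ≠ j) :
    (QuotientGroup.mk' _ (Matrix.SpecialLinearGroup.transvection h (1 : ZMod 7)) : P37) ∈ evenHom.range := by
  obtain ⟨t, -, -, -, ⟨hev, hlt⟩, hsc⟩ := transWords_ok i j h
  have hpol : polHom (wprod gen0 t.2.2) = wprod polW t.2.2 := by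
    rw [wprod_map, wprod, wprod]
    congr 1
    exact List.map_congr_left fun x hx => polHom_gen (hlt x hx)
  rw [wprod_polW _ hev] at hpol
  refine ⟨⟨wprod gen0 t.2.2, ?_⟩, ?_⟩
  · show SemidirectProduct.rightHom (polHom (wprod gen0 t.2.2)) = 1
    rw [hpol, SemidirectProduct.rightHom_inl]
  · show (polHom (wprod gen0 t.2.2)).left.1 = _
    rw [hpol, SemidirectProduct.left_inl]
    have hinv : (Matrix.SpecialLinearGroup.transvection h (-1 : ZMod 7)) =
        (Matrix.SpecialLinearGroup.transvection h (1 : ZMod 7))⁻¹ := by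
      refine eq_inv_of_mul_eq_one_left (Subtype.ext ?_)
      simp [Matrix.SpecialLinearGroup.transvection_coe, Matrix.transvection_mul_transvection_same _ _ h,
        ← Matrix.transvection.eq_def]
    have := mk_eq_one_of_scalar (g := pairSL t.2.2 * Matrix.SpecialLinearGroup.transvection h (-1 : ZMod 7))
      (by
        rw [Matrix.SpecialLinearGroup.coe_mul, (pair_val _ hlt).1]
        exact hsc)
    rw [map_mul, hinv, map_inv, mul_inv_eq_one] at this
    exact this

theorem evenHom_surjective : Function.Surjective evenHom := by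
  rw [← MonoidHom.range_eq_top, eq_top_iff]
  intro p _
  obtain ⟨g, rfl⟩ := QuotientGroup.mk'_surjective _ p
  suffices Subgroup.closure (ClassicalSL.elemTransvections (Fin 3) (ZMod 7)) ≤
      evenHom.range.comap (QuotientGroup.mk' _) from
    this (ClassicalSL.closure_elemTransvections (ι := Fin 3) (F := ZMod 7) ▸ Subgroup.mem_top g)
  rw [Subgroup.closure_le]
  rintro _ ⟨i, j, h, c, rfl⟩
  show (QuotientGroup.mk' _ (Matrix.SpecialLinearGroup.transvection h c) : P37) ∈ evenHom.range
  have key : ∀ n : ℕ, (Matrix.SpecialLinearGroup.transvection h (1 : ZMod 7)) ^ n =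
      Matrix.SpecialLinearGroup.transvection h (n : ZMod 7) := by
    intro n
    induction n with
    | zero => exact Subtype.ext (by simp [Matrix.SpecialLinearGroup.transvection_coe])
    | succ n ih =>
      refine Subtype.ext ?_
      rw [pow_succ, ih]
      simp [Matrix.SpecialLinearGroup.transvection_coe, Matrix.transvection_mul_transvection_same _ _ h,
        ← Matrix.transvection.eq_def]
  have e := key c.val
  rw [ZMod.natCast_zmod_val] at e
  rw [← e, map_pow]
  exact pow_mem (transvection_mem_range h) _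

theorem card_P37 : Nat.card P37 = 1876896 := by
  have h := ClassicalSL.card_psl_mul (ι := Fin 3) (F := ZMod 7)
  rw [ClassicalSL.card_gl_fin (Nat.card_zmod 7), Nat.card_zmod, Fintype.card_fin, Fin.prod_univ_three] at h
  rw [show Nat.gcd 3 (7 - 1) = 3 from rfl] at h
  norm_num at h
  show Nat.card (Matrix.ProjectiveSpecialLinearGroup (Fin 3) (ZMod 7)) = 1876896
  rw [Nat.card_eq_fintype_card]
  omega

/-- The isomorphism. -/
def evenEquiv : evenH ≃* P37 :=
  MulEquiv.ofBijective evenHom ((Nat.bijective_iff_surjective_and_card _).2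
    ⟨evenHom_surjective, by rw [card_evenH, card_P37]⟩)

instance isSimple_evenH : IsSimpleGroup evenH :=
  haveI : IsSimpleGroup P37 := ClassicalSL.isSimpleGroup_psl (by simp)
  evenEquiv.isSimpleGroup

end

end Cfsg.Agent.ONan
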