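import Cfsg.Agent.Lib.Compute.CosetCert

/-! Data of deductions among double cosets in the presented O'Nan group. -/

set_option autoImplicit false
set_option maxRecDepth 100000
set_option maxHeartbeats 2000000

namespace Cfsg.Agent.ONan

open Cfsg.Agent.CosetCert

noncomputable section

/-- the facts, part 0 -/
def factTab0 : WTab :=
  (.node (.node (.node (.node (.node (.node (.node (.node (.node (.leaf [0, 1, 0, 0, 1, 0]) (.leaf [0, 8, 67424, 3238, 8, 0])) (.node (.leaf [1, 33, 4158842, 8910, 39, 725100]) (.leaf [1, 1, 1185350, 4338030, 5, 1323674]))) (.node (.node (.leaf [0, 5, 411774, 411774, 5, 0]) (.leaf [1, 5, 4992762, 2801894, 5, 664734])) (.node (.leaf [1, 23, 988348, 58042, 29, 4285470]) (.leaf [1, 1, 2947094, 7359006, 1, 5470462])))) (.node (.node (.node (.leaf [0, 2, 2181654, 2453488, 2, 0]) (.leaf [1, 17, 3982132, 7289592, 29, 2451264])) (.node (.leaf [1, 29, 601948, 3235192, 47, 74772]) (.leaf [1, 1, 3236980, 2968676, 1, 1585548]))) (.node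 (.node (.leaf [1, 23, 1383650, 263774, 33, 658912]) (.leaf [1, 5, 130208, 798502, 17, 4223024])) (.node (.leaf [1, 29, 2869800, 4767004, 1, 1030962]) (.leaf []))))) (.node (.node (.node (.node (.leaf [0, 2, 1465632, 337528, 2, 0]) (.leaf [0, 8, 73932, 70740, 8, 0])) (.node (.leaf [1, 2, 1515366, 199082, 47, 1514856]) (.leaf [1, 1, 2296014, 6219480, 5, 2734520]))) (.node (.node (.leaf [1, 30, 660072, 396656, 26, 988196]) (.leaf [1, 22, 6436284, 5057970, 5, 276216])) (.node (.leaf [1, 4, 3901370, 7297242, 17, 2321426]) (.leaf [])))) (.node (.node (.node (.leaf [0, 2, 1473864, 74272, 2, 0]) (.leaf [1, 29, 2052468, 958324, 4, 7175856])) (.node (.leaf [1, 22, 2181654, 1317132, 9, 551552]) (.leaf [1, 1, 2171110, 4594218, 5, 5856534]))) (.node (.node (.leaf [1, 33, 734168, 151206, 11, 1522924]) (.leaf [1, 5, 2492246, 6714134, 1, 4617590])) (.node (.leaf [1, 22, 1457066, 1160198, 22, 5298496]) (.leaf [])))))) (.node (.node (.node (.node (.node (.leaf [0, 1,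 131712, 131712, 1, 0]) (.leaf [0, 8, 70728, 4880, 8, 0])) (.node (.leaf [1, 48, 872946, 462004, 46, 1185408]) (.leaf [1, 2, 341542, 2206080, 1, 1753022]))) (.node (.node (.leaf [1, 4, 288120, 864372, 15, 724762]) (.leaf [1, 1, 2370538, 6553026, 5, 5630972])) (.node (.leaf [1, 29, 3896604, 1411890, 29, 527204]) (.leaf [1, 1, 2543986, 1786028, 1, 2094776])))) (.node (.node (.node (.leaf [0, 2, 345930, 1086792, 2, 0]) (.leaf [1, 1, 1924828, 268344, 29, 4285470])) (.node (.leaf [1, 8, 1976690, 922992, 44, 1712256]) (.leaf [1, 2, 58022, 4922184, 2, 3207234]))) (.node (.node (.leaf [1, 30, 922330, 658736, 34, 66536]) (.leaf [1, 1, 2254500, 5992762, 1, 403718])) (.node (.leaf [1, 29, 1956906, 5908766, 29, 2043894]) (.leaf []))))) (.node (.node (.node (.node (.leaf [0, 2, 1992486, 1127958, 2, 0]) (.leaf [0, 8, 69450, 67720, 8, 0])) (.node (.leaf [1, 50, 1333942, 330290, 1, 527024]) (.leaf [1, 5, 216052, 4518346, 1, 7501666]))) (.node (.node (.leaf [1, 28, 922496,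 3037610, 23, 264438]) (.leaf [1, 1, 1976196, 4986930, 5, 1691842])) (.node (.leaf [1, 42, 660080, 6871690, 29, 3100692]) (.leaf [])))) (.node (.node (.node (.leaf [0, 8, 65858, 65864, 8, 0]) (.leaf [1, 8, 2700432, 1214470, 5, 1321488])) (.node (.leaf [1, 8, 1590138, 4096946, 4, 4289556]) (.leaf [1, 1, 5165542, 1235530, 5, 5301852]))) (.node (.node (.leaf [1, 12, 4285452, 4231604, 33, 404888]) (.leaf [1, 1, 4619172, 2754524, 2, 786490])) (.node (.leaf [0, 8, 4628, 66396, 8, 0]) (.leaf []))))))) (.node (.node (.node (.node (.node (.node (.leaf [0, 3, 0, 395136, 3, 988194]) (.leaf [0, 8, 3186, 72682, 8, 0])) (.node (.leaf [1, 42, 0, 0, 1, 1655640]) (.leaf [1, 5, 5239040, 2685884, 1, 3210674]))) (.node (.node (.leaf [1, 1, 1449852, 2569902, 8, 527206]) (.leaf [1, 5, 597796, 2674758, 5, 5128820])) (.node (.leaf [1, 29, 3756816, 640658, 30, 725430]) (.leaf [1, 8, 1263030, 5801352, 1, 3884334])))) (.node (.node (.node (.leaf [0, 2, 1737294, 526866, 2, 0]) (.leaf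 [1, 1, 2625548, 7371316, 12, 594224])) (.node (.leaf [0, 22, 8234, 263936, 50, 1333942]) (.leaf [1, 1, 4114534, 3443268, 5, 826208]))) (.node (.node (.leaf [1, 33, 922340, 82320, 30, 724920]) (.leaf [1, 17, 5353992, 3912434, 5, 562688])) (.node (.leaf [1, 12, 609344, 6173996, 29, 2756094]) (.leaf []))))) (.node (.node (.node (.node (.leaf [0, 2, 403542, 148512, 2, 0]) (.leaf [0, 8, 70726, 73694, 8, 0])) (.node (.leaf [1, 47, 1655642, 659574, 5, 609520]) (.leaf [1, 5, 6257138, 1994108, 1, 6449678]))) (.node (.node (.leaf [1, 23, 660076, 8, 29, 593208]) (.leaf [1, 4, 6440176, 7324928, 8, 5829208])) (.node (.leaf [1, 17, 1252776, 5256884, 1, 897296]) (.leaf [])))) (.node (.node (.node (.leaf [0, 3, 395488, 1318636, 3, 0]) (.leaf [1, 4, 5792370, 6470196, 17, 3669866])) (.node (.leaf [1, 42, 230672, 4422268, 22, 148534]) (.leaf [1, 5, 6789044, 1261196, 5, 2057816]))) (.node (.node (.leaf [1, 33, 1524774, 955592, 23, 197918]) (.leaf [1, 1, 1960582, 3665086,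 1, 2188384])) (.node (.leaf [1, 22, 3883918, 5107496, 2, 3565132]) (.leaf [])))))) (.node (.node (.node (.node (.node (.leaf [0, 2, 420184, 675030, 2, 0]) (.leaf [0, 8, 8072, 73920, 8, 0])) (.node (.leaf [1, 49, 1136374, 1383988, 50, 337530]) (.leaf [1, 1, 4104798, 1411060, 1, 5256904]))) (.node (.node (.leaf [0, 29, 197568, 1646742, 29, 16800]) (.leaf [1, 5, 6250388, 1619582, 37, 790948])) (.node (.leaf [1, 4, 149696, 2117138, 17, 2321424]) (.leaf [])))) (.node (.node (.node (.leaf [0, 2, 2774368, 1885470, 2, 0]) (.leaf [1, 4, 5435144, 3605972, 4, 6952524])) (.node (.leaf [0, 9, 1317476, 2315732, 31, 2041538]) (.leaf [1, 1, 2837124, 3818622, 5, 2483448]))) (.node (.node (.leaf [1, 34, 67368, 790784, 34, 263936]) (.leaf [1, 1, 7362696, 2003856, 1, 304924])) (.node (.leaf [1, 22, 2197586, 1188752, 44, 1267728]) (.leaf []))))) (.node (.node (.node (.node (.leaf [0, 2, 2058354, 461010, 2, 0]) (.leaf [1, 29, 4930710, 1863256, 17, 2023066])) (.node (.leaf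 [1, 31, 1843976, 658736, 47, 337680]) (.leaf [1, 5, 5856384, 5954310, 1, 3010880]))) (.node (.node (.leaf [1, 23, 593058, 1753422, 12, 1654990]) (.leaf [1, 5, 133978, 6134298, 5, 3145206])) (.node (.leaf [0, 1, 8798, 6453240, 1, 0]) (.leaf [])))) (.node (.node (.node (.leaf [1, 15, 0, 0, 1, 758856]) (.leaf [1, 1, 1961064, 2496528, 5, 409922])) (.node (.leaf [1, 12, 2184336, 2918634, 29, 2900532]) (.leaf [1, 5, 2814466, 7200942, 1, 4641438]))) (.node (.node (.leaf [1, 37, 790956, 594224, 4, 653356]) (.leaf [1, 1, 2205108, 330222, 2, 2838248])) (.node (.leaf [0, 8, 66328, 470, 8, 0]) (.leaf [])))))))) (.node (.node (.node (.node (.node (.node (.node (.leaf [0, 2, 460998, 988192, 2, 0]) (.leaf [0, 8, 67172, 67200, 8, 0])) (.node (.leaf [1, 33, 2841722, 601614, 39, 658562]) (.leaf [1, 1, 496046, 6501978, 5, 3931812]))) (.node (.node (.leaf [0, 5, 930384, 930384, 5, 0]) (.leaf [1, 5, 5488854, 7163294, 5, 469004])) (.node (.leaf [1, 29, 3361680, 299334, 30,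 724428]) (.leaf [1, 1, 1910880, 1832714, 1, 227604])))) (.node (.node (.node (.leaf [0, 2, 1778128, 3515406, 2, 0]) (.leaf [1, 17, 3688290, 443810, 36, 6520820])) (.node (.leaf [1, 43, 16816, 329964, 47, 1647576]) (.leaf [1, 5, 6825240, 2237938, 5, 5834614]))) (.node (.node (.leaf [1, 3, 403384, 1260506, 33, 593712]) (.leaf [1, 5, 2493890, 1348056, 5, 1040700])) (.node (.leaf [1, 12, 988196, 3799824, 29, 2026348]) (.leaf []))))) (.node (.node (.node (.node (.leaf [0, 2, 1654638, 1514688, 2, 0]) (.leaf [0, 8, 6832, 69044, 8, 0])) (.node (.leaf [1, 47, 1120224, 1778786, 17, 148530]) (.leaf [1, 5, 3742216, 3009376, 5, 2697086]))) (.node (.node (.leaf [1, 12, 922160, 814970, 4, 288120]) (.leaf [1, 22, 7202424, 4272228, 5, 6547060])) (.node (.leaf [1, 29, 3770202, 4595504, 1, 3112370]) (.leaf [])))) (.node (.node (.node (.leaf [0, 2, 1004488, 3070872, 2, 0]) (.leaf [1, 29, 3096252, 3619112, 4, 5529456])) (.node (.leaf [1, 42, 979966, 4159010, 1, 1911852])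 (.leaf [1, 8, 51526, 638254, 1, 4920504]))) (.node (.node (.leaf [1, 33, 2907750, 659068, 30, 1008]) (.leaf [1, 1, 1151314, 6498476, 4, 149696])) (.node (.leaf [1, 22, 7202424, 160108, 29, 1930278]) (.leaf [])))))) (.node (.node (.node (.node (.node (.leaf [0, 6, 131712, 131712, 6, 0]) (.leaf [0, 8, 910, 4172, 8, 0])) (.node (.leaf [1, 50, 1654632, 395640, 48, 996072]) (.leaf [1, 1, 1894310, 4676752, 5, 2892176]))) (.node (.node (.leaf [1, 8, 4618154, 214368, 23, 1317804]) (.leaf [1, 16, 724758, 2942554, 5, 5765578])) (.node (.leaf [1, 29, 2834166, 719166, 37, 790948]) (.leaf [1, 1, 2808718, 4448146, 5, 308544])))) (.node (.node (.node (.leaf [0, 2, 1267744, 1786528, 2, 0]) (.leaf [1, 1, 1611850, 6299240, 17, 5365894])) (.node (.leaf [1, 44, 609168, 922492, 42, 148532]) (.leaf [1, 5, 6261538, 5969282, 5, 1830378]))) (.node (.node (.leaf [1, 34, 922160, 460992, 30, 512]) (.leaf [1, 1, 7296258, 2292490, 1, 5249230])) (.node (.leaf [1, 39, 1317300, 984700,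 29, 564840]) (.leaf []))))) (.node (.node (.node (.node (.leaf [0, 2, 1457248, 2198296, 2, 0]) (.leaf [1, 17, 1143986, 6748640, 17, 5382022])) (.node (.leaf [1, 42, 1144250, 1383650, 44, 1267728]) (.leaf [1, 5, 737910, 3847334, 1, 5871924]))) (.node (.node (.leaf [1, 1, 1961064, 1984080, 30, 1333934]) (.leaf [1, 44, 526848, 1419432, 5, 1593996])) (.node (.leaf [1, 8, 1642032, 3455540, 39, 1334768]) (.leaf [])))) (.node (.node (.node (.leaf [1, 9, 263766, 2370990, 1, 2371836]) (.leaf [1, 5, 401468, 5475886, 5, 4178772])) (.node (.leaf [1, 4, 1854890, 4993804, 2, 2454008]) (.leaf [1, 5, 3850218, 1041870, 1, 4236586]))) (.node (.node (.leaf [1, 37, 0, 0, 1, 4874862]) (.leaf [1, 2, 431422, 624158, 1, 5260936])) (.node (.leaf [0, 8, 66396, 4628, 8, 0]) (.leaf []))))))) (.node (.node (.node (.node (.node (.node (.leaf [1, 4, 263778, 197574, 1, 1382982]) (.leaf [0, 8, 6440, 73868, 8, 0])) (.node (.leaf [1, 1, 1910508, 724416, 46, 337512]) (.leaf [1, 5, 6383122,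 2759346, 1, 3687542]))) (.node (.node (.leaf [1, 1, 683272, 0, 26, 0]) (.leaf [1, 1, 1710460, 7087644, 5, 6577652])) (.node (.leaf [1, 29, 2242128, 620972, 29, 2383542]) (.leaf [1, 1, 7380500, 7114234, 5, 3954556])))) (.node (.node (.node (.leaf [0, 2, 2313378, 3507186, 2, 0]) (.leaf [1, 16, 246962, 7431826, 1, 4337550])) (.node (.leaf [1, 42, 1317120, 330796, 22, 1054054]) (.leaf [1, 5, 1307624, 7130064, 1, 2052276]))) (.node (.node (.leaf [1, 12, 3303052, 3704756, 33, 724922]) (.leaf [1, 5, 1197108, 50016, 17, 1233194])) (.node (.leaf [1, 29, 861588, 6525848, 29, 2276422]) (.leaf []))))) (.node (.node (.node (.node (.leaf [0, 2, 3045846, 1457238, 2, 0]) (.leaf [0, 8, 7834, 4866, 8, 0])) (.node (.leaf [1, 50, 1515046, 988186, 48, 82678]) (.leaf [1, 1, 2075414, 4086580, 5, 5911866]))) (.node (.node (.leaf [1, 8, 4354750, 1646750, 30, 462008]) (.leaf [1, 8, 5756088, 5927374, 17, 3982918])) (.node (.leaf [1, 42, 2914136, 7215432, 29, 2582076]) (.leaf []))))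 (.node (.node (.node (.leaf [1, 5, 197748, 132720, 5, 593060]) (.leaf [1, 5, 1323504, 4743498, 5, 4432588])) (.node (.leaf [1, 1, 609846, 5617220, 4, 2441976]) (.leaf [1, 1, 6340610, 5569758, 1, 2241518]))) (.node (.node (.leaf [1, 33, 3227812, 1342324, 29, 330800]) (.leaf [1, 5, 3179184, 1248078, 1, 1261016])) (.node (.leaf [0, 8, 534, 70486, 8, 0]) (.leaf [])))))) (.node (.node (.node (.node (.node (.leaf [0, 2, 2313360, 856134, 2, 0]) (.leaf [0, 8, 1316, 1344, 8, 0])) (.node (.leaf [1, 22, 148530, 264108, 46, 1646758]) (.leaf [1, 1, 5766584, 3867032, 1, 3309244]))) (.node (.node (.leaf [1, 30, 1382984, 1382976, 1, 469238]) (.leaf [1, 5, 3846806, 1014738, 17, 2879594])) (.node (.leaf [1, 8, 1070160, 3470882, 2, 4217652]) (.leaf [])))) (.node (.node (.node (.leaf [0, 2, 486024, 2461704, 2, 0]) (.leaf [1, 29, 3199800, 1760720, 4, 5125516])) (.node (.leaf [1, 22, 930234, 264108, 9, 1070514]) (.leaf [1, 1, 4799674, 4897384, 1, 7286046]))) (.node (.node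 (.leaf [1, 33, 997592, 1581224, 16, 462518]) (.leaf [1, 1, 6240548, 3845322, 5, 7009204])) (.node (.leaf [1, 22, 3514488, 4532034, 22, 2328408]) (.leaf []))))) (.node (.node (.node (.node (.leaf [0, 2, 592890, 2198298, 2, 0]) (.leaf [1, 29, 564840, 673624, 17, 4700210])) (.node (.leaf [1, 22, 132070, 222770, 17, 2971752]) (.leaf [1, 5, 6760320, 6412570, 5, 3109236]))) (.node (.node (.leaf [1, 1, 1491954, 3923936, 12, 2315976]) (.leaf [1, 5, 1633424, 1812784, 5, 734172])) (.node (.leaf [0, 1, 5725952, 1252476, 1, 0]) (.leaf [])))) (.node (.node (.node (.leaf [1, 1, 1252274, 131718, 17, 337512]) (.leaf [1, 16, 790440, 7481740, 5, 5124474])) (.node (.leaf [1, 23, 395488, 2376796, 29, 4359222]) (.leaf [1, 1, 7402954, 5474798, 1, 2223866]))) (.node (.node (.leaf [1, 39, 593050, 1317792, 23, 658572]) (.leaf [1, 1, 6813230, 7383714, 1, 1523278])) (.node (.leaf [0, 8, 71122, 72556, 8, 0]) (.leaf []))))))))) (.node (.node (.node (.node (.node (.node (.node (.node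 (.leaf [0, 2, 131718, 790272, 2, 0]) (.leaf [0, 8, 2034, 5788, 8, 0])) (.node (.leaf [1, 4, 255550, 1127790, 39, 659236]) (.leaf [1, 1, 682882, 5845532, 1, 2082638]))) (.node (.node (.leaf [0, 5, 1020936, 1020936, 5, 0]) (.leaf [1, 5, 6251576, 2551092, 2, 2840556])) (.node (.leaf [1, 29, 3172188, 2484610, 29, 358]) (.leaf [1, 5, 2999360, 6703984, 8, 4178632])))) (.node (.node (.node (.leaf [0, 2, 296538, 1679512, 2, 0]) (.leaf [1, 36, 5663944, 1000812, 22, 5168670])) (.node (.leaf [1, 50, 2453494, 199086, 48, 156408]) (.leaf [1, 1, 6036200, 3475526, 5, 4766500]))) (.node (.node (.leaf [1, 33, 592712, 997082, 16, 67374]) (.leaf [1, 5, 2961420, 2845238, 8, 1722006])) (.node (.leaf [1, 29, 3683466, 7005392, 29, 2893194]) (.leaf []))))) (.node (.node (.node (.node (.leaf [0, 2, 2791000, 1070328, 2, 0]) (.leaf [0, 8, 1698, 3932, 8, 0])) (.node (.leaf [1, 42, 1588792, 678, 50, 358]) (.leaf [1, 5, 1831148, 2972800, 1, 4788238]))) (.node (.node (.leaf [1, 12,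 922662, 263424, 30, 658560]) (.leaf [1, 5, 5426132, 492350, 1, 3112370])) (.node (.leaf [1, 29, 547356, 2739090, 4, 1729232]) (.leaf [])))) (.node (.node (.node (.leaf [0, 2, 2173264, 3490368, 2, 0]) (.leaf [1, 4, 6980576, 4651910, 29, 4416396])) (.node (.leaf [1, 46, 1992498, 158090, 42, 1868672]) (.leaf [1, 5, 2766800, 4459286, 5, 3015290]))) (.node (.node (.leaf [1, 33, 1928640, 1927800, 16, 8246]) (.leaf [1, 1, 1003694, 2000662, 5, 1594510])) (.node (.leaf [1, 22, 3967248, 5092918, 17, 4682684]) (.leaf [])))))) (.node (.node (.node (.node (.node (.leaf [0, 4, 988192, 1317120, 4, 0]) (.leaf [0, 8, 69676, 1348, 8, 0])) (.node (.leaf [1, 49, 1514688, 396148, 47, 807090]) (.leaf [1, 1, 425252, 3851402, 1, 7079234]))) (.node (.node (.leaf [1, 15, 921984, 1317474, 15, 921996]) (.leaf [1, 5, 6844786, 598814, 16, 403374])) (.node (.leaf [1, 29, 1797276, 405578, 12, 4285452]) (.leaf [1, 1, 334882, 6771156, 5, 3846308])))) (.node (.node (.node (.leaf [0, 2,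 1737304, 1613656, 2, 0]) (.leaf [1, 1, 2469054, 4193958, 29, 2512776])) (.node (.leaf [1, 1, 1063616, 66028, 22, 1317478]) (.leaf [1, 1, 4051500, 5150466, 5, 5609846]))) (.node (.node (.leaf [1, 12, 198078, 460992, 34, 659572]) (.leaf [1, 1, 6051208, 809732, 2, 536760])) (.node (.leaf [1, 29, 4607750, 3276130, 29, 3575556]) (.leaf []))))) (.node (.node (.node (.node (.leaf [0, 2, 1127952, 3029550, 2, 0]) (.leaf [1, 17, 5357662, 5886978, 8, 1045820])) (.node (.leaf [1, 17, 666800, 922158, 8, 74596]) (.leaf [1, 5, 917120, 7278326, 5, 3484186]))) (.node (.node (.leaf [1, 12, 478976, 1202228, 30, 1778464]) (.leaf [1, 5, 179674, 6271474, 5, 374646])) (.node (.leaf [1, 42, 2453312, 3048344, 2, 3565132]) (.leaf [])))) (.node (.node (.node (.leaf [1, 5, 658740, 1318638, 8, 988016]) (.leaf [1, 1, 42336, 5668274, 5, 138266])) (.node (.leaf [1, 4, 4489950, 5980010, 22, 1399792]) (.leaf [1, 1, 1404916, 7093954, 1, 1221196]))) (.node (.node (.leaf [1, 12, 1195660,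 2568742, 36, 922660]) (.leaf [1, 1, 1432380, 5291398, 2, 193786])) (.node (.leaf [0, 8, 67886, 3586, 8, 0]) (.leaf []))))))) (.node (.node (.node (.node (.node (.node (.leaf [0, 3, 65856, 65856, 3, 0]) (.leaf [0, 8, 69086, 69088, 8, 0])) (.node (.leaf [1, 42, 1514688, 659576, 43, 1144602]) (.leaf [1, 1, 2767154, 5345446, 5, 6431812]))) (.node (.node (.leaf [1, 1, 17140, 0, 21, 0]) (.leaf [1, 5, 6671276, 2060280, 1, 4608298])) (.node (.leaf [1, 23, 66210, 7140692, 29, 3229644]) (.leaf [1, 5, 1297400, 1906316, 5, 6454448])))) (.node (.node (.node (.leaf [0, 2, 1457232, 2321776, 2, 0]) (.leaf [1, 1, 1835276, 5231106, 12, 1514864])) (.node (.leaf [1, 22, 658736, 461504, 8, 26216]) (.leaf [1, 1, 2145210, 3874394, 1, 6908648]))) (.node (.node (.leaf [1, 33, 263426, 1317476, 23, 658916]) (.leaf [1, 5, 1125092, 1229510, 4, 6622624])) (.node (.leaf [1, 12, 601294, 147540, 29, 5794038]) (.leaf []))))) (.node (.node (.node (.node (.leaf [0, 2, 1061946, 807078,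 2, 0]) (.leaf [0, 8, 71286, 72200, 8, 0])) (.node (.leaf [1, 32, 2453490, 922164, 47, 197924]) (.leaf [1, 8, 3359462, 5340450, 5, 5456606]))) (.node (.node (.leaf [1, 30, 198078, 3037616, 1, 428400]) (.leaf [1, 5, 5262148, 7239932, 8, 5978230])) (.node (.leaf [1, 1, 2242140, 4988970, 22, 304940]) (.leaf [])))) (.node (.node (.node (.leaf [1, 1, 66030, 395814, 4, 724770]) (.leaf [1, 1, 527200, 6210342, 5, 3140372])) (.node (.leaf [1, 42, 2214766, 4347360, 22, 2041894]) (.leaf [1, 2, 2079068, 198588, 1, 2229906]))) (.node (.node (.leaf [1, 30, 330294, 131880, 33, 2438526]) (.leaf [1, 1, 5317586, 870002, 5, 4624476])) (.node (.leaf [0, 8, 69306, 66102, 8, 0]) (.leaf [])))))) (.node (.node (.node (.node (.node (.leaf [0, 2, 1992496, 1185408, 2, 0]) (.leaf [0, 8, 2348, 7374, 8, 0])) (.node (.leaf [1, 8, 215040, 396648, 46, 922334]) (.leaf [1, 1, 7432022, 1702298, 1, 2319658]))) (.node (.node (.leaf [1, 29, 1909828, 930216, 1, 1457418]) (.leaf [1, 5, 468332,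 6897838, 17, 3060934])) (.node (.leaf [0, 46, 148518, 5825308, 46, 757700]) (.leaf [])))) (.node (.node (.node (.leaf [0, 2, 2387298, 280072, 2, 0]) (.leaf [1, 4, 6771916, 3951806, 1, 2435212])) (.node (.leaf [1, 8, 535434, 230848, 9, 1070516]) (.leaf [1, 5, 4485492, 6918872, 1, 7162620]))) (.node (.node (.leaf [1, 2, 1186284, 2437352, 34, 724766]) (.leaf [1, 1, 7435532, 1258328, 1, 2029324])) (.node (.leaf [1, 22, 2714802, 3934502, 22, 4654198]) (.leaf []))))) (.node (.node (.node (.node (.leaf [0, 2, 3070888, 1934872, 2, 0]) (.leaf [1, 17, 4445018, 5883704, 29, 1722504])) (.node (.leaf [1, 47, 1137528, 1656312, 8, 2050122]) (.leaf [1, 1, 7146668, 6793948, 2, 2507764]))) (.node (.node (.leaf [1, 12, 740888, 82322, 30, 205806]) (.leaf [1, 36, 5467124, 4648516, 5, 3353168])) (.node (.leaf [0, 1, 1172924, 894636, 1, 0]) (.leaf [])))) (.node (.node (.node (.leaf [0, 16, 214386, 214386, 16, 0]) (.leaf [1, 5, 5239040, 286206, 4, 4149266])) (.node (.leaf [1,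 30, 264944, 1976490, 29, 3965952]) (.leaf [1, 1, 5391440, 6036198, 1, 151370]))) (.node (.node (.leaf [1, 23, 329460, 352, 39, 1382976]) (.leaf [1, 5, 461344, 5276752, 1, 4174154])) (.node (.leaf [0, 8, 70484, 540, 8, 0]) (.leaf [])))))))) (.node (.node (.node (.node (.node (.node (.node (.leaf [0, 2, 592872, 658728, 2, 0]) (.leaf [0, 8, 66760, 7212, 8, 0])) (.node (.leaf [1, 39, 1514, 25050, 37, 329626]) (.leaf [1, 5, 344738, 7206412, 1, 819000]))) (.node (.node (.leaf [0, 5, 2387454, 2387454, 5, 0]) (.leaf [1, 16, 8246, 861052, 5, 6952732])) (.node (.leaf [1, 12, 198078, 64960, 29, 1926798]) (.leaf [1, 1, 587900, 3887180, 5, 4493936])))) (.node (.node (.node (.leaf [0, 2, 1794912, 798690, 2, 0]) (.leaf [1, 1, 3070258, 6687346, 1, 766752])) (.node (.leaf [1, 47, 2585016, 1317794, 44, 1342168]) (.leaf [1, 1, 6020260, 2668754, 5, 6659812]))) (.node (.node (.leaf [1, 33, 922490, 132390, 23, 658910]) (.leaf [1, 17, 4682684, 3678556, 5, 2813578])) (.node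 (.leaf [1, 12, 987848, 4447008, 29, 4318632]) (.leaf []))))) (.node (.node (.node (.node (.leaf [0, 2, 2576784, 526854, 2, 0]) (.leaf [0, 8, 69448, 2032, 8, 0])) (.node (.leaf [1, 47, 2108904, 725424, 5, 1407684]) (.leaf [1, 1, 667418, 6391792, 5, 5506870]))) (.node (.node (.leaf [0, 23, 921984, 82672, 26, 199086]) (.leaf [1, 5, 6577526, 871088, 4, 3691446])) (.node (.leaf [1, 4, 3099266, 2294654, 29, 3493872]) (.leaf [])))) (.node (.node (.node (.leaf [1, 1, 1333938, 82674, 4, 526848]) (.leaf [1, 36, 725088, 3079110, 4, 7112288])) (.node (.leaf [1, 42, 2149736, 4544742, 22, 2107394]) (.leaf [1, 1, 6974328, 3189558, 5, 4512704]))) (.node (.node (.leaf [1, 23, 264942, 8252, 33, 2832816]) (.leaf [1, 4, 4488128, 6203442, 1, 3317102])) (.node (.leaf [1, 1, 1130652, 6197376, 22, 5127142]) (.leaf [])))))) (.node (.node (.node (.node (.node (.leaf [0, 2, 609174, 486040, 2, 0]) (.leaf [0, 8, 1348, 69676, 8, 0])) (.node (.leaf [1, 5, 403726, 264444, 32, 469224])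 (.leaf [1, 5, 732652, 307706, 1, 4538336]))) (.node (.node (.leaf [1, 28, 66206, 724428, 1, 2971920]) (.leaf [1, 11, 1712608, 7481750, 5, 5952908])) (.node (.leaf [1, 39, 790784, 5232890, 29, 4348014]) (.leaf [1, 5, 5772904, 2746722, 1, 5252732])))) (.node (.node (.node (.leaf [0, 2, 1918242, 1020954, 2, 0]) (.leaf [1, 4, 288120, 3584792, 4, 7298764])) (.node (.leaf [1, 46, 1333920, 1383656, 22, 1457064]) (.leaf [1, 2, 3377606, 337022, 1, 3077442]))) (.node (.node (.leaf [1, 23, 592706, 411952, 34, 594220]) (.leaf [1, 5, 6808346, 619892, 1, 6492612])) (.node (.leaf [1, 22, 2929848, 4623876, 1, 141468]) (.leaf []))))) (.node (.node (.node (.node (.leaf [0, 2, 1918224, 667128, 2, 0]) (.leaf [1, 17, 5365894, 5112162, 23, 922668])) (.node (.leaf [1, 50, 1144256, 1383148, 42, 1399786]) (.leaf [1, 2, 3054746, 416674, 1, 6751440]))) (.node (.node (.leaf [1, 1, 831774, 931896, 12, 4094160]) (.leaf [1, 1, 1055216, 2609156, 5, 201178])) (.node (.leaf [1, 22, 741234,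 6643058, 1, 3953318]) (.leaf [])))) (.node (.node (.node (.leaf [1, 11, 263778, 741234, 1, 403542]) (.leaf [1, 5, 1059574, 6027946, 1, 2469958])) (.node (.leaf [1, 1, 537938, 5096160, 29, 2978112]) (.leaf [1, 8, 5137376, 5595944, 5, 1282978]))) (.node (.node (.leaf [1, 1, 405222, 938616, 37, 197574]) (.leaf [1, 2, 3768464, 3221312, 8, 215040])) (.node (.leaf [0, 8, 472, 66326, 8, 0]) (.leaf []))))))) (.node (.node (.node (.node (.node (.node (.leaf [1, 5, 660072, 922494, 1, 790276]) (.leaf [0, 8, 1356, 69678, 8, 0])) (.node (.leaf [1, 47, 526848, 659576, 44, 667146]) (.leaf [1, 1, 4105626, 1721010, 5, 5461138]))) (.node (.node (.leaf [1, 1, 1737120, 1852374, 27, 140112]) (.leaf [1, 1, 2469054, 7125720, 5, 7032122])) (.node (.leaf [1, 29, 2315728, 1675858, 23, 132384]) (.leaf [1, 1, 337996, 171802, 1, 5251974])))) (.node (.node (.node (.leaf [0, 2, 2593422, 1514706, 2, 0]) (.leaf [1, 1, 1703310, 4734236, 29, 1529280])) (.node (.leaf [1, 47, 222618, 922336,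 22, 90560]) (.leaf [1, 1, 845076, 788288, 2, 6145160]))) (.node (.node (.leaf [1, 34, 1317124, 131880, 1, 2963878]) (.leaf [1, 5, 3889786, 4503138, 5, 5331104])) (.node (.leaf [1, 29, 3066066, 6921768, 29, 2250204]) (.leaf []))))) (.node (.node (.node (.node (.leaf [0, 2, 411936, 205974, 2, 0]) (.leaf [0, 8, 7524, 6444, 8, 0])) (.node (.leaf [1, 48, 148530, 1383656, 48, 1588780]) (.leaf [1, 5, 313106, 1787922, 5, 717946]))) (.node (.node (.leaf [1, 30, 659236, 1975702, 29, 988520]) (.leaf [0, 3, 0, 7369242, 2, 6900350])) (.node (.leaf [1, 1, 1130652, 2551180, 42, 2711184]) (.leaf [])))) (.node (.node (.node (.leaf [0, 8, 0, 0, 8, 0]) (.leaf [1, 5, 269598, 6343208, 4, 6547804])) (.node (.leaf [1, 4, 4547790, 5254936, 8, 1335936]) (.leaf [1, 5, 7438564, 1235654, 1, 195490]))) (.node (.node (.leaf [1, 33, 2371496, 702750, 23, 1317288]) (.leaf [1, 5, 2438176, 1816086, 5, 1927298])) (.node (.leaf [0, 8, 67010, 242, 8, 0]) (.leaf [])))))) (.node (.node (.node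 (.node (.node (.leaf [0, 2, 601290, 16800, 2, 0]) (.leaf [0, 8, 5426, 72778, 8, 0])) (.node (.leaf [1, 50, 1384490, 988848, 8, 26216]) (.leaf [1, 5, 1125092, 608464, 1, 4469116]))) (.node (.node (.leaf [1, 30, 658914, 724770, 28, 461668]) (.leaf [1, 2, 990528, 6401504, 5, 6581552])) (.node (.leaf [1, 4, 990868, 2552226, 29, 3453252]) (.leaf [])))) (.node (.node (.node (.leaf [0, 2, 3498784, 1712272, 2, 0]) (.leaf [1, 4, 6053338, 6278582, 29, 2756094])) (.node (.leaf [1, 4, 214712, 91232, 9, 1317130]) (.leaf [1, 5, 5686756, 4400768, 8, 5959062]))) (.node (.node (.leaf [1, 33, 733156, 1581048, 16, 329296]) (.leaf [1, 1, 7169074, 235286, 1, 642450])) (.node (.leaf [1, 5, 734172, 698206, 22, 4302424]) (.leaf []))))) (.node (.node (.node (.node (.leaf [0, 2, 872928, 667134, 2, 0]) (.leaf [1, 1, 428404, 168184, 17, 3209110])) (.node (.leaf [1, 50, 1457072, 1020776, 17, 4223024]) (.leaf [1, 5, 6663948, 7366484, 2, 3404470]))) (.node (.node (.leaf [1, 1, 404886,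 197574, 32, 337512]) (.leaf [1, 8, 807416, 1807120, 5, 1445954])) (.node (.leaf [0, 1, 4422286, 6174436, 23, 6513830]) (.leaf [])))) (.node (.node (.node (.leaf [1, 18, 74090, 264432, 1, 1466814]) (.leaf [1, 5, 5897290, 3167134, 4, 6048018])) (.node (.leaf [1, 30, 329958, 1628136, 29, 861588]) (.leaf [1, 1, 3129614, 1551092, 5, 2702872]))) (.node (.node (.leaf [1, 39, 396156, 215544, 12, 725940]) (.leaf [1, 1, 3722436, 2093690, 1, 3150002])) (.node (.leaf [0, 8, 1560, 69092, 8, 0]) (.leaf []))))))))))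

/-- the facts, part 1 -/
def factTab1 : WTab :=
  (.node (.node (.node (.node (.node (.node (.node (.node (.node (.leaf [1, 1, 0, 197568, 0, 0]) (.leaf [0, 8, 67726, 5784, 8, 0])) (.node (.leaf [1, 39, 133236, 1334452, 1, 428418]) (.leaf [1, 1, 1088750, 3425848, 5, 797498]))) (.node (.node (.leaf [0, 5, 156576, 156576, 5, 0]) (.leaf [1, 5, 467210, 7119000, 5, 7413724])) (.node (.leaf [1, 29, 4285470, 37086, 23, 1317296]) (.leaf [1, 1, 5939328, 3389876, 1, 5536318])))) (.node (.node (.node (.leaf [0, 2, 1786518, 1448848, 2, 0]) (.leaf [1, 29, 3579048, 1867034, 17, 3296806])) (.node (.leaf [1, 22, 600944, 922154, 8, 1581224]) (.leaf [1, 1, 1585548, 3120940, 1, 4347388]))) (.node (.node (.leaf [1, 4, 4288890, 74092, 33, 923508]) (.leaf [1, 17, 4223024, 5657318, 5, 196064])) (.node (.leaf [1, 29, 4006692, 6273656, 29, 197742]) (.leaf []))))) (.node (.node (.node (.node (.leaf [0, 2, 2585202, 1317138, 2, 0]) (.leaf [0, 8, 8012, 72296, 8, 0])) (.node (.leaf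 [1, 47, 2766624, 2042210, 9, 148530]) (.leaf [1, 5, 2734520, 431610, 1, 3399538]))) (.node (.node (.leaf [1, 26, 988196, 988196, 30, 395304]) (.leaf [1, 5, 276216, 2551502, 22, 7076546])) (.node (.leaf [1, 17, 1193994, 2974288, 2, 856644]) (.leaf [])))) (.node (.node (.node (.leaf [0, 2, 864546, 3828222, 2, 0]) (.leaf [1, 4, 6032148, 5077436, 29, 538584])) (.node (.leaf [1, 9, 551552, 790628, 22, 2041536]) (.leaf [1, 5, 187438, 744904, 5, 5721318]))) (.node (.node (.leaf [1, 33, 609848, 1229106, 12, 5279496]) (.leaf [1, 1, 4617590, 515718, 5, 2501024])) (.node (.leaf [1, 22, 5298496, 2055800, 22, 1457420]) (.leaf [])))))) (.node (.node (.node (.node (.node (.leaf [0, 1, 65856, 65856, 1, 0]) (.leaf [0, 8, 906, 4170, 8, 0])) (.node (.leaf [1, 1, 1926458, 0, 49, 0]) (.leaf [1, 1, 1753022, 5424248, 2, 744238]))) (.node (.node (.leaf [1, 27, 477624, 1523274, 1, 2453490]) (.leaf [1, 5, 5630972, 1747234, 1, 3086286])) (.node (.leaf [1, 29, 527204, 2434884,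 29, 2653572]) (.leaf [1, 8, 7011408, 2564048, 1, 1716858])))) (.node (.node (.node (.leaf [0, 2, 1531506, 18, 2, 0]) (.leaf [1, 29, 4285470, 3430400, 1, 1926010])) (.node (.leaf [1, 31, 1399788, 1382980, 8, 1590138]) (.leaf [1, 1, 1073634, 2173040, 1, 2581548]))) (.node (.node (.leaf [1, 34, 66536, 791790, 30, 1382978]) (.leaf [1, 1, 403718, 1824968, 1, 3364702])) (.node (.leaf [1, 29, 3223776, 228592, 29, 5342920]) (.leaf []))))) (.node (.node (.node (.node (.leaf [0, 2, 741222, 1448850, 2, 0]) (.leaf [0, 8, 3926, 68734, 8, 0])) (.node (.leaf [1, 1, 527024, 1382988, 50, 996086]) (.leaf [1, 5, 701740, 779608, 1, 6218524]))) (.node (.node (.leaf [1, 23, 65864, 485700, 30, 672]) (.leaf [1, 5, 1691842, 3910714, 1, 1992818])) (.node (.leaf [1, 29, 4758042, 1748534, 4, 3691446]) (.leaf [])))) (.node (.node (.node (.leaf [0, 8, 2, 8, 8, 0]) (.leaf [1, 8, 2634576, 4532078, 5, 137426])) (.node (.leaf [1, 22, 1382994, 831828, 4, 5809532]) (.leaf [1, 5, 5301852,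 3185908, 1, 5046950]))) (.node (.node (.leaf [1, 33, 668312, 1319978, 30, 1333936]) (.leaf [1, 2, 786490, 4305228, 1, 5345104])) (.node (.leaf [0, 8, 66334, 70098, 8, 0]) (.leaf []))))))) (.node (.node (.node (.node (.node (.node (.leaf [0, 3, 988194, 395136, 3, 0]) (.leaf [0, 8, 67174, 67208, 8, 0])) (.node (.leaf [1, 42, 741234, 131718, 1, 931228]) (.leaf [1, 1, 236638, 3869998, 5, 6639162]))) (.node (.node (.leaf [1, 8, 527206, 1786348, 1, 1466814]) (.leaf [1, 5, 6162460, 1689736, 4, 5106356])) (.node (.leaf [1, 30, 725430, 936684, 29, 3961608]) (.leaf [1, 1, 3884334, 2378600, 8, 529038])))) (.node (.node (.node (.leaf [0, 2, 2329998, 1185426, 2, 0]) (.leaf [1, 1, 3349710, 7303750, 4, 2247344])) (.node (.leaf [0, 50, 0, 263936, 22, 396648]) (.leaf [1, 2, 3036320, 6032240, 1, 5782550]))) (.node (.node (.leaf [1, 33, 988192, 485862, 30, 66364]) (.leaf [1, 17, 2325288, 4521208, 5, 3287480])) (.node (.leaf [1, 1, 2479008, 2082878, 29, 3916806]) (.leaf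 []))))) (.node (.node (.node (.node (.leaf [0, 2, 156762, 634216, 2, 0]) (.leaf [0, 8, 5932, 67550, 8, 0])) (.node (.leaf [1, 47, 1054706, 1524434, 10, 148530]) (.leaf [1, 1, 7236424, 1933474, 5, 2034670]))) (.node (.node (.leaf [1, 29, 593208, 2, 23, 395308]) (.leaf [1, 8, 5829208, 3813256, 4, 7084236])) (.node (.leaf [1, 29, 5363076, 6857344, 22, 330794]) (.leaf [])))) (.node (.node (.node (.leaf [0, 3, 133224, 396656, 3, 0]) (.leaf [1, 17, 3669866, 6169384, 4, 5766888])) (.node (.leaf [1, 22, 148534, 158428, 42, 33104]) (.leaf [1, 1, 4097354, 7105524, 1, 1919862]))) (.node (.node (.leaf [1, 23, 197918, 353980, 33, 1713432]) (.leaf [1, 1, 2188384, 4669948, 1, 1967790])) (.node (.leaf [1, 2, 3565132, 6845530, 22, 3881538]) (.leaf [])))))) (.node (.node (.node (.node (.node (.leaf [0, 2, 1514688, 1654638, 2, 0]) (.leaf [0, 8, 6348, 70284, 8, 0])) (.node (.leaf [1, 50, 8240, 658736, 5, 272664]) (.leaf [1, 1, 5256904, 591534, 1, 2927622]))) (.node (.node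 (.leaf [0, 29, 1646742, 1646742, 29, 0]) (.leaf [1, 37, 790948, 6908906, 5, 5696828])) (.node (.leaf [1, 4, 5074946, 7345460, 17, 658918]) (.leaf [])))) (.node (.node (.node (.leaf [0, 2, 1729062, 3037944, 2, 0]) (.leaf [1, 29, 987840, 981568, 4, 5098360])) (.node (.leaf [0, 31, 0, 3564632, 9, 370788]) (.leaf [1, 5, 2483448, 2545072, 1, 2713192]))) (.node (.node (.leaf [1, 34, 263936, 396156, 34, 133224]) (.leaf [1, 1, 7471870, 4480716, 5, 204236])) (.node (.leaf [1, 44, 1267728, 817316, 22, 2074106]) (.leaf []))))) (.node (.node (.node (.node (.leaf [0, 2, 2330010, 790290, 2, 0]) (.leaf [1, 17, 2023066, 878582, 29, 4078602])) (.node (.leaf [1, 31, 2049776, 395810, 47, 197924]) (.leaf [1, 1, 3010880, 2763114, 5, 5301534]))) (.node (.node (.leaf [1, 23, 198578, 2008782, 12, 1514864]) (.leaf [1, 5, 153454, 4313852, 8, 675528])) (.node (.leaf [0, 1, 297070, 6674602, 1, 0]) (.leaf [])))) (.node (.node (.node (.leaf [1, 15, 724590, 395136, 1, 617754]) (.leaf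 [1, 1, 1630946, 4508252, 5, 674018])) (.node (.leaf [1, 29, 2900532, 1687376, 12, 2044564]) (.leaf [1, 1, 4641438, 7238314, 5, 2617066]))) (.node (.node (.leaf [1, 1, 512066, 0, 39, 0]) (.leaf [1, 2, 2838248, 1579308, 1, 2065164])) (.node (.leaf [0, 8, 1862, 3596, 8, 0]) (.leaf [])))))))) (.node (.node (.node (.node (.node (.node (.node (.leaf [0, 2, 922338, 395142, 2, 0]) (.leaf [0, 8, 7368, 72560, 8, 0])) (.node (.leaf [1, 39, 658562, 240240, 33, 2702056]) (.leaf [1, 5, 138938, 2125282, 1, 1415044]))) (.node (.node (.leaf [0, 5, 667144, 667144, 5, 0]) (.leaf [1, 8, 3688280, 2296282, 5, 4785254])) (.node (.leaf [1, 30, 724428, 6186808, 29, 2250204]) (.leaf [1, 1, 227604, 1517664, 1, 1929024])))) (.node (.node (.node (.leaf [0, 2, 2387286, 1070346, 2, 0]) (.leaf [1, 22, 329620, 3256676, 36, 6734380])) (.node (.leaf [1, 47, 1647576, 461162, 43, 214384]) (.leaf [1, 5, 5834614, 2286118, 5, 6075962]))) (.node (.node (.leaf [1, 12, 922158, 1119910, 33, 680])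 (.leaf [1, 5, 1748766, 1532850, 36, 6734380])) (.node (.leaf [1, 29, 2277816, 5883104, 1, 798524]) (.leaf []))))) (.node (.node (.node (.node (.leaf [0, 2, 1975696, 856128, 2, 0]) (.leaf [0, 8, 69672, 68388, 8, 0])) (.node (.leaf [1, 17, 148530, 782046, 47, 865872]) (.leaf [1, 1, 4647088, 3441992, 1, 3739608]))) (.node (.node (.leaf [1, 4, 288120, 419838, 12, 1383652]) (.leaf [1, 5, 6384706, 1078544, 22, 7331088])) (.node (.leaf [1, 1, 3112370, 3410236, 29, 3959202]) (.leaf [])))) (.node (.node (.node (.leaf [0, 2, 1086810, 205984, 2, 0]) (.leaf [1, 29, 2173422, 3580394, 4, 6039786])) (.node (.leaf [1, 42, 1638526, 4149606, 1, 1055216]) (.leaf [1, 1, 4920504, 1617050, 8, 249094]))) (.node (.node (.leaf [1, 30, 1008, 1317292, 33, 4084248]) (.leaf [1, 4, 149696, 6513484, 1, 879658])) (.node (.leaf [1, 12, 4881748, 5071704, 22, 7199334]) (.leaf [])))))) (.node (.node (.node (.node (.node (.leaf [1, 6, 741234, 65862, 1, 1333938]) (.leaf [0, 8, 6432, 73866,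 8, 0])) (.node (.leaf [1, 48, 996072, 395640, 50, 1646754]) (.leaf [1, 5, 2892176, 7172996, 1, 1243688]))) (.node (.node (.leaf [1, 23, 1317804, 1646742, 8, 5342586]) (.leaf [1, 5, 5765578, 492588, 16, 329296])) (.node (.leaf [1, 37, 790948, 1915692, 29, 2710344]) (.leaf [1, 5, 308544, 2123412, 1, 2610656])))) (.node (.node (.node (.leaf [0, 2, 1136358, 1523104, 2, 0]) (.leaf [1, 17, 5365894, 6973136, 1, 1628476])) (.node (.leaf [1, 42, 148532, 1383146, 44, 486042]) (.leaf [1, 1, 6891644, 4408760, 1, 5140616]))) (.node (.node (.leaf [1, 34, 725088, 197736, 30, 725430]) (.leaf [1, 1, 5249230, 5441416, 1, 6688966])) (.node (.leaf [1, 29, 564840, 5311266, 39, 988346]) (.leaf []))))) (.node (.node (.node (.node (.leaf [0, 2, 2765952, 1465648, 2, 0]) (.leaf [1, 17, 1487556, 6562170, 23, 658572])) (.node (.leaf [1, 44, 1267728, 329954, 42, 872594]) (.leaf [1, 1, 5904896, 5988732, 1, 905164]))) (.node (.node (.leaf [1, 1, 1630946, 1531506, 30, 807088]) (.leaf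 [1, 5, 1593996, 1564514, 44, 1259850])) (.node (.leaf [1, 1, 429240, 7193202, 42, 2906904]) (.leaf [])))) (.node (.node (.node (.leaf [1, 1, 2371836, 1408024, 9, 790288]) (.leaf [1, 1, 1375612, 4243384, 5, 336506])) (.node (.leaf [1, 4, 2003066, 3381448, 4, 488378]) (.leaf [1, 5, 250448, 7459590, 5, 1189620]))) (.node (.node (.leaf [1, 30, 199088, 1384488, 37, 197736]) (.leaf [1, 1, 5260936, 6050062, 2, 719542])) (.node (.leaf [0, 8, 5272, 6702, 8, 0]) (.leaf []))))))) (.node (.node (.node (.node (.node (.node (.leaf [1, 1, 1382982, 197574, 4, 790272]) (.leaf [0, 8, 69038, 69040, 8, 0])) (.node (.leaf [1, 46, 724416, 593720, 43, 1054050]) (.leaf [1, 5, 6162460, 5468866, 1, 3081446]))) (.node (.node (.leaf [1, 26, 0, 0, 1, 436638]) (.leaf [1, 5, 4537808, 3669436, 1, 2632618])) (.node (.leaf [1, 3, 346084, 708086, 29, 1064796]) (.leaf [1, 5, 3954556, 5705528, 1, 7316692])))) (.node (.node (.node (.leaf [0, 2, 2049952, 1144590, 2, 0]) (.leaf [1, 1, 4337550,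 7369972, 16, 49394])) (.node (.leaf [1, 22, 1054054, 922156, 42, 988192]) (.leaf [1, 1, 2671796, 5558956, 1, 4430812]))) (.node (.node (.leaf [1, 33, 922656, 329282, 29, 66864]) (.leaf [1, 17, 1233194, 63734, 5, 1848138])) (.node (.leaf [1, 29, 541440, 4353356, 29, 4934730]) (.leaf []))))) (.node (.node (.node (.node (.leaf [0, 2, 798678, 1399792, 2, 0]) (.leaf [0, 8, 69778, 2874, 8, 0])) (.node (.leaf [1, 48, 82678, 1318640, 50, 1720490]) (.leaf [1, 5, 5911866, 4069304, 1, 2222936]))) (.node (.node (.leaf [1, 30, 462008, 214380, 8, 3227288]) (.leaf [1, 17, 3982918, 1431922, 8, 5756104])) (.node (.leaf [1, 23, 66214, 7188856, 42, 3163448]) (.leaf [])))) (.node (.node (.node (.leaf [1, 1, 594224, 264940, 1, 593212]) (.leaf [1, 1, 1366680, 2808898, 5, 664944])) (.node (.leaf [1, 4, 2441976, 6945306, 1, 486192]) (.leaf [1, 1, 3238062, 810644, 1, 4688114]))) (.node (.node (.leaf [1, 29, 330800, 831770, 33, 4356410]) (.leaf [1, 5, 3304038, 1940744, 5, 111222]))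 (.node (.leaf [0, 8, 3454, 252, 8, 0]) (.leaf [])))))) (.node (.node (.node (.node (.node (.leaf [0, 2, 856134, 2313360, 2, 0]) (.leaf [0, 8, 3594, 1864, 8, 0])) (.node (.leaf [0, 46, 2115632, 725426, 46, 1054040]) (.leaf [1, 1, 4486382, 3229322, 1, 7164802]))) (.node (.node (.leaf [1, 1, 469238, 1382976, 30, 922334]) (.leaf [1, 17, 2879594, 713266, 5, 3845980])) (.node (.leaf [1, 42, 2372336, 2620396, 37, 988356]) (.leaf [])))) (.node (.node (.node (.leaf [0, 2, 469410, 543648, 2, 0]) (.leaf [1, 29, 864368, 839848, 4, 7104784])) (.node (.leaf [1, 9, 1070514, 395306, 22, 1399792]) (.leaf [1, 1, 7286046, 1726282, 1, 4532486]))) (.node (.node (.leaf [1, 4, 255548, 609520, 12, 922490]) (.leaf [1, 5, 7009204, 5160156, 1, 5725862])) (.node (.leaf [1, 22, 2391888, 2770518, 22, 5554500]) (.leaf []))))) (.node (.node (.node (.node (.leaf [0, 2, 1061934, 3029544, 2, 0]) (.leaf [1, 17, 1487742, 2933156, 29, 3199080])) (.node (.leaf [1, 17, 2971752, 2505552, 22,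 66214]) (.leaf [1, 5, 3109236, 846466, 5, 6744904]))) (.node (.node (.leaf [1, 12, 2315976, 5227676, 1, 1483272]) (.leaf [1, 5, 734172, 6683876, 5, 1642418])) (.node (.leaf [0, 1, 4254450, 3039364, 1, 0]) (.leaf [])))) (.node (.node (.node (.leaf [1, 1, 1712424, 0, 18, 0]) (.leaf [1, 5, 7468886, 4304294, 4, 6321680])) (.node (.leaf [1, 29, 4359222, 472038, 23, 658910]) (.leaf [1, 1, 3694542, 6815184, 1, 1333210]))) (.node (.node (.leaf [1, 23, 658572, 263774, 39, 461342]) (.leaf [1, 1, 7301044, 7120290, 1, 1580544])) (.node (.leaf [0, 8, 68206, 73228, 8, 0]) (.leaf []))))))))) (.node (.node (.node (.node (.node (.node (.node (.node (.leaf [0, 2, 65862, 263778, 2, 0]) (.leaf [0, 8, 748, 68300, 8, 0])) (.node (.leaf [1, 12, 4686550, 2387636, 39, 593378]) (.leaf [1, 1, 2230012, 865492, 8, 2181502]))) (.node (.node (.leaf [0, 5, 526848, 526848, 5, 0]) (.leaf [1, 5, 6504916, 5028756, 2, 527724])) (.node (.leaf [1, 29, 358, 2434886, 29, 2966220]) (.leaf [1,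 2, 3161914, 4869014, 1, 7018758])))) (.node (.node (.node (.leaf [0, 2, 1136368, 1663050, 2, 0]) (.leaf [1, 36, 5137594, 2063762, 22, 2795596])) (.node (.leaf [1, 48, 156408, 725094, 50, 2436680]) (.leaf [1, 5, 4766500, 6384690, 1, 5959034]))) (.node (.node (.leaf [1, 33, 462004, 148344, 16, 790440]) (.leaf [1, 5, 3884000, 1148856, 5, 974864])) (.node (.leaf [1, 29, 593384, 986148, 29, 3918174]) (.leaf []))))) (.node (.node (.node (.node (.leaf [0, 2, 345912, 996078, 2, 0]) (.leaf [0, 8, 6196, 6204, 8, 0])) (.node (.leaf [1, 50, 358, 346, 42, 1580896]) (.leaf [1, 1, 5326792, 3484938, 5, 2668368]))) (.node (.node (.leaf [1, 30, 658560, 263424, 12, 1383988]) (.leaf [1, 1, 3112370, 6072662, 5, 4854586])) (.node (.leaf [1, 4, 1729232, 1610476, 29, 1271232]) (.leaf [])))) (.node (.node (.node (.leaf [0, 2, 881166, 1712274, 2, 0]) (.leaf [1, 4, 848252, 7024252, 4, 7416136])) (.node (.leaf [1, 42, 502510, 1909994, 44, 667146]) (.leaf [1, 5, 3015290, 7102662,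 5, 2578124]))) (.node (.node (.leaf [1, 16, 8246, 288120, 33, 1910178]) (.leaf [1, 5, 1594510, 1154898, 1, 1340748])) (.node (.leaf [1, 17, 4682684, 1264548, 22, 3761434]) (.leaf [])))))) (.node (.node (.node (.node (.node (.leaf [0, 4, 395142, 658734, 4, 0]) (.leaf [0, 8, 71640, 1870, 8, 0])) (.node (.leaf [1, 47, 807090, 660074, 49, 1720662]) (.leaf [1, 1, 7079234, 6588274, 1, 681332]))) (.node (.node (.leaf [1, 15, 921996, 131880, 15, 1384496]) (.leaf [1, 16, 403374, 6114682, 5, 6099562])) (.node (.leaf [1, 12, 4285452, 3134114, 29, 2390148]) (.leaf [1, 5, 6095352, 1974610, 1, 3319878])))) (.node (.node (.node (.leaf [0, 2, 1679496, 815304, 2, 0]) (.leaf [1, 29, 2512776, 2782586, 1, 2468472])) (.node (.leaf [1, 22, 1317478, 66872, 1, 1054566]) (.leaf [1, 5, 5609846, 7355030, 1, 4907724]))) (.node (.node (.leaf [1, 34, 659572, 460992, 12, 510]) (.leaf [1, 2, 536760, 2303828, 1, 5979720])) (.node (.leaf [1, 29, 3575556, 2052020, 29, 4467818]) (.leaf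 []))))) (.node (.node (.node (.node (.leaf [0, 2, 2181648, 2379400, 2, 0]) (.leaf [1, 17, 3258166, 6737304, 37, 460998])) (.node (.leaf [1, 8, 74596, 922158, 17, 403370]) (.leaf [1, 5, 1552298, 7463646, 1, 6695316]))) (.node (.node (.leaf [1, 30, 2436676, 156762, 1, 4173798]) (.leaf [1, 5, 374646, 2268150, 5, 113818])) (.node (.leaf [1, 2, 3565132, 3444502, 42, 2436844]) (.leaf [])))) (.node (.node (.node (.leaf [0, 8, 461168, 65862, 8, 461164]) (.leaf [1, 4, 5261644, 6234464, 5, 927942])) (.node (.leaf [1, 4, 2642978, 6183470, 29, 2115976]) (.leaf [1, 1, 381866, 4712154, 1, 5742586]))) (.node (.node (.leaf [1, 23, 987852, 938800, 36, 396652]) (.leaf [1, 2, 193786, 2904278, 1, 963482])) (.node (.leaf [0, 8, 68632, 67020, 8, 0]) (.leaf []))))))) (.node (.node (.node (.node (.node (.node (.leaf [0, 3, 790278, 263776, 3, 0]) (.leaf [0, 8, 5576, 70018, 8, 0])) (.node (.leaf [1, 1, 1515204, 0, 45, 0]) (.leaf [1, 8, 5500414, 2125330, 1, 154484]))) (.node (.node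 (.leaf [1, 21, 0, 0, 1, 214708]) (.leaf [1, 5, 5256500, 5751948, 4, 6039786])) (.node (.leaf [1, 29, 3229644, 3058850, 23, 132066]) (.leaf [1, 8, 7113284, 4460038, 8, 2078136])))) (.node (.node (.node (.leaf [0, 2, 1144600, 2124042, 2, 0]) (.leaf [1, 12, 1514864, 1665730, 1, 2435212])) (.node (.leaf [1, 22, 197576, 66530, 1, 420510]) (.leaf [1, 1, 1138094, 1481076, 1, 524100]))) (.node (.node (.leaf [1, 23, 658916, 132064, 33, 790628]) (.leaf [1, 5, 6384706, 1437580, 5, 200394])) (.node (.leaf [1, 29, 5003766, 3468286, 1, 1961064]) (.leaf []))))) (.node (.node (.node (.node (.leaf [0, 2, 2321778, 922320, 2, 0]) (.leaf [0, 8, 7842, 73702, 8, 0])) (.node (.leaf [1, 8, 1260506, 922656, 47, 988520]) (.leaf [1, 5, 323930, 2441334, 5, 260364]))) (.node (.node (.leaf [1, 1, 428400, 675374, 30, 510]) (.leaf [1, 8, 5978230, 7056730, 5, 5124474])) (.node (.leaf [1, 22, 304940, 5914348, 1, 3369752]) (.leaf [])))) (.node (.node (.node (.leaf [1, 1, 527022, 3037776,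 4, 600936]) (.leaf [1, 1, 1292598, 2732508, 5, 3007000])) (.node (.leaf [1, 42, 1762006, 3565974, 22, 1514696]) (.leaf [1, 5, 3508776, 3829744, 1, 532928]))) (.node (.node (.leaf [1, 23, 594224, 1432390, 33, 4412856]) (.leaf [1, 5, 4624476, 1058738, 1, 5826250])) (.node (.leaf [0, 8, 1156, 2774, 8, 0]) (.leaf [])))))) (.node (.node (.node (.node (.node (.leaf [0, 2, 1646742, 526848, 2, 0]) (.leaf [0, 8, 70018, 5576, 8, 0])) (.node (.leaf [1, 21, 469224, 462510, 8, 74596]) (.leaf [1, 1, 2160954, 6419194, 1, 673858]))) (.node (.node (.leaf [1, 1, 997754, 133232, 29, 66206]) (.leaf [1, 17, 3060934, 956346, 5, 599498])) (.node (.leaf [0, 46, 1243374, 5825308, 46, 0]) (.leaf [])))) (.node (.node (.node (.leaf [0, 2, 2066568, 675040, 2, 0]) (.leaf [1, 4, 7427798, 2167238, 1, 3481590])) (.node (.leaf [1, 9, 1070516, 2455832, 8, 1251264]) (.leaf [1, 1, 7162620, 7211180, 5, 4748486]))) (.node (.node (.leaf [1, 4, 174832, 477814, 34, 461168]) (.leaf [1, 1, 2029324,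 7403422, 1, 7348788])) (.node (.leaf [1, 22, 4654198, 5269564, 22, 2839128]) (.leaf []))))) (.node (.node (.node (.node (.leaf [0, 2, 74262, 634200, 2, 0]) (.leaf [1, 29, 3236196, 1031974, 17, 3381982])) (.node (.leaf [1, 8, 2050122, 3762034, 47, 882336]) (.leaf [1, 2, 2507764, 5759126, 1, 6969600]))) (.node (.node (.leaf [1, 30, 205806, 3293136, 12, 337870]) (.leaf [1, 4, 3952230, 2790450, 5, 2892176])) (.node (.leaf [0, 1, 2804460, 2621756, 1, 0]) (.leaf [])))) (.node (.node (.node (.leaf [0, 16, 82674, 82674, 16, 0]) (.leaf [1, 4, 6955382, 7225858, 5, 6639162])) (.node (.leaf [1, 29, 3965952, 130218, 30, 791280]) (.leaf [1, 1, 151370, 523088, 1, 4649692]))) (.node (.node (.leaf [1, 39, 1382976, 1520, 23, 724586]) (.leaf [1, 1, 4174154, 4308750, 5, 593054])) (.node (.leaf [0, 8, 3182, 3184, 8, 0]) (.leaf [])))))))) (.node (.node (.node (.node (.node (.node (.node (.leaf [0, 2, 460992, 395136, 2, 0]) (.leaf [0, 8, 6934, 4416, 8, 0])) (.node (.leaf [1,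 33, 988352, 921984, 39, 329792]) (.leaf [1, 5, 1341482, 6770400, 1, 59750]))) (.node (.node (.leaf [0, 5, 2445072, 2445072, 5, 0]) (.leaf [1, 16, 955252, 5667460, 5, 5120524])) (.node (.leaf [1, 29, 1926798, 47954, 12, 510]) (.leaf [1, 5, 4493936, 4108548, 1, 1302270])))) (.node (.node (.node (.leaf [0, 2, 2461722, 955098, 2, 0]) (.leaf [1, 1, 4410892, 6637130, 1, 41328])) (.node (.leaf [1, 44, 1342168, 988012, 47, 2790816]) (.leaf [1, 1, 5782094, 278114, 5, 6693926]))) (.node (.node (.leaf [1, 33, 923000, 132220, 23, 132732]) (.leaf [1, 5, 1451658, 2276650, 5, 2227460])) (.node (.leaf [1, 29, 1318130, 6307222, 29, 1709088]) (.leaf []))))) (.node (.node (.node (.node (.leaf [0, 2, 526854, 2576784, 2, 0]) (.leaf [0, 8, 69784, 2876, 8, 0])) (.node (.leaf [1, 22, 66210, 92076, 17, 3095232]) (.leaf [1, 5, 5506870, 185154, 1, 404964]))) (.node (.node (.leaf [0, 26, 0, 1975698, 23, 197574]) (.leaf [1, 4, 3691446, 7201160, 5, 6553316])) (.node (.leaf [1, 29,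 5140272, 2780638, 17, 3112050]) (.leaf [])))) (.node (.node (.node (.leaf [1, 1, 395490, 0, 7, 0]) (.leaf [1, 4, 7112288, 1086970, 36, 329790])) (.node (.leaf [1, 9, 148530, 659576, 42, 1588780]) (.leaf [1, 5, 4512704, 4407218, 1, 7168522]))) (.node (.node (.leaf [1, 33, 2832816, 19154, 23, 791292]) (.leaf [1, 1, 3317102, 1075162, 4, 4751138])) (.node (.leaf [1, 22, 5127142, 4782240, 1, 859152]) (.leaf [])))))) (.node (.node (.node (.node (.node (.leaf [0, 2, 1185408, 1992496, 2, 0]) (.leaf [0, 8, 902, 73060, 8, 0])) (.node (.leaf [1, 32, 469224, 395138, 5, 667800]) (.leaf [1, 1, 4538336, 4376906, 5, 346094]))) (.node (.node (.leaf [1, 1, 2971920, 922494, 28, 132062]) (.leaf [1, 5, 5952908, 1850286, 11, 1522924])) (.node (.leaf [1, 29, 2305134, 1074938, 39, 658562]) (.leaf [1, 8, 5379088, 2188630, 2, 7079734])))) (.node (.node (.node (.leaf [0, 2, 1473882, 798688, 2, 0]) (.leaf [1, 4, 7306848, 5723760, 4, 6640204])) (.node (.leaf [1, 22, 1457064, 923508,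 46, 996078]) (.leaf [1, 1, 3077442, 5321142, 2, 2266286]))) (.node (.node (.leaf [1, 34, 594220, 815320, 23, 462506]) (.leaf [1, 1, 6492612, 6739968, 5, 6104396])) (.node (.leaf [1, 1, 141468, 85472, 22, 4107024]) (.leaf []))))) (.node (.node (.node (.node (.leaf [0, 2, 1934874, 2330008, 2, 0]) (.leaf [1, 17, 5029490, 590758, 29, 1156242])) (.node (.leaf [1, 42, 1399786, 1383148, 50, 872600]) (.leaf [1, 1, 6751440, 5674350, 2, 2346794]))) (.node (.node (.leaf [1, 12, 1062100, 5348664, 12, 4415040]) (.leaf [1, 5, 408684, 897326, 5, 687538])) (.node (.leaf [0, 1, 3030050, 5725952, 1, 4554148]) (.leaf [])))) (.node (.node (.node (.leaf [1, 1, 403542, 609168, 11, 790272]) (.leaf [1, 4, 7278392, 2770220, 5, 344738])) (.node (.leaf [1, 29, 2978112, 258174, 1, 1253954]) (.leaf [1, 1, 5235210, 5916164, 1, 5186084]))) (.node (.node (.leaf [1, 23, 1317466, 1325356, 37, 724584]) (.leaf [1, 8, 215040, 7068436, 2, 3958136])) (.node (.leaf [0, 8, 66600, 66386, 8,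 0]) (.leaf []))))))) (.node (.node (.node (.node (.node (.node (.leaf [1, 1, 790276, 724428, 5, 395304]) (.leaf [0, 8, 898, 73062, 8, 0])) (.node (.leaf [1, 44, 526848, 593720, 47, 469398]) (.leaf [1, 1, 657868, 6108948, 5, 4857044]))) (.node (.node (.leaf [1, 27, 140112, 864368, 1, 1531320]) (.leaf [1, 5, 7032122, 1377046, 1, 2468472])) (.node (.leaf [1, 12, 66024, 5096828, 29, 2454654]) (.leaf [1, 1, 5251974, 395524, 1, 741038])))) (.node (.node (.node (.leaf [0, 2, 1457238, 3045846, 2, 0]) (.leaf [1, 29, 1529280, 5521342, 1, 1711978])) (.node (.leaf [1, 22, 90560, 922336, 47, 25050]) (.leaf [1, 2, 3256512, 7232598, 1, 6068578]))) (.node (.node (.leaf [1, 1, 2963878, 1317474, 34, 988198]) (.leaf [1, 5, 5331104, 5405220, 5, 2646754])) (.node (.leaf [1, 29, 3092784, 1227168, 29, 1855068]) (.leaf []))))) (.node (.node (.node (.node (.leaf [0, 2, 1202208, 1325538, 2, 0]) (.leaf [0, 8, 67546, 5934, 8, 0])) (.node (.leaf [1, 48, 1399798, 988518, 48, 1646754])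 (.leaf [1, 5, 717946, 1506694, 5, 849804]))) (.node (.node (.leaf [1, 16, 609508, 609526, 12, 658918]) (.leaf [1, 5, 6573628, 7333200, 2, 7221392])) (.node (.leaf [1, 42, 2711184, 4203848, 1, 859152]) (.leaf [])))) (.node (.node (.node (.leaf [1, 1, 12, 0, 8, 0]) (.leaf [1, 5, 70764, 71186, 5, 927006])) (.node (.leaf [1, 8, 1335936, 4099198, 4, 4425072]) (.leaf [1, 1, 4795934, 6378044, 5, 7237374]))) (.node (.node (.leaf [1, 33, 2503396, 2766632, 8, 3754136]) (.leaf [1, 8, 273176, 3514356, 5, 2388912])) (.node (.leaf [0, 8, 66098, 1154, 8, 0]) (.leaf [])))))) (.node (.node (.node (.node (.node (.leaf [0, 2, 25050, 411952, 2, 0]) (.leaf [0, 8, 70734, 73924, 8, 0])) (.node (.leaf [1, 50, 790630, 1383484, 1, 420510]) (.leaf [1, 5, 6577526, 3995530, 1, 5637352]))) (.node (.node (.leaf [1, 28, 461668, 592704, 30, 395492]) (.leaf [1, 5, 6581552, 5342638, 2, 1318800])) (.node (.leaf [1, 12, 199092, 6780000, 42, 2708686]) (.leaf [])))) (.node (.node (.node (.leaf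 [0, 2, 2066574, 3029562, 2, 0]) (.leaf [1, 4, 7278392, 718548, 29, 5440566])) (.node (.leaf [1, 9, 724426, 5145352, 4, 412280]) (.leaf [1, 8, 5959062, 6433716, 5, 6239770]))) (.node (.node (.leaf [1, 34, 1582056, 4192884, 12, 4548876]) (.leaf [1, 1, 642450, 2769778, 1, 6976282])) (.node (.leaf [1, 22, 2416542, 977328, 22, 148534]) (.leaf []))))) (.node (.node (.node (.node (.leaf [0, 2, 790290, 2330010, 2, 0]) (.leaf [1, 16, 312830, 5742228, 17, 3982918])) (.node (.leaf [1, 17, 4223024, 3424518, 50, 1457422]) (.leaf [1, 2, 3404470, 7295344, 5, 7255278]))) (.node (.node (.leaf [1, 1, 726438, 526848, 32, 724432]) (.leaf [1, 5, 1445954, 1567124, 8, 272164])) (.node (.leaf [0, 36, 2804460, 2804460, 46, 7303390]) (.leaf [])))) (.node (.node (.node (.leaf [1, 18, 199080, 922996, 2, 2437188]) (.leaf [1, 5, 4266796, 288820, 5, 6619184])) (.node (.leaf [1, 29, 861588, 525860, 30, 724920]) (.leaf [1, 5, 2411940, 2500656, 5, 2183566]))) (.node (.node (.leaf [1,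 23, 1383990, 395486, 39, 1318632]) (.leaf [1, 1, 2369020, 7484656, 1, 213994])) (.node (.leaf [0, 8, 66764, 70030, 8, 0]) (.leaf []))))))))))

/-- the facts, part 2 -/
def factTab2 : WTab :=
  (.node (.node (.node (.node (.node (.node (.node (.node (.node (.leaf [0, 1, 197568, 197568, 1, 0]) (.leaf [0, 8, 67204, 3820, 8, 0])) (.node (.leaf [1, 1, 428418, 856486, 39, 67380]) (.leaf [1, 5, 797498, 7030932, 1, 1094798]))) (.node (.node (.leaf [0, 5, 1910496, 1910496, 5, 0]) (.leaf [1, 5, 7413724, 666240, 5, 600444])) (.node (.leaf [1, 29, 2506248, 1328106, 30, 725928]) (.leaf [1, 1, 5536318, 2159602, 1, 6009224])))) (.node (.node (.node (.leaf [0, 2, 3819822, 1259838, 2, 0]) (.leaf [1, 17, 4361590, 2455496, 8, 1642032])) (.node (.leaf [1, 8, 1581224, 1383486, 22, 469226]) (.leaf [1, 1, 3437030, 3895856, 5, 1009088]))) (.node (.node (.leaf [1, 33, 923508, 1977702, 4, 4149266]) (.leaf [1, 5, 1941322, 2182506, 5, 5066262])) (.node (.leaf [1, 29, 197742, 2293218,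 29, 3815806]) (.leaf []))))) (.node (.node (.node (.node (.leaf [0, 2, 1333926, 1588782, 2, 0]) (.leaf [0, 8, 72294, 73372, 8, 0])) (.node (.leaf [1, 9, 148530, 100746, 47, 2578128]) (.leaf [1, 5, 3080522, 6959990, 1, 1371932]))) (.node (.node (.leaf [1, 26, 592884, 988196, 26, 263770]) (.leaf [1, 4, 554086, 1288446, 5, 7149316])) (.node (.leaf [1, 2, 856644, 1054562, 17, 1843968]) (.leaf [])))) (.node (.node (.node (.leaf [0, 2, 2765970, 1803150, 2, 0]) (.leaf [1, 29, 538584, 501092, 4, 5992736])) (.node (.leaf [1, 42, 1843968, 477628, 17, 4481400]) (.leaf [1, 5, 2755362, 319380, 5, 448038]))) (.node (.node (.leaf [1, 12, 5279496, 3424532, 33, 486196]) (.leaf [1, 5, 3741536, 4131106, 1, 4354502])) (.node (.leaf [1, 22, 4104484, 489498, 22, 1514696]) (.leaf [])))))) (.node (.node (.node (.node (.node (.leaf [0, 1, 790278, 790278, 1, 0]) (.leaf [0, 8, 72782, 5424, 8, 0])) (.node (.leaf [1, 49, 0, 0, 1, 1911852]) (.leaf [1, 1, 1414372, 6606500, 2, 984058])))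 (.node (.node (.leaf [1, 1, 2453490, 1259496, 27, 634032]) (.leaf [1, 2, 2239980, 3211684, 5, 3553132])) (.node (.leaf [1, 29, 609526, 4786888, 29, 3106428]) (.leaf [1, 1, 1716858, 4234356, 8, 7006642])))) (.node (.node (.node (.leaf [0, 2, 1885470, 2774368, 2, 0]) (.leaf [1, 1, 4468848, 463588, 29, 1121910])) (.node (.leaf [1, 8, 1590138, 922992, 31, 930218]) (.leaf [1, 1, 284922, 810272, 5, 5745726]))) (.node (.node (.leaf [1, 34, 988194, 197920, 30, 1008]) (.leaf [1, 1, 610188, 464956, 1, 2591914])) (.node (.leaf [1, 29, 1863132, 6254812, 29, 3883056]) (.leaf []))))) (.node (.node (.node (.node (.leaf [0, 2, 634206, 1926630, 2, 0]) (.leaf [0, 8, 69452, 67718, 8, 0])) (.node (.leaf [1, 46, 74096, 987840, 1, 1928242]) (.leaf [1, 1, 6218524, 1709988, 5, 413620]))) (.node (.node (.leaf [1, 30, 672, 2453474, 23, 131720]) (.leaf [1, 5, 374722, 2668030, 1, 141468])) (.node (.leaf [1, 4, 3691446, 4286986, 29, 4490484]) (.leaf [])))) (.node (.node (.node (.leaf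 [0, 8, 8, 2, 8, 0]) (.leaf [1, 5, 137426, 6373282, 8, 3902304])) (.node (.leaf [1, 4, 5809532, 6440176, 22, 922326]) (.leaf [1, 1, 2414582, 2340660, 5, 5847484]))) (.node (.node (.leaf [1, 30, 1333936, 3103464, 33, 404046]) (.leaf [1, 2, 318786, 7207006, 5, 1271500])) (.node (.leaf [0, 8, 1868, 71642, 8, 0]) (.leaf []))))))) (.node (.node (.node (.node (.node (.node (.leaf [0, 3, 395136, 988194, 3, 0]) (.leaf [0, 8, 7370, 72554, 8, 0])) (.node (.leaf [1, 1, 931228, 131718, 42, 337512]) (.leaf [1, 5, 6639162, 5833342, 1, 39070]))) (.node (.node (.leaf [1, 8, 156408, 5342572, 2, 2437188]) (.leaf [1, 4, 5106356, 6764692, 5, 6185554])) (.node (.leaf [1, 1, 34888, 4744286, 29, 2239278]) (.leaf [1, 5, 2366654, 6859022, 1, 6767012])))) (.node (.node (.node (.leaf [0, 2, 2058342, 1251450, 2, 0]) (.leaf [1, 4, 2247344, 4015472, 1, 3150002])) (.node (.leaf [1, 1, 16970, 263936, 22, 396648]) (.leaf [1, 1, 5782550, 784938, 2, 2319260]))) (.node (.node (.leaf [1,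 30, 66364, 1251622, 33, 1317120]) (.leaf [1, 5, 3287480, 801544, 17, 3049032])) (.node (.leaf [1, 29, 3916806, 4635292, 1, 2469958]) (.leaf []))))) (.node (.node (.node (.node (.leaf [0, 2, 1934862, 1860438, 2, 0]) (.leaf [0, 8, 5792, 67722, 8, 0])) (.node (.leaf [1, 10, 148530, 4017560, 47, 1063440]) (.leaf [1, 5, 2034670, 269386, 1, 7475288]))) (.node (.node (.leaf [1, 28, 176, 1975702, 23, 395490]) (.leaf [1, 2, 1063442, 6435714, 8, 7428378])) (.node (.leaf [1, 22, 330794, 5152166, 29, 4627058]) (.leaf [])))) (.node (.node (.node (.leaf [0, 3, 921984, 724772, 3, 0]) (.leaf [1, 17, 3786458, 6484034, 4, 7273954])) (.node (.leaf [1, 9, 107372, 1844138, 42, 527206]) (.leaf [1, 1, 1919862, 4754254, 1, 2904504]))) (.node (.node (.leaf [1, 33, 3359160, 19494, 23, 1384492]) (.leaf [1, 1, 1161070, 2869562, 1, 3695812])) (.node (.leaf [1, 22, 5102700, 5534032, 29, 3172824]) (.leaf [])))))) (.node (.node (.node (.node (.node (.leaf [0, 2, 609168, 214384, 2,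 0]) (.leaf [0, 8, 4880, 70728, 8, 0])) (.node (.leaf [1, 5, 272664, 791790, 50, 205808]) (.leaf [1, 2, 2438364, 3014642, 1, 6577014]))) (.node (.node (.leaf [0, 29, 214368, 214368, 29, 0]) (.leaf [1, 5, 5648788, 786758, 37, 131720])) (.node (.leaf [1, 17, 658918, 2643452, 4, 5203634]) (.leaf [])))) (.node (.node (.node (.leaf [0, 2, 362392, 2321760, 2, 0]) (.leaf [1, 4, 5098360, 601948, 29, 1318640])) (.node (.leaf [1, 9, 1877066, 2582860, 1, 923160]) (.leaf [1, 1, 5646872, 2715764, 2, 165038]))) (.node (.node (.leaf [1, 12, 1262038, 4684008, 34, 988010]) (.leaf [1, 5, 204236, 301694, 1, 7201558])) (.node (.leaf [1, 22, 7012416, 2176592, 44, 2445088]) (.leaf []))))) (.node (.node (.node (.node (.leaf [0, 2, 1399782, 2107728, 2, 0]) (.leaf [1, 1, 831790, 7178200, 17, 1735346])) (.node (.leaf [1, 47, 403368, 329282, 31, 2370824]) (.leaf [1, 5, 930162, 928488, 5, 33944]))) (.node (.node (.leaf [1, 12, 1514864, 2066234, 23, 1010]) (.leaf [1, 8, 675528, 4989668,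 5, 87598])) (.node (.leaf [0, 1, 6019480, 5944334, 1, 0]) (.leaf [])))) (.node (.node (.node (.leaf [1, 1, 617754, 395136, 15, 329448]) (.leaf [1, 5, 674018, 6380964, 1, 1638522])) (.node (.leaf [1, 16, 133230, 6681482, 29, 1933238]) (.leaf [1, 5, 6855926, 4993306, 8, 1370736]))) (.node (.node (.leaf [1, 39, 0, 0, 1, 626808]) (.leaf [1, 2, 3233992, 3229102, 5, 7372564])) (.node (.leaf [0, 8, 68636, 3442, 8, 0]) (.leaf [])))))))) (.node (.node (.node (.node (.node (.node (.node (.leaf [0, 2, 1382982, 658734, 2, 0]) (.leaf [0, 8, 6696, 73232, 8, 0])) (.node (.leaf [1, 33, 329450, 592872, 39, 725436]) (.leaf [1, 1, 1415044, 1053020, 5, 73082]))) (.node (.node (.leaf [0, 5, 2182500, 2182500, 5, 0]) (.leaf [1, 5, 4785254, 452404, 8, 2510782])) (.node (.leaf [1, 30, 922330, 7215220, 29, 1855068]) (.leaf [1, 5, 4211230, 3723356, 1, 5251628])))) (.node (.node (.node (.leaf [0, 2, 2782768, 1613646, 2, 0]) (.leaf [1, 36, 6734380, 1173764, 22, 724430])) (.node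 (.leaf [1, 47, 403376, 461162, 46, 1185408]) (.leaf [1, 1, 2131732, 1470942, 5, 6299898]))) (.node (.node (.leaf [1, 33, 680, 83832, 12, 1383648]) (.leaf [1, 36, 6734380, 1786028, 5, 1570854])) (.node (.leaf [1, 1, 798524, 727174, 29, 3414282]) (.leaf []))))) (.node (.node (.node (.node (.leaf [0, 2, 1054048, 2313366, 2, 0]) (.leaf [0, 8, 71652, 67892, 8, 0])) (.node (.leaf [1, 17, 1975680, 4554312, 47, 1252776]) (.leaf [1, 1, 4346290, 1243112, 1, 3411610]))) (.node (.node (.leaf [1, 12, 462510, 396650, 12, 329456]) (.leaf [1, 22, 7331088, 4553264, 5, 6491192])) (.node (.leaf [1, 46, 2305298, 539214, 42, 724418]) (.leaf [])))) (.node (.node (.node (.leaf [0, 2, 3029562, 2066574, 2, 0]) (.leaf [1, 4, 6039786, 1016176, 29, 2050788])) (.node (.leaf [1, 1, 1055216, 776338, 42, 1630944]) (.leaf [1, 2, 2369526, 2238692, 1, 6555142]))) (.node (.node (.leaf [1, 33, 1054376, 1583238, 12, 2571412]) (.leaf [1, 4, 5074946, 1735970, 1, 2319854])) (.node (.leaf [1,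 22, 7199334, 2541120, 12, 4017392]) (.leaf [])))))) (.node (.node (.node (.node (.node (.leaf [1, 1, 1333938, 65862, 6, 337512]) (.leaf [0, 8, 69040, 69038, 8, 0])) (.node (.leaf [1, 5, 1467650, 67372, 9, 921984]) (.leaf [1, 1, 5230734, 6188394, 5, 2698592]))) (.node (.node (.leaf [1, 23, 790624, 395482, 15, 264944]) (.leaf [1, 5, 7173394, 824008, 4, 5398284])) (.node (.leaf [1, 29, 2385408, 171378, 37, 131720]) (.leaf [1, 5, 818140, 7199630, 5, 7242340])))) (.node (.node (.node (.leaf [0, 2, 420168, 2140494, 2, 0]) (.leaf [1, 17, 4723798, 2271638, 1, 4649458])) (.node (.leaf [1, 42, 1992500, 1317794, 44, 790272]) (.leaf [1, 1, 5140616, 3002772, 1, 6615878]))) (.node (.node (.leaf [1, 30, 725430, 1384496, 34, 329790]) (.leaf [1, 1, 5326792, 2423668, 37, 329288])) (.node (.leaf [1, 39, 1516, 4395496, 29, 3199080]) (.leaf []))))) (.node (.node (.node (.node (.leaf [0, 2, 1259850, 1654648, 2, 0]) (.leaf [1, 23, 658572, 6536652, 17, 1496218])) (.node (.leaf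 [1, 42, 1992146, 1383650, 46, 872946]) (.leaf [1, 1, 905164, 782328, 1, 5886690]))) (.node (.node (.leaf [1, 30, 807088, 1531506, 1, 1638522]) (.leaf [1, 5, 631602, 1664256, 5, 993194])) (.node (.leaf [1, 23, 2, 5731608, 42, 537936]) (.leaf [])))) (.node (.node (.node (.leaf [0, 9, 0, 2049936, 9, 18]) (.leaf [1, 5, 336506, 7343938, 1, 1012890])) (.node (.leaf [1, 22, 2181654, 6592804, 4, 3709850]) (.leaf [1, 5, 1189620, 7465008, 5, 52880]))) (.node (.node (.leaf [1, 37, 197736, 197920, 30, 1520]) (.leaf [1, 2, 1743392, 2628608, 1, 1910508])) (.node (.leaf [0, 8, 478, 4242, 8, 0]) (.leaf []))))))) (.node (.node (.node (.node (.node (.node (.leaf [0, 4, 0, 329634, 4, 131718]) (.leaf [0, 8, 70028, 66766, 8, 0])) (.node (.leaf [1, 43, 1054050, 593720, 46, 329634]) (.leaf [1, 1, 3081446, 6345266, 5, 6185554]))) (.node (.node (.leaf [1, 26, 724590, 1382976, 1, 675366]) (.leaf [1, 1, 2632618, 1169304, 5, 4777882])) (.node (.leaf [1, 29, 1064796, 152450, 3,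 732662]) (.leaf [1, 5, 354954, 2262276, 1, 186448])))) (.node (.node (.node (.leaf [0, 2, 1070328, 2791000, 2, 0]) (.leaf [1, 29, 396150, 1619206, 1, 2632780])) (.node (.leaf [1, 22, 543670, 658728, 42, 1399786]) (.leaf [1, 1, 4430812, 3187532, 1, 3915786]))) (.node (.node (.leaf [1, 29, 66864, 922334, 33, 1383992]) (.leaf [1, 5, 2902580, 308546, 5, 333648])) (.node (.leaf [1, 29, 4934730, 6504656, 29, 1256724]) (.leaf []))))) (.node (.node (.node (.node (.leaf [0, 2, 362376, 1333936, 2, 0]) (.leaf [0, 8, 5930, 2872, 8, 0])) (.node (.leaf [1, 48, 1654640, 1383330, 50, 609526]) (.leaf [1, 8, 4377114, 6035296, 1, 1702006]))) (.node (.node (.leaf [1, 8, 4025450, 1975686, 30, 989364]) (.leaf [1, 22, 6442682, 2774790, 8, 3853518])) (.node (.leaf [1, 42, 3163448, 1207400, 23, 132070]) (.leaf [])))) (.node (.node (.node (.leaf [1, 5, 1383660, 659576, 1, 725100]) (.leaf [1, 5, 664944, 6883510, 1, 1030962])) (.node (.leaf [1, 4, 1782146, 6096918, 1, 741384])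 (.leaf [1, 1, 4688114, 3539698, 1, 4349214]))) (.node (.node (.leaf [1, 23, 790452, 403390, 33, 2973114]) (.leaf [1, 5, 111222, 4405846, 5, 3098238])) (.node (.leaf [0, 8, 2776, 1164, 8, 0]) (.leaf [])))))) (.node (.node (.node (.node (.node (.leaf [0, 2, 2041542, 1778118, 2, 0]) (.leaf [0, 8, 72552, 7376, 8, 0])) (.node (.leaf [0, 46, 592706, 725426, 46, 0]) (.leaf [1, 1, 7164802, 97890, 1, 4744132]))) (.node (.node (.leaf [1, 29, 461672, 675376, 30, 131886]) (.leaf [1, 17, 3654746, 3829068, 5, 1324994])) (.node (.leaf [1, 37, 988356, 6893652, 42, 1787352]) (.leaf [])))) (.node (.node (.node (.leaf [0, 2, 1325538, 1202208, 2, 0]) (.leaf [1, 4, 7104784, 2332012, 29, 1119906])) (.node (.leaf [1, 29, 2107398, 4083422, 9, 2370818]) (.leaf [1, 1, 2486932, 266030, 2, 3061178]))) (.node (.node (.leaf [1, 34, 1251768, 5615412, 12, 2309772]) (.leaf [1, 1, 6714156, 2422724, 5, 5487998])) (.node (.leaf [1, 22, 5554500, 7339752, 22, 1799142]) (.leaf []))))) (.node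 (.node (.node (.node (.leaf [0, 2, 2115630, 2379402, 2, 0]) (.leaf [1, 29, 3199080, 2740152, 17, 1494838])) (.node (.leaf [1, 17, 3770610, 2313544, 5, 1712258]) (.leaf [1, 5, 7029738, 7152098, 1, 5097090]))) (.node (.node (.leaf [1, 12, 3822432, 4684186, 1, 1687734]) (.leaf [1, 5, 3741536, 1522898, 17, 263782])) (.node (.leaf [0, 1, 6883540, 6883540, 1, 0]) (.leaf [])))) (.node (.node (.node (.leaf [1, 18, 0, 0, 1, 1523930]) (.leaf [1, 4, 6321680, 4053234, 5, 7195760])) (.node (.leaf [1, 29, 1980006, 974852, 23, 132732]) (.leaf [1, 1, 1333210, 6103026, 1, 2518710]))) (.node (.node (.leaf [1, 39, 461338, 1317474, 39, 1383986]) (.leaf [1, 1, 1580544, 314946, 1, 6688568])) (.node (.leaf [0, 8, 4166, 71426, 8, 0]) (.leaf []))))))))) (.node (.node (.node (.node (.node (.node (.node (.node (.leaf [0, 2, 263778, 65862, 2, 0]) (.leaf [0, 8, 72690, 72690, 8, 0])) (.node (.leaf [1, 39, 593378, 1638354, 12, 3624768]) (.leaf [1, 8, 2181502, 7112308, 1, 2076590])))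 (.node (.node (.leaf [0, 5, 1928248, 1928248, 5, 0]) (.leaf [1, 2, 527724, 2920838, 5, 6359044])) (.node (.leaf [1, 29, 3367056, 706514, 1, 2963878]) (.leaf [1, 1, 7018758, 825380, 2, 2972364])))) (.node (.node (.node (.leaf [0, 2, 2190064, 2124024, 2, 0]) (.leaf [1, 22, 2795596, 3272242, 36, 5007062])) (.node (.leaf [1, 50, 872948, 132722, 22, 1185410]) (.leaf [1, 5, 380060, 1334924, 5, 644200]))) (.node (.node (.leaf [1, 16, 790440, 403368, 33, 593212]) (.leaf [1, 5, 974864, 3651616, 5, 3884518])) (.node (.leaf [1, 29, 3918174, 5253642, 29, 461496]) (.leaf []))))) (.node (.node (.node (.node (.leaf [0, 2, 815322, 930222, 2, 0]) (.leaf [0, 8, 6444, 7524, 8, 0])) (.node (.leaf [1, 50, 403370, 922664, 1, 856298]) (.leaf [1, 5, 2668368, 7129030, 1, 5848008]))) (.node (.node (.leaf [1, 30, 263592, 1391216, 8, 2700432]) (.leaf [1, 5, 6900836, 4097004, 4, 3099266])) (.node (.leaf [1, 29, 1863936, 4767606, 2, 470590]) (.leaf [])))) (.node (.node (.node (.leaf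 [0, 2, 675042, 2140506, 2, 0]) (.leaf [1, 4, 7416136, 1041612, 4, 312826])) (.node (.leaf [1, 44, 526848, 1780802, 42, 41168]) (.leaf [1, 1, 4089688, 291160, 1, 7268990]))) (.node (.node (.leaf [1, 16, 955252, 1358622, 33, 2774692]) (.leaf [1, 1, 2328588, 5483054, 1, 1186082])) (.node (.leaf [1, 22, 6617502, 7111382, 29, 2634590]) (.leaf [])))))) (.node (.node (.node (.node (.node (.leaf [0, 4, 131712, 131712, 4, 0]) (.leaf [0, 8, 2346, 7380, 8, 0])) (.node (.leaf [1, 49, 16816, 396148, 44, 1342168]) (.leaf [1, 1, 6814090, 2847884, 1, 279494]))) (.node (.node (.leaf [1, 15, 65868, 922494, 23, 921984]) (.leaf [1, 16, 592718, 6900528, 5, 6450668])) (.node (.leaf [1, 29, 1665564, 1560066, 30, 1333936]) (.leaf [1, 1, 3319878, 410714, 5, 6843670])))) (.node (.node (.node (.leaf [0, 2, 222606, 1885464, 2, 0]) (.leaf [1, 1, 2370538, 6962658, 29, 3904326])) (.node (.leaf [1, 22, 1843970, 593384, 47, 666960]) (.leaf [1, 1, 4931714, 3646212, 1, 217786]))) (.node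 (.node (.leaf [1, 12, 395136, 988856, 34, 395652]) (.leaf [1, 1, 2568106, 205318, 1, 6907336])) (.node (.leaf [1, 36, 395488, 2265260, 29, 2952996]) (.leaf []))))) (.node (.node (.node (.node (.leaf [0, 2, 3029544, 1061934, 2, 0]) (.leaf [1, 37, 460998, 2516042, 17, 4394182])) (.node (.leaf [1, 46, 1317134, 988186, 17, 1976036]) (.leaf [1, 1, 6695316, 3455006, 5, 1767324]))) (.node (.node (.leaf [1, 1, 4173798, 140112, 30, 2453486]) (.leaf [1, 5, 292326, 586004, 44, 1267728])) (.node (.leaf [1, 42, 536088, 6648414, 29, 3172824]) (.leaf [])))) (.node (.node (.node (.leaf [0, 8, 6, 65862, 8, 0]) (.leaf [1, 5, 927942, 1226170, 4, 5125516])) (.node (.leaf [1, 4, 2199456, 3287084, 2, 1202888]) (.leaf [1, 1, 5742586, 5365404, 1, 785792]))) (.node (.node (.leaf [1, 36, 396652, 956430, 23, 1318638]) (.leaf [1, 4, 5569222, 1369366, 2, 984058])) (.node (.leaf [0, 8, 2446, 66612, 8, 0]) (.leaf []))))))) (.node (.node (.node (.node (.node (.node (.leaf [0, 3, 460992,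 922336, 3, 0]) (.leaf [0, 8, 72194, 71292, 8, 0])) (.node (.leaf [1, 45, 0, 0, 1, 1720992]) (.leaf [1, 1, 154484, 2279460, 8, 5500406]))) (.node (.node (.leaf [1, 21, 741234, 131718, 1, 8916]) (.leaf [1, 4, 6039786, 2586998, 5, 5104308])) (.node (.leaf [1, 1, 1375080, 6879758, 29, 4091472]) (.leaf [1, 8, 2078136, 3479436, 8, 6919918])))) (.node (.node (.node (.leaf [0, 2, 3819834, 1786530, 2, 0]) (.leaf [1, 29, 2959050, 316492, 1, 3093436])) (.node (.leaf [1, 1, 420510, 66530, 22, 8]) (.leaf [1, 1, 524100, 2844118, 1, 882902]))) (.node (.node (.leaf [1, 23, 988348, 263776, 33, 1317794]) (.leaf [1, 5, 200394, 7314814, 5, 6491192])) (.node (.leaf [1, 1, 1961064, 3562400, 29, 4253496]) (.leaf []))))) (.node (.node (.node (.node (.leaf [0, 2, 930232, 1926640, 2, 0]) (.leaf [0, 8, 70722, 73690, 8, 0])) (.node (.leaf [1, 47, 988520, 198576, 8, 528360]) (.leaf [1, 5, 260364, 5323118, 5, 845738]))) (.node (.node (.leaf [1, 23, 66532, 675374, 1, 33276]) (.leaf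 [1, 8, 5500414, 5901562, 4, 5257114])) (.node (.leaf [1, 1, 396004, 3651254, 8, 897642]) (.leaf [])))) (.node (.node (.node (.leaf [1, 4, 600936, 271678, 1, 1259664]) (.leaf [1, 5, 3007000, 5106140, 1, 551718])) (.node (.leaf [1, 22, 1514696, 2249876, 42, 1547798]) (.leaf [1, 1, 532928, 2438870, 5, 3507352]))) (.node (.node (.leaf [1, 33, 4412856, 955416, 23, 461168]) (.leaf [1, 5, 1197108, 2748658, 1, 7215814])) (.node (.leaf [0, 8, 69298, 2780, 8, 0]) (.leaf [])))))) (.node (.node (.node (.node (.node (.leaf [0, 2, 1448838, 2576790, 2, 0]) (.leaf [0, 8, 5430, 6344, 8, 0])) (.node (.leaf [1, 8, 74596, 1383332, 21, 600938]) (.leaf [1, 1, 673858, 4407122, 1, 2173234]))) (.node (.node (.leaf [1, 29, 66206, 395482, 1, 1335096]) (.leaf [1, 17, 2945350, 2203050, 5, 7269338])) (.node (.leaf [0, 46, 1564090, 6352156, 46, 0]) (.leaf [])))) (.node (.node (.node (.leaf [0, 2, 2461710, 1391392, 2, 0]) (.leaf [1, 1, 3481590, 5583600, 4, 7373964])) (.node (.leaf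 [1, 22, 1382994, 4091478, 9, 1600874]) (.leaf [1, 1, 5533812, 4774282, 1, 4093366]))) (.node (.node (.leaf [1, 34, 461168, 1516206, 4, 108976]) (.leaf [1, 1, 5120996, 2235662, 36, 396648])) (.node (.leaf [1, 22, 2180568, 148258, 22, 3595446]) (.leaf []))))) (.node (.node (.node (.node (.leaf [0, 2, 411942, 1588792, 2, 0]) (.leaf [1, 17, 3381982, 6966920, 29, 4348014])) (.node (.leaf [1, 8, 1646400, 4552306, 47, 874104]) (.leaf [1, 5, 2763506, 4996482, 1, 5458372]))) (.node (.node (.leaf [1, 30, 139956, 3885522, 12, 404376]) (.leaf [1, 5, 2892176, 5045728, 4, 3763712])) (.node (.leaf [0, 1, 7273684, 815776, 1, 0]) (.leaf [])))) (.node (.node (.node (.leaf [0, 16, 1646754, 1646754, 16, 0]) (.leaf [1, 5, 6639162, 449464, 4, 7175856])) (.node (.leaf [1, 29, 1188276, 1920810, 3, 403384]) (.leaf [1, 5, 5672960, 230736, 1, 2000318]))) (.node (.node (.leaf [1, 1, 10086, 921984, 39, 66202]) (.leaf [1, 1, 2852330, 4045326, 2, 659076])) (.node (.leaf [0, 8, 67162,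 2520, 8, 0]) (.leaf [])))))))) (.node (.node (.node (.node (.node (.node (.node (.leaf [0, 2, 395142, 922338, 2, 0]) (.leaf [0, 8, 3230, 3232, 8, 0])) (.node (.leaf [1, 39, 329792, 724590, 33, 1317292]) (.leaf [1, 1, 59750, 6583850, 5, 1001536]))) (.node (.node (.leaf [1, 18, 1720488, 1039086, 2, 516]) (.leaf [1, 5, 5120524, 1068038, 16, 1391222])) (.node (.leaf [1, 12, 395136, 1328160, 29, 3096252]) (.leaf [1, 1, 489632, 6303944, 5, 106682])))) (.node (.node (.node (.leaf [0, 2, 922320, 2321778, 2, 0]) (.leaf [1, 1, 41328, 1616724, 1, 3284108])) (.node (.leaf [1, 47, 1317474, 790626, 5, 806744]) (.leaf [1, 5, 6693926, 7164380, 1, 5781706]))) (.node (.node (.leaf [1, 23, 132732, 395486, 33, 1383334]) (.leaf [1, 5, 2227460, 4687928, 5, 1468290])) (.node (.leaf [1, 29, 1709088, 7239992, 29, 988520]) (.leaf []))))) (.node (.node (.node (.node (.leaf [0, 2, 1778118, 2041542, 2, 0]) (.leaf [0, 8, 70720, 4864, 8, 0])) (.node (.leaf [1, 17, 3095232, 4620168,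 22, 132066]) (.leaf [1, 1, 2850202, 2279220, 8, 2934412]))) (.node (.node (.leaf [1, 1, 683272, 1975698, 23, 197574]) (.leaf [1, 5, 5110986, 5718404, 36, 6414614])) (.node (.leaf [1, 17, 3112050, 3873738, 29, 5008672]) (.leaf [])))) (.node (.node (.node (.leaf [1, 7, 0, 0, 1, 658918]) (.leaf [1, 36, 1383996, 516612, 4, 6507372])) (.node (.leaf [1, 9, 1054050, 2250204, 42, 411958]) (.leaf [1, 1, 342980, 3050370, 5, 2052496]))) (.node (.node (.leaf [1, 33, 2634920, 330800, 12, 198582]) (.leaf [1, 1, 5282160, 4757194, 5, 1828086])) (.node (.leaf [1, 22, 7086024, 5899486, 39, 396654]) (.leaf [])))))) (.node (.node (.node (.node (.node (.leaf [0, 2, 420186, 82672, 2, 0]) (.leaf [0, 8, 1696, 71796, 8, 0])) (.node (.leaf [1, 9, 8240, 724768, 8, 931736]) (.leaf [1, 5, 1589128, 1699840, 1, 5845670]))) (.node (.node (.leaf [0, 28, 197568, 131714, 28, 725940]) (.leaf [1, 5, 5107018, 3572074, 4, 2556012])) (.node (.leaf [1, 39, 658562, 7143412, 29, 3037776]) (.leaf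 [1, 2, 7079734, 2258130, 8, 4640506])))) (.node (.node (.node (.leaf [0, 2, 2576802, 3861162, 2, 0]) (.leaf [1, 4, 6640204, 1046292, 4, 6705888])) (.node (.leaf [1, 17, 5408424, 1927160, 47, 1465800]) (.leaf [1, 2, 3921550, 2153362, 1, 809902]))) (.node (.node (.leaf [1, 23, 66210, 807074, 34, 133232]) (.leaf [1, 1, 6814090, 3076932, 4, 7273954])) (.node (.leaf [1, 44, 609168, 1159236, 22, 2271288]) (.leaf []))))) (.node (.node (.node (.node (.leaf [0, 2, 1070344, 1794928, 2, 0]) (.leaf [1, 29, 1156242, 4917240, 17, 5184454])) (.node (.leaf [1, 31, 996086, 678, 5, 1062284]) (.leaf [1, 5, 6117482, 7255876, 1, 3395772]))) (.node (.node (.leaf [1, 12, 4415040, 1062266, 12, 1053872]) (.leaf [1, 5, 687538, 278598, 5, 669058])) (.node (.leaf [0, 1, 1252476, 5725952, 1, 0]) (.leaf [])))) (.node (.node (.node (.leaf [1, 11, 1317126, 922336, 1, 82674]) (.leaf [1, 5, 344738, 5099590, 4, 6709794])) (.node (.leaf [1, 29, 2517120, 48090, 23, 1383650]) (.leaf [1,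 1, 5186084, 3953574, 1, 5094550]))) (.node (.node (.leaf [1, 37, 724584, 149358, 23, 988860]) (.leaf [1, 5, 3153418, 670102, 2, 3455648])) (.node (.leaf [0, 8, 4238, 70096, 8, 0]) (.leaf []))))))) (.node (.node (.node (.node (.node (.node (.leaf [1, 5, 263592, 725088, 1, 66208]) (.leaf [0, 8, 1694, 71788, 8, 0])) (.node (.leaf [1, 47, 469398, 593720, 44, 1259850]) (.leaf [1, 5, 4857044, 5872570, 1, 501460]))) (.node (.node (.leaf [1, 1, 2387634, 1720662, 27, 403536]) (.leaf [1, 5, 7079988, 1495742, 5, 4966358])) (.node (.leaf [1, 29, 2454654, 605210, 12, 131880]) (.leaf [1, 5, 2946444, 4454720, 5, 2875728])))) (.node (.node (.node (.leaf [0, 2, 2576800, 2412318, 2, 0]) (.leaf [1, 29, 3690804, 1597422, 1, 2954828])) (.node (.leaf [1, 22, 2181482, 988194, 47, 988192]) (.leaf [1, 1, 6068578, 6177744, 2, 4392528]))) (.node (.node (.leaf [1, 34, 461672, 1516206, 16, 8246]) (.leaf [1, 5, 3164880, 7059014, 1, 288136])) (.node (.leaf [1, 29, 1855068, 3397114,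 29, 2360586]) (.leaf []))))) (.node (.node (.node (.node (.leaf [0, 2, 263760, 3070890, 2, 0]) (.leaf [0, 8, 3932, 1698, 8, 0])) (.node (.leaf [1, 43, 1852554, 395646, 48, 922324]) (.leaf [1, 1, 6381788, 5155602, 1, 6317722]))) (.node (.node (.leaf [1, 12, 658918, 732650, 16, 485702]) (.leaf [1, 2, 7221392, 3716394, 5, 6573306])) (.node (.leaf [1, 42, 3556232, 3406142, 39, 396654]) (.leaf [])))) (.node (.node (.node (.leaf [0, 8, 329632, 65856, 8, 263776]) (.leaf [1, 5, 927006, 71124, 5, 136620])) (.node (.leaf [1, 4, 3952230, 7074652, 22, 2436672]) (.leaf [1, 5, 7237374, 4584540, 1, 4517844]))) (.node (.node (.leaf [1, 8, 3754136, 2634590, 33, 3697850]) (.leaf [1, 5, 2388912, 1240598, 8, 807744])) (.node (.leaf [0, 8, 528, 746, 8, 0]) (.leaf [])))))) (.node (.node (.node (.node (.node (.leaf [0, 2, 1613656, 1737304, 2, 0]) (.leaf [0, 8, 72790, 70272, 8, 0])) (.node (.leaf [1, 1, 420510, 330792, 50, 263432]) (.leaf [1, 1, 5637352, 5030022, 5, 6553316])))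 (.node (.node (.leaf [1, 28, 725088, 396648, 30, 658916]) (.leaf [1, 22, 6617502, 5183394, 5, 2227460])) (.node (.leaf [1, 42, 2708686, 2817964, 12, 1524]) (.leaf [])))) (.node (.node (.node (.leaf [0, 2, 2782758, 1720672, 2, 0]) (.leaf [1, 29, 5440566, 4413368, 4, 6709794])) (.node (.leaf [1, 4, 412280, 743912, 9, 329628]) (.leaf [1, 1, 4152776, 4909946, 1, 4624082]))) (.node (.node (.leaf [1, 12, 4548876, 6528314, 34, 1591634]) (.leaf [1, 4, 1427164, 2797656, 1, 6029602])) (.node (.leaf [1, 22, 148534, 1662972, 22, 1807374]) (.leaf []))))) (.node (.node (.node (.node (.leaf [0, 2, 658746, 1794930, 2, 0]) (.leaf [1, 17, 3982918, 6076904, 16, 848254])) (.node (.leaf [1, 17, 2321778, 2173422, 1, 149190]) (.leaf [1, 1, 754160, 7261690, 1, 548108]))) (.node (.node (.leaf [1, 32, 724432, 469398, 1, 332310]) (.leaf [1, 5, 1972802, 2258702, 5, 1904582])) (.node (.leaf [0, 39, 565604, 6988490, 17, 3938002]) (.leaf [])))) (.node (.node (.node (.leaf [1, 2, 2437188,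 922996, 18, 1512]) (.leaf [1, 5, 6619184, 6216610, 5, 4972252])) (.node (.leaf [1, 29, 541440, 1354146, 30, 66364]) (.leaf [1, 5, 2183566, 1443994, 5, 1813188]))) (.node (.node (.leaf [1, 39, 1318632, 132220, 23, 922668]) (.leaf [1, 1, 213994, 436824, 1, 3086454])) (.node (.leaf [0, 8, 6928, 71288, 8, 0]) (.leaf []))))))))))

/-- the facts, part 3 -/
def factTab3 : WTab :=
  (.node (.node (.node (.node (.node (.node (.node (.node (.node (.leaf [0, 1, 197568, 197568, 1, 0]) (.leaf [0, 8, 2038, 5790, 8, 0])) (.node (.leaf [1, 30, 1318130, 1448834, 39, 658572]) (.leaf [1, 1, 1944432, 5062664, 5, 205466]))) (.node (.node (.leaf [0, 5, 1259848, 1259848, 5, 0]) (.leaf [1, 5, 4280626, 1853206, 5, 1390632])) (.node (.leaf [1, 30, 725928, 6204722, 29, 3700662]) (.leaf [1, 1, 7294618, 5713404, 1, 1750170])))) (.node (.node (.node (.leaf [0, 2, 2445078, 2412328, 2, 0]) (.leaf [1, 8, 1642032, 609512, 17, 3233470])) (.node (.leaf [1, 22, 271658, 132726, 8, 1910502])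 (.leaf [1, 5, 1009088, 6784774, 1, 3560396]))) (.node (.node (.leaf [1, 12, 263430, 1119908, 33, 593208]) (.leaf [1, 5, 2296322, 1267370, 8, 1910502])) (.node (.leaf [1, 29, 4055928, 5112748, 1, 946680]) (.leaf []))))) (.node (.node (.node (.node (.leaf [0, 2, 477798, 1909830, 2, 0]) (.leaf [0, 8, 68728, 71786, 8, 0])) (.node (.leaf [1, 9, 1259496, 988348, 22, 1317120]) (.leaf [1, 1, 1371932, 2285820, 5, 2363926]))) (.node (.node (.leaf [1, 26, 263770, 396656, 26, 461004]) (.leaf [1, 5, 7149316, 5873380, 4, 1294966])) (.node (.leaf [1, 4, 4488128, 6959090, 17, 2307500]) (.leaf [])))) (.node (.node (.node (.leaf [0, 2, 2790990, 2041554, 2, 0]) (.leaf [1, 4, 5651244, 5136372, 29, 2900532])) (.node (.leaf [1, 17, 4481400, 4283340, 42, 1193994]) (.leaf [1, 5, 448038, 876184, 5, 2869924]))) (.node (.node (.leaf [1, 34, 1450352, 1458084, 30, 600942]) (.leaf [1, 1, 4354502, 512362, 5, 2563142])) (.node (.leaf [1, 22, 1514696, 7352208, 22, 2927308]) (.leaf []))))))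 (.node (.node (.node (.node (.node (.leaf [0, 1, 263776, 263776, 1, 0]) (.leaf [0, 8, 73920, 8072, 8, 0])) (.node (.leaf [1, 45, 263778, 660074, 49, 1054050]) (.leaf [1, 2, 984058, 4129070, 1, 945988]))) (.node (.node (.leaf [0, 16, 0, 1259496, 27, 996246]) (.leaf [1, 5, 3553132, 3570144, 2, 3368254])) (.node (.leaf [1, 29, 3106428, 1231290, 29, 485696]) (.leaf [1, 1, 6575322, 3743656, 1, 4251990])))) (.node (.node (.node (.leaf [0, 2, 815310, 2585184, 2, 0]) (.leaf [1, 29, 1121910, 3690036, 1, 4608298])) (.node (.leaf [1, 8, 535434, 263928, 31, 139946]) (.leaf [1, 5, 5745726, 3493076, 1, 803420]))) (.node (.node (.leaf [1, 30, 1008, 1384488, 34, 1317126]) (.leaf [1, 1, 2591914, 5133366, 1, 487206])) (.node (.leaf [1, 29, 3883056, 5691620, 29, 1204740]) (.leaf []))))) (.node (.node (.node (.node (.leaf [0, 2, 1531494, 1259832, 2, 0]) (.leaf [0, 8, 5788, 2034, 8, 0])) (.node (.leaf [1, 1, 1928242, 1317128, 46, 139952]) (.leaf [1, 5, 5744958, 3642932,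 5, 774654]))) (.node (.node (.leaf [1, 12, 807920, 1736954, 30, 2379060]) (.leaf [1, 1, 141468, 1758414, 5, 769782])) (.node (.leaf [1, 29, 4626330, 3711190, 46, 1185766]) (.leaf [])))) (.node (.node (.node (.leaf [0, 8, 65864, 65858, 8, 0]) (.leaf [1, 5, 732428, 5423956, 4, 7241208])) (.node (.leaf [1, 4, 807416, 871222, 4, 2305970]) (.leaf [1, 5, 5847484, 2251508, 1, 1805414]))) (.node (.node (.leaf [1, 33, 998094, 1319658, 30, 600942]) (.leaf [1, 5, 1271500, 5674958, 2, 851254])) (.node (.leaf [0, 8, 246, 3450, 8, 0]) (.leaf []))))))) (.node (.node (.node (.node (.node (.node (.leaf [1, 1, 741234, 741234, 3, 741234]) (.leaf [0, 8, 6698, 73226, 8, 0])) (.node (.leaf [1, 1, 1976196, 0, 43, 0]) (.leaf [1, 1, 3213158, 1776126, 5, 7031558]))) (.node (.node (.leaf [1, 2, 2437188, 413956, 8, 90552]) (.leaf [1, 5, 6042452, 2797548, 11, 461344])) (.node (.leaf [1, 29, 2239278, 1937996, 1, 232456]) (.leaf [1, 1, 6767012, 6121916, 5, 3079528])))) (.node (.node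 (.node (.leaf [0, 2, 2140494, 420168, 2, 0]) (.leaf [1, 1, 1835022, 7216962, 8, 831774])) (.node (.leaf [1, 22, 396648, 263936, 1, 214538]) (.leaf [1, 5, 3092098, 1968198, 5, 6186406]))) (.node (.node (.leaf [1, 2, 2700608, 329964, 33, 132062]) (.leaf [1, 8, 3098090, 1364832, 5, 2937320])) (.node (.leaf [1, 12, 740888, 6306730, 29, 5440566]) (.leaf []))))) (.node (.node (.node (.node (.leaf [0, 2, 1909842, 1712256, 2, 0]) (.leaf [0, 8, 5934, 67546, 8, 0])) (.node (.leaf [1, 9, 922336, 131880, 1, 733006]) (.leaf [1, 1, 7277576, 7212428, 5, 5596332]))) (.node (.node (.leaf [1, 23, 395490, 82670, 28, 197744]) (.leaf [1, 8, 7428378, 6151240, 2, 1054712])) (.node (.leaf [1, 1, 2925560, 2533748, 17, 3688272]) (.leaf [])))) (.node (.node (.node (.leaf [0, 3, 263770, 659580, 3, 0]) (.leaf [1, 4, 7273954, 1095634, 17, 4000490])) (.node (.leaf [1, 17, 419832, 461346, 42, 1712610]) (.leaf [1, 5, 4750648, 5247722, 1, 7414348]))) (.node (.node (.leaf [1, 23, 1384492,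 8254, 33, 2247844]) (.leaf [1, 1, 3695812, 2895650, 1, 897296])) (.node (.leaf [1, 29, 3172824, 1329112, 22, 5249042]) (.leaf [])))))) (.node (.node (.node (.node (.node (.leaf [0, 2, 1926642, 1523094, 2, 0]) (.leaf [0, 8, 73380, 72300, 8, 0])) (.node (.leaf [1, 5, 206158, 264444, 46, 930224]) (.leaf [1, 1, 6577014, 5445310, 2, 2454008]))) (.node (.node (.leaf [1, 1, 1646406, 988192, 29, 1926646]) (.leaf [1, 37, 131720, 330238, 5, 5568772])) (.node (.leaf [1, 17, 2109744, 7341182, 4, 4111278]) (.leaf [])))) (.node (.node (.node (.leaf [0, 2, 1679502, 90888, 2, 0]) (.leaf [1, 29, 3990072, 2892580, 4, 6557388])) (.node (.leaf [1, 9, 164818, 3822188, 1, 1457422]) (.leaf [1, 2, 165038, 654384, 1, 5562830]))) (.node (.node (.leaf [1, 34, 329952, 66208, 1, 946694]) (.leaf [1, 1, 773822, 956700, 1, 7201222])) (.node (.leaf [1, 44, 2445088, 5458968, 22, 7006100]) (.leaf []))))) (.node (.node (.node (.node (.leaf [0, 2, 749466, 996090, 2, 0]) (.leaf [1, 17, 1735346,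 7196952, 1, 304924])) (.node (.leaf [1, 31, 2370824, 922334, 47, 666794]) (.leaf [1, 5, 33944, 2867812, 5, 1389814]))) (.node (.node (.leaf [1, 12, 2370992, 2412332, 23, 395490]) (.leaf [1, 5, 4465126, 4006350, 5, 275728])) (.node (.leaf [0, 1, 4751534, 4488328, 1, 0]) (.leaf [])))) (.node (.node (.node (.leaf [1, 15, 1383484, 988344, 1, 2642646]) (.leaf [1, 1, 1367522, 362864, 5, 6901036])) (.node (.leaf [1, 29, 1933238, 621618, 16, 67374]) (.leaf [1, 8, 1370736, 2776100, 5, 6592500]))) (.node (.node (.leaf [1, 39, 987840, 2455826, 4, 2510768]) (.leaf [1, 5, 7372564, 101344, 2, 4360920])) (.node (.leaf [0, 8, 2440, 4618, 8, 0]) (.leaf [])))))))) (.node (.node (.node (.node (.node (.node (.node (.leaf [0, 2, 1317126, 922336, 2, 0]) (.leaf [0, 8, 73056, 71436, 8, 0])) (.node (.leaf [1, 39, 725436, 592872, 33, 724596]) (.leaf [1, 1, 394762, 14108, 5, 2787564]))) (.node (.node (.leaf [0, 5, 9252, 9252, 5, 0]) (.leaf [1, 4, 7197744, 3680052, 5, 6109304]))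 (.node (.leaf [1, 29, 1855068, 167622, 30, 1382978]) (.leaf [1, 1, 5251628, 6728312, 5, 4345408])))) (.node (.node (.node (.leaf [0, 2, 205974, 411936, 2, 0]) (.leaf [1, 36, 4611926, 590388, 22, 1457064])) (.node (.leaf [1, 1, 1926458, 198244, 47, 1589454]) (.leaf [1, 5, 6299898, 6890050, 1, 2132068]))) (.node (.node (.leaf [1, 33, 922994, 1317474, 33, 462012]) (.leaf [1, 5, 858394, 1705746, 17, 3567648])) (.node (.leaf [1, 29, 2170080, 6453822, 1, 428400]) (.leaf []))))) (.node (.node (.node (.node (.leaf [0, 2, 2107744, 1778112, 2, 0]) (.leaf [0, 8, 2338, 71132, 8, 0])) (.node (.leaf [1, 47, 1252776, 2182994, 17, 1992498]) (.leaf [1, 1, 3411610, 163622, 1, 4213378]))) (.node (.node (.leaf [1, 12, 329456, 263432, 12, 592710]) (.leaf [1, 5, 664656, 7255550, 22, 6837382])) (.node (.leaf [1, 42, 724418, 2385572, 46, 3037628]) (.leaf [])))) (.node (.node (.node (.leaf [0, 2, 3045856, 1778130, 2, 0]) (.leaf [1, 4, 4862610, 1436008, 29, 2454654])) (.node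 (.leaf [1, 42, 1045822, 1185924, 42, 856484]) (.leaf [1, 1, 6555142, 1378846, 2, 3085374]))) (.node (.node (.leaf [1, 12, 2571412, 3688274, 33, 1062436]) (.leaf [1, 1, 2319854, 3883750, 4, 5203634])) (.node (.leaf [1, 29, 2772106, 5326498, 22, 7331088]) (.leaf [])))))) (.node (.node (.node (.node (.node (.leaf [1, 6, 790272, 214384, 1, 996088]) (.leaf [0, 8, 70030, 66764, 8, 0])) (.node (.leaf [1, 9, 921984, 67372, 5, 1451372]) (.leaf [1, 5, 2698592, 6396214, 1, 5092606]))) (.node (.node (.leaf [1, 15, 264944, 133232, 23, 263430]) (.leaf [1, 4, 5398284, 278862, 5, 6950986])) (.node (.leaf [1, 37, 131720, 4742842, 29, 1783572]) (.leaf [1, 5, 7242340, 1060918, 5, 298154])))) (.node (.node (.node (.leaf [0, 2, 403554, 1144584, 2, 0]) (.leaf [1, 1, 4649458, 4491086, 17, 3669766])) (.node (.leaf [1, 44, 790272, 988012, 42, 1975682]) (.leaf [1, 5, 5825898, 4538908, 1, 860752]))) (.node (.node (.leaf [1, 1, 34888, 157418, 34, 791288]) (.leaf [1, 37, 329288,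 6790980, 1, 5848008])) (.node (.leaf [1, 29, 3199080, 6348498, 39, 199084]) (.leaf []))))) (.node (.node (.node (.node (.leaf [0, 2, 2379402, 2115630, 2, 0]) (.leaf [1, 17, 1282586, 6267064, 17, 4921030])) (.node (.leaf [1, 46, 872946, 329954, 42, 1976036]) (.leaf [1, 1, 6863312, 735222, 1, 2066212]))) (.node (.node (.leaf [1, 28, 6, 1646736, 1, 798526]) (.leaf [1, 5, 993194, 3839440, 5, 517186])) (.node (.leaf [1, 42, 537936, 2393606, 23, 197570]) (.leaf [])))) (.node (.node (.node (.leaf [0, 9, 18, 2049936, 9, 0]) (.leaf [1, 5, 205224, 6101900, 1, 90572])) (.node (.leaf [1, 4, 3709850, 7298764, 22, 2041536]) (.leaf [1, 1, 4423646, 5112282, 1, 2139282]))) (.node (.node (.leaf [1, 37, 724590, 131880, 1, 3424866]) (.leaf [1, 1, 1910508, 1588122, 2, 1537592])) (.node (.leaf [0, 8, 66604, 2444, 8, 0]) (.leaf []))))))) (.node (.node (.node (.node (.node (.node (.leaf [0, 4, 131718, 329634, 4, 0]) (.leaf [0, 8, 4858, 70718, 8, 0])) (.node (.leaf [1, 43, 724416,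 659576, 46, 1448832]) (.leaf [1, 1, 4609526, 2070038, 5, 5833180]))) (.node (.node (.leaf [1, 1, 675366, 1382976, 26, 329448]) (.leaf [1, 5, 730590, 1253914, 5, 4273952])) (.node (.leaf [1, 29, 4151286, 2472614, 29, 330800]) (.leaf [1, 1, 186448, 877052, 5, 760742])))) (.node (.node (.node (.leaf [0, 2, 1267728, 16, 2, 0]) (.leaf [1, 1, 2632780, 4249046, 29, 659070])) (.node (.leaf [1, 42, 1399786, 658728, 22, 1267736]) (.leaf [1, 1, 2606800, 763114, 1, 3426504]))) (.node (.node (.leaf [1, 12, 4875704, 4354730, 16, 1383488]) (.leaf [1, 5, 333648, 7047420, 5, 4097628])) (.node (.leaf [1, 29, 2639070, 6319470, 29, 2301792]) (.leaf []))))) (.node (.node (.node (.node (.leaf [0, 2, 8406, 700056, 2, 0]) (.leaf [0, 8, 71288, 6928, 8, 0])) (.node (.leaf [1, 50, 609526, 922340, 48, 1646758]) (.leaf [1, 1, 1702006, 5889570, 8, 3274026]))) (.node (.node (.leaf [1, 30, 989364, 82662, 8, 4873700]) (.leaf [1, 8, 3853518, 7255512, 22, 7086014])) (.node (.leaf [1,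 42, 3698188, 5492788, 42, 2831816]) (.leaf [])))) (.node (.node (.node (.leaf [1, 1, 725100, 659576, 5, 922154]) (.leaf [1, 5, 268516, 5475872, 5, 4441532])) (.node (.leaf [1, 1, 741384, 4953094, 4, 2382558]) (.leaf [1, 1, 355588, 7105178, 5, 7328758]))) (.node (.node (.leaf [1, 33, 2973114, 150528, 23, 263594]) (.leaf [1, 5, 167634, 7890, 5, 3771414])) (.node (.leaf [0, 8, 68302, 756, 8, 0]) (.leaf [])))))) (.node (.node (.node (.node (.node (.leaf [0, 2, 2124040, 872944, 2, 0]) (.leaf [0, 8, 70284, 6348, 8, 0])) (.node (.leaf [1, 47, 790440, 659576, 32, 1975680]) (.leaf [1, 1, 1697926, 5189152, 1, 3317102]))) (.node (.node (.leaf [1, 30, 131886, 2313200, 29, 593712]) (.leaf [1, 5, 1324994, 5927226, 17, 4700210])) (.node (.leaf [1, 29, 1523940, 5418252, 42, 1845488]) (.leaf [])))) (.node (.node (.node (.leaf [0, 2, 1844152, 3828216, 2, 0]) (.leaf [1, 29, 4204050, 2243930, 4, 7494698])) (.node (.leaf [1, 9, 2370818, 749292, 29, 2115976]) (.leaf [1, 2,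 3061178, 6317008, 1, 2497088]))) (.node (.node (.leaf [1, 12, 3517084, 5342906, 33, 17144]) (.leaf [1, 5, 5487998, 1410768, 1, 7284530])) (.node (.leaf [1, 46, 741216, 4606240, 22, 2795596]) (.leaf []))))) (.node (.node (.node (.node (.leaf [0, 2, 1448848, 1786518, 2, 0]) (.leaf [1, 17, 2196574, 815976, 29, 1656648])) (.node (.leaf [1, 5, 1712258, 700066, 17, 3967824]) (.leaf [1, 1, 5097090, 4452326, 5, 7004278]))) (.node (.node (.leaf [1, 1, 1687734, 2316216, 12, 3822504]) (.leaf [1, 17, 263782, 2619374, 5, 2563142])) (.node (.leaf [0, 1, 6974110, 6974110, 1, 0]) (.leaf [])))) (.node (.node (.node (.leaf [1, 18, 741234, 131718, 1, 930384]) (.leaf [1, 5, 5004700, 7412632, 1, 4913044])) (.node (.leaf [1, 23, 132732, 2376804, 29, 1996974]) (.leaf [1, 5, 1867670, 2336290, 5, 1849058]))) (.node (.node (.leaf [1, 39, 1383986, 131880, 39, 593056]) (.leaf [1, 8, 535088, 4515630, 1, 3902498])) (.node (.leaf [0, 8, 1568, 69094, 8, 0]) (.leaf []))))))))) (.node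 (.node (.node (.node (.node (.node (.node (.node (.leaf [0, 2, 790272, 131718, 2, 0]) (.leaf [0, 8, 3822, 67212, 8, 0])) (.node (.leaf [1, 23, 66872, 263770, 39, 989356]) (.leaf [1, 1, 426826, 3168994, 5, 400158]))) (.node (.node (.leaf [0, 5, 90726, 90726, 5, 0]) (.leaf [1, 5, 5640080, 7232334, 5, 928316])) (.node (.leaf [1, 1, 2963878, 1917768, 29, 2239110]) (.leaf [1, 1, 5637632, 3407826, 1, 4727858])))) (.node (.node (.node (.leaf [0, 2, 1926630, 634206, 2, 0]) (.leaf [1, 22, 214386, 3602080, 36, 5410310])) (.node (.leaf [1, 22, 1185410, 395494, 50, 1144604]) (.leaf [1, 5, 644200, 6983200, 5, 782066]))) (.node (.node (.leaf [1, 33, 1318128, 1638354, 12, 3114724]) (.leaf [1, 5, 532164, 6065618, 5, 496910])) (.node (.leaf [1, 1, 57978, 4281484, 29, 2500782]) (.leaf []))))) (.node (.node (.node (.node (.leaf [0, 2, 140118, 477792, 2, 0]) (.leaf [0, 8, 69044, 6832, 8, 0])) (.node (.leaf [1, 1, 856298, 197926, 50, 666800]) (.leaf [1, 5, 579902, 4219198,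 1, 6773938]))) (.node (.node (.leaf [1, 8, 2700432, 1712602, 30, 790446]) (.leaf [1, 4, 3099266, 5823608, 5, 6619172])) (.node (.leaf [1, 29, 1723626, 2599534, 2, 2042052]) (.leaf [])))) (.node (.node (.node (.leaf [0, 2, 667134, 872928, 2, 0]) (.leaf [1, 4, 5709890, 1180380, 2, 2503404])) (.node (.leaf [1, 42, 41168, 1590794, 44, 1259850]) (.leaf [1, 1, 7268990, 3043272, 1, 2911040]))) (.node (.node (.leaf [1, 33, 2774692, 1926456, 16, 1391222]) (.leaf [1, 1, 1186082, 401838, 1, 3052906])) (.node (.leaf [1, 29, 2634590, 1094894, 22, 6895504]) (.leaf [])))))) (.node (.node (.node (.node (.node (.leaf [0, 4, 790278, 790278, 4, 0]) (.leaf [0, 8, 70024, 5568, 8, 0])) (.node (.leaf [1, 44, 1342168, 660074, 49, 214384]) (.leaf [1, 1, 279494, 4090834, 1, 6107858]))) (.node (.node (.leaf [1, 23, 921984, 724428, 15, 131724]) (.leaf [1, 5, 6450668, 351854, 16, 462518])) (.node (.leaf [1, 30, 1333936, 5035488, 29, 1665732]) (.leaf [1, 1, 3188344, 1159016, 1, 5032312]))))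 (.node (.node (.node (.leaf [0, 2, 140130, 1292760, 2, 0]) (.leaf [1, 29, 3904326, 7504118, 1, 3086286])) (.node (.leaf [1, 47, 666960, 198074, 22, 1193996]) (.leaf [1, 1, 217786, 2090222, 1, 4069428]))) (.node (.node (.leaf [1, 34, 395652, 1317632, 12, 658728]) (.leaf [1, 1, 6907336, 2868708, 1, 3744846])) (.node (.leaf [1, 29, 2952996, 4758968, 36, 658910]) (.leaf []))))) (.node (.node (.node (.node (.leaf [0, 2, 1786512, 1786512, 2, 0]) (.leaf [1, 17, 1463690, 5542578, 2, 536760])) (.node (.leaf [1, 17, 1976036, 1318640, 46, 988184]) (.leaf [1, 1, 1093364, 221560, 5, 6855052]))) (.node (.node (.leaf [1, 1, 3106656, 741234, 30, 1646752]) (.leaf [1, 44, 1267728, 975940, 5, 826110])) (.node (.leaf [1, 29, 3172824, 5744526, 42, 1252784]) (.leaf [])))) (.node (.node (.node (.leaf [0, 8, 65862, 6, 8, 0]) (.leaf [1, 8, 4354750, 4475444, 5, 600914])) (.node (.leaf [1, 2, 1202888, 3287084, 4, 2059512]) (.leaf [1, 1, 5478550, 6297256, 1, 648954]))) (.node (.node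 (.leaf [1, 36, 988344, 8584, 33, 12]) (.leaf [1, 2, 984058, 5694218, 4, 5652266])) (.node (.leaf [0, 8, 73236, 68202, 8, 0]) (.leaf []))))))) (.node (.node (.node (.node (.node (.node (.leaf [0, 3, 197574, 65862, 3, 0]) (.leaf [0, 8, 67422, 67422, 8, 0])) (.node (.leaf [1, 45, 741234, 131718, 1, 1251944]) (.leaf [1, 1, 1555454, 6842516, 5, 6109304]))) (.node (.node (.leaf [1, 1, 8916, 131718, 21, 337512]) (.leaf [1, 1, 4081276, 5633306, 5, 6610460])) (.node (.leaf [1, 29, 4091472, 2795426, 1, 1012540]) (.leaf [1, 1, 2482718, 1678500, 1, 1502954])))) (.node (.node (.node (.leaf [0, 2, 3507186, 2313378, 2, 0]) (.leaf [1, 1, 3093436, 1340086, 29, 4146480])) (.node (.leaf [1, 22, 1333942, 462510, 5, 930574]) (.leaf [1, 1, 4191792, 5985976, 1, 3963878]))) (.node (.node (.leaf [1, 33, 1317794, 790278, 23, 1317296]) (.leaf [1, 1, 3266308, 983562, 5, 3114690])) (.node (.leaf [1, 1, 1630946, 6090022, 29, 5242494]) (.leaf []))))) (.node (.node (.node (.node (.leaf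 [0, 2, 700062, 1580896, 2, 0]) (.leaf [0, 8, 5940, 67552, 8, 0])) (.node (.leaf [1, 8, 1449186, 659072, 47, 725426]) (.leaf [1, 5, 5874858, 4394120, 5, 455642]))) (.node (.node (.leaf [1, 1, 33276, 3037616, 23, 132388]) (.leaf [1, 4, 5257114, 4904720, 8, 5500406])) (.node (.leaf [1, 8, 897642, 1167646, 1, 659736]) (.leaf [])))) (.node (.node (.node (.leaf [1, 1, 1646568, 635824, 4, 485688]) (.leaf [1, 1, 1457064, 4381180, 5, 2875288])) (.node (.leaf [1, 22, 1843970, 1779294, 42, 1877078]) (.leaf [1, 5, 5625498, 7120068, 1, 542102]))) (.node (.node (.leaf [1, 33, 2051450, 741560, 33, 197738]) (.leaf [1, 1, 7215814, 6029098, 5, 1848138])) (.node (.leaf [0, 8, 1152, 66104, 8, 0]) (.leaf [])))))) (.node (.node (.node (.node (.node (.leaf [0, 2, 2436678, 2041536, 2, 0]) (.leaf [0, 8, 4868, 7840, 8, 0])) (.node (.leaf [1, 50, 921984, 790626, 8, 700224]) (.leaf [1, 1, 5072114, 1855434, 5, 6050942]))) (.node (.node (.leaf [1, 1, 1976700, 988860, 29, 1185758])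 (.leaf [1, 5, 7269338, 1076760, 17, 4131094])) (.node (.leaf [1, 2, 2446184, 3190998, 8, 2321424]) (.leaf [])))) (.node (.node (.node (.leaf [0, 2, 2140506, 675042, 2, 0]) (.leaf [1, 4, 5851142, 4132488, 4, 7431630])) (.node (.leaf [1, 9, 1600874, 1465298, 22, 922326]) (.leaf [1, 1, 4093366, 3397758, 1, 5601540]))) (.node (.node (.leaf [1, 34, 678, 1589288, 4, 444882]) (.leaf [1, 36, 396648, 2163214, 1, 5264870])) (.node (.leaf [1, 22, 3595446, 5417570, 22, 2056242]) (.leaf []))))) (.node (.node (.node (.node (.leaf [0, 2, 25038, 1210440, 2, 0]) (.leaf [1, 17, 3776882, 6399502, 23, 132218])) (.node (.leaf [1, 29, 1514694, 494258, 47, 75600]) (.leaf [1, 1, 5458372, 519782, 5, 2893196]))) (.node (.node (.leaf [1, 12, 404376, 214034, 30, 74100]) (.leaf [1, 5, 3809366, 3893422, 2, 421352])) (.node (.leaf [0, 1, 7104060, 206366, 1, 0]) (.leaf [])))) (.node (.node (.node (.leaf [0, 16, 1975680, 1975680, 16, 0]) (.leaf [1, 1, 1703310, 505770, 5, 6439060]))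 (.node (.leaf [1, 3, 403384, 5399012, 29, 1854900]) (.leaf [1, 1, 2000318, 5954446, 5, 6201814]))) (.node (.node (.leaf [1, 39, 66202, 724590, 1, 207654]) (.leaf [1, 2, 659076, 3716606, 1, 2728850])) (.node (.leaf [0, 8, 7374, 2348, 8, 0]) (.leaf [])))))))) (.node (.node (.node (.node (.node (.node (.node (.leaf [0, 2, 658734, 1382982, 2, 0]) (.leaf [0, 8, 2532, 3816, 8, 0])) (.node (.leaf [1, 39, 395494, 1317474, 33, 396150]) (.leaf [1, 1, 451522, 5449248, 5, 72766]))) (.node (.node (.leaf [1, 2, 516, 1054708, 18, 1515044]) (.leaf [1, 5, 5255788, 2221644, 4, 10252])) (.node (.leaf [1, 29, 3096252, 406182, 12, 658728]) (.leaf [1, 5, 106682, 1324478, 1, 612440])))) (.node (.node (.node (.leaf [0, 2, 1514704, 3861160, 2, 0]) (.leaf [1, 1, 683272, 510980, 1, 4015420])) (.node (.leaf [1, 50, 1654632, 988016, 47, 1318640]) (.leaf [1, 8, 2638844, 6925266, 5, 2987882]))) (.node (.node (.leaf [1, 30, 790274, 1054052, 33, 1012]) (.leaf [1, 5, 4511604, 3954464,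 5, 3115488])) (.node (.leaf [1, 1, 1375612, 147534, 29, 4665546]) (.leaf []))))) (.node (.node (.node (.node (.leaf [0, 2, 2445090, 543664, 2, 0]) (.leaf [0, 8, 4418, 6932, 8, 0])) (.node (.leaf [1, 22, 329636, 274518, 17, 2832162]) (.leaf [1, 8, 2934412, 5352346, 1, 2726722]))) (.node (.node (.leaf [1, 23, 197574, 82672, 1, 436638]) (.leaf [1, 5, 5901258, 815080, 44, 205974])) (.node (.leaf [1, 17, 741228, 922992, 17, 2115632]) (.leaf [])))) (.node (.node (.node (.leaf [1, 7, 658728, 1384496, 1, 66030]) (.leaf [1, 4, 6507372, 1828516, 36, 922660])) (.node (.leaf [1, 5, 16816, 158100, 42, 807094]) (.leaf [1, 5, 2052496, 5495452, 1, 747256]))) (.node (.node (.leaf [1, 12, 198582, 594224, 33, 3902648]) (.leaf [1, 5, 1828086, 1080598, 1, 5808168])) (.node (.leaf [1, 39, 396654, 2844780, 22, 6442744]) (.leaf [])))))) (.node (.node (.node (.node (.node (.leaf [0, 2, 1588776, 1193814, 2, 0]) (.leaf [0, 8, 68380, 69680, 8, 0])) (.node (.leaf [1, 5, 1581414,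 199084, 17, 922330]) (.leaf [1, 1, 5845670, 1740756, 5, 1582902]))) (.node (.node (.leaf [0, 28, 330292, 131714, 28, 0]) (.leaf [1, 4, 2556012, 3067974, 5, 5253188])) (.node (.leaf [1, 29, 3173814, 1381538, 39, 725436]) (.leaf [1, 5, 7068574, 419376, 5, 4043968])))) (.node (.node (.node (.leaf [0, 2, 1786528, 1267744, 2, 0]) (.leaf [1, 4, 6290552, 3400112, 1, 4140236])) (.node (.leaf [1, 47, 1465800, 2116634, 17, 4818920]) (.leaf [1, 1, 809902, 7122544, 2, 2678044]))) (.node (.node (.leaf [1, 34, 133232, 815136, 23, 132066]) (.leaf [1, 4, 7273954, 4680630, 1, 6107858])) (.node (.leaf [1, 22, 2271288, 1131464, 44, 486042]) (.leaf []))))) (.node (.node (.node (.node (.leaf [0, 2, 1926624, 2568384, 2, 0]) (.leaf [1, 29, 3169488, 139198, 17, 3604246])) (.node (.leaf [1, 5, 1062284, 346, 31, 1333942]) (.leaf [1, 1, 3395772, 2664854, 5, 6838084]))) (.node (.node (.leaf [1, 29, 987840, 462526, 12, 1657488]) (.leaf [1, 5, 1518298, 6082240, 5, 991450])) (.node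 (.leaf [0, 1, 536458, 6244074, 1, 0]) (.leaf [])))) (.node (.node (.node (.leaf [1, 1, 82674, 922336, 11, 988194]) (.leaf [1, 5, 1341482, 1112250, 4, 5697782])) (.node (.leaf [1, 23, 1383650, 58048, 29, 3693396]) (.leaf [1, 5, 3003648, 3775760, 5, 5557172]))) (.node (.node (.leaf [1, 37, 132218, 658728, 12, 593214]) (.leaf [1, 2, 3455648, 4686924, 5, 3353168])) (.node (.leaf [0, 8, 67892, 71652, 8, 0]) (.leaf []))))))) (.node (.node (.node (.node (.node (.node (.leaf [1, 1, 66208, 197914, 5, 790446]) (.leaf [0, 8, 68388, 69672, 8, 0])) (.node (.leaf [1, 42, 543666, 593720, 47, 1144602]) (.leaf [1, 1, 3385428, 5865674, 1, 90364]))) (.node (.node (.leaf [1, 27, 403536, 1465650, 1, 1794576]) (.leaf [1, 5, 4966358, 756848, 5, 6441908])) (.node (.leaf [1, 29, 2240622, 2589122, 23, 1317288]) (.leaf [1, 1, 3352476, 7487460, 5, 2700438])))) (.node (.node (.node (.leaf [0, 2, 2585190, 2181664, 2, 0]) (.leaf [1, 1, 2954828, 5951232, 29, 2513460])) (.node (.leaf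 [1, 47, 988192, 988194, 22, 2041894]) (.leaf [1, 1, 2351454, 117038, 1, 6518612]))) (.node (.node (.leaf [1, 16, 8246, 477814, 34, 593712]) (.leaf [1, 1, 288136, 5608090, 5, 2976202])) (.node (.leaf [1, 29, 3161094, 4205864, 29, 2360292]) (.leaf []))))) (.node (.node (.node (.node (.leaf [0, 2, 395154, 2387280, 2, 0]) (.leaf [0, 8, 73866, 6432, 8, 0])) (.node (.leaf [1, 46, 741216, 461502, 48, 1292782]) (.leaf [1, 1, 6317722, 931000, 1, 6490134]))) (.node (.node (.leaf [1, 1, 1375612, 675024, 30, 197574]) (.leaf [1, 2, 6522304, 2665930, 5, 6037828])) (.node (.leaf [1, 39, 396654, 4571666, 42, 3432916]) (.leaf [])))) (.node (.node (.node (.leaf [1, 8, 0, 0, 1, 197580]) (.leaf [1, 5, 3049612, 7435956, 5, 401094])) (.node (.leaf [1, 22, 2436672, 696904, 4, 3763712]) (.leaf [1, 1, 5610574, 5883622, 5, 7500688]))) (.node (.node (.leaf [1, 33, 1401792, 1384658, 16, 403374]) (.leaf [1, 5, 2117256, 2636882, 5, 3150806])) (.node (.leaf [0, 8, 3446, 68634, 8,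 0]) (.leaf [])))))) (.node (.node (.node (.node (.node (.leaf [0, 2, 1580880, 1844136, 2, 0]) (.leaf [0, 8, 73926, 70732, 8, 0])) (.node (.leaf [1, 48, 790276, 395488, 8, 274514]) (.leaf [0, 37, 0, 3515572, 5, 2818988]))) (.node (.node (.leaf [1, 30, 658916, 396648, 28, 329790]) (.leaf [1, 5, 2227460, 2609124, 22, 6895504])) (.node (.leaf [1, 29, 529206, 3637318, 42, 2504048]) (.leaf [])))) (.node (.node (.node (.leaf [0, 2, 205986, 881160, 2, 0]) (.leaf [1, 29, 4975890, 1797540, 4, 5697782])) (.node (.leaf [1, 9, 1909834, 462008, 9, 16820]) (.leaf [1, 1, 4624082, 4966048, 1, 4293862]))) (.node (.node (.leaf [1, 12, 5608848, 4148948, 33, 733326]) (.leaf [1, 1, 6029602, 4054430, 4, 980120])) (.node (.leaf [1, 8, 807416, 1156296, 22, 4041168]) (.leaf []))))) (.node (.node (.node (.node (.leaf [0, 2, 1259848, 2765958, 2, 0]) (.leaf [1, 17, 4575622, 5944920, 1, 642450])) (.node (.leaf [1, 1, 149190, 699726, 17, 3045840]) (.leaf [1, 1, 548108, 5892546, 1,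 369830]))) (.node (.node (.leaf [1, 1, 1367522, 0, 33, 0]) (.leaf [1, 5, 1904582, 991646, 5, 1965682])) (.node (.leaf [0, 8, 2887842, 66100, 8, 6468424]) (.leaf [])))) (.node (.node (.node (.leaf [1, 1, 1589284, 263592, 18, 592712]) (.leaf [1, 1, 3661780, 1261240, 5, 6124594])) (.node (.leaf [1, 30, 66364, 5371522, 29, 1256724]) (.leaf [1, 1, 2802254, 5638330, 1, 647508]))) (.node (.node (.leaf [1, 39, 725928, 82488, 30, 922154]) (.leaf [1, 1, 937210, 6114108, 1, 3291178])) (.node (.leaf [0, 8, 3234, 67418, 8, 0]) (.leaf []))))))))))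

/-- the facts, part 4 -/
def factTab4 : WTab :=
  (.node (.node (.node (.node (.node (.node (.node (.node (.node (.leaf [0, 2, 0, 0, 2, 0]) (.leaf [0, 8, 70482, 532, 8, 0])) (.node (.leaf [1, 39, 658572, 347256, 30, 988520]) (.leaf [1, 5, 205466, 1743962, 1, 1957126]))) (.node (.node (.leaf [0, 5, 222432, 222432, 5, 0]) (.leaf [1, 5, 1390632, 4382008, 5, 4993084])) (.node (.leaf [1, 30, 330296, 6204728, 29, 1659126]) (.leaf [1, 1, 1750170, 6220194, 1, 6684868])))) (.node (.node (.node (.leaf [0, 2, 1663050, 1136368, 2, 0]) (.leaf [1, 17, 1266358, 2439528, 8, 4362962])) (.node (.leaf [1, 8, 1910502, 659236, 22, 807092]) (.leaf [1, 1, 1690948, 3425048, 2, 2069470]))) (.node (.node (.leaf [1, 33, 593208, 82320, 12, 790624]) (.leaf [1, 8, 1910502, 6705270, 5, 3398312])) (.node (.leaf [1, 1, 946680, 4281492, 29, 4910034]) (.leaf []))))) (.node (.node (.node (.node (.leaf [0, 2, 930216, 2115642, 2, 0]) (.leaf [0, 8, 73516, 73524, 8, 0])) (.node (.leaf [1,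 22, 1317120, 264940, 9, 527202]) (.leaf [1, 5, 3285768, 5281764, 1, 304396]))) (.node (.node (.leaf [1, 26, 1317300, 1975700, 29, 593208]) (.leaf [1, 5, 7079220, 5983138, 4, 594724])) (.node (.leaf [1, 17, 2307500, 4604140, 4, 4751138]) (.leaf [])))) (.node (.node (.node (.leaf [0, 2, 1210446, 2568402, 2, 0]) (.leaf [1, 29, 2900532, 2605570, 4, 5567348])) (.node (.leaf [1, 42, 1712256, 90902, 17, 4682684]) (.leaf [1, 5, 1356966, 5185676, 5, 4845798]))) (.node (.node (.leaf [1, 30, 600942, 2395866, 34, 1466304]) (.leaf [1, 5, 5242280, 3437484, 1, 2987822])) (.node (.leaf [1, 22, 1119910, 6891490, 22, 4461168]) (.leaf [])))))) (.node (.node (.node (.node (.node (.leaf [0, 4, 0, 790272, 4, 6]) (.leaf [0, 8, 8008, 5088, 8, 0])) (.node (.leaf [1, 49, 1054050, 396148, 45, 790272]) (.leaf [1, 2, 1408906, 5006706, 1, 1035308]))) (.node (.node (.leaf [0, 27, 0, 1523274, 16, 271664]) (.leaf [1, 5, 5650924, 3629140, 2, 1186284])) (.node (.leaf [1, 29, 2850972,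 1865154, 16, 527016]) (.leaf [1, 1, 4251990, 2601916, 1, 6574342])))) (.node (.node (.node (.leaf [0, 2, 345928, 2058336, 2, 0]) (.leaf [1, 1, 4081276, 1819624, 29, 1122576])) (.node (.leaf [1, 31, 139946, 988854, 8, 1251264]) (.leaf [1, 5, 3685754, 468554, 1, 3584050]))) (.node (.node (.leaf [1, 34, 593208, 1909844, 12, 2571412]) (.leaf [1, 1, 2460202, 4872062, 1, 930724])) (.node (.leaf [1, 29, 1834110, 1766532, 29, 546180]) (.leaf []))))) (.node (.node (.node (.node (.leaf [0, 2, 724432, 2412330, 2, 0]) (.leaf [0, 8, 71788, 1694, 8, 0])) (.node (.leaf [0, 46, 82662, 131880, 46, 749112]) (.leaf [1, 5, 774654, 3664794, 5, 5732544]))) (.node (.node (.leaf [1, 30, 2379060, 1687914, 12, 273022]) (.leaf [1, 44, 609168, 1808926, 5, 111222])) (.node (.leaf [1, 44, 8406, 2916352, 29, 3633450]) (.leaf [])))) (.node (.node (.node (.leaf [1, 8, 462512, 66364, 2, 198084]) (.leaf [1, 4, 7241208, 4717058, 5, 335948])) (.node (.leaf [1, 4, 6005616, 7084236, 22, 881178])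 (.leaf [1, 1, 1381354, 2919098, 5, 5417532]))) (.node (.node (.leaf [1, 30, 600942, 2255922, 33, 1334088]) (.leaf [1, 2, 1006654, 5279728, 5, 136804])) (.node (.leaf [0, 8, 66388, 4626, 8, 0]) (.leaf []))))))) (.node (.node (.node (.node (.node (.node (.leaf [1, 3, 741234, 609168, 1, 337512]) (.leaf [0, 8, 73058, 71430, 8, 0])) (.node (.leaf [1, 43, 0, 0, 1, 1992818]) (.leaf [1, 5, 7031558, 6562100, 1, 3028982]))) (.node (.node (.leaf [1, 1, 1589284, 215992, 8, 675380]) (.leaf [1, 11, 461344, 369440, 5, 5964892])) (.node (.leaf [1, 29, 3622086, 1988674, 23, 197918]) (.leaf [1, 2, 69164, 688418, 5, 160550])))) (.node (.node (.node (.leaf [0, 2, 1317136, 1539738, 2, 0]) (.leaf [1, 8, 831774, 1101732, 1, 2436394])) (.node (.leaf [1, 22, 139944, 724588, 1, 1054212]) (.leaf [1, 5, 6186406, 6345930, 5, 2360180]))) (.node (.node (.leaf [1, 33, 132062, 461162, 2, 2840556]) (.leaf [1, 5, 2937320, 4495334, 8, 3303890])) (.node (.leaf [1, 29, 5440566, 4511672,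 12, 337870]) (.leaf []))))) (.node (.node (.node (.node (.leaf [0, 2, 2453478, 1119552, 2, 0]) (.leaf [0, 8, 7844, 73700, 8, 0])) (.node (.leaf [1, 1, 733006, 1317474, 9, 1382976]) (.leaf [1, 5, 5596332, 3583870, 1, 6711012]))) (.node (.node (.leaf [1, 23, 1008, 930236, 30, 724588]) (.leaf [1, 4, 809096, 6519142, 8, 6644812])) (.node (.leaf [1, 17, 3103800, 1516206, 17, 1136374]) (.leaf [])))) (.node (.node (.node (.leaf [0, 3, 1384488, 1520, 3, 0]) (.leaf [1, 4, 5707696, 886634, 17, 4312198])) (.node (.leaf [1, 42, 2181482, 263436, 17, 634218]) (.leaf [1, 1, 7414348, 7407140, 5, 4489278]))) (.node (.node (.leaf [1, 30, 329282, 66202, 33, 4083576]) (.leaf [1, 1, 3040890, 5069538, 1, 4419154])) (.node (.leaf [1, 22, 6353964, 6642168, 1, 288136]) (.leaf [])))))) (.node (.node (.node (.node (.node (.leaf [0, 2, 996078, 345912, 2, 0]) (.leaf [0, 8, 5100, 73370, 8, 0])) (.node (.leaf [1, 46, 930224, 395138, 5, 8590]) (.leaf [1, 1, 4902928, 6431124, 1, 6285904])))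 (.node (.node (.leaf [1, 29, 1061938, 197580, 1, 1054034]) (.leaf [1, 5, 3313036, 2810884, 37, 988190])) (.node (.leaf [1, 4, 4111278, 7293940, 17, 2118162]) (.leaf [])))) (.node (.node (.node (.leaf [0, 2, 222600, 2000728, 2, 0]) (.leaf [1, 4, 6557388, 1313948, 29, 3790482])) (.node (.leaf [1, 9, 2074634, 3767028, 1, 332310]) (.leaf [1, 5, 3371470, 1702916, 1, 569964]))) (.node (.node (.leaf [1, 1, 946694, 67376, 34, 724926]) (.leaf [1, 1, 7201222, 1610000, 1, 387262])) (.node (.leaf [1, 46, 724416, 1159236, 22, 4527024]) (.leaf []))))) (.node (.node (.node (.node (.leaf [0, 2, 296536, 2790984, 2, 0]) (.leaf [1, 17, 2196338, 4261512, 29, 1905982])) (.node (.leaf [1, 47, 273168, 133226, 16, 609176]) (.leaf [1, 5, 1324102, 481780, 1, 5006456]))) (.node (.node (.leaf [1, 23, 395490, 1642038, 12, 1786516]) (.leaf [1, 5, 275728, 6882466, 5, 4606424])) (.node (.leaf [0, 1, 5944334, 6019480, 1, 0]) (.leaf [])))) (.node (.node (.node (.leaf [1, 1, 2642646,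 660072, 15, 923496]) (.leaf [1, 5, 6901036, 1282070, 1, 1029868])) (.node (.leaf [1, 29, 3229812, 1411890, 16, 790440]) (.leaf [1, 1, 4151100, 6519486, 1, 3217340]))) (.node (.node (.leaf [1, 4, 2510768, 205812, 39, 1318640]) (.leaf [1, 2, 289354, 4388732, 5, 3692722])) (.node (.leaf [0, 8, 73232, 6696, 8, 0]) (.leaf [])))))))) (.node (.node (.node (.node (.node (.node (.node (.leaf [0, 2, 988194, 1382976, 2, 0]) (.leaf [0, 8, 69088, 69086, 8, 0])) (.node (.leaf [1, 39, 1317300, 214032, 30, 659234]) (.leaf [1, 5, 2787564, 46722, 1, 781180]))) (.node (.node (.leaf [0, 5, 997920, 997920, 5, 0]) (.leaf [1, 5, 6109304, 2034324, 4, 7470516])) (.node (.leaf [1, 29, 3161094, 1395482, 30, 1008]) (.leaf [1, 1, 4017876, 4271480, 5, 7290208])))) (.node (.node (.node (.leaf [0, 2, 156750, 1539720, 2, 0]) (.leaf [1, 22, 1457064, 2719018, 36, 5335410])) (.node (.leaf [1, 47, 1589454, 922668, 1, 1911852]) (.leaf [1, 1, 2313446, 4432260, 1, 7293440]))) (.node (.node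 (.leaf [1, 33, 462012, 131880, 33, 1383332]) (.leaf [1, 17, 3567648, 3708784, 5, 1129068])) (.node (.leaf [1, 1, 428400, 143888, 29, 2162514]) (.leaf []))))) (.node (.node (.node (.node (.leaf [0, 2, 65872, 872946, 2, 0]) (.leaf [0, 8, 5424, 72782, 8, 0])) (.node (.leaf [1, 8, 1185408, 4412700, 47, 1071672]) (.leaf [1, 1, 4649338, 7048032, 5, 7192902]))) (.node (.node (.leaf [1, 12, 1318128, 1646738, 23, 921984]) (.leaf [1, 22, 6837382, 5764218, 5, 403010])) (.node (.leaf [0, 46, 1992480, 3171536, 46, 1251600]) (.leaf [])))) (.node (.node (.node (.leaf [0, 2, 1539726, 2304978, 2, 0]) (.leaf [1, 29, 2454654, 2540750, 4, 5440694])) (.node (.leaf [1, 42, 856484, 683266, 42, 1358620]) (.leaf [1, 5, 252424, 1649836, 5, 2716068]))) (.node (.node (.leaf [1, 33, 536600, 678, 11, 461344]) (.leaf [1, 1, 1060762, 4912490, 4, 4111278])) (.node (.leaf [1, 22, 7331088, 6576054, 29, 2582076]) (.leaf [])))))) (.node (.node (.node (.node (.node (.leaf [1, 1, 996088,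 1646736, 6, 263778]) (.leaf [0, 8, 4862, 70714, 8, 0])) (.node (.leaf [1, 45, 930216, 790624, 8, 602456]) (.leaf [1, 1, 6977354, 1286362, 5, 3743510]))) (.node (.node (.leaf [1, 15, 658736, 1520, 23, 988516]) (.leaf [1, 4, 4464278, 4044152, 5, 7346122])) (.node (.leaf [1, 29, 2458596, 324030, 39, 1008]) (.leaf [1, 1, 6969256, 3496444, 8, 1683198])))) (.node (.node (.node (.leaf [0, 2, 1860448, 856146, 2, 0]) (.leaf [1, 17, 2352646, 2405052, 1, 3620620])) (.node (.leaf [1, 42, 872948, 1317794, 42, 1514688]) (.leaf [1, 1, 860752, 4691082, 5, 5315358]))) (.node (.node (.leaf [1, 34, 791288, 272008, 1, 232456]) (.leaf [1, 5, 6497510, 1416380, 1, 5521162])) (.node (.leaf [1, 29, 2209938, 6891810, 39, 1317476]) (.leaf []))))) (.node (.node (.node (.node (.leaf [0, 2, 2765958, 1259848, 2, 0]) (.leaf [1, 17, 4921030, 2330626, 17, 574634])) (.node (.leaf [1, 42, 2127720, 1317290, 47, 2124042]) (.leaf [1, 1, 2066212, 1811762, 1, 6599914]))) (.node (.node (.leaf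 [1, 1, 798526, 214384, 28, 197574]) (.leaf [1, 5, 1019338, 7217296, 5, 1890406])) (.node (.leaf [1, 30, 660074, 5463600, 42, 529536]) (.leaf [])))) (.node (.node (.node (.leaf [1, 1, 1713776, 0, 10, 0]) (.leaf [1, 1, 90572, 3691234, 5, 7656])) (.node (.leaf [1, 4, 2571242, 3625092, 4, 1617506]) (.leaf [1, 1, 2139282, 238718, 1, 4546118]))) (.node (.node (.leaf [1, 1, 3424866, 1317474, 37, 329448]) (.leaf [1, 2, 1726680, 5755304, 5, 826194])) (.node (.leaf [0, 8, 4244, 476, 8, 0]) (.leaf []))))))) (.node (.node (.node (.node (.node (.node (.leaf [0, 4, 263778, 6, 4, 0]) (.leaf [0, 8, 1306, 68376, 8, 0])) (.node (.leaf [1, 46, 1448832, 659576, 43, 329634]) (.leaf [1, 5, 5833180, 4635370, 1, 4464422]))) (.node (.node (.leaf [1, 1, 230854, 263424, 26, 132732]) (.leaf [1, 5, 4273952, 5864946, 5, 336210])) (.node (.leaf [1, 29, 330800, 4139990, 29, 4290888]) (.leaf [1, 1, 6610084, 7113442, 1, 4564200])))) (.node (.node (.node (.leaf [0, 2, 3490384, 856144,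 2, 0]) (.leaf [1, 1, 3093610, 7499872, 1, 1037254])) (.node (.leaf [1, 22, 700076, 1382982, 22, 2379048]) (.leaf [1, 1, 3426504, 5255218, 1, 2819992]))) (.node (.node (.leaf [1, 16, 1383488, 1911512, 12, 4027990]) (.leaf [1, 5, 4688458, 4399404, 5, 6898898])) (.node (.leaf [1, 29, 2301792, 6377008, 29, 3906798]) (.leaf []))))) (.node (.node (.node (.node (.leaf [0, 2, 938616, 337530, 2, 0]) (.leaf [0, 8, 7662, 7662, 8, 0])) (.node (.leaf [1, 49, 1588782, 461004, 50, 485696]) (.leaf [1, 5, 3462540, 6882700, 5, 4780758]))) (.node (.node (.leaf [1, 16, 246962, 2305318, 23, 330300]) (.leaf [0, 11, 0, 7369244, 5, 5122094])) (.node (.leaf [1, 42, 2831816, 6356910, 42, 2505556]) (.leaf [])))) (.node (.node (.node (.leaf [1, 5, 461344, 658562, 4, 264944]) (.leaf [1, 5, 4441532, 853458, 5, 795986])) (.node (.leaf [1, 1, 2371836, 3127848, 4, 144264]) (.leaf [1, 5, 7328758, 7196266, 1, 757882]))) (.node (.node (.leaf [1, 2, 2239980, 2248860, 33, 3235684]) (.leaf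 [1, 5, 3771414, 2794, 5, 101778])) (.node (.leaf [0, 8, 3450, 246, 8, 0]) (.leaf [])))))) (.node (.node (.node (.node (.node (.leaf [0, 2, 486040, 609174, 2, 0]) (.leaf [0, 8, 8070, 4876, 8, 0])) (.node (.leaf [1, 32, 1975680, 659576, 47, 263598]) (.leaf [1, 1, 3317102, 6753492, 1, 1706852]))) (.node (.node (.leaf [1, 1, 1366680, 263592, 30, 791790]) (.leaf [1, 17, 1487742, 6324800, 5, 203952])) (.node (.leaf [1, 42, 1845488, 1077354, 29, 1712430]) (.leaf [])))) (.node (.node (.node (.leaf [0, 2, 2461704, 486024, 2, 0]) (.leaf [1, 4, 7494698, 4677516, 29, 4318632])) (.node (.leaf [1, 9, 2000732, 3955130, 2, 1202888]) (.leaf [1, 1, 5904416, 6334514, 5, 2644336]))) (.node (.node (.leaf [1, 33, 17144, 1229426, 12, 3519372]) (.leaf [1, 5, 728858, 5804914, 1, 7478410])) (.node (.leaf [1, 22, 2795596, 1023104, 46, 337530]) (.leaf []))))) (.node (.node (.node (.node (.leaf [0, 2, 543654, 2371002, 2, 0]) (.leaf [1, 29, 1656648, 173208, 17, 2073094])) (.node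 (.leaf [0, 20, 658730, 2454654, 17, 4560882]) (.leaf [1, 1, 282992, 3718400, 2, 4178214]))) (.node (.node (.leaf [1, 12, 1647918, 790294, 1, 108978]) (.leaf [1, 5, 2623958, 3959036, 5, 1399786])) (.node (.leaf [0, 1, 7164944, 7164944, 1, 0]) (.leaf [])))) (.node (.node (.node (.leaf [1, 1, 930384, 131718, 18, 337512]) (.leaf [1, 1, 4913044, 1618662, 5, 4251700])) (.node (.leaf [1, 30, 790274, 594458, 29, 4423284]) (.leaf [1, 5, 1849058, 6461116, 5, 1209278]))) (.node (.node (.leaf [1, 39, 329630, 807604, 37, 329288]) (.leaf [1, 1, 3902498, 2211022, 8, 1251622])) (.node (.leaf [0, 8, 66762, 70026, 8, 0]) (.leaf []))))))))) (.node (.node (.node (.node (.node (.node (.node (.node (.leaf [0, 2, 724422, 329632, 2, 0]) (.leaf [0, 8, 71128, 72558, 8, 0])) (.node (.leaf [1, 33, 3096594, 930894, 39, 790946]) (.leaf [1, 5, 400158, 2240918, 1, 681166]))) (.node (.node (.leaf [0, 5, 403542, 403542, 5, 0]) (.leaf [1, 5, 928316, 7119050, 5, 5559062])) (.node (.leaf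 [1, 29, 2381916, 45378, 16, 8246]) (.leaf [1, 1, 4727858, 1208280, 1, 5595316])))) (.node (.node (.node (.leaf [0, 2, 2568402, 1210446, 2, 0]) (.leaf [1, 36, 5410310, 4465516, 22, 16818])) (.node (.leaf [1, 8, 1515366, 461164, 50, 131714]) (.leaf [1, 1, 4335484, 5781836, 5, 1391588]))) (.node (.node (.leaf [1, 12, 3114724, 2387636, 33, 988514]) (.leaf [1, 5, 496910, 4065800, 5, 1264774])) (.node (.leaf [1, 29, 2500782, 6861300, 1, 255546]) (.leaf []))))) (.node (.node (.node (.node (.leaf [0, 2, 1325526, 807072, 2, 0]) (.leaf [0, 8, 1314, 1346, 8, 0])) (.node (.leaf [1, 42, 922336, 1516, 5, 734172]) (.leaf [1, 1, 6773938, 4143466, 5, 1310274]))) (.node (.node (.leaf [1, 12, 461508, 131714, 26, 263436]) (.leaf [1, 5, 5586908, 1090566, 17, 3112050])) (.node (.leaf [1, 2, 2042052, 5781008, 29, 1518192]) (.leaf [])))) (.node (.node (.node (.leaf [0, 2, 938632, 1531488, 2, 0]) (.leaf [1, 2, 2503404, 3641498, 4, 6220258])) (.node (.leaf [1, 42, 543666, 1780802,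 42, 289304]) (.leaf [1, 1, 6678322, 2655014, 5, 6759044]))) (.node (.node (.leaf [1, 33, 2898840, 264938, 4, 10252]) (.leaf [1, 1, 2312026, 6769274, 44, 732822])) (.node (.leaf [1, 29, 1523940, 7406216, 22, 5644178]) (.leaf [])))))) (.node (.node (.node (.node (.node (.leaf [0, 4, 65856, 65856, 4, 0]) (.leaf [0, 8, 5428, 6336, 8, 0])) (.node (.leaf [1, 1, 16970, 0, 50, 0]) (.leaf [1, 1, 6516134, 1223202, 1, 3473796]))) (.node (.node (.leaf [1, 23, 462504, 922334, 15, 462516]) (.leaf [1, 4, 4727702, 3046714, 5, 5243434])) (.node (.leaf [1, 30, 1926642, 1923172, 29, 1073028]) (.leaf [1, 1, 7390364, 6724860, 1, 6783514])))) (.node (.node (.node (.leaf [0, 2, 140128, 1473880, 2, 0]) (.leaf [1, 1, 3349964, 402224, 29, 2315728])) (.node (.leaf [1, 31, 2437030, 658732, 22, 881178]) (.leaf [1, 1, 5963944, 6273962, 5, 7315776]))) (.node (.node (.leaf [1, 23, 264942, 156420, 34, 264108]) (.leaf [1, 1, 10086, 2136822, 1, 7098690])) (.node (.leaf [1, 29, 3395974,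 5804236, 37, 197736]) (.leaf []))))) (.node (.node (.node (.node (.leaf [0, 2, 2568390, 864528, 2, 0]) (.leaf [1, 2, 536760, 3377718, 17, 1465034])) (.node (.leaf [1, 42, 329282, 396656, 1, 1926800]) (.leaf [1, 5, 6855052, 532084, 1, 1094664]))) (.node (.node (.leaf [1, 30, 1646752, 609168, 1, 3312456]) (.leaf [1, 5, 2031538, 2626870, 44, 2445088])) (.node (.leaf [1, 42, 2248344, 3333940, 1, 288136]) (.leaf [])))) (.node (.node (.node (.leaf [0, 8, 65868, 4, 8, 0]) (.leaf [1, 5, 600914, 5524714, 8, 3227288])) (.node (.leaf [1, 4, 3516576, 1230844, 4, 2050452]) (.leaf [1, 1, 648954, 5432384, 1, 5466320]))) (.node (.node (.leaf [1, 33, 12, 25706, 36, 1317294]) (.leaf [1, 2, 1408906, 7124468, 4, 3874252])) (.node (.leaf [0, 8, 70100, 66332, 8, 0]) (.leaf []))))))) (.node (.node (.node (.node (.node (.node (.leaf [1, 1, 1382982, 0, 4, 0]) (.leaf [0, 8, 67200, 67172, 8, 0])) (.node (.leaf [1, 1, 1251944, 131718, 45, 337512]) (.leaf [1, 5, 6109304, 2439286,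 1, 1764326]))) (.node (.node (.leaf [1, 1, 1712764, 0, 22, 0]) (.leaf [1, 5, 6610460, 4841690, 1, 4930422])) (.node (.leaf [1, 30, 330294, 6708782, 29, 5342920]) (.leaf [1, 1, 1502954, 775132, 1, 2472234])))) (.node (.node (.node (.leaf [0, 2, 3498774, 1523106, 2, 0]) (.leaf [1, 1, 912624, 4537118, 29, 593208])) (.node (.leaf [1, 22, 263782, 988348, 42, 1580896]) (.leaf [1, 1, 3963878, 5242182, 1, 4322712]))) (.node (.node (.leaf [1, 33, 1317300, 214200, 30, 725928]) (.leaf [1, 5, 3114690, 6550860, 1, 4386034])) (.node (.leaf [1, 29, 5242494, 4192702, 1, 1638522]) (.leaf []))))) (.node (.node (.node (.node (.leaf [0, 2, 1333938, 2453472, 2, 0]) (.leaf [0, 8, 69788, 67554, 8, 0])) (.node (.leaf [1, 47, 725426, 395308, 8, 1465296]) (.leaf [1, 1, 6080348, 6811330, 1, 543986]))) (.node (.node (.leaf [1, 30, 462512, 1341824, 4, 839678]) (.leaf [1, 5, 7174066, 4778552, 8, 5632278])) (.node (.leaf [1, 29, 2045580, 7186158, 42, 1927164]) (.leaf [])))) (.node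 (.node (.node (.leaf [1, 4, 485688, 1448836, 1, 1654806]) (.leaf [1, 5, 2875288, 4513436, 1, 1457418])) (.node (.leaf [1, 42, 1877078, 2832996, 22, 1193996]) (.leaf [1, 1, 542102, 2195478, 5, 5548554]))) (.node (.node (.leaf [1, 33, 197738, 238896, 33, 2175208]) (.leaf [1, 5, 6713506, 2163892, 1, 3784714])) (.node (.leaf [0, 8, 1154, 66098, 8, 0]) (.leaf [])))))) (.node (.node (.node (.node (.node (.leaf [0, 2, 197584, 543666, 2, 0]) (.leaf [0, 8, 70736, 4872, 8, 0])) (.node (.leaf [1, 8, 700224, 658560, 50, 1384496]) (.leaf [1, 5, 6050942, 5564754, 1, 5204944]))) (.node (.node (.leaf [1, 29, 922996, 132228, 2, 2108268]) (.leaf [1, 5, 69602, 5927276, 17, 2023066])) (.node (.leaf [1, 8, 2321424, 3390958, 2, 2446366]) (.leaf [])))) (.node (.node (.node (.leaf [0, 2, 280072, 2387298, 2, 0]) (.leaf [1, 4, 7431630, 6708868, 4, 5328548])) (.node (.leaf [1, 4, 807416, 230854, 9, 1136372]) (.leaf [1, 5, 170326, 553292, 5, 1734908]))) (.node (.node (.leaf [1,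 4, 444882, 222272, 34, 198246]) (.leaf [1, 36, 396650, 7368620, 1, 6312946])) (.node (.leaf [1, 22, 5093508, 111468, 1, 403872]) (.leaf []))))) (.node (.node (.node (.node (.leaf [0, 2, 551898, 658744, 2, 0]) (.leaf [1, 23, 132218, 6981154, 17, 3975794])) (.node (.leaf [1, 47, 75600, 363224, 29, 1720656]) (.leaf [1, 1, 6418314, 2233676, 5, 5167694]))) (.node (.node (.leaf [1, 12, 4621008, 3227300, 12, 725936]) (.leaf [1, 2, 421352, 1743482, 5, 4015116])) (.node (.leaf [0, 1, 6453240, 8798, 1, 0]) (.leaf [])))) (.node (.node (.node (.leaf [1, 16, 1382982, 477798, 1, 1399776]) (.leaf [1, 5, 6439060, 493416, 1, 1711978])) (.node (.leaf [1, 12, 922158, 1628138, 29, 2184984]) (.leaf [1, 5, 99174, 605492, 1, 905762]))) (.node (.node (.leaf [1, 1, 470586, 264936, 39, 132062]) (.leaf [1, 1, 2198474, 1382080, 1, 2412506])) (.node (.leaf [0, 8, 6702, 5272, 8, 0]) (.leaf [])))))))) (.node (.node (.node (.node (.node (.node (.node (.leaf [0, 2, 1317120, 592878,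 2, 0]) (.leaf [0, 8, 746, 528, 8, 0])) (.node (.leaf [1, 33, 396150, 131880, 39, 658916]) (.leaf [1, 5, 72766, 2240938, 1, 697796]))) (.node (.node (.leaf [0, 8, 1384496, 1054048, 18, 2049768]) (.leaf [1, 4, 10252, 6982060, 5, 5104172])) (.node (.leaf [1, 23, 264942, 4747330, 29, 1121910]) (.leaf [1, 1, 3452278, 5064584, 1, 5562594])))) (.node (.node (.node (.leaf [0, 2, 856144, 3490384, 2, 0]) (.leaf [1, 1, 4015420, 6038878, 1, 436638])) (.node (.leaf [1, 47, 1318640, 395810, 50, 1646754]) (.leaf [1, 5, 2987882, 427950, 8, 3906572]))) (.node (.node (.leaf [1, 33, 1012, 1335544, 30, 263780]) (.leaf [1, 5, 3115488, 6056032, 5, 4795508])) (.node (.leaf [1, 29, 4665546, 5558226, 1, 1012890]) (.leaf []))))) (.node (.node (.node (.node (.leaf [0, 2, 675030, 420184, 2, 0]) (.leaf [0, 8, 5928, 2866, 8, 0])) (.node (.leaf [1, 17, 2832162, 5343588, 22, 724418]) (.leaf [1, 1, 3072466, 4834576, 5, 4464024]))) (.node (.node (.leaf [1, 23, 197742, 1333920, 1, 675366])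 (.leaf [1, 5, 7101596, 1814310, 17, 2840040])) (.node (.leaf [1, 17, 2115632, 1382980, 17, 337522]) (.leaf [])))) (.node (.node (.node (.leaf [1, 1, 66030, 197736, 7, 395136]) (.leaf [1, 4, 5569222, 1146604, 36, 356])) (.node (.leaf [1, 17, 148530, 922496, 42, 1975688]) (.leaf [1, 1, 6487540, 6242818, 1, 5035646]))) (.node (.node (.leaf [1, 23, 460998, 353982, 33, 1515696]) (.leaf [1, 5, 1287182, 2849286, 1, 2089860])) (.node (.leaf [1, 22, 5266256, 4533680, 29, 5372328]) (.leaf [])))))) (.node (.node (.node (.node (.node (.leaf [0, 2, 1399792, 798678, 2, 0]) (.leaf [0, 8, 6200, 73514, 8, 0])) (.node (.leaf [1, 17, 922330, 1384494, 5, 1589286]) (.leaf [1, 5, 5000406, 6593930, 1, 6053980]))) (.node (.node (.leaf [1, 28, 791792, 988198, 28, 395488]) (.leaf [1, 5, 7108210, 5810150, 5, 15458])) (.node (.leaf [1, 39, 725436, 6188436, 29, 2967240]) (.leaf [1, 5, 4043968, 6473882, 5, 6418736])))) (.node (.node (.node (.leaf [0, 2, 3819832, 526864, 2, 0]) (.leaf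 [1, 1, 4140236, 4575244, 4, 6293964])) (.node (.leaf [1, 5, 535092, 592712, 44, 460992]) (.leaf [1, 2, 1298702, 1599630, 1, 6441888]))) (.node (.node (.leaf [1, 34, 592712, 3030894, 8, 2049790]) (.leaf [1, 1, 6320010, 5582836, 1, 4649458])) (.node (.leaf [1, 22, 4527242, 530192, 44, 790272]) (.leaf []))))) (.node (.node (.node (.node (.leaf [0, 2, 2304966, 535248, 2, 0]) (.leaf [1, 17, 3604246, 428268, 29, 2963694])) (.node (.leaf [0, 32, 1004658, 1317474, 31, 634204]) (.leaf [1, 1, 3801152, 7393770, 2, 5382558]))) (.node (.node (.leaf [1, 12, 1657488, 1539740, 29, 1318640]) (.leaf [1, 5, 991450, 5130158, 5, 1725804])) (.node (.leaf [0, 1, 362926, 6944404, 1, 0]) (.leaf [])))) (.node (.node (.node (.leaf [0, 11, 724422, 1382976, 11, 460992]) (.leaf [1, 4, 5697782, 1886024, 5, 1001536])) (.node (.leaf [1, 4, 4288890, 5107146, 29, 5348928]) (.leaf [1, 5, 5557172, 1800084, 5, 3198576]))) (.node (.node (.leaf [1, 12, 593214, 658728, 37, 66362]) (.leaf [1,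 2, 3249476, 5545372, 1, 4555430])) (.node (.leaf [0, 8, 242, 67010, 8, 0]) (.leaf []))))))) (.node (.node (.node (.node (.node (.node (.leaf [0, 5, 1317126, 594216, 5, 132390]) (.leaf [0, 8, 6194, 73520, 8, 0])) (.node (.leaf [1, 47, 1144602, 593720, 42, 1267728]) (.leaf [1, 1, 1836754, 2632250, 5, 5243434]))) (.node (.node (.leaf [1, 11, 1382984, 1317124, 1, 148530]) (.leaf [1, 5, 6248372, 3562620, 1, 436634])) (.node (.leaf [1, 29, 4685028, 458122, 8, 3754136]) (.leaf [1, 5, 2700438, 6290842, 1, 3160646])))) (.node (.node (.node (.leaf [0, 2, 2774370, 3515418, 2, 0]) (.leaf [1, 29, 4679496, 3448378, 1, 4913044])) (.node (.leaf [1, 22, 1185410, 462004, 22, 1382996]) (.leaf [1, 1, 6518612, 4624644, 1, 3059406]))) (.node (.node (.leaf [1, 16, 955252, 1407680, 34, 131886]) (.leaf [1, 36, 132722, 6400536, 5, 3692722])) (.node (.leaf [1, 29, 2360292, 2550724, 29, 2972104]) (.leaf []))))) (.node (.node (.node (.node (.leaf [0, 2, 1654648, 1259850, 2, 0])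 (.leaf [0, 8, 2866, 5928, 8, 0])) (.node (.leaf [1, 48, 1292782, 1383988, 46, 337530]) (.leaf [1, 1, 1493606, 2425202, 5, 5017268]))) (.node (.node (.leaf [1, 30, 197574, 1054050, 1, 1012890]) (.leaf [1, 5, 6037828, 5986568, 2, 6534960])) (.node (.leaf [1, 42, 2373844, 3789892, 30, 1383986]) (.leaf [])))) (.node (.node (.node (.leaf [0, 8, 65856, 65856, 8, 0]) (.leaf [1, 5, 401094, 1627324, 5, 2325908])) (.node (.leaf [1, 4, 6134352, 6893104, 22, 1399794]) (.leaf [1, 5, 7500688, 630568, 1, 5545776]))) (.node (.node (.leaf [1, 16, 403374, 1629938, 33, 931736]) (.leaf [1, 5, 3150806, 6769138, 5, 2108550])) (.node (.leaf [0, 8, 2778, 69302, 8, 0]) (.leaf [])))))) (.node (.node (.node (.node (.node (.leaf [0, 2, 2115640, 1251432, 2, 0]) (.leaf [0, 8, 8010, 72288, 8, 0])) (.node (.leaf [1, 8, 274514, 132390, 48, 263774]) (.leaf [1, 1, 4026468, 3515572, 5, 2818988]))) (.node (.node (.leaf [1, 30, 395808, 396656, 30, 197736]) (.leaf [1, 4, 168684, 2491476,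 5, 6050942])) (.node (.leaf [1, 42, 2504048, 3344180, 29, 1262032]) (.leaf [])))) (.node (.node (.node (.leaf [0, 2, 1004490, 2140504, 2, 0]) (.leaf [1, 4, 5697782, 3758074, 29, 4270782])) (.node (.leaf [1, 9, 1382986, 164814, 9, 675026]) (.leaf [1, 1, 770136, 2074384, 2, 6409082]))) (.node (.node (.leaf [1, 33, 733326, 1646238, 12, 5544444]) (.leaf [1, 36, 1318130, 6790980, 1, 5260936])) (.node (.leaf [1, 22, 4041168, 3241208, 8, 272164]) (.leaf []))))) (.node (.node (.node (.node (.leaf [0, 2, 2379400, 2181648, 2, 0]) (.leaf [1, 1, 642450, 2524842, 17, 4460374])) (.node (.leaf [0, 19, 263776, 699726, 17, 1292778]) (.leaf [1, 5, 729988, 1898982, 5, 5873676]))) (.node (.node (.leaf [1, 33, 0, 0, 1, 1029868]) (.leaf [1, 5, 393632, 6091018, 5, 984362])) (.node (.leaf [0, 22, 341310, 2187512, 42, 4933282]) (.leaf [])))) (.node (.node (.node (.leaf [1, 18, 592712, 133224, 1, 1581412]) (.leaf [1, 5, 6124594, 2771052, 1, 4732940])) (.node (.leaf [1, 2, 2700608,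 4621706, 29, 3907428]) (.leaf [1, 1, 647508, 3507760, 1, 2619454]))) (.node (.node (.leaf [1, 30, 922154, 1119906, 39, 330290]) (.leaf [1, 1, 3291178, 965738, 1, 1407614])) (.node (.leaf [0, 8, 2030, 69442, 8, 0]) (.leaf []))))))))))

/-- the facts, part 5 -/
def factTab5 : WTab :=
  (.node (.node (.node (.node (.node (.node (.node (.node (.node (.leaf [1, 1, 988194, 0, 2, 0]) (.leaf [0, 8, 3178, 3178, 8, 0])) (.node (.leaf [1, 1, 831790, 1448832, 39, 6]) (.leaf [1, 5, 401310, 5555632, 1, 5395094]))) (.node (.node (.leaf [0, 5, 1119726, 1119726, 5, 0]) (.leaf [1, 5, 7363900, 6063764, 5, 139452])) (.node (.leaf [1, 29, 1659126, 843882, 30, 725930]) (.leaf [1, 8, 3968302, 2202726, 1, 4617702])))) (.node (.node (.node (.leaf [0, 2, 667146, 82656, 2, 0]) (.leaf [1, 8, 4362962, 2642486, 17, 533374])) (.node (.leaf [1, 47, 602448, 2766968, 29, 740884]) (.leaf [1, 2, 2069470, 193188, 1, 1674484]))) (.node (.node (.leaf [1, 23, 1524, 132058, 33, 1317126]) (.leaf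 [1, 5, 3152030, 570310, 5, 918488])) (.node (.leaf [1, 29, 3990072, 4325316, 12, 527024]) (.leaf []))))) (.node (.node (.node (.node (.leaf [0, 2, 337528, 1465632, 2, 0]) (.leaf [0, 8, 6438, 7516, 8, 0])) (.node (.leaf [0, 9, 2568738, 593220, 9, 3029734]) (.leaf [1, 1, 304396, 5821324, 5, 4397626]))) (.node (.node (.leaf [1, 29, 593208, 82666, 26, 988346]) (.leaf [1, 4, 594724, 4912130, 5, 6435516])) (.node (.leaf [1, 17, 329628, 922160, 22, 741218]) (.leaf [])))) (.node (.node (.node (.leaf [0, 2, 1539720, 156750, 2, 0]) (.leaf [1, 29, 1263822, 793944, 4, 6321680])) (.node (.leaf [1, 17, 4682684, 4618320, 42, 1523094]) (.leaf [1, 5, 4845798, 957444, 5, 1044732]))) (.node (.node (.leaf [1, 30, 1515040, 354330, 33, 1399944]) (.leaf [1, 1, 2987822, 458022, 5, 5135782])) (.node (.leaf [1, 22, 4461168, 4022312, 22, 864362]) (.leaf [])))))) (.node (.node (.node (.node (.node (.leaf [0, 5, 724422, 461166, 5, 461664]) (.leaf [0, 8, 72296, 8012, 8, 0])) (.node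 (.leaf [1, 49, 741234, 724416, 1, 1055216]) (.leaf [1, 1, 1035308, 3768906, 2, 941806]))) (.node (.node (.leaf [1, 1, 930570, 1523274, 16, 271664]) (.leaf [1, 2, 1186284, 92464, 5, 5565164])) (.node (.leaf [1, 16, 527016, 4786886, 29, 2727492]) (.leaf [1, 1, 4485972, 1523476, 8, 6569584])))) (.node (.node (.node (.leaf [0, 2, 1523106, 3498774, 2, 0]) (.leaf [1, 29, 1122576, 463008, 1, 4930422])) (.node (.leaf [1, 22, 1119910, 659240, 42, 988186]) (.leaf [1, 1, 3584050, 4999058, 5, 4740694]))) (.node (.node (.leaf [1, 12, 2571412, 3029730, 34, 462000]) (.leaf [1, 1, 930724, 4685548, 1, 2443836])) (.node (.leaf [1, 29, 546180, 654916, 29, 2435382]) (.leaf []))))) (.node (.node (.node (.node (.leaf [0, 2, 592888, 1136370, 2, 0]) (.leaf [0, 8, 5790, 2038, 8, 0])) (.node (.leaf [0, 46, 988196, 131880, 46, 0]) (.leaf [1, 1, 4531086, 980428, 5, 766170]))) (.node (.node (.leaf [1, 30, 1844314, 1226922, 12, 609344]) (.leaf [1, 5, 111222, 1770742, 44, 486042]))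 (.node (.leaf [1, 29, 3633450, 1669654, 44, 205974]) (.leaf [])))) (.node (.node (.node (.leaf [1, 2, 198084, 66206, 8, 592712]) (.leaf [1, 5, 4039526, 1690074, 1, 2963242])) (.node (.leaf [1, 22, 881178, 867918, 4, 5941244]) (.leaf [1, 5, 5417532, 4181074, 1, 1018194]))) (.node (.node (.leaf [1, 1, 4619172, 0, 36, 0]) (.leaf [1, 5, 136804, 1541544, 2, 1345846])) (.node (.leaf [0, 8, 5266, 6700, 8, 0]) (.leaf []))))))) (.node (.node (.node (.node (.node (.node (.leaf [1, 1, 609168, 1259850, 3, 82674]) (.leaf [0, 8, 69082, 69082, 8, 0])) (.node (.leaf [1, 43, 741234, 724416, 1, 141468]) (.leaf [1, 1, 1843574, 3933896, 5, 5454076]))) (.node (.node (.leaf [1, 8, 675380, 527194, 1, 1581412]) (.leaf [1, 4, 5004896, 6755620, 5, 5833180])) (.node (.leaf [1, 23, 197918, 4649452, 29, 4684176]) (.leaf [1, 5, 160550, 1215394, 2, 135020])))) (.node (.node (.node (.leaf [0, 2, 1185426, 2329998, 2, 0]) (.leaf [1, 8, 4618154, 2123410, 1, 2105932])) (.node (.leaf [1,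 1, 1054212, 329788, 22, 74088]) (.leaf [1, 2, 4739212, 4355946, 5, 7027900]))) (.node (.node (.leaf [1, 33, 1317124, 461342, 2, 527724]) (.leaf [1, 5, 7240928, 2557994, 5, 1337754])) (.node (.leaf [1, 29, 4975890, 3853112, 12, 404376]) (.leaf []))))) (.node (.node (.node (.node (.leaf [0, 2, 1580898, 3037962, 2, 0]) (.leaf [0, 8, 71292, 72194, 8, 0])) (.node (.leaf [0, 10, 724422, 1384496, 9, 658728]) (.leaf [1, 1, 6580726, 2554116, 1, 5958148]))) (.node (.node (.leaf [1, 30, 724588, 2576616, 23, 198576]) (.leaf [1, 8, 6644812, 7007366, 4, 274198])) (.node (.leaf [1, 17, 1136374, 477814, 17, 3309600]) (.leaf [])))) (.node (.node (.node (.leaf [0, 3, 987840, 197924, 3, 0]) (.leaf [1, 17, 4312198, 6455278, 4, 6218524])) (.node (.leaf [1, 8, 1646400, 988848, 42, 396656]) (.leaf [1, 5, 4492994, 6241422, 1, 1125916]))) (.node (.node (.leaf [1, 33, 4083576, 66534, 30, 724772]) (.leaf [1, 1, 4419154, 6790986, 1, 2308914])) (.node (.leaf [1, 1, 288136, 2500562,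 22, 6500306]) (.leaf [])))))) (.node (.node (.node (.node (.node (.leaf [0, 2, 1588782, 1333926, 2, 0]) (.leaf [0, 8, 1350, 69684, 8, 0])) (.node (.leaf [1, 8, 273176, 462504, 44, 131880]) (.leaf [1, 5, 3145482, 1261126, 1, 6189124]))) (.node (.node (.leaf [1, 1, 1054034, 197580, 29, 1054044]) (.leaf [1, 37, 988190, 4221716, 5, 3107236])) (.node (.leaf [1, 17, 2453136, 3699036, 2, 1055216]) (.leaf [])))) (.node (.node (.node (.leaf [0, 2, 3836118, 2181666, 2, 0]) (.leaf [1, 4, 6841506, 6136590, 29, 4319352])) (.node (.leaf [1, 5, 403726, 693004, 9, 1094858]) (.leaf [1, 1, 569964, 2609608, 5, 2243064]))) (.node (.node (.leaf [1, 33, 1317476, 808696, 34, 264434]) (.leaf [1, 1, 5710222, 1815830, 36, 592878])) (.node (.leaf [1, 22, 4527024, 1131464, 46, 329634]) (.leaf []))))) (.node (.node (.node (.node (.leaf [0, 2, 1136370, 592888, 2, 0]) (.leaf [1, 29, 1905982, 6731880, 17, 2072858])) (.node (.leaf [1, 47, 420842, 593720, 31, 16818]) (.leaf [1, 1, 5006456,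 6019730, 5, 994418]))) (.node (.node (.leaf [1, 12, 1589452, 1581722, 4, 164998]) (.leaf [1, 5, 1901186, 1069846, 5, 272664])) (.node (.leaf [0, 1, 4488328, 4751534, 1, 0]) (.leaf [])))) (.node (.node (.node (.leaf [0, 15, 263776, 1317294, 15, 395644]) (.leaf [1, 5, 7100476, 493912, 4, 683256])) (.node (.leaf [1, 16, 790440, 2434884, 29, 4357428]) (.leaf [1, 1, 3217340, 905666, 1, 4289760]))) (.node (.node (.leaf [1, 8, 1358628, 864372, 39, 790950]) (.leaf [1, 5, 3692722, 7481494, 2, 826558])) (.node (.leaf [0, 8, 70094, 4240, 8, 0]) (.leaf [])))))))) (.node (.node (.node (.node (.node (.node (.node (.leaf [1, 2, 66024, 66202, 1, 724590]) (.leaf [0, 8, 5568, 70024, 8, 0])) (.node (.leaf [1, 30, 659234, 527202, 39, 988346]) (.leaf [1, 8, 5434072, 1317322, 1, 361348]))) (.node (.node (.leaf [0, 5, 2049936, 2049936, 5, 0]) (.leaf [1, 5, 4277408, 3705096, 4, 6980576])) (.node (.leaf [1, 30, 1008, 936676, 29, 2972104]) (.leaf [1, 5, 7290208, 737412, 1, 4882354]))))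 (.node (.node (.node (.leaf [0, 2, 881178, 461008, 2, 0]) (.leaf [1, 17, 3309264, 7390260, 36, 5928114])) (.node (.leaf [1, 47, 997926, 516, 42, 197924]) (.leaf [1, 1, 7293440, 6145526, 1, 3029686]))) (.node (.node (.leaf [1, 23, 790626, 1317124, 33, 922488]) (.leaf [1, 36, 4611926, 295488, 5, 2955850])) (.node (.leaf [1, 29, 3145900, 6395580, 4, 839678]) (.leaf []))))) (.node (.node (.node (.node (.leaf [0, 2, 82674, 1975680, 2, 0]) (.leaf [0, 8, 70732, 73926, 8, 0])) (.node (.leaf [1, 47, 1071672, 2305634, 8, 1852554]) (.leaf [1, 5, 7192902, 4433326, 1, 5391548]))) (.node (.node (.leaf [1, 23, 921984, 214382, 12, 988514]) (.leaf [1, 22, 5266256, 1486360, 5, 333648])) (.node (.leaf [0, 46, 3517436, 3171536, 46, 0]) (.leaf [])))) (.node (.node (.node (.leaf [0, 2, 1210440, 25038, 2, 0]) (.leaf [1, 4, 255548, 2545416, 4, 5248898])) (.node (.leaf [1, 42, 972384, 6068948, 42, 2008964]) (.leaf [1, 5, 2716068, 5162848, 5, 54856]))) (.node (.node (.leaf [1,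 11, 461344, 346, 33, 1252272]) (.leaf [1, 4, 4111278, 5097342, 1, 1069092])) (.node (.leaf [1, 23, 66214, 4996010, 22, 7110902]) (.leaf [])))))) (.node (.node (.node (.node (.node (.leaf [0, 6, 214374, 16800, 6, 197574]) (.leaf [0, 8, 1310, 68384, 8, 0])) (.node (.leaf [1, 8, 602456, 987842, 45, 1399782]) (.leaf [1, 5, 3743510, 1830758, 1, 7162790]))) (.node (.node (.leaf [1, 23, 988516, 352, 15, 395144]) (.leaf [1, 5, 7346122, 1394414, 4, 4609424])) (.node (.leaf [1, 29, 2515086, 975650, 39, 66540]) (.leaf [1, 8, 1683198, 7111938, 1, 7149286])))) (.node (.node (.node (.leaf [0, 2, 1794918, 1119570, 2, 0]) (.leaf [1, 1, 3678576, 446518, 17, 1233094])) (.node (.leaf [1, 42, 1514688, 988012, 42, 1144604]) (.leaf [1, 1, 4599702, 766544, 1, 5537460]))) (.node (.node (.leaf [1, 34, 263782, 700902, 23, 197918]) (.leaf [1, 1, 5521162, 6896198, 5, 6348032])) (.node (.leaf [1, 39, 1317476, 980424, 29, 2098902]) (.leaf []))))) (.node (.node (.node (.node (.leaf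 [0, 2, 2049942, 1054038, 2, 0]) (.leaf [1, 17, 1621442, 5323900, 37, 329288])) (.node (.leaf [1, 47, 2124042, 264098, 42, 2127048]) (.leaf [1, 1, 3342912, 6976622, 2, 4548352]))) (.node (.node (.leaf [1, 28, 658732, 1909830, 1, 1432722]) (.leaf [1, 5, 1890406, 7484882, 5, 1382314])) (.node (.leaf [1, 1, 4084592, 1522066, 8, 4091484]) (.leaf [])))) (.node (.node (.node (.leaf [1, 10, 0, 0, 1, 1523278]) (.leaf [1, 5, 937442, 6645922, 1, 395480])) (.node (.leaf [1, 4, 1617506, 100132, 4, 2777694]) (.leaf [1, 1, 2508110, 2492646, 5, 1973716]))) (.node (.node (.leaf [0, 37, 0, 132058, 37, 132390]) (.leaf [1, 5, 826194, 5837856, 2, 1521464])) (.node (.leaf [0, 8, 67888, 3592, 8, 0]) (.leaf []))))))) (.node (.node (.node (.node (.node (.node (.leaf [0, 4, 65862, 724416, 4, 0]) (.leaf [0, 8, 3592, 67888, 8, 0])) (.node (.leaf [1, 45, 1720662, 659576, 46, 872946]) (.leaf [1, 5, 6635212, 1828916, 1, 953674]))) (.node (.node (.leaf [1, 26, 132732, 263424, 1, 33286])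 (.leaf [1, 5, 71814, 141470, 5, 5583290])) (.node (.leaf [1, 23, 790452, 2434888, 29, 3904326]) (.leaf [1, 1, 4564200, 7207924, 1, 6881866])))) (.node (.node (.node (.leaf [0, 2, 3861160, 1514704, 2, 0]) (.leaf [1, 1, 1037254, 1229692, 1, 2361456])) (.node (.leaf [1, 22, 2379048, 460998, 22, 411956]) (.leaf [1, 1, 533802, 1817950, 1, 2784294]))) (.node (.node (.leaf [1, 4, 848252, 108204, 12, 2504888]) (.leaf [1, 5, 6898898, 4727568, 5, 3627620])) (.node (.leaf [1, 29, 1240530, 4807748, 29, 2769672]) (.leaf []))))) (.node (.node (.node (.node (.leaf [0, 2, 1539738, 1317136, 2, 0]) (.leaf [0, 8, 7518, 6436, 8, 0])) (.node (.leaf [1, 50, 485696, 724762, 49, 1580886]) (.leaf [1, 5, 4780758, 736476, 5, 3611426]))) (.node (.node (.leaf [1, 23, 330300, 1193652, 16, 49394]) (.leaf [1, 5, 7039958, 142662, 5, 6755164])) (.node (.leaf [1, 42, 1400316, 1060592, 8, 2239106]) (.leaf [])))) (.node (.node (.node (.leaf [1, 4, 264944, 658562, 5, 593054]) (.leaf [1,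 5, 796826, 6308782, 1, 946680])) (.node (.leaf [1, 1, 1713776, 3160860, 4, 1057206]) (.leaf [1, 5, 7318524, 5377420, 1, 6199134]))) (.node (.node (.leaf [1, 33, 3235684, 190344, 2, 3368254]) (.leaf [1, 1, 1589788, 4993772, 5, 3433528])) (.node (.leaf [0, 8, 2770, 1158, 8, 0]) (.leaf [])))))) (.node (.node (.node (.node (.node (.leaf [0, 2, 1342168, 403536, 2, 0]) (.leaf [0, 8, 6344, 5430, 8, 0])) (.node (.leaf [1, 46, 1317134, 1317290, 21, 1514688]) (.leaf [1, 1, 668180, 4595846, 5, 7149316]))) (.node (.node (.leaf [1, 30, 791790, 133224, 1, 1030962]) (.leaf [1, 5, 203952, 5464284, 17, 1494838])) (.node (.leaf [1, 42, 2454656, 4304224, 29, 1450848]) (.leaf [])))) (.node (.node (.node (.leaf [0, 2, 2198286, 535264, 2, 0]) (.leaf [1, 4, 7109422, 1565092, 29, 658560])) (.node (.leaf [1, 2, 1202888, 5840910, 9, 2000724]) (.leaf [1, 5, 2644336, 7094046, 1, 5892314]))) (.node (.node (.leaf [1, 34, 856808, 1145268, 30, 1333930]) (.leaf [1, 1, 7478410, 752650,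 5, 333088])) (.node (.leaf [1, 22, 1480512, 940784, 44, 1342168]) (.leaf []))))) (.node (.node (.node (.node (.leaf [0, 2, 329622, 1803162, 2, 0]) (.leaf [1, 17, 3737066, 4696854, 29, 2456856])) (.node (.leaf [0, 20, 0, 2454654, 17, 543312]) (.leaf [1, 2, 4178214, 4937790, 1, 800600]))) (.node (.node (.leaf [1, 1, 108978, 1210272, 12, 1655652]) (.leaf [1, 5, 1399786, 6703218, 5, 2805012])) (.node (.leaf [0, 1, 6644822, 6644822, 1, 0]) (.leaf [])))) (.node (.node (.node (.leaf [1, 1, 214032, 67368, 18, 1317124]) (.leaf [1, 1, 617410, 6094432, 5, 6767436])) (.node (.leaf [1, 29, 4423284, 226482, 30, 263780]) (.leaf [1, 5, 2534630, 4896838, 1, 5276716]))) (.node (.node (.leaf [1, 37, 329288, 272676, 39, 724420]) (.leaf [1, 1, 1382602, 7126478, 1, 1827396])) (.node (.leaf [0, 8, 6926, 71280, 8, 0]) (.leaf []))))))))) (.node (.node (.node (.node (.node (.node (.node (.node (.leaf [0, 2, 329632, 724422, 2, 0]) (.leaf [0, 8, 68204, 73230, 8, 0])) (.node (.leaf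 [1, 39, 790946, 238728, 33, 3302394]) (.leaf [1, 5, 732428, 1384266, 1, 641722]))) (.node (.node (.leaf [0, 5, 1401400, 1401400, 5, 0]) (.leaf [1, 5, 205442, 4381998, 5, 4859500])) (.node (.leaf [1, 16, 8246, 31158, 29, 1780812]) (.leaf [1, 1, 6338714, 406840, 1, 2203112])))) (.node (.node (.node (.leaf [0, 2, 1794930, 658746, 2, 0]) (.leaf [1, 36, 5071988, 4409700, 8, 215040])) (.node (.leaf [1, 50, 131714, 593216, 8, 1722006]) (.leaf [1, 5, 1391588, 6826382, 1, 4184996]))) (.node (.node (.leaf [1, 33, 593210, 659580, 23, 593724]) (.leaf [1, 5, 2102150, 5780106, 5, 1974780])) (.node (.leaf [1, 29, 2959050, 4266790, 23, 1317128]) (.leaf []))))) (.node (.node (.node (.node (.leaf [0, 2, 1210458, 922326, 2, 0]) (.leaf [0, 8, 3598, 1858, 8, 0])) (.node (.leaf [1, 5, 734172, 1516, 42, 1382976]) (.leaf [1, 5, 4644234, 3095184, 5, 2646922]))) (.node (.node (.leaf [1, 26, 263436, 131714, 12, 593382]) (.leaf [1, 17, 3112050, 3222434, 5, 5659556])) (.node (.leaf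 [1, 2, 1795250, 2601602, 29, 1536612]) (.leaf [])))) (.node (.node (.node (.leaf [0, 2, 2387296, 864544, 2, 0]) (.leaf [1, 4, 5793420, 1619084, 29, 1789212])) (.node (.leaf [1, 42, 289304, 1590794, 42, 1267728]) (.leaf [1, 5, 6759044, 743920, 1, 7291876]))) (.node (.node (.leaf [1, 4, 10252, 790776, 33, 4093158]) (.leaf [1, 44, 732822, 2563230, 1, 3044772])) (.node (.leaf [1, 22, 5644178, 1826470, 29, 1712430]) (.leaf [])))))) (.node (.node (.node (.node (.node (.leaf [0, 4, 263776, 263776, 4, 0]) (.leaf [0, 8, 4866, 7834, 8, 0])) (.node (.leaf [1, 50, 0, 0, 1, 214538]) (.leaf [1, 1, 3473796, 6369320, 1, 6372260]))) (.node (.node (.leaf [1, 15, 462516, 329282, 23, 592704]) (.leaf [1, 5, 5243434, 5342220, 4, 3662744])) (.node (.leaf [1, 29, 1073028, 1082666, 30, 1909842]) (.leaf [1, 1, 6783514, 1466538, 1, 7320264])))) (.node (.node (.node (.leaf [0, 2, 1144602, 131728, 2, 0]) (.leaf [1, 29, 2315728, 3148024, 1, 3148876])) (.node (.leaf [1, 22, 881178,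 263436, 31, 2453144]) (.leaf [1, 5, 7315776, 1224038, 1, 6043800]))) (.node (.node (.leaf [1, 34, 264108, 815988, 23, 791292]) (.leaf [1, 1, 7098690, 1016822, 1, 207654])) (.node (.leaf [1, 37, 197736, 965090, 29, 2294436]) (.leaf []))))) (.node (.node (.node (.node (.leaf [0, 2, 3819816, 2371000, 2, 0]) (.leaf [1, 23, 329460, 6981160, 17, 1275698])) (.node (.leaf [1, 1, 1926800, 988196, 42, 724772]) (.leaf [1, 1, 2915314, 1117824, 5, 2171566]))) (.node (.node (.leaf [1, 23, 1400952, 535432, 1, 3959592]) (.leaf [1, 44, 2445088, 4005648, 5, 2040656])) (.node (.leaf [1, 1, 288136, 3651054, 42, 3358832]) (.leaf [])))) (.node (.node (.node (.leaf [0, 8, 12, 65860, 8, 0]) (.leaf [1, 8, 4025450, 2455224, 5, 665618])) (.node (.leaf [1, 4, 2050452, 5579106, 4, 3517754]) (.leaf [1, 1, 3304064, 1229774, 5, 571206]))) (.node (.node (.leaf [1, 1, 1432380, 337530, 36, 263778]) (.leaf [1, 4, 3874252, 6418582, 2, 941806])) (.node (.leaf [0, 8, 4630, 66390, 8, 0]) (.leaf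 []))))))) (.node (.node (.node (.node (.node (.node (.leaf [0, 4, 0, 329632, 4, 724422]) (.leaf [0, 8, 752, 536, 8, 0])) (.node (.leaf [1, 45, 1992498, 659576, 42, 16818]) (.leaf [1, 5, 4277408, 104932, 1, 3942130]))) (.node (.node (.leaf [1, 22, 0, 0, 1, 1523426]) (.leaf [1, 1, 3200788, 4846724, 5, 7018588])) (.node (.leaf [1, 23, 594224, 1924662, 29, 2512776]) (.leaf [1, 1, 5477942, 5922064, 5, 3679898])))) (.node (.node (.node (.leaf [0, 2, 2190054, 2313376, 2, 0]) (.leaf [1, 29, 593208, 3461824, 1, 1159090])) (.node (.leaf [1, 22, 2370824, 1317800, 22, 1292424]) (.leaf [1, 2, 3177224, 613684, 1, 7116594]))) (.node (.node (.leaf [1, 30, 725928, 527204, 33, 988346]) (.leaf [1, 5, 2770868, 3587368, 5, 538548])) (.node (.leaf [1, 29, 1833444, 396966, 29, 3965952]) (.leaf []))))) (.node (.node (.node (.node (.leaf [0, 2, 807078, 1061946, 2, 0]) (.leaf [0, 8, 4420, 72198, 8, 0])) (.node (.leaf [1, 22, 469232, 1317624, 8, 1259670]) (.leaf [1, 1, 543986,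 4342722, 1, 6826620]))) (.node (.node (.leaf [1, 4, 839678, 419836, 30, 592712]) (.leaf [1, 8, 5632278, 141542, 5, 6952732])) (.node (.leaf [1, 42, 1927164, 2191702, 29, 2185806]) (.leaf [])))) (.node (.node (.node (.leaf [1, 1, 1251622, 3029730, 4, 1119906]) (.leaf [1, 5, 2061772, 2891732, 2, 2108268])) (.node (.leaf [1, 42, 1039584, 5938882, 17, 3567648]) (.leaf [1, 5, 7318432, 2195432, 8, 1645752]))) (.node (.node (.leaf [1, 33, 3097086, 1342324, 1, 436634]) (.leaf [1, 1, 3784714, 6371708, 5, 7284970])) (.node (.leaf [0, 8, 69302, 2778, 8, 0]) (.leaf [])))))) (.node (.node (.node (.node (.node (.leaf [0, 2, 214386, 1646754, 2, 0]) (.leaf [0, 8, 72778, 5426, 8, 0])) (.node (.leaf [1, 22, 1992498, 462004, 46, 996080]) (.leaf [1, 5, 6055198, 3366328, 1, 5923154]))) (.node (.node (.leaf [1, 2, 2108268, 989364, 29, 1383326]) (.leaf [1, 17, 2023066, 5078262, 5, 135458])) (.node (.leaf [1, 42, 857648, 2950894, 29, 2843544]) (.leaf [])))) (.node (.node (.node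 (.leaf [0, 2, 1720674, 3861150, 2, 0]) (.leaf [1, 4, 6839524, 472428, 8, 2181502])) (.node (.leaf [1, 9, 1136372, 1713770, 4, 272164]) (.leaf [1, 5, 6028828, 6069890, 2, 5168570]))) (.node (.node (.leaf [1, 23, 66528, 634210, 34, 131888]) (.leaf [1, 1, 6312946, 1511816, 36, 658562])) (.node (.leaf [1, 1, 403872, 1125086, 22, 5231886]) (.leaf []))))) (.node (.node (.node (.node (.leaf [0, 2, 1803162, 329622, 2, 0]) (.leaf [1, 17, 1299286, 5653180, 36, 396648])) (.node (.leaf [1, 50, 741228, 1383480, 50, 2181488]) (.leaf [1, 5, 5167694, 6290814, 1, 7066962]))) (.node (.node (.leaf [1, 12, 725936, 83840, 12, 5342926]) (.leaf [1, 8, 223784, 1086000, 5, 921072])) (.node (.leaf [0, 1, 6674602, 297070, 1, 0]) (.leaf [])))) (.node (.node (.node (.leaf [1, 1, 1399776, 1399792, 16, 922338]) (.leaf [1, 5, 5723140, 7459046, 1, 2954828])) (.node (.leaf [1, 29, 2184984, 393642, 12, 1383648]) (.leaf [1, 1, 905762, 1282108, 5, 165030]))) (.node (.node (.leaf [1, 39,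 132062, 1318130, 1, 602618]) (.leaf [1, 1, 3696900, 6658566, 1, 4243538])) (.node (.leaf [0, 8, 73062, 898, 8, 0]) (.leaf [])))))))) (.node (.node (.node (.node (.node (.node (.node (.leaf [0, 2, 988192, 460998, 2, 0]) (.leaf [0, 8, 72686, 3190, 8, 0])) (.node (.leaf [1, 39, 132222, 345744, 1, 428404]) (.leaf [1, 1, 5059896, 4514734, 1, 459068]))) (.node (.node (.leaf [0, 18, 0, 1004472, 8, 82674]) (.leaf [1, 4, 1424648, 2266128, 5, 3880594])) (.node (.leaf [1, 29, 1121910, 2153314, 23, 791292]) (.leaf [1, 1, 5562594, 972200, 1, 3575758])))) (.node (.node (.node (.leaf [0, 2, 1317138, 2585202, 2, 0]) (.leaf [1, 1, 5200828, 5258884, 1, 675366])) (.node (.leaf [1, 47, 1844136, 922996, 8, 675528]) (.leaf [1, 1, 78330, 4844562, 5, 3956642]))) (.node (.node (.leaf [1, 30, 922338, 1251620, 33, 330800]) (.leaf [1, 4, 5924116, 5104318, 5, 1717796])) (.node (.leaf [1, 29, 3618238, 4515026, 1, 90572]) (.leaf []))))) (.node (.node (.node (.node (.leaf [0, 2, 955086,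 601288, 2, 0]) (.leaf [0, 8, 71282, 6922, 8, 0])) (.node (.leaf [1, 44, 1333584, 1383146, 22, 724416]) (.leaf [1, 5, 4464024, 6429172, 1, 2331586]))) (.node (.node (.leaf [1, 1, 675366, 2115642, 23, 174]) (.leaf [1, 17, 2840040, 2593746, 5, 6449828])) (.node (.leaf [1, 2, 265104, 3981270, 17, 700896]) (.leaf [])))) (.node (.node (.node (.leaf [1, 1, 527022, 1449000, 7, 140112]) (.leaf [1, 36, 356, 1994852, 4, 5652266])) (.node (.leaf [1, 9, 1580896, 4025800, 42, 609526]) (.leaf [1, 1, 5035646, 5524668, 1, 6384578]))) (.node (.node (.leaf [1, 33, 1515696, 480146, 23, 592878]) (.leaf [1, 1, 2089860, 4899050, 5, 562688])) (.node (.leaf [1, 29, 5372328, 6153236, 22, 5125126]) (.leaf [])))))) (.node (.node (.node (.node (.node (.leaf [0, 2, 1926640, 930232, 2, 0]) (.leaf [0, 8, 71428, 73064, 8, 0])) (.node (.leaf [1, 5, 1911188, 132064, 44, 1852374]) (.leaf [1, 1, 6053980, 6800742, 5, 4250702]))) (.node (.node (.leaf [1, 28, 395488, 263426, 28, 264432]) (.leaf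 [1, 5, 15458, 514978, 5, 6428842])) (.node (.leaf [1, 39, 66532, 6876196, 29, 1656648]) (.leaf [1, 1, 1626628, 1770090, 1, 4616536])))) (.node (.node (.node (.leaf [0, 2, 3498768, 1251448, 2, 0]) (.leaf [1, 1, 4074380, 6335252, 4, 7297130])) (.node (.leaf [1, 44, 460992, 1382984, 5, 1251610]) (.leaf [1, 1, 6441888, 5282888, 2, 557822]))) (.node (.node (.leaf [1, 8, 2049790, 2181484, 34, 462512]) (.leaf [1, 1, 4649458, 6179694, 1, 6311434])) (.node (.leaf [1, 44, 790272, 5082154, 22, 4765170]) (.leaf []))))) (.node (.node (.node (.node (.leaf [0, 2, 2568400, 3515400, 2, 0]) (.leaf [1, 17, 3786458, 7196952, 12, 594218])) (.node (.leaf [0, 32, 0, 1317474, 31, 396656]) (.leaf [1, 2, 5382558, 5946094, 1, 3982256]))) (.node (.node (.leaf [1, 30, 658906, 214200, 12, 527024]) (.leaf [1, 36, 5137594, 56404, 5, 530536])) (.node (.leaf [0, 1, 749920, 7135594, 1, 0]) (.leaf [])))) (.node (.node (.node (.leaf [0, 11, 1382976, 1382976, 11, 0]) (.leaf [1, 1, 2650704,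 495672, 5, 814634])) (.node (.leaf [1, 29, 5348928, 2463416, 4, 4149266]) (.leaf [1, 1, 499360, 3898860, 8, 4687290]))) (.node (.node (.leaf [1, 37, 790782, 197736, 12, 593380]) (.leaf [1, 1, 4555430, 4799478, 2, 4369904])) (.node (.leaf [0, 8, 66384, 66602, 8, 0]) (.leaf []))))))) (.node (.node (.node (.node (.node (.node (.leaf [0, 5, 594216, 594216, 5, 0]) (.leaf [0, 8, 71436, 73056, 8, 0])) (.node (.leaf [1, 45, 197586, 593720, 47, 2124042]) (.leaf [1, 5, 5243434, 736504, 1, 2423248]))) (.node (.node (.leaf [1, 1, 148530, 658568, 11, 922334]) (.leaf [1, 1, 436634, 7005448, 5, 5698844])) (.node (.leaf [1, 8, 3754136, 5662894, 29, 3622254]) (.leaf [1, 1, 167466, 3673900, 1, 1352996])))) (.node (.node (.node (.leaf [0, 2, 1193826, 3828234, 2, 0]) (.leaf [1, 1, 4913044, 6491450, 29, 3635238])) (.node (.leaf [1, 8, 1515366, 396648, 22, 1382978]) (.leaf [1, 1, 1242176, 5504872, 5, 6043678]))) (.node (.node (.leaf [1, 34, 131886, 1647918, 16, 1391222])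 (.leaf [1, 5, 3692722, 6329998, 36, 66866])) (.node (.leaf [1, 29, 4006986, 1491218, 29, 1846668]) (.leaf []))))) (.node (.node (.node (.node (.leaf [0, 2, 1465648, 2765952, 2, 0]) (.leaf [0, 8, 72048, 7656, 8, 0])) (.node (.leaf [1, 48, 1399790, 1317624, 47, 807090]) (.leaf [1, 5, 5017268, 221994, 1, 1483118]))) (.node (.node (.leaf [1, 23, 263936, 330292, 1, 1037254]) (.leaf [0, 37, 1292324, 3515572, 5, 985758])) (.node (.leaf [1, 30, 1383986, 4038462, 42, 1788364]) (.leaf [])))) (.node (.node (.node (.leaf [1, 8, 987840, 198578, 4, 1008]) (.leaf [1, 1, 57978, 7199932, 5, 796604])) (.node (.leaf [1, 4, 3707910, 5322970, 22, 1382982]) (.leaf [1, 1, 674038, 2752016, 1, 2406604]))) (.node (.node (.leaf [1, 33, 339032, 924674, 30, 1333930]) (.leaf [1, 5, 3027276, 1949464, 5, 1779744])) (.node (.leaf [0, 8, 68294, 70478, 8, 0]) (.leaf [])))))) (.node (.node (.node (.node (.node (.leaf [0, 2, 1909824, 2774358, 2, 0]) (.leaf [0, 8, 72292, 73374, 8, 0])) (.node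 (.leaf [1, 47, 485862, 593720, 32, 82674]) (.leaf [1, 5, 2818988, 2263816, 1, 4874862]))) (.node (.node (.leaf [1, 30, 197736, 988196, 30, 659570]) (.leaf [1, 5, 6050942, 6797266, 4, 102828])) (.node (.leaf [1, 42, 3113216, 6027890, 29, 50404]) (.leaf [])))) (.node (.node (.node (.leaf [0, 2, 74274, 551880, 2, 0]) (.leaf [1, 4, 5782554, 2081110, 29, 4006482])) (.node (.leaf [1, 2, 2438364, 1318132, 9, 148524]) (.leaf [1, 2, 6409082, 2091836, 1, 375392]))) (.node (.node (.leaf [1, 34, 1909998, 874110, 30, 271668]) (.leaf [1, 1, 5260936, 2423668, 36, 988520])) (.node (.leaf [1, 22, 3646200, 3240900, 22, 1054054]) (.leaf []))))) (.node (.node (.node (.node (.leaf [0, 2, 2049936, 2049936, 2, 0]) (.leaf [1, 4, 1427164, 2512588, 17, 1670834])) (.node (.leaf [0, 19, 0, 699726, 17, 3045840]) (.leaf [1, 5, 5873676, 5652726, 5, 335188]))) (.node (.node (.leaf [1, 33, 987840, 1657490, 4, 683256]) (.leaf [1, 5, 984362, 586576, 5, 778016])) (.node (.leaf [0, 30,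 1926646, 4054178, 29, 2558526]) (.leaf [])))) (.node (.node (.node (.leaf [0, 5, 1581558, 2436840, 5, 592710]) (.leaf [1, 4, 6048150, 6379738, 5, 5000812])) (.node (.leaf [1, 29, 3907428, 89660, 2, 2840556]) (.leaf [1, 1, 278762, 2758526, 1, 1326800]))) (.node (.node (.leaf [1, 33, 2775866, 272334, 39, 66528]) (.leaf [1, 1, 1623830, 3349670, 8, 5829208])) (.node (.leaf [0, 8, 2528, 67166, 8, 0]) (.leaf []))))))))))

/-- the facts, part 6 -/
def factTab6 : WTab :=
  (.node (.node (.node (.node (.node (.node (.node (.node (.node (.leaf [0, 2, 0, 197568, 2, 197568]) (.leaf [0, 8, 67168, 2522, 8, 0])) (.node (.leaf [1, 39, 6, 486042, 1, 304924]) (.leaf [1, 1, 5395094, 7021110, 5, 664778]))) (.node (.node (.leaf [0, 5, 1590624, 1590624, 5, 0]) (.leaf [1, 5, 139452, 3746164, 5, 7411978])) (.node (.leaf [1, 8, 3688280, 5220410, 29, 2713254]) (.leaf [1, 1, 4617702, 6145050, 8, 3770384])))) (.node (.node (.node (.leaf [0, 2, 90906, 477808, 2, 0]) (.leaf [0, 46,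 0, 2621756, 36, 6019480])) (.node (.leaf [1, 29, 740884, 4881586, 47, 469908]) (.leaf [1, 5, 4340558, 509942, 1, 2542550]))) (.node (.node (.leaf [1, 33, 1317126, 790944, 23, 199092]) (.leaf [1, 5, 918488, 3711730, 5, 3342998])) (.node (.leaf [1, 12, 527024, 2395702, 29, 3790482]) (.leaf []))))) (.node (.node (.node (.node (.leaf [0, 2, 1729074, 988176, 2, 0]) (.leaf [0, 8, 69042, 6826, 8, 0])) (.node (.leaf [0, 9, 131720, 593220, 9, 0]) (.leaf [1, 5, 6250388, 3186062, 5, 3088200]))) (.node (.node (.leaf [1, 28, 176, 8, 26, 66202]) (.leaf [1, 5, 6352858, 264184, 4, 1729232])) (.node (.leaf [1, 22, 741218, 724922, 17, 724426]) (.leaf [])))) (.node (.node (.node (.leaf [0, 2, 3045858, 749454, 2, 0]) (.leaf [1, 4, 6321680, 1349332, 29, 531678])) (.node (.leaf [1, 17, 2840394, 4547088, 1, 527532]) (.leaf [1, 1, 1445994, 3248880, 1, 1819240]))) (.node (.node (.leaf [1, 33, 1399944, 931736, 30, 1720492]) (.leaf [1, 5, 2032898, 137158, 1, 1999308])) (.node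 (.leaf [1, 22, 1843970, 1076754, 22, 2334604]) (.leaf [])))))) (.node (.node (.node (.node (.node (.leaf [0, 5, 461166, 461166, 5, 0]) (.leaf [0, 8, 68378, 1312, 8, 0])) (.node (.leaf [1, 1, 1055216, 724416, 49, 337512]) (.leaf [1, 37, 922330, 2854086, 1, 2298854]))) (.node (.node (.leaf [1, 16, 271664, 1259496, 1, 1400616]) (.leaf [1, 4, 174832, 861052, 5, 7239922])) (.node (.leaf [1, 16, 724758, 7171398, 29, 3451908]) (.leaf [1, 8, 6569584, 1433658, 1, 4745042])))) (.node (.node (.node (.leaf [0, 2, 543666, 197584, 2, 0]) (.leaf [1, 1, 3200788, 548186, 29, 2900364])) (.node (.leaf [1, 42, 988186, 132218, 22, 864362]) (.leaf [1, 8, 3208674, 2388624, 5, 4746802]))) (.node (.node (.leaf [1, 34, 659240, 989358, 11, 461344]) (.leaf [1, 1, 17140, 1837586, 1, 5342006])) (.node (.leaf [1, 29, 3311964, 6129814, 29, 3856338]) (.leaf []))))) (.node (.node (.node (.node (.leaf [0, 2, 1992480, 807090, 2, 0]) (.leaf [0, 8, 71790, 1690, 8, 0])) (.node (.leaf [0,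 46, 396656, 1317474, 46, 0]) (.leaf [1, 5, 766170, 5268414, 1, 4802122]))) (.node (.node (.leaf [1, 12, 609344, 1860788, 30, 1193652]) (.leaf [1, 5, 167634, 1244564, 44, 790272])) (.node (.leaf [1, 29, 4028586, 1914262, 17, 2840040]) (.leaf [])))) (.node (.node (.node (.leaf [1, 8, 593388, 329636, 8, 923498]) (.leaf [1, 1, 2963242, 3992942, 5, 4894956])) (.node (.leaf [1, 8, 2181834, 3613142, 4, 2713122]) (.leaf [1, 1, 1249558, 433622, 5, 6019272]))) (.node (.node (.leaf [1, 36, 0, 0, 1, 5345104]) (.leaf [1, 2, 623370, 1933914, 8, 1416262])) (.node (.leaf [0, 8, 474, 4246, 8, 0]) (.leaf []))))))) (.node (.node (.node (.node (.node (.node (.leaf [1, 3, 82674, 1259850, 1, 486042]) (.leaf [0, 8, 5570, 70022, 8, 0])) (.node (.leaf [1, 1, 141468, 724416, 43, 337512]) (.leaf [1, 5, 5454076, 6631402, 1, 2422886]))) (.node (.node (.leaf [0, 17, 543666, 2049936, 17, 197568]) (.leaf [1, 5, 5833180, 335450, 4, 4254036])) (.node (.leaf [1, 29, 2504046, 3074810,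 23, 1384492]) (.leaf [1, 5, 2152950, 1329532, 1, 4543410])))) (.node (.node (.node (.leaf [0, 2, 526866, 1737294, 2, 0]) (.leaf [1, 1, 2105932, 4506752, 8, 5342586])) (.node (.leaf [1, 22, 987842, 395316, 42, 2568740]) (.leaf [1, 5, 7027900, 7223056, 2, 3683430]))) (.node (.node (.leaf [1, 2, 527724, 198076, 33, 988198]) (.leaf [1, 5, 5977770, 1518454, 5, 1776864])) (.node (.leaf [1, 12, 404376, 984702, 29, 4270782]) (.leaf []))))) (.node (.node (.node (.node (.leaf [0, 2, 1465638, 2370984, 2, 0]) (.leaf [0, 8, 69786, 67556, 8, 0])) (.node (.leaf [0, 10, 0, 1384496, 9, 988194]) (.leaf [1, 1, 5958148, 5774632, 1, 6557628]))) (.node (.node (.leaf [1, 23, 1383652, 1975694, 8, 3161432]) (.leaf [1, 5, 662928, 214396, 8, 5649072])) (.node (.leaf [1, 17, 3177888, 2972104, 17, 1267730]) (.leaf [])))) (.node (.node (.node (.leaf [0, 3, 131714, 1317294, 3, 0]) (.leaf [1, 4, 5924116, 3263566, 22, 6672486])) (.node (.leaf [1, 42, 1144248, 988020, 22, 1514688]) (.leaf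 [1, 1, 1125916, 3200746, 5, 4756754]))) (.node (.node (.leaf [1, 30, 264948, 461338, 33, 4413528]) (.leaf [1, 1, 3239808, 7030350, 1, 5279846])) (.node (.leaf [1, 36, 132722, 6100374, 22, 3851436]) (.leaf [])))))) (.node (.node (.node (.node (.node (.leaf [0, 2, 1399794, 1909840, 2, 0]) (.leaf [0, 8, 904, 73068, 8, 0])) (.node (.leaf [1, 44, 131880, 462504, 8, 807744]) (.leaf [1, 1, 6189124, 2561832, 5, 3342774]))) (.node (.node (.leaf [0, 29, 197574, 214376, 29, 1654644]) (.leaf [1, 5, 6497510, 6828274, 17, 2286790])) (.node (.leaf [1, 2, 1055216, 743236, 17, 2437026]) (.leaf [])))) (.node (.node (.node (.leaf [0, 2, 2379390, 3515416, 2, 0]) (.leaf [1, 29, 4319352, 6418596, 4, 6096422])) (.node (.leaf [1, 9, 1094858, 4678812, 5, 667800]) (.leaf [1, 1, 1162668, 5997562, 1, 4376526]))) (.node (.node (.leaf [1, 34, 264434, 1333590, 33, 988850]) (.leaf [1, 36, 592878, 2793468, 1, 6221762])) (.node (.leaf [1, 22, 2336730, 1188752, 46, 872946]) (.leaf [])))))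 (.node (.node (.node (.node (.leaf [0, 2, 2190066, 263766, 2, 0]) (.leaf [1, 1, 773822, 5782932, 17, 2089322])) (.node (.leaf [1, 31, 263778, 782040, 47, 1656144]) (.leaf [1, 2, 2743056, 4357176, 1, 5031216]))) (.node (.node (.leaf [1, 12, 1786702, 2436692, 12, 346]) (.leaf [1, 5, 272664, 1080152, 5, 1249760])) (.node (.leaf [0, 1, 565356, 1286492, 1, 0]) (.leaf [])))) (.node (.node (.node (.leaf [0, 15, 923496, 1317294, 15, 0]) (.leaf [1, 4, 683256, 6726236, 5, 6453874])) (.node (.leaf [1, 29, 1263822, 817890, 12, 3114724]) (.leaf [1, 1, 4170998, 1693792, 5, 6125838]))) (.node (.node (.leaf [1, 39, 790950, 2110082, 8, 1045820]) (.leaf [0, 4, 0, 4696298, 1, 3597914])) (.node (.leaf [0, 8, 4624, 2434, 8, 0]) (.leaf [])))))))) (.node (.node (.node (.node (.node (.node (.node (.leaf [1, 1, 724590, 66534, 2, 131880]) (.leaf [0, 8, 72200, 71286, 8, 0])) (.node (.leaf [1, 39, 1516, 1334760, 30, 461670]) (.leaf [1, 1, 361348, 4475660, 8, 4858818]))) (.node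 (.node (.leaf [0, 5, 880992, 880992, 5, 0]) (.leaf [1, 4, 6980576, 2376974, 5, 4995924])) (.node (.leaf [1, 29, 2636940, 1896854, 12, 2571412]) (.leaf [1, 5, 2075892, 3155770, 1, 3693572])))) (.node (.node (.node (.leaf [0, 2, 2066586, 790288, 2, 0]) (.leaf [1, 36, 5928114, 613484, 17, 3103464])) (.node (.leaf [1, 47, 1383654, 1383482, 1, 1055216]) (.leaf [1, 8, 4180326, 3579558, 5, 5847836]))) (.node (.node (.leaf [1, 33, 922488, 658568, 23, 263424]) (.leaf [1, 5, 2955850, 1346996, 36, 5335410])) (.node (.leaf [1, 4, 839678, 4471424, 29, 3348132]) (.leaf []))))) (.node (.node (.node (.node (.leaf [0, 2, 16806, 1448832, 2, 0]) (.leaf [0, 8, 72788, 70274, 8, 0])) (.node (.leaf [1, 47, 461160, 988356, 8, 856128]) (.leaf [1, 1, 402214, 6585420, 1, 1856762]))) (.node (.node (.leaf [1, 23, 462504, 346090, 12, 921992]) (.leaf [1, 5, 333648, 7255570, 22, 5125126])) (.node (.leaf [0, 46, 5805932, 2644688, 46, 0]) (.leaf [])))) (.node (.node (.node (.leaf [0,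 2, 2790984, 296536, 2, 0]) (.leaf [1, 4, 4727702, 5080424, 29, 4365828])) (.node (.leaf [1, 42, 2008964, 1256750, 42, 1416080]) (.leaf [1, 1, 3584738, 5808284, 5, 4657158]))) (.node (.node (.leaf [1, 12, 4883596, 1712600, 33, 527528]) (.leaf [1, 1, 3036178, 5668458, 4, 4498182])) (.node (.leaf [1, 22, 7110902, 7429036, 23, 132070]) (.leaf [])))))) (.node (.node (.node (.node (.node (.leaf [0, 6, 16818, 16800, 6, 0]) (.leaf [0, 8, 3586, 67886, 8, 0])) (.node (.leaf [1, 20, 922330, 67372, 5, 1712258]) (.leaf [1, 1, 3617336, 3207962, 8, 1590138]))) (.node (.node (.leaf [1, 23, 592880, 658736, 23, 263782]) (.leaf [1, 5, 6581362, 5698122, 5, 1341660])) (.node (.leaf [1, 39, 66540, 2379042, 29, 3692766]) (.leaf [1, 1, 1083140, 5945178, 1, 2611996])))) (.node (.node (.node (.leaf [0, 2, 1514706, 2593422, 2, 0]) (.leaf [1, 17, 3776882, 5856706, 1, 2029324])) (.node (.leaf [1, 46, 724416, 922492, 42, 1054052]) (.leaf [1, 1, 6778240, 6824562, 1, 1728904]))) (.node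 (.node (.leaf [1, 23, 197918, 411946, 34, 790280]) (.leaf [1, 1, 7275458, 3056294, 5, 5515592])) (.node (.leaf [1, 29, 1833234, 577144, 42, 3953720]) (.leaf []))))) (.node (.node (.node (.node (.leaf [0, 2, 2304960, 1588794, 2, 0]) (.leaf [1, 37, 329288, 6581514, 17, 1620098])) (.node (.leaf [1, 48, 1909828, 678, 42, 197924]) (.leaf [1, 2, 4548352, 6192760, 1, 3152148]))) (.node (.node (.leaf [1, 1, 1432722, 798678, 28, 395140]) (.leaf [1, 5, 925594, 3811730, 1, 403872])) (.node (.leaf [1, 8, 4091484, 4099452, 1, 2906254]) (.leaf [])))) (.node (.node (.node (.leaf [1, 10, 741234, 263778, 1, 1580544]) (.leaf [1, 1, 395480, 3743118, 5, 1407272])) (.node (.leaf [0, 33, 3359336, 4787118, 29, 1581726]) (.leaf [1, 5, 1973716, 1774880, 1, 3702086]))) (.node (.node (.leaf [0, 37, 395488, 132058, 37, 0]) (.leaf [1, 5, 891966, 5964534, 2, 88760])) (.node (.leaf [0, 8, 68638, 3448, 8, 0]) (.leaf []))))))) (.node (.node (.node (.node (.node (.node (.leaf [0, 4,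 790272, 197574, 4, 0]) (.leaf [0, 8, 72558, 71128, 8, 0])) (.node (.leaf [1, 46, 872946, 659576, 45, 1514688]) (.leaf [1, 1, 953674, 5774664, 5, 6911788]))) (.node (.node (.leaf [1, 26, 395488, 263426, 1, 1407686]) (.leaf [1, 5, 5583290, 3083136, 5, 137670])) (.node (.leaf [1, 29, 3904326, 2613818, 23, 263594]) (.leaf [1, 8, 233244, 3470404, 5, 4547486])))) (.node (.node (.node (.leaf [0, 2, 3828232, 1119568, 2, 0]) (.leaf [1, 12, 1788886, 4883014, 1, 3020016])) (.node (.leaf [1, 22, 1292780, 2379050, 17, 4555488]) (.leaf [1, 1, 2784294, 3718596, 1, 1265552]))) (.node (.node (.leaf [1, 12, 2504888, 3624434, 4, 312826]) (.leaf [1, 5, 2317642, 2642810, 5, 3531172])) (.node (.leaf [1, 29, 2769672, 2283384, 29, 1906656]) (.leaf []))))) (.node (.node (.node (.node (.leaf [0, 2, 1193814, 1588776, 2, 0]) (.leaf [0, 8, 67552, 5940, 8, 0])) (.node (.leaf [0, 48, 1061950, 922334, 49, 2107746]) (.leaf [1, 1, 3766988, 2367344, 5, 3392184]))) (.node (.node (.leaf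 [1, 23, 1317624, 461000, 29, 329456]) (.leaf [1, 5, 6755164, 6453884, 5, 7014614])) (.node (.leaf [1, 29, 3049884, 6124696, 42, 3951718]) (.leaf [])))) (.node (.node (.node (.leaf [1, 5, 264440, 198244, 1, 263604]) (.leaf [1, 1, 946680, 7199940, 5, 271322])) (.node (.leaf [1, 4, 1057206, 6500910, 1, 1523278]) (.leaf [1, 1, 6199134, 6458618, 5, 7389436]))) (.node (.node (.leaf [1, 33, 2240280, 189840, 2, 1186284]) (.leaf [1, 5, 3433528, 2630410, 1, 1583236])) (.node (.leaf [0, 8, 68298, 750, 8, 0]) (.leaf [])))))) (.node (.node (.node (.node (.node (.leaf [0, 2, 403536, 1342168, 2, 0]) (.leaf [0, 8, 4878, 8068, 8, 0])) (.node (.leaf [1, 21, 1514688, 264098, 46, 988184]) (.leaf [1, 5, 7149316, 2116436, 1, 405276]))) (.node (.node (.leaf [1, 30, 395816, 3037610, 29, 197742]) (.leaf [1, 17, 2196574, 2873056, 5, 7009204])) (.node (.leaf [1, 29, 1450848, 6595114, 42, 2437680]) (.leaf [])))) (.node (.node (.node (.leaf [0, 2, 732832, 1086808, 2, 0]) (.leaf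 [1, 29, 658560, 948374, 4, 6426234])) (.node (.leaf [1, 9, 815324, 4681154, 9, 1202228]) (.leaf [1, 1, 512688, 1966838, 5, 1195504]))) (.node (.node (.leaf [1, 30, 1333930, 2082696, 34, 1129304]) (.leaf [1, 37, 724428, 2320244, 1, 6773938])) (.node (.leaf [1, 44, 1342168, 7355062, 22, 1476468]) (.leaf []))))) (.node (.node (.node (.node (.leaf [0, 2, 461008, 881178, 2, 0]) (.leaf [1, 29, 2456856, 4700866, 17, 2535194])) (.node (.leaf [1, 1, 610188, 2454654, 17, 543312]) (.leaf [1, 2, 5052836, 2155862, 1, 3603584]))) (.node (.node (.leaf [0, 12, 197568, 131726, 12, 1064796]) (.leaf [1, 5, 3616838, 3238598, 5, 2492838])) (.node (.leaf [0, 1, 6703952, 6703952, 1, 0]) (.leaf [])))) (.node (.node (.node (.leaf [1, 18, 1317124, 66024, 1, 16464]) (.leaf [1, 5, 6767436, 1423144, 1, 502500])) (.node (.leaf [1, 30, 922338, 5371528, 29, 1124382]) (.leaf [1, 1, 5276716, 4122194, 5, 3736502]))) (.node (.node (.leaf [1, 33, 66368, 395136, 39, 66540]) (.leaf [1, 1,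 1827396, 6236026, 1, 1020374])) (.node (.leaf [0, 8, 3238, 67424, 8, 0]) (.leaf []))))))))) (.node (.node (.node (.node (.node (.node (.node (.node (.leaf [1, 1, 724590, 198246, 2, 724590]) (.leaf [0, 8, 4162, 71432, 8, 0])) (.node (.leaf [1, 33, 3902836, 140622, 39, 790784]) (.leaf [1, 1, 641722, 5277918, 5, 335948]))) (.node (.node (.leaf [0, 5, 2379222, 2379222, 5, 0]) (.leaf [1, 5, 4859500, 677968, 5, 7874])) (.node (.leaf [1, 16, 955252, 982584, 29, 3623598]) (.leaf [1, 1, 2203112, 1020354, 1, 6478994])))) (.node (.node (.node (.leaf [0, 2, 2593434, 329616, 2, 0]) (.leaf [1, 8, 215040, 3605284, 36, 5204630])) (.node (.leaf [1, 47, 345912, 790788, 50, 930230]) (.leaf [1, 1, 4669676, 4929110, 5, 2658498]))) (.node (.node (.leaf [1, 23, 593724, 263770, 33, 462002]) (.leaf [1, 5, 1974780, 2839302, 5, 2233784])) (.node (.leaf [1, 23, 1317128, 727170, 29, 4146480]) (.leaf []))))) (.node (.node (.node (.node (.leaf [0, 2, 1523094, 1926642, 2, 0]) (.leaf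 [0, 8, 72560, 7368, 8, 0])) (.node (.leaf [1, 48, 271664, 1318636, 5, 857642]) (.leaf [1, 5, 2646922, 6350362, 5, 5385466]))) (.node (.node (.leaf [1, 26, 594228, 214380, 8, 3161432]) (.leaf [1, 4, 5278608, 6725592, 5, 6078790])) (.node (.leaf [1, 29, 1536612, 4132202, 2, 2387796]) (.leaf [])))) (.node (.node (.node (.leaf [0, 2, 1720672, 2782758, 2, 0]) (.leaf [1, 29, 1789212, 4313172, 4, 5764424])) (.node (.leaf [1, 42, 2127720, 3631322, 42, 1012876]) (.leaf [1, 1, 1004872, 6378590, 1, 2175372]))) (.node (.node (.leaf [1, 4, 1424648, 987852, 33, 2511268]) (.leaf [1, 1, 2205108, 2943350, 36, 5928114])) (.node (.leaf [1, 12, 199092, 1884948, 22, 6672486]) (.leaf [])))))) (.node (.node (.node (.node (.node (.leaf [0, 4, 460992, 1317126, 4, 0]) (.leaf [0, 8, 70730, 4874, 8, 0])) (.node (.leaf [1, 50, 741234, 65862, 1, 1054212]) (.leaf [1, 1, 4335480, 378408, 1, 6823844]))) (.node (.node (.leaf [1, 8, 2774206, 205804, 15, 988186]) (.leaf [1, 5, 6109316,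 4601700, 5, 279396])) (.node (.leaf [1, 11, 1712608, 2434882, 29, 1146948]) (.leaf [1, 1, 1168396, 6185054, 1, 3924552])))) (.node (.node (.node (.leaf [0, 2, 3836112, 3037950, 2, 0]) (.leaf [1, 1, 3613134, 6946444, 36, 396652])) (.node (.leaf [1, 42, 1926636, 198074, 22, 593060]) (.leaf [1, 5, 4333926, 7239292, 1, 2691576]))) (.node (.node (.leaf [1, 34, 263940, 66024, 12, 198582]) (.leaf [1, 1, 470586, 6813940, 1, 5662482])) (.node (.leaf [1, 39, 725928, 6308850, 29, 1156242]) (.leaf []))))) (.node (.node (.node (.node (.leaf [0, 2, 2445072, 1803160, 2, 0]) (.leaf [1, 17, 1275698, 7482978, 23, 724586])) (.node (.leaf [0, 45, 724422, 131880, 42, 67368]) (.leaf [1, 5, 2171566, 3158626, 1, 4108954]))) (.node (.node (.leaf [1, 1, 3959592, 2380058, 23, 931898]) (.leaf [1, 36, 6002798, 3852138, 5, 826194])) (.node (.leaf [1, 42, 75096, 2045418, 8, 947034]) (.leaf [])))) (.node (.node (.node (.leaf [0, 8, 4, 65868, 8, 0]) (.leaf [1, 5, 665618, 6101870, 8,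 4873700])) (.node (.leaf [1, 4, 1523604, 4228742, 4, 3863498]) (.leaf [1, 5, 571206, 1939040, 1, 3098264]))) (.node (.node (.leaf [1, 36, 263778, 955086, 1, 963482]) (.leaf [1, 2, 1334988, 2930956, 5, 7230806])) (.node (.leaf [0, 8, 66330, 70102, 8, 0]) (.leaf []))))))) (.node (.node (.node (.node (.node (.node (.leaf [0, 4, 329632, 329632, 4, 0]) (.leaf [0, 8, 72688, 3188, 8, 0])) (.node (.leaf [1, 42, 16818, 659576, 45, 1975680]) (.leaf [1, 1, 3942130, 1121710, 5, 4995924]))) (.node (.node (.leaf [1, 22, 741234, 131718, 1, 527360]) (.leaf [1, 5, 7018588, 1048356, 1, 3004402])) (.node (.leaf [1, 29, 2512776, 3050114, 23, 461168]) (.leaf [1, 5, 3679898, 1406886, 1, 5469530])))) (.node (.node (.node (.leaf [0, 2, 1984080, 1729072, 2, 0]) (.leaf [1, 12, 2370992, 4867872, 1, 3481590])) (.node (.leaf [1, 22, 1185764, 988192, 22, 930230]) (.leaf [1, 1, 7116594, 4091888, 2, 2970080]))) (.node (.node (.leaf [1, 30, 330296, 527206, 33, 658562]) (.leaf [1, 5,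 538548, 1248816, 5, 2582940])) (.node (.leaf [1, 29, 3965952, 6264032, 29, 2432830]) (.leaf []))))) (.node (.node (.node (.node (.leaf [0, 2, 1885482, 1382994, 2, 0]) (.leaf [0, 8, 72054, 72054, 8, 0])) (.node (.leaf [1, 8, 1259670, 395646, 22, 600936]) (.leaf [1, 1, 7419324, 2357968, 5, 1552788]))) (.node (.node (.leaf [1, 16, 263438, 1185576, 12, 996244]) (.leaf [1, 8, 4800520, 4520592, 5, 5120524])) (.node (.leaf [1, 29, 1916334, 6859388, 42, 3228464]) (.leaf [])))) (.node (.node (.node (.leaf [1, 4, 1119906, 1909844, 1, 535088]) (.leaf [1, 2, 2108268, 2620430, 5, 2201716])) (.node (.leaf [1, 17, 3567648, 6522540, 42, 1354734]) (.leaf [1, 8, 1645752, 7012918, 5, 7389338]))) (.node (.node (.leaf [1, 1, 436634, 831770, 33, 3302886]) (.leaf [1, 5, 6489266, 7462896, 1, 4132178])) (.node (.leaf [0, 8, 69304, 2782, 8, 0]) (.leaf [])))))) (.node (.node (.node (.node (.node (.leaf [0, 2, 148518, 1054050, 2, 0]) (.leaf [0, 8, 73928, 8064, 8, 0])) (.node (.leaf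 [1, 46, 996080, 594218, 22, 1975680]) (.leaf [1, 1, 5923154, 2275462, 5, 5977258]))) (.node (.node (.leaf [1, 2, 1063442, 799184, 16, 74090]) (.leaf [1, 17, 2196338, 6168024, 5, 204236])) (.node (.leaf [1, 29, 2843544, 2525854, 42, 1128142]) (.leaf [])))) (.node (.node (.node (.leaf [0, 2, 1127970, 3490374, 2, 0]) (.leaf [1, 8, 2181502, 4169274, 4, 6123880])) (.node (.leaf [1, 9, 1474544, 1449188, 22, 881178]) (.leaf [1, 2, 5168570, 6670748, 5, 5988284]))) (.node (.node (.leaf [1, 34, 131888, 954918, 23, 132384]) (.leaf [1, 5, 992932, 3937578, 1, 6646268])) (.node (.leaf [1, 22, 4434948, 6868252, 22, 4247136]) (.leaf []))))) (.node (.node (.node (.node (.leaf [0, 2, 864534, 2436688, 2, 0]) (.leaf [1, 36, 396648, 1932330, 17, 558406])) (.node (.leaf [1, 50, 2181488, 594228, 50, 337522]) (.leaf [1, 1, 5853508, 2496414, 8, 5172970]))) (.node (.node (.leaf [1, 30, 139948, 3556578, 12, 601294]) (.leaf [1, 5, 921072, 2114900, 8, 26216])) (.node (.leaf [0,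 1, 5980650, 865738, 1, 0]) (.leaf [])))) (.node (.node (.node (.leaf [0, 16, 65862, 988194, 16, 395142]) (.leaf [1, 1, 2954828, 155520, 5, 6244026])) (.node (.leaf [1, 29, 3042102, 6148288, 29, 4359054]) (.leaf [1, 1, 5852860, 4615208, 1, 2766732]))) (.node (.node (.leaf [1, 39, 988196, 790944, 23, 264948]) (.leaf [1, 1, 4243538, 1713662, 1, 2503058])) (.node (.leaf [0, 8, 69090, 1562, 8, 0]) (.leaf [])))))))) (.node (.node (.node (.node (.node (.node (.node (.leaf [0, 2, 922336, 1317126, 2, 0]) (.leaf [0, 8, 3824, 2524, 8, 0])) (.node (.leaf [1, 1, 428404, 1251618, 39, 66366]) (.leaf [1, 1, 459068, 4795292, 1, 5171822]))) (.node (.node (.leaf [1, 1, 1712424, 1004472, 8, 82674]) (.leaf [1, 5, 3880594, 2271036, 4, 982636])) (.node (.leaf [1, 29, 2173422, 418394, 12, 198582]) (.leaf [1, 5, 474258, 4179786, 5, 2733186])))) (.node (.node (.node (.leaf [0, 2, 543664, 2445090, 2, 0]) (.leaf [1, 1, 675366, 3721284, 1, 5045938])) (.node (.leaf [1, 8, 675528,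 922996, 47, 1193814]) (.leaf [1, 5, 3956642, 865932, 1, 144186]))) (.node (.node (.leaf [1, 33, 330800, 931898, 30, 1382982]) (.leaf [1, 5, 1717796, 1602410, 4, 5916942])) (.node (.leaf [1, 1, 90572, 4389400, 29, 3487200]) (.leaf []))))) (.node (.node (.node (.node (.leaf [0, 2, 601288, 955086, 2, 0]) (.leaf [0, 8, 7660, 7668, 8, 0])) (.node (.leaf [1, 22, 724416, 922492, 44, 997434]) (.leaf [1, 5, 6381072, 4152950, 5, 4870110]))) (.node (.node (.leaf [1, 1, 230854, 2576624, 23, 1317628]) (.leaf [1, 5, 401594, 3000084, 22, 6161814])) (.node (.leaf [1, 17, 700896, 2472108, 2, 791148]) (.leaf [])))) (.node (.node (.node (.leaf [1, 7, 140112, 477456, 1, 1259664]) (.leaf [1, 36, 724584, 3444856, 4, 3874252])) (.node (.leaf [1, 5, 938800, 775500, 42, 666792]) (.leaf [1, 1, 6019770, 2546726, 1, 5562494]))) (.node (.node (.leaf [1, 23, 1317798, 1432386, 33, 1927800]) (.leaf [1, 1, 2270964, 3345560, 5, 3287480])) (.node (.leaf [1, 22, 6976840, 4566516, 29, 4346670])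 (.leaf [])))))) (.node (.node (.node (.node (.node (.leaf [0, 2, 996072, 1580886, 2, 0]) (.leaf [0, 8, 6434, 73870, 8, 0])) (.node (.leaf [1, 44, 1852374, 1317476, 5, 1927298]) (.leaf [1, 1, 4316018, 589498, 2, 1202888]))) (.node (.node (.leaf [1, 1, 16808, 0, 29, 0]) (.leaf [1, 5, 1720154, 5653258, 5, 6121388])) (.node (.leaf [1, 29, 1656648, 1280234, 39, 132388]) (.leaf [1, 1, 4616536, 5784984, 1, 1607140])))) (.node (.node (.node (.leaf [0, 2, 1342158, 2329992, 2, 0]) (.leaf [1, 4, 7297130, 4827936, 1, 4937740])) (.node (.leaf [1, 8, 2181834, 462512, 9, 199080]) (.leaf [1, 1, 6653740, 186520, 1, 114782]))) (.node (.node (.leaf [1, 1, 1375080, 24702, 34, 1382980]) (.leaf [1, 1, 5636484, 6601430, 1, 3620620])) (.node (.leaf [1, 22, 3012554, 2027904, 22, 3769680]) (.leaf []))))) (.node (.node (.node (.node (.leaf [0, 2, 1794928, 1070344, 2, 0]) (.leaf [1, 12, 594218, 7178200, 17, 4000490])) (.node (.leaf [1, 1, 404886, 67374, 31, 74096]) (.leaf [1, 1,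 3668512, 5472464, 2, 4106598]))) (.node (.node (.leaf [1, 12, 527024, 527204, 30, 395486]) (.leaf [1, 5, 530536, 54176, 36, 5007062])) (.node (.leaf [0, 1, 74654, 6643068, 1, 0]) (.leaf [])))) (.node (.node (.node (.leaf [0, 11, 988194, 988194, 11, 0]) (.leaf [1, 5, 814634, 6027966, 1, 3893736])) (.node (.leaf [1, 12, 263430, 1628136, 29, 2052468]) (.leaf [1, 8, 4687290, 1742398, 1, 655768]))) (.node (.node (.leaf [1, 12, 593380, 1384496, 37, 264096]) (.leaf [1, 2, 4624772, 6423600, 1, 368674])) (.node (.leaf [0, 8, 5278, 68200, 8, 0]) (.leaf []))))))) (.node (.node (.node (.node (.node (.node (.leaf [0, 5, 922152, 922152, 5, 0]) (.leaf [0, 8, 70948, 7512, 8, 0])) (.node (.leaf [1, 47, 2124042, 593720, 45, 18]) (.leaf [1, 5, 7173394, 3907274, 1, 5263382]))) (.node (.node (.leaf [0, 11, 329632, 263426, 11, 395144]) (.leaf [1, 5, 7299290, 413308, 5, 6645200])) (.node (.leaf [1, 29, 2200812, 1872882, 16, 403374]) (.leaf [1, 1, 1352996, 1179678, 1, 101610]))))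 (.node (.node (.node (.leaf [0, 2, 798690, 1794912, 2, 0]) (.leaf [1, 1, 5062134, 5533738, 29, 1846836])) (.node (.leaf [1, 22, 1382978, 396648, 8, 1722006]) (.leaf [1, 5, 6043678, 5622378, 1, 1903726]))) (.node (.node (.leaf [1, 34, 66206, 198252, 4, 10252]) (.leaf [1, 1, 4213324, 3570316, 5, 5019612])) (.node (.leaf [1, 29, 1846668, 4045080, 29, 3817200]) (.leaf []))))) (.node (.node (.node (.node (.leaf [0, 2, 2453488, 2181654, 2, 0]) (.leaf [0, 8, 70724, 73696, 8, 0])) (.node (.leaf [1, 47, 807090, 395646, 48, 930238]) (.leaf [1, 1, 2399126, 590044, 5, 289234]))) (.node (.node (.leaf [1, 1, 1037254, 330292, 23, 790948]) (.leaf [0, 4, 2524012, 4696298, 1, 6486006])) (.node (.leaf [1, 29, 2119668, 1875266, 39, 1251944]) (.leaf [])))) (.node (.node (.node (.leaf [1, 4, 1008, 461350, 8, 1318640]) (.leaf [1, 5, 796604, 6948712, 1, 255546])) (.node (.leaf [1, 22, 1382982, 2827932, 4, 2523026]) (.leaf [1, 1, 2406604, 370012, 1, 411110]))) (.node (.node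 (.leaf [1, 30, 1333930, 2724792, 33, 741888]) (.leaf [1, 5, 1779744, 3598800, 5, 3216662])) (.node (.leaf [0, 8, 3448, 68638, 8, 0]) (.leaf [])))))) (.node (.node (.node (.node (.node (.leaf [0, 2, 1061944, 2173248, 2, 0]) (.leaf [0, 8, 68726, 71792, 8, 0])) (.node (.leaf [1, 32, 82674, 593720, 47, 609336]) (.leaf [1, 5, 334994, 3699164, 5, 2950700]))) (.node (.node (.leaf [1, 30, 1317292, 988198, 30, 725092]) (.leaf [1, 5, 6055198, 4966826, 4, 3107498])) (.node (.leaf [1, 29, 50404, 2743342, 42, 3294320]) (.leaf [])))) (.node (.node (.node (.leaf [0, 2, 1086808, 732832, 2, 0]) (.leaf [1, 29, 4006482, 3352546, 4, 5784160])) (.node (.leaf [1, 9, 148524, 660084, 2, 2454008]) (.leaf [1, 1, 4343728, 7167626, 1, 232726]))) (.node (.node (.leaf [1, 30, 271668, 1081584, 34, 1929318]) (.leaf [1, 1, 1464130, 7036638, 5, 1712258])) (.node (.leaf [1, 22, 1054054, 1158900, 22, 4708128]) (.leaf []))))) (.node (.node (.node (.node (.leaf [0, 2, 3490368, 2173264, 2,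 0]) (.leaf [1, 17, 1670834, 5857944, 4, 980120])) (.node (.leaf [1, 1, 149190, 699726, 17, 3045840]) (.leaf [1, 1, 5421302, 6841196, 5, 118298]))) (.node (.node (.leaf [1, 4, 683256, 535092, 33, 1318640]) (.leaf [1, 5, 4715432, 571764, 5, 1697852])) (.node (.leaf [0, 30, 0, 4054178, 29, 4402122]) (.leaf [])))) (.node (.node (.node (.leaf [0, 5, 2436840, 2436840, 5, 0]) (.leaf [1, 5, 5000812, 3593358, 4, 5967606])) (.node (.leaf [1, 29, 1660992, 1381674, 2, 527724]) (.leaf [1, 1, 1326800, 5239422, 1, 813924]))) (.node (.node (.leaf [1, 39, 66528, 833392, 33, 2570344]) (.leaf [1, 8, 5829208, 1146976, 1, 1613078])) (.node (.leaf [0, 8, 67718, 69452, 8, 0]) (.leaf []))))))))))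

/-- the facts, part 7 -/
def factTab7 : WTab :=
  (.node (.node (.node (.node (.node (.node (.node (.node (.node (.leaf [1, 2, 0, 0, 1, 1317126]) (.leaf [0, 8, 7372, 2350, 8, 0])) (.node (.leaf [1, 39, 395142, 82320, 30, 1383492]) (.leaf [1, 1, 2341022, 3807960, 5, 269598]))) (.node (.node (.leaf [0, 5, 1408024, 1408024, 5, 0]) (.leaf [1, 4, 1358792, 786184, 5, 4774636])) (.node (.leaf [1, 29, 2713254, 2628930, 8, 2510782]) (.leaf [1, 1, 1531054, 6947030, 5, 5586020])))) (.node (.node (.node (.leaf [0, 2, 1408026, 741216, 2, 0]) (.leaf [1, 36, 5994904, 2434020, 1, 1910508])) (.node (.leaf [1, 50, 1465634, 1318132, 50, 222264]) (.leaf [1, 1, 2542550, 6038220, 5, 4212128]))) (.node (.node (.leaf [1, 33, 66360, 461670, 23, 461160]) (.leaf [1, 5, 1834278, 2302168, 5, 126470])) (.node (.leaf [1, 12, 1465304, 3271300, 29, 4319352]) (.leaf []))))) (.node (.node (.node (.node (.leaf [0, 2, 798672, 732816, 2, 0]) (.leaf [0, 8, 1318, 1352, 8, 0])) (.node (.leaf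 [0, 9, 131734, 2116644, 9, 0]) (.leaf [1, 5, 3088200, 2342242, 5, 5696828]))) (.node (.node (.leaf [1, 26, 66202, 2, 28, 197744]) (.leaf [1, 4, 1729232, 279074, 5, 6496256])) (.node (.leaf [1, 17, 922324, 1383652, 22, 1646400]) (.leaf [])))) (.node (.node (.node (.leaf [0, 2, 2000712, 25032, 2, 0]) (.leaf [1, 4, 5967542, 6590206, 29, 2184984])) (.node (.leaf [1, 1, 527532, 700394, 17, 2701608]) (.leaf [1, 1, 1819240, 3241498, 1, 949972]))) (.node (.node (.leaf [1, 4, 653016, 790946, 12, 790956]) (.leaf [1, 1, 1999308, 4597862, 5, 2036294])) (.node (.leaf [1, 22, 2334604, 1331304, 22, 1193996]) (.leaf [])))))) (.node (.node (.node (.node (.node (.leaf [0, 5, 197574, 197574, 5, 0]) (.leaf [0, 8, 71426, 4166, 8, 0])) (.node (.leaf [1, 49, 263778, 462004, 45, 1448832]) (.leaf [1, 1, 2298854, 1721452, 37, 1382978]))) (.node (.node (.leaf [1, 16, 131720, 790626, 1, 280246]) (.leaf [1, 5, 7239922, 870470, 4, 108976])) (.node (.leaf [1, 29, 3451908, 1089606,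 16, 329296]) (.leaf [1, 1, 4730234, 7009542, 1, 1192188])))) (.node (.node (.node (.leaf [0, 2, 2000728, 222600, 2, 0]) (.leaf [1, 29, 2900364, 7420538, 1, 3004402])) (.node (.leaf [1, 22, 1382994, 658564, 31, 1654990]) (.leaf [1, 5, 4746802, 3710296, 8, 2994642]))) (.node (.node (.leaf [1, 11, 461344, 133226, 34, 395640]) (.leaf [1, 1, 5342006, 4118530, 1, 214708])) (.node (.leaf [1, 29, 3856338, 3170850, 29, 3106164]) (.leaf []))))) (.node (.node (.node (.node (.leaf [0, 2, 1061928, 82662, 2, 0]) (.leaf [0, 8, 5796, 2036, 8, 0])) (.node (.leaf [1, 17, 263426, 1318636, 1, 1911190]) (.leaf [1, 1, 1285646, 57490, 1, 3016398]))) (.node (.node (.leaf [1, 1, 2479008, 1119908, 30, 2049780]) (.leaf [1, 44, 790272, 3076318, 5, 101778])) (.node (.leaf [1, 17, 2840040, 1037976, 29, 4875474]) (.leaf [])))) (.node (.node (.node (.leaf [1, 1, 658572, 264436, 8, 263424]) (.leaf [1, 5, 929156, 6373402, 1, 798524])) (.node (.leaf [1, 4, 2713122, 6290486, 8, 2043048])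 (.leaf [1, 5, 6019272, 6278594, 1, 1901078]))) (.node (.node (.leaf [1, 36, 987840, 956430, 29, 264948]) (.leaf [1, 8, 1416262, 4857824, 2, 507786])) (.node (.leaf [0, 8, 66606, 2442, 8, 0]) (.leaf []))))))) (.node (.node (.node (.node (.node (.node (.leaf [1, 3, 609168, 337512, 1, 609168]) (.leaf [0, 8, 72192, 71284, 8, 0])) (.node (.leaf [1, 1, 527856, 0, 44, 0]) (.leaf [1, 5, 7468886, 6437802, 1, 2699702]))) (.node (.node (.leaf [0, 17, 1267728, 2049936, 17, 0]) (.leaf [1, 5, 666636, 1622048, 5, 6821020])) (.node (.leaf [1, 23, 1384492, 4747334, 29, 3697188]) (.leaf [1, 1, 4543410, 7143812, 5, 2136486])))) (.node (.node (.node (.leaf [0, 2, 922326, 1210458, 2, 0]) (.leaf [1, 1, 2369020, 5132212, 12, 396660])) (.node (.leaf [1, 22, 1193640, 460992, 47, 1318640]) (.leaf [1, 1, 7434870, 6083596, 2, 5661196]))) (.node (.node (.leaf [1, 23, 131892, 352, 33, 922330]) (.leaf [1, 5, 1776864, 7295760, 5, 6053082])) (.node (.leaf [1, 1, 2650704, 4713868, 29,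 5258622]) (.leaf []))))) (.node (.node (.node (.node (.leaf [0, 2, 2585200, 1070334, 2, 0]) (.leaf [0, 8, 4428, 72204, 8, 0])) (.node (.leaf [1, 1, 1713776, 1384496, 9, 988194]) (.leaf [1, 1, 7499546, 4476544, 1, 6676524]))) (.node (.node (.leaf [1, 8, 3161432, 82664, 23, 922160]) (.leaf [1, 8, 5649072, 1649784, 5, 400228])) (.node (.leaf [1, 17, 1267730, 700728, 17, 2980002]) (.leaf [])))) (.node (.node (.node (.leaf [0, 3, 592704, 724770, 3, 0]) (.leaf [1, 22, 6672486, 3347542, 4, 5916942])) (.node (.leaf [1, 22, 1514688, 659572, 42, 872592]) (.leaf [1, 1, 2259408, 6966916, 1, 5618532]))) (.node (.node (.leaf [1, 33, 4413528, 199088, 30, 791284]) (.leaf [1, 1, 5279846, 4349758, 1, 4351090])) (.node (.leaf [1, 22, 3851436, 5328296, 36, 66866]) (.leaf [])))))) (.node (.node (.node (.node (.node (.leaf [0, 2, 732816, 798672, 2, 0]) (.leaf [0, 8, 1690, 71790, 8, 0])) (.node (.leaf [1, 44, 527016, 594218, 22, 1054050]) (.leaf [1, 1, 5499766, 808956, 1,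 5560118]))) (.node (.node (.leaf [0, 29, 214376, 214376, 29, 0]) (.leaf [1, 17, 2286790, 2703752, 5, 6348032])) (.node (.leaf [1, 17, 1070518, 3160852, 4, 4498182]) (.leaf [])))) (.node (.node (.node (.leaf [0, 2, 2000730, 362394, 2, 0]) (.leaf [1, 4, 6045040, 7288128, 29, 4672608])) (.node (.leaf [1, 9, 99138, 3229640, 8, 1335936]) (.leaf [1, 1, 4376526, 2704954, 1, 899146]))) (.node (.node (.leaf [1, 3, 346084, 273338, 34, 659068]) (.leaf [1, 1, 6516134, 623840, 4, 255550])) (.node (.leaf [1, 46, 872946, 817316, 22, 3077610]) (.leaf []))))) (.node (.node (.node (.node (.leaf [0, 2, 205968, 296526, 2, 0]) (.leaf [1, 17, 2089322, 6899670, 1, 387262])) (.node (.leaf [1, 8, 535254, 1383992, 47, 462504]) (.leaf [1, 1, 5031216, 4507596, 2, 2873856]))) (.node (.node (.leaf [1, 12, 346, 1522924, 12, 2370824]) (.leaf [1, 44, 527016, 7167894, 5, 3150806])) (.node (.leaf [0, 1, 2358332, 3092580, 1, 0]) (.leaf [])))) (.node (.node (.node (.leaf [1, 1, 1909840,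 0, 16, 0]) (.leaf [1, 5, 5849212, 4181030, 4, 6362678])) (.node (.leaf [1, 12, 3114724, 2231706, 29, 531678]) (.leaf [1, 5, 6125838, 5800894, 1, 4310942]))) (.node (.node (.leaf [1, 39, 264104, 1325706, 37, 460998]) (.leaf [1, 1, 1382982, 4696298, 1, 3597914])) (.node (.leaf [0, 8, 66322, 466, 8, 0]) (.leaf [])))))))) (.node (.node (.node (.node (.node (.node (.node (.leaf [0, 2, 198246, 131712, 2, 263934]) (.leaf [0, 8, 67428, 67420, 8, 0])) (.node (.leaf [1, 30, 461670, 1909828, 39, 199084]) (.leaf [1, 1, 2228088, 6982694, 1, 3020016]))) (.node (.node (.leaf [0, 5, 1934872, 1934872, 5, 0]) (.leaf [1, 5, 4975300, 5347516, 5, 4309820])) (.node (.leaf [1, 12, 2571412, 989266, 29, 3904668]) (.leaf [1, 1, 3693572, 3029806, 5, 2226192])))) (.node (.node (.node (.leaf [0, 2, 535254, 2107734, 2, 0]) (.leaf [1, 36, 5623060, 7271664, 29, 4457556])) (.node (.leaf [1, 1, 1055216, 1383482, 47, 922152]) (.leaf [1, 5, 5847836, 6408394, 8, 4303806]))) (.node (.node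 (.leaf [1, 12, 330796, 1054050, 33, 198074]) (.leaf [1, 17, 5408424, 1890928, 5, 1594510])) (.node (.leaf [1, 29, 5199456, 5311266, 1, 42336]) (.leaf []))))) (.node (.node (.node (.node (.leaf [0, 2, 741234, 1646736, 2, 0]) (.leaf [0, 8, 73924, 70734, 8, 0])) (.node (.leaf [1, 50, 880824, 922338, 22, 2370824]) (.leaf [1, 1, 1856762, 4106736, 1, 664964]))) (.node (.node (.leaf [1, 12, 921992, 2774186, 23, 592704]) (.leaf [1, 5, 6713506, 1931724, 17, 4237774])) (.node (.leaf [1, 22, 2634598, 2150992, 17, 5353992]) (.leaf [])))) (.node (.node (.node (.leaf [0, 2, 1679514, 156744, 2, 0]) (.leaf [1, 29, 4365828, 1709726, 4, 3662744])) (.node (.leaf [1, 46, 741216, 1433388, 42, 1811216]) (.leaf [1, 5, 4657158, 3986908, 1, 3444794]))) (.node (.node (.leaf [1, 33, 527528, 1581728, 12, 4020244]) (.leaf [1, 4, 4498182, 1928662, 1, 2319658])) (.node (.leaf [1, 22, 5785702, 133410, 22, 6813184]) (.leaf [])))))) (.node (.node (.node (.node (.node (.leaf [0, 6, 148530,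 148512, 6, 0]) (.leaf [0, 8, 72564, 71126, 8, 0])) (.node (.leaf [1, 5, 1712258, 67372, 20, 1382978]) (.leaf [1, 8, 1590138, 5713940, 1, 3482792]))) (.node (.node (.leaf [1, 23, 263782, 791790, 23, 461000]) (.leaf [1, 5, 1341660, 2216124, 5, 6555850])) (.node (.leaf [1, 39, 197736, 7213544, 29, 3964518]) (.leaf [1, 1, 2611996, 4008636, 1, 1099604])))) (.node (.node (.node (.leaf [0, 2, 856146, 1860448, 2, 0]) (.leaf [1, 1, 2029324, 2905780, 17, 3975794])) (.node (.leaf [1, 42, 1054052, 1383146, 46, 329634]) (.leaf [1, 1, 1728904, 247864, 1, 6770808]))) (.node (.node (.leaf [1, 34, 1020, 700592, 23, 1384492]) (.leaf [1, 5, 5515592, 6270906, 1, 6670342])) (.node (.leaf [1, 42, 3953720, 2677330, 29, 2433504]) (.leaf []))))) (.node (.node (.node (.node (.leaf [0, 2, 3490374, 1127970, 2, 0]) (.leaf [1, 29, 2515086, 1920886, 17, 2286790])) (.node (.leaf [1, 48, 1317128, 66534, 42, 856484]) (.leaf [1, 1, 5827724, 686686, 5, 7192990]))) (.node (.node (.leaf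 [1, 12, 272014, 82322, 30, 74094]) (.leaf [1, 1, 403872, 1800366, 5, 1383904])) (.node (.leaf [1, 39, 16640, 6936744, 8, 4362962]) (.leaf [])))) (.node (.node (.node (.leaf [1, 1, 1580544, 263778, 10, 337512]) (.leaf [1, 1, 1868832, 7503334, 5, 1933460])) (.node (.leaf [0, 33, 0, 4787118, 29, 1190400]) (.leaf [1, 1, 4007560, 4336440, 1, 7042]))) (.node (.node (.leaf [0, 37, 329956, 593220, 37, 0]) (.leaf [1, 2, 88760, 3830088, 5, 1173226])) (.node (.leaf [0, 8, 2434, 4624, 8, 0]) (.leaf []))))))) (.node (.node (.node (.node (.node (.node (.leaf [0, 4, 460998, 592878, 4, 0]) (.leaf [0, 8, 7206, 66754, 8, 0])) (.node (.leaf [1, 42, 271674, 593720, 46, 263766]) (.leaf [1, 1, 1012348, 4102820, 5, 5882796]))) (.node (.node (.leaf [1, 1, 1407686, 988198, 26, 658910]) (.leaf [1, 5, 6091964, 2907592, 5, 600044])) (.node (.leaf [1, 2, 2239980, 3822418, 29, 2774536]) (.leaf [1, 5, 4547486, 7045542, 8, 35676])))) (.node (.node (.node (.leaf [0, 2, 2412312, 609184,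 2, 0]) (.leaf [1, 1, 3020016, 5134388, 12, 2373176])) (.node (.leaf [1, 17, 4555488, 1654984, 22, 551900]) (.leaf [1, 1, 5778348, 5369410, 5, 2494410]))) (.node (.node (.leaf [1, 12, 2965880, 1193662, 4, 1039774]) (.leaf [1, 5, 3531172, 2458134, 5, 3033168])) (.node (.leaf [1, 29, 4153758, 2251358, 29, 4401618]) (.leaf []))))) (.node (.node (.node (.node (.leaf [0, 2, 2774358, 1909824, 2, 0]) (.leaf [0, 8, 3930, 1700, 8, 0])) (.node (.leaf [0, 49, 0, 329282, 48, 1382984]) (.leaf [1, 5, 3392184, 2313228, 1, 3956314]))) (.node (.node (.leaf [1, 29, 864368, 346084, 28, 1120232]) (.leaf [1, 5, 6042452, 6573304, 5, 6578966])) (.node (.leaf [1, 42, 3951718, 269882, 29, 2324928]) (.leaf [])))) (.node (.node (.node (.leaf [1, 1, 263604, 922668, 5, 791786]) (.leaf [1, 5, 993798, 4594044, 4, 6557388])) (.node (.leaf [1, 4, 1189442, 6904146, 1, 1580544]) (.leaf [1, 1, 5139486, 3271022, 1, 6208804]))) (.node (.node (.leaf [1, 2, 1186284, 2973276, 33, 3368742]) (.leaf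 [1, 5, 292326, 3659214, 5, 3164094])) (.node (.leaf [0, 8, 67012, 68630, 8, 0]) (.leaf [])))))) (.node (.node (.node (.node (.node (.leaf [0, 2, 156760, 25048, 2, 0]) (.leaf [0, 8, 73376, 5094, 8, 0])) (.node (.leaf [1, 46, 2321782, 1317290, 20, 16816]) (.leaf [1, 5, 7079220, 4373006, 1, 3031284]))) (.node (.node (.leaf [1, 29, 197742, 798510, 30, 659568]) (.leaf [1, 5, 7009204, 5034236, 17, 2073094])) (.node (.leaf [1, 4, 1581056, 2922342, 29, 3440922]) (.leaf [])))) (.node (.node (.node (.leaf [0, 2, 1852536, 3070878, 2, 0]) (.leaf [1, 16, 609508, 2545420, 4, 5701608])) (.node (.leaf [1, 9, 1202228, 4773282, 9, 296522]) (.leaf [1, 5, 1195504, 2315306, 1, 630840]))) (.node (.node (.leaf [1, 30, 1926644, 832608, 33, 149184]) (.leaf [1, 1, 6773938, 2145110, 37, 329626])) (.node (.leaf [1, 22, 2205600, 3768056, 5, 1589460]) (.leaf []))))) (.node (.node (.node (.node (.leaf [0, 2, 337512, 1654650, 2, 0]) (.leaf [1, 29, 2209938, 7226500, 17, 4568498])) (.node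 (.leaf [1, 17, 543312, 1451700, 1, 487206]) (.leaf [1, 1, 3603584, 7015764, 2, 5167904]))) (.node (.node (.leaf [0, 12, 1056396, 131726, 12, 0]) (.leaf [1, 5, 2492838, 3687428, 5, 3485048])) (.node (.leaf [0, 1, 6422548, 6422548, 1, 0]) (.leaf [])))) (.node (.node (.node (.leaf [1, 18, 1399788, 592878, 1, 74088]) (.leaf [1, 5, 7346884, 632872, 1, 971376])) (.node (.leaf [1, 29, 1124382, 687474, 30, 1382982]) (.leaf [1, 1, 494870, 5421440, 5, 2692302]))) (.node (.node (.leaf [1, 39, 66540, 395136, 33, 132224]) (.leaf [1, 1, 302494, 6926746, 1, 855754])) (.node (.leaf [0, 8, 2026, 69446, 8, 0]) (.leaf []))))))))) (.node (.node (.node (.node (.node (.node (.node (.node (.leaf [1, 2, 724590, 461344, 1, 329448]) (.leaf [0, 8, 1562, 69090, 8, 0])) (.node (.leaf [1, 39, 790784, 1037406, 33, 2635108]) (.leaf [1, 5, 1388404, 5533074, 1, 3786276]))) (.node (.node (.leaf [0, 5, 140954, 140954, 5, 0]) (.leaf [1, 5, 7162572, 7214702, 5, 928538])) (.node (.leaf [1,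 29, 3623598, 638082, 16, 1391222]) (.leaf [1, 1, 7332934, 3039286, 1, 3833048])))) (.node (.node (.node (.leaf [0, 2, 996088, 2436690, 2, 0]) (.leaf [1, 22, 1992498, 4064084, 36, 5467124])) (.node (.leaf [1, 50, 930230, 660076, 47, 732822]) (.leaf [1, 5, 2658498, 4135536, 1, 5375108]))) (.node (.node (.leaf [1, 1, 617410, 1580894, 33, 199086]) (.leaf [1, 5, 3749142, 750030, 4, 5809532])) (.node (.leaf [1, 23, 1008, 727174, 29, 2235936]) (.leaf []))))) (.node (.node (.node (.node (.leaf [0, 2, 3037962, 1580898, 2, 0]) (.leaf [0, 8, 70278, 6340, 8, 0])) (.node (.leaf [1, 5, 857642, 658730, 48, 807094]) (.leaf [1, 2, 5628680, 466028, 5, 6178888]))) (.node (.node (.leaf [1, 8, 3161432, 1646750, 26, 461172]) (.leaf [1, 5, 7240928, 5526308, 22, 6420216])) (.node (.leaf [1, 4, 749624, 582176, 29, 1135962]) (.leaf [])))) (.node (.node (.node (.leaf [0, 2, 1127968, 1202214, 2, 0]) (.leaf [1, 29, 2636940, 3016624, 4, 5106356])) (.node (.leaf [1, 42, 1012876, 1128288,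 42, 2127048]) (.leaf [1, 1, 2175372, 3186454, 1, 1343492]))) (.node (.node (.leaf [1, 33, 2511268, 264438, 4, 982636]) (.leaf [1, 36, 5928114, 2892206, 1, 2065164])) (.node (.leaf [1, 22, 6672486, 6498586, 12, 1524]) (.leaf [])))))) (.node (.node (.node (.node (.node (.leaf [0, 4, 922336, 395136, 4, 0]) (.leaf [0, 8, 72784, 5432, 8, 0])) (.node (.leaf [1, 1, 1054212, 65862, 50, 337512]) (.leaf [1, 1, 6823844, 570558, 1, 4184990]))) (.node (.node (.leaf [1, 15, 988186, 2577626, 8, 2568720]) (.leaf [1, 5, 279396, 3433324, 5, 6819274])) (.node (.leaf [1, 29, 1146948, 2786690, 11, 1522924]) (.leaf [1, 1, 3924552, 1357390, 1, 904880])))) (.node (.node (.node (.leaf [0, 2, 2379384, 2321766, 2, 0]) (.leaf [1, 36, 396652, 4400490, 1, 3465394])) (.node (.leaf [1, 22, 593060, 593384, 42, 1909836]) (.leaf [1, 1, 2691576, 6156032, 5, 4187456]))) (.node (.node (.leaf [1, 12, 198582, 67368, 34, 790946]) (.leaf [1, 1, 5662482, 523406, 1, 602618])) (.node (.leaf [1,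 29, 1156242, 5706402, 39, 330290]) (.leaf []))))) (.node (.node (.node (.node (.leaf [0, 2, 1663048, 881176, 2, 0]) (.leaf [1, 1, 10086, 1969234, 17, 905258])) (.node (.leaf [0, 45, 0, 131880, 42, 263426]) (.leaf [1, 8, 108346, 3834126, 1, 2812324]))) (.node (.node (.leaf [0, 23, 593210, 1803160, 23, 413112]) (.leaf [1, 5, 826194, 2538478, 36, 5937160])) (.node (.leaf [1, 42, 2963696, 2817964, 30, 790452]) (.leaf [])))) (.node (.node (.node (.leaf [0, 8, 65860, 12, 8, 0]) (.leaf [1, 5, 2661256, 6854870, 4, 7104784])) (.node (.leaf [1, 4, 3863498, 1667140, 4, 1713266]) (.leaf [1, 1, 452294, 6667918, 5, 4021198]))) (.node (.node (.leaf [1, 12, 658914, 658730, 36, 356]) (.leaf [1, 5, 7230806, 4047424, 2, 999864])) (.node (.leaf [0, 8, 1870, 71640, 8, 0]) (.leaf []))))))) (.node (.node (.node (.node (.node (.node (.leaf [0, 4, 197568, 197568, 4, 0]) (.leaf [0, 8, 3816, 2532, 8, 0])) (.node (.leaf [1, 42, 1992498, 593720, 45, 148530]) (.leaf [1, 1, 4109844,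 4620264, 1, 2999582]))) (.node (.node (.leaf [1, 1, 527360, 131718, 22, 337512]) (.leaf [1, 5, 7346116, 745774, 5, 7425716])) (.node (.leaf [1, 29, 3951534, 4230844, 29, 2251830]) (.leaf [1, 1, 4008534, 3614402, 1, 2507312])))) (.node (.node (.node (.leaf [0, 2, 1342152, 2140488, 2, 0]) (.leaf [1, 1, 3481590, 5674132, 12, 1786516])) (.node (.leaf [1, 22, 930230, 658734, 22, 1852202]) (.leaf [1, 1, 1654106, 6649808, 5, 6693916]))) (.node (.node (.leaf [1, 33, 658562, 215544, 30, 725930]) (.leaf [1, 8, 1029354, 5647702, 5, 1917324])) (.node (.leaf [1, 29, 1750968, 4049678, 29, 4423284]) (.leaf []))))) (.node (.node (.node (.node (.leaf [0, 2, 345918, 280062, 2, 0]) (.leaf [0, 8, 73858, 70952, 8, 0])) (.node (.leaf [1, 47, 1062938, 2116300, 17, 1185762]) (.leaf [1, 5, 1552788, 803494, 1, 7330388]))) (.node (.node (.leaf [1, 12, 996244, 666794, 16, 790612]) (.leaf [1, 5, 5120524, 6157994, 8, 4529392])) (.node (.leaf [1, 42, 3228464, 2725720, 29, 1930278])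 (.leaf [])))) (.node (.node (.node (.leaf [1, 4, 1927296, 996082, 1, 1399440]) (.leaf [1, 5, 1092204, 3939970, 4, 1336612])) (.node (.leaf [1, 17, 5408424, 3168654, 42, 769320]) (.leaf [1, 1, 454276, 5244558, 1, 5395120]))) (.node (.node (.leaf [1, 33, 2701104, 988352, 33, 1778980]) (.leaf [1, 1, 4132178, 2995580, 5, 6383984])) (.node (.leaf [0, 8, 1160, 66096, 8, 0]) (.leaf [])))))) (.node (.node (.node (.node (.node (.leaf [0, 2, 271656, 1975698, 2, 0]) (.leaf [0, 8, 8006, 5090, 8, 0])) (.node (.leaf [1, 32, 1325352, 594218, 22, 2436672]) (.leaf [1, 1, 3574658, 1307018, 5, 5985148]))) (.node (.node (.leaf [1, 16, 74090, 5342568, 2, 1054712]) (.leaf [1, 5, 204236, 5464244, 17, 2072858])) (.node (.leaf [1, 2, 990528, 4988354, 29, 3183012]) (.leaf [])))) (.node (.node (.node (.leaf [0, 2, 2371000, 3819816, 2, 0]) (.leaf [1, 4, 5980122, 3186186, 29, 2631792])) (.node (.leaf [1, 22, 881178, 230664, 9, 1475888]) (.leaf [1, 1, 186462, 6895242, 1, 6771968])))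 (.node (.node (.leaf [1, 12, 66024, 199082, 34, 329958]) (.leaf [1, 1, 6646268, 2879058, 5, 1322948])) (.node (.leaf [1, 22, 4697188, 7321878, 22, 2251944]) (.leaf []))))) (.node (.node (.node (.node (.leaf [0, 2, 2107728, 1399782, 2, 0]) (.leaf [1, 36, 396650, 5100844, 17, 3645406])) (.node (.leaf [1, 50, 263772, 2181992, 17, 4555488]) (.leaf [1, 8, 5172970, 5173786, 1, 5302644]))) (.node (.node (.leaf [1, 12, 601294, 675026, 30, 74092]) (.leaf [1, 5, 1306838, 3892844, 1, 420510])) (.node (.leaf [0, 1, 4543056, 2569370, 1, 0]) (.leaf [])))) (.node (.node (.node (.leaf [0, 16, 1382976, 988194, 16, 0]) (.leaf [1, 11, 658564, 7481740, 5, 6755164])) (.node (.leaf [1, 29, 4359054, 7187110, 29, 2308680]) (.leaf [1, 1, 2766732, 3668940, 1, 5333790]))) (.node (.node (.leaf [1, 23, 264948, 132058, 39, 1317132]) (.leaf [1, 1, 2785500, 2693650, 2, 1712768])) (.node (.leaf [0, 8, 5574, 7202, 8, 0]) (.leaf [])))))))) (.node (.node (.node (.node (.node (.node (.node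 (.leaf [0, 2, 1382976, 988194, 2, 0]) (.leaf [0, 8, 71134, 2344, 8, 0])) (.node (.leaf [1, 16, 312830, 1127784, 39, 593216]) (.leaf [1, 5, 410594, 7476324, 1, 166766]))) (.node (.node (.leaf [1, 8, 82674, 1054048, 1, 1523930]) (.leaf [1, 4, 5793420, 322166, 5, 6383122])) (.node (.leaf [1, 12, 198582, 6186806, 29, 2050788]) (.leaf [1, 5, 6382394, 5047464, 5, 7076714])))) (.node (.node (.node (.leaf [0, 2, 1144590, 2049952, 2, 0]) (.leaf [1, 1, 230854, 7467252, 1, 2081236])) (.node (.leaf [1, 50, 741216, 462004, 47, 1333938]) (.leaf [1, 1, 6921796, 2517094, 5, 4701682]))) (.node (.node (.leaf [1, 33, 593388, 932070, 30, 724424]) (.leaf [1, 5, 6429356, 4954398, 5, 1725522])) (.node (.leaf [1, 29, 4797258, 3183008, 1, 395480]) (.leaf []))))) (.node (.node (.node (.node (.leaf [0, 2, 25048, 156760, 2, 0]) (.leaf [0, 8, 7516, 6438, 8, 0])) (.node (.leaf [0, 44, 1341990, 1317474, 44, 478632]) (.leaf [1, 8, 4971946, 6776782, 5, 112506]))) (.node (.node (.leaf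 [1, 23, 1317628, 346096, 1, 33286]) (.leaf [1, 22, 6161814, 898558, 5, 664518])) (.node (.leaf [1, 4, 5278608, 6218810, 29, 2180784]) (.leaf [])))) (.node (.node (.node (.leaf [1, 1, 1646568, 666966, 7, 798672]) (.leaf [1, 4, 3874252, 2323780, 36, 329454])) (.node (.leaf [1, 42, 156416, 329292, 17, 2107746]) (.leaf [1, 1, 5562494, 545214, 1, 5948256]))) (.node (.node (.leaf [1, 33, 1927800, 480486, 23, 988008]) (.leaf [1, 5, 3287480, 2011156, 1, 3382284])) (.node (.leaf [1, 29, 4346670, 5500136, 22, 7169268]) (.leaf [])))))) (.node (.node (.node (.node (.node (.leaf [0, 2, 280062, 345918, 2, 0]) (.leaf [0, 8, 69034, 69034, 8, 0])) (.node (.leaf [1, 32, 724772, 396648, 8, 1335936]) (.leaf [1, 2, 1202888, 6007468, 1, 4205334]))) (.node (.node (.leaf [1, 29, 0, 0, 1, 214376]) (.leaf [1, 5, 6121388, 4445010, 5, 1530146])) (.node (.leaf [1, 39, 329460, 936678, 29, 2456856]) (.leaf [1, 1, 2374044, 6930934, 1, 2431806])))) (.node (.node (.node (.leaf [0, 2,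 1408014, 1737288, 2, 0]) (.leaf [1, 4, 5849932, 4156636, 1, 2625548])) (.node (.leaf [1, 9, 199080, 922330, 8, 2043048]) (.leaf [1, 1, 114782, 7064764, 1, 7247828]))) (.node (.node (.leaf [1, 34, 1382980, 18426, 1, 1012540]) (.leaf [1, 5, 468332, 2576374, 1, 6255026])) (.node (.leaf [1, 22, 3769680, 3354654, 22, 3193658]) (.leaf []))))) (.node (.node (.node (.node (.leaf [0, 2, 2593432, 1613640, 2, 0]) (.leaf [1, 17, 4723798, 7351266, 23, 67370])) (.node (.leaf [1, 31, 880824, 666966, 1, 332310]) (.leaf [1, 2, 4106598, 1974532, 1, 4722248]))) (.node (.node (.leaf [1, 12, 1465304, 856484, 30, 658912]) (.leaf [1, 5, 1621108, 2338220, 44, 1342168])) (.node (.leaf [0, 1, 140510, 6914232, 1, 0]) (.leaf [])))) (.node (.node (.node (.leaf [1, 1, 938790, 0, 12, 0]) (.leaf [1, 5, 2378714, 6111172, 1, 4173798])) (.node (.leaf [1, 29, 2052468, 525860, 12, 790624]) (.leaf [1, 1, 5228356, 5474162, 1, 6039988]))) (.node (.node (.leaf [1, 33, 2964696, 330792, 37, 790948])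 (.leaf [1, 1, 368674, 7164626, 2, 5350146])) (.node (.leaf [0, 8, 466, 66322, 8, 0]) (.leaf []))))))) (.node (.node (.node (.node (.node (.node (.leaf [1, 5, 168, 460992, 1, 462504]) (.leaf [0, 8, 6836, 6838, 8, 0])) (.node (.leaf [1, 1, 1845492, 0, 48, 0]) (.leaf [1, 1, 5263382, 5008434, 5, 6950986]))) (.node (.node (.leaf [0, 11, 263426, 263426, 11, 0]) (.leaf [1, 5, 6645200, 2368028, 5, 6685464])) (.node (.leaf [1, 16, 403374, 3401296, 29, 2060868]) (.leaf [1, 5, 2950110, 3954036, 1, 2742406])))) (.node (.node (.node (.leaf [0, 2, 1202224, 1934856, 2, 0]) (.leaf [1, 29, 1846836, 1205588, 1, 5176468])) (.node (.leaf [1, 22, 1457066, 922336, 42, 1399792]) (.leaf [1, 5, 3192382, 4530134, 1, 827170]))) (.node (.node (.leaf [1, 4, 10252, 329456, 34, 132062]) (.leaf [1, 5, 5019612, 6925390, 1, 4346218])) (.node (.leaf [1, 29, 1157544, 359640, 29, 4027984]) (.leaf []))))) (.node (.node (.node (.node (.leaf [0, 2, 214374, 1465650, 2, 0]) (.leaf [0, 8, 69790,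 67558, 8, 0])) (.node (.leaf [1, 48, 1712264, 1317624, 44, 1342168]) (.leaf [1, 5, 289234, 4987632, 1, 1822886]))) (.node (.node (.leaf [1, 30, 460996, 2115642, 1, 90572]) (.leaf [0, 2, 2291498, 4305228, 36, 850198])) (.node (.leaf [1, 39, 1251944, 4818568, 29, 2110896]) (.leaf [])))) (.node (.node (.node (.leaf [1, 8, 1382984, 460992, 1, 329286]) (.leaf [1, 5, 268446, 5777578, 1, 3093436])) (.node (.leaf [1, 4, 2308994, 6030888, 42, 1588780]) (.leaf [1, 5, 2017540, 2533960, 1, 2888232]))) (.node (.node (.leaf [1, 33, 807240, 148344, 29, 527204]) (.leaf [1, 1, 995340, 4306368, 5, 462624])) (.node (.leaf [0, 8, 2780, 69298, 8, 0]) (.leaf [])))))) (.node (.node (.node (.node (.node (.leaf [0, 2, 2321776, 1457232, 2, 0]) (.leaf [0, 8, 73524, 73516, 8, 0])) (.node (.leaf [1, 4, 404046, 659234, 22, 1399782]) (.leaf [1, 5, 2950700, 1753176, 5, 729508]))) (.node (.node (.leaf [1, 30, 725092, 263426, 30, 988352]) (.leaf [1, 4, 3107498, 7358394, 5, 5977258]))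 (.node (.leaf [1, 4, 4085930, 6977742, 17, 1844322]) (.leaf [])))) (.node (.node (.node (.leaf [0, 2, 3070872, 1004488, 2, 0]) (.leaf [1, 4, 5650072, 3019644, 4, 5123882])) (.node (.leaf [1, 9, 280076, 1196436, 9, 10]) (.leaf [1, 1, 232726, 3432552, 1, 4209150]))) (.node (.node (.leaf [1, 30, 1975692, 1038242, 33, 420510]) (.leaf [1, 5, 1712258, 402004, 1, 1464228])) (.node (.leaf [1, 22, 543670, 6895526, 22, 5910000]) (.leaf []))))) (.node (.node (.node (.node (.leaf [0, 2, 2124030, 2066584, 2, 0]) (.leaf [1, 36, 1318130, 6581514, 17, 1620334])) (.node (.leaf [1, 17, 3045840, 2173422, 1, 83334]) (.leaf [1, 5, 118298, 5760378, 1, 4839106]))) (.node (.node (.leaf [1, 33, 329960, 214032, 12, 1318140]) (.leaf [1, 5, 1697852, 1795768, 5, 3679298])) (.node (.leaf [1, 1, 510400, 4054178, 29, 4402122]) (.leaf [])))) (.node (.node (.node (.leaf [0, 5, 1778286, 1778286, 5, 0]) (.leaf [1, 5, 6643300, 4666292, 5, 556692])) (.node (.leaf [1, 2, 527724, 7164708,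 29, 1651860]) (.leaf [1, 5, 2033738, 6495792, 1, 1919504]))) (.node (.node (.leaf [1, 39, 1383146, 486042, 12, 594218]) (.leaf [1, 1, 1501290, 3507474, 1, 4077974])) (.node (.leaf [0, 8, 70486, 534, 8, 0]) (.leaf []))))))))))

/-- the facts, part 8 -/
def factTab8 : WTab :=
  (.node (.node (.node (.node (.node (.node (.node (.node (.node (.leaf [0, 2, 197568, 197568, 2, 0]) (.leaf [0, 8, 6700, 5266, 8, 0])) (.node (.leaf [1, 30, 1383492, 1119908, 39, 658734]) (.leaf [1, 5, 269598, 1743980, 1, 3070142]))) (.node (.node (.leaf [0, 5, 856134, 856134, 5, 0]) (.leaf [1, 5, 4774636, 943166, 4, 1048492])) (.node (.leaf [1, 12, 1854742, 4315908, 29, 2317518]) (.leaf [1, 5, 5586020, 6255144, 1, 1718510])))) (.node (.node (.node (.leaf [0, 2, 1597182, 469408, 2, 0]) (.leaf [1, 1, 1910508, 4224694, 36, 5928118])) (.node (.leaf [1, 50, 2585202, 395142, 22, 1186922]) (.leaf [1, 1, 1369528, 7474880, 1, 7331694]))) (.node (.node (.leaf [1, 23, 461160, 724420, 33, 132216])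 (.leaf [1, 5, 126470, 681704, 5, 2432022])) (.node (.leaf [1, 29, 4319352, 4627060, 12, 1449190]) (.leaf []))))) (.node (.node (.node (.node (.leaf [0, 2, 362382, 140112, 2, 0]) (.leaf [0, 8, 3596, 1862, 8, 0])) (.node (.leaf [1, 2, 700728, 198578, 47, 2050122]) (.leaf [1, 5, 5648788, 1902690, 5, 2141662]))) (.node (.node (.leaf [1, 26, 922662, 988198, 30, 724588]) (.leaf [1, 5, 6511212, 189728, 2, 2042052])) (.node (.leaf [1, 22, 1646400, 593212, 17, 1382998]) (.leaf [])))) (.node (.node (.node (.leaf [0, 2, 1679512, 296538, 2, 0]) (.leaf [1, 29, 2184984, 2466422, 4, 6048018])) (.node (.leaf [1, 47, 4035192, 1516646, 1, 1408346]) (.leaf [1, 5, 648562, 1629640, 5, 6891080]))) (.node (.node (.leaf [0, 33, 807416, 131888, 34, 1251768]) (.leaf [1, 5, 130208, 1999928, 1, 212866])) (.node (.leaf [1, 22, 4831440, 4426308, 22, 593060]) (.leaf [])))))) (.node (.node (.node (.node (.node (.leaf [0, 5, 1383648, 1383648, 5, 0]) (.leaf [0, 8, 68734, 3926, 8, 0]))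 (.node (.leaf [1, 45, 1448832, 594218, 49, 790272]) (.leaf [1, 1, 1160318, 1714332, 37, 133224]))) (.node (.node (.leaf [1, 1, 280246, 658560, 16, 65864]) (.leaf [1, 5, 4842392, 2120176, 4, 444882])) (.node (.leaf [1, 29, 2447772, 4088434, 12, 4548876]) (.leaf [1, 1, 1192188, 990966, 1, 3660342])))) (.node (.node (.node (.leaf [0, 2, 90888, 1679502, 2, 0]) (.leaf [1, 29, 3622086, 510042, 1, 1710460])) (.node (.leaf [1, 31, 1654990, 395140, 22, 922326]) (.leaf [1, 1, 3452028, 6632112, 5, 4401198]))) (.node (.node (.leaf [1, 12, 4883596, 1127786, 34, 132216]) (.leaf [1, 1, 5416300, 3484500, 1, 8916])) (.node (.leaf [1, 29, 1817982, 4922112, 29, 2653500]) (.leaf []))))) (.node (.node (.node (.node (.leaf [0, 2, 2115624, 477810, 2, 0]) (.leaf [0, 8, 3928, 68732, 8, 0])) (.node (.leaf [1, 1, 1911190, 658730, 17, 790628]) (.leaf [1, 1, 3016398, 33378, 1, 561134]))) (.node (.node (.leaf [1, 30, 2049780, 82320, 1, 2469958]) (.leaf [1, 5, 441006, 3416314, 5,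 574810])) (.node (.leaf [1, 8, 1959232, 1967082, 1, 398166]) (.leaf [])))) (.node (.node (.node (.leaf [1, 8, 263424, 264436, 1, 396660]) (.leaf [1, 1, 798524, 4388218, 5, 1390202])) (.node (.leaf [1, 4, 3116962, 6895914, 8, 1590296]) (.leaf [1, 1, 5468766, 5314336, 1, 558356]))) (.node (.node (.leaf [1, 29, 264948, 938800, 36, 1318640]) (.leaf [1, 2, 602170, 5686326, 4, 7112288])) (.node (.leaf [0, 8, 4246, 474, 8, 0]) (.leaf []))))))) (.node (.node (.node (.node (.node (.node (.leaf [1, 1, 609168, 1514688, 3, 486042]) (.leaf [0, 8, 67420, 67428, 8, 0])) (.node (.leaf [1, 44, 0, 0, 1, 1261016]) (.leaf [1, 1, 2699702, 3532174, 5, 7195760]))) (.node (.node (.leaf [1, 1, 149190, 0, 19, 0]) (.leaf [1, 5, 6821020, 494032, 5, 402530])) (.node (.leaf [1, 30, 329282, 5096828, 29, 3228462]) (.leaf [1, 8, 2981980, 1112928, 5, 1279012])))) (.node (.node (.node (.leaf [0, 2, 872946, 65872, 2, 0]) (.leaf [1, 12, 396660, 2797234, 1, 3086454])) (.node (.leaf [1, 47,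 1318640, 460992, 22, 1844322]) (.leaf [1, 2, 5661196, 4206582, 1, 7346442]))) (.node (.node (.leaf [1, 33, 395810, 486042, 30, 198582]) (.leaf [1, 5, 2147304, 600746, 17, 4157514])) (.node (.leaf [1, 29, 5258622, 4587838, 1, 3893736]) (.leaf []))))) (.node (.node (.node (.node (.leaf [0, 2, 1333920, 732822, 2, 0]) (.leaf [0, 8, 72052, 72060, 8, 0])) (.node (.leaf [1, 9, 988194, 197736, 1, 1523278]) (.leaf [1, 1, 6676524, 7469310, 1, 7234442]))) (.node (.node (.leaf [1, 8, 2634576, 1515040, 30, 395312]) (.leaf [1, 8, 5781966, 5563942, 4, 7072150])) (.node (.leaf [1, 22, 659238, 2143110, 17, 4157514]) (.leaf [])))) (.node (.node (.node (.leaf [0, 3, 1382978, 724590, 3, 0]) (.leaf [1, 4, 6901780, 470932, 22, 7199334])) (.node (.leaf [1, 42, 157592, 1054716, 17, 988176]) (.leaf [1, 1, 5618532, 698740, 1, 3387192]))) (.node (.node (.leaf [1, 33, 2841402, 66364, 30, 199082]) (.leaf [1, 5, 2147304, 2837618, 1, 5143834])) (.node (.leaf [1, 23, 2, 1362178, 22,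 5132872]) (.leaf [])))))) (.node (.node (.node (.node (.node (.leaf [0, 2, 1712262, 1193808, 2, 0]) (.leaf [0, 8, 68382, 69674, 8, 0])) (.node (.leaf [1, 22, 1054050, 462004, 44, 1259670]) (.leaf [1, 1, 5560118, 7218000, 1, 5505640]))) (.node (.node (.leaf [0, 29, 8, 8, 29, 0]) (.leaf [1, 17, 2928986, 4804288, 5, 5515592])) (.node (.leaf [1, 4, 4498182, 6376864, 17, 1070168]) (.leaf [])))) (.node (.node (.node (.leaf [0, 2, 90894, 1729056, 2, 0]) (.leaf [1, 29, 4672608, 584852, 4, 5964684])) (.node (.leaf [1, 8, 1335936, 109704, 9, 164994]) (.leaf [1, 5, 763822, 4455960, 5, 2724630]))) (.node (.node (.leaf [1, 34, 659068, 1910336, 3, 732662]) (.leaf [1, 4, 255550, 924456, 1, 6372260])) (.node (.leaf [1, 22, 6211124, 2176592, 46, 263766]) (.leaf []))))) (.node (.node (.node (.node (.leaf [0, 2, 634200, 74262, 2, 0]) (.leaf [1, 17, 5358770, 6737304, 36, 592878])) (.node (.leaf [1, 47, 462504, 1383992, 8, 1251432]) (.leaf [1, 5, 5204936, 6488814, 1, 1022574])))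 (.node (.node (.leaf [1, 12, 1778120, 1712258, 8, 2181502]) (.leaf [1, 5, 3150806, 5350442, 44, 1259670])) (.node (.leaf [0, 1, 1286492, 565356, 1, 0]) (.leaf [])))) (.node (.node (.node (.leaf [0, 16, 724422, 131712, 16, 263776]) (.leaf [1, 4, 6362678, 2614712, 5, 5334322])) (.node (.leaf [1, 29, 4679496, 11046, 23, 593724]) (.leaf [1, 1, 1933750, 4332734, 1, 4034842]))) (.node (.node (.leaf [1, 37, 460998, 404388, 39, 790780]) (.leaf [1, 1, 996078, 5491474, 1, 2994306])) (.node (.leaf [0, 8, 1864, 3594, 8, 0]) (.leaf [])))))))) (.node (.node (.node (.node (.node (.node (.node (.leaf [0, 2, 131712, 131712, 2, 0]) (.leaf [0, 8, 67202, 67170, 8, 0])) (.node (.leaf [1, 39, 66532, 683610, 33, 4356248]) (.leaf [1, 1, 3020016, 7485250, 1, 2077598]))) (.node (.node (.leaf [0, 5, 1136190, 1136190, 5, 0]) (.leaf [1, 5, 4309820, 3202624, 5, 4265336])) (.node (.leaf [1, 29, 1994844, 671066, 11, 461344]) (.leaf [1, 1, 5396738, 2903414, 8, 1375582])))) (.node (.node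 (.node (.leaf [0, 2, 2041554, 2790990, 2, 0]) (.leaf [1, 29, 4457556, 5172736, 36, 5550374])) (.node (.leaf [1, 47, 1910502, 66372, 42, 856484]) (.leaf [1, 1, 6744662, 6149244, 1, 6544170]))) (.node (.node (.leaf [1, 33, 198074, 675024, 12, 725430]) (.leaf [1, 5, 1594510, 4710262, 17, 4818920])) (.node (.leaf [1, 1, 42336, 984700, 29, 5041746]) (.leaf []))))) (.node (.node (.node (.node (.leaf [0, 2, 634218, 2107746, 2, 0]) (.leaf [0, 8, 8014, 72290, 8, 0])) (.node (.leaf [1, 22, 2370824, 592878, 50, 1136016]) (.leaf [1, 5, 4417032, 6328204, 1, 5701012]))) (.node (.node (.leaf [1, 8, 2774206, 1515034, 12, 132228]) (.leaf [1, 17, 4237774, 4479944, 5, 7284970])) (.node (.leaf [1, 17, 5353992, 3207280, 22, 3902326]) (.leaf [])))) (.node (.node (.node (.leaf [0, 2, 2000718, 749448, 2, 0]) (.leaf [1, 29, 2447772, 1443354, 4, 5398284])) (.node (.leaf [1, 42, 1811216, 2437346, 46, 337530]) (.leaf [1, 1, 6585484, 2642478, 5, 476186]))) (.node (.node (.leaf [1,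 30, 988194, 264936, 33, 527856]) (.leaf [1, 4, 5071782, 5210080, 1, 673858])) (.node (.leaf [1, 22, 6813184, 3046862, 22, 5785736]) (.leaf [])))))) (.node (.node (.node (.node (.node (.leaf [1, 2, 741234, 1646736, 1, 1317126]) (.leaf [0, 8, 7212, 66760, 8, 0])) (.node (.leaf [1, 42, 988196, 922994, 5, 1721504]) (.leaf [1, 5, 3749142, 5352106, 1, 3216588]))) (.node (.node (.leaf [1, 23, 659064, 1318636, 23, 330800]) (.leaf [1, 5, 1932746, 2755570, 5, 7016842])) (.node (.leaf [1, 29, 3964518, 1346090, 39, 168]) (.leaf [1, 1, 1992282, 6074262, 1, 5753762])))) (.node (.node (.node (.leaf [0, 2, 1144584, 403554, 2, 0]) (.leaf [1, 1, 3266308, 831450, 22, 7110902])) (.node (.leaf [1, 42, 724418, 1317794, 46, 1448832]) (.leaf [1, 5, 2907220, 3118772, 5, 1032522]))) (.node (.node (.leaf [1, 23, 1384492, 156412, 34, 198588]) (.leaf [1, 5, 3273950, 4679200, 1, 6549886])) (.node (.leaf [1, 42, 2373844, 3850936, 29, 5372328]) (.leaf []))))) (.node (.node (.node (.node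 (.leaf [0, 2, 2124024, 2190064, 2, 0]) (.leaf [1, 17, 2286790, 443240, 29, 3692766])) (.node (.leaf [1, 42, 856484, 66202, 48, 988190]) (.leaf [1, 5, 7192990, 6368898, 1, 5314582]))) (.node (.node (.leaf [1, 30, 74094, 3293136, 12, 806744]) (.leaf [1, 5, 1337194, 2871180, 5, 375226])) (.node (.leaf [1, 8, 4362962, 2995906, 39, 214208]) (.leaf [])))) (.node (.node (.node (.leaf [1, 10, 543666, 148530, 1, 1713776]) (.leaf [1, 5, 1933460, 7167296, 1, 1226736])) (.node (.leaf [1, 1, 1367522, 4787118, 29, 1190400]) (.leaf [1, 1, 7042, 6521854, 1, 3815032]))) (.node (.node (.leaf [0, 37, 132390, 790944, 37, 0]) (.leaf [1, 5, 855248, 2849424, 2, 2335724])) (.node (.leaf [0, 8, 73224, 6704, 8, 0]) (.leaf []))))))) (.node (.node (.node (.node (.node (.node (.leaf [0, 4, 1382982, 922338, 4, 0]) (.leaf [0, 8, 70274, 72788, 8, 0])) (.node (.leaf [1, 46, 263766, 593720, 42, 807072]) (.leaf [1, 5, 5882796, 7400892, 1, 1349654]))) (.node (.node (.leaf [1, 1, 930570,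 0, 27, 0]) (.leaf [1, 5, 600044, 1622198, 5, 6843092])) (.node (.leaf [1, 29, 2774536, 2531482, 2, 3368254]) (.leaf [1, 1, 1673478, 1606516, 1, 2204710])))) (.node (.node (.node (.leaf [0, 2, 1663032, 1210456, 2, 0]) (.leaf [1, 1, 1900464, 7171588, 12, 3762196])) (.node (.leaf [1, 22, 1070518, 1451700, 17, 4223024]) (.leaf [1, 5, 2494410, 2185546, 1, 5753316]))) (.node (.node (.leaf [1, 12, 3962134, 2675756, 2, 3227820]) (.leaf [1, 5, 401594, 787938, 5, 4614090])) (.node (.leaf [1, 29, 4401618, 3065316, 29, 4291572]) (.leaf []))))) (.node (.node (.node (.node (.leaf [0, 2, 1251432, 2115640, 2, 0]) (.leaf [0, 8, 73870, 6434, 8, 0])) (.node (.leaf [1, 1, 1926458, 329282, 48, 1382984]) (.leaf [1, 5, 2633624, 1238624, 1, 1417656]))) (.node (.node (.leaf [1, 28, 1120232, 732820, 29, 1119906]) (.leaf [1, 5, 6578966, 4251814, 5, 5964892])) (.node (.leaf [1, 8, 1029354, 3645478, 42, 4346504]) (.leaf [])))) (.node (.node (.node (.leaf [1, 4, 132732, 66026, 2,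 659076]) (.leaf [1, 4, 6557388, 1228738, 5, 1323674])) (.node (.leaf [1, 1, 1580544, 2667810, 4, 1855710]) (.leaf [1, 1, 6208804, 1986404, 1, 5005330]))) (.node (.node (.leaf [1, 4, 174832, 288120, 33, 1912362]) (.leaf [1, 5, 3164094, 1158672, 5, 826110])) (.node (.leaf [0, 8, 66100, 69308, 8, 0]) (.leaf [])))))) (.node (.node (.node (.node (.node (.leaf [0, 2, 1934856, 1202224, 2, 0]) (.leaf [0, 8, 5096, 8002, 8, 0])) (.node (.leaf [1, 20, 16816, 264098, 46, 3045848]) (.leaf [1, 1, 3031284, 5686244, 5, 6435516]))) (.node (.node (.leaf [1, 30, 66206, 724770, 1, 946680]) (.leaf [1, 17, 3737066, 465142, 5, 5487998])) (.node (.leaf [1, 29, 3440922, 4181570, 4, 1590628]) (.leaf [])))) (.node (.node (.node (.leaf [0, 2, 1259832, 1531494, 2, 0]) (.leaf [1, 4, 5701608, 569020, 16, 485702])) (.node (.leaf [1, 9, 1794932, 5841492, 9, 955082]) (.leaf [1, 1, 6407426, 5466110, 5, 74950]))) (.node (.node (.leaf [1, 33, 149184, 1334264, 30, 1909844]) (.leaf [1, 5,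 7467584, 6261952, 1, 5988442])) (.node (.leaf [1, 5, 1589460, 1655404, 22, 2065656]) (.leaf []))))) (.node (.node (.node (.node (.leaf [0, 2, 477810, 2115624, 2, 0]) (.leaf [1, 17, 4568498, 1212362, 29, 2098902])) (.node (.leaf [1, 17, 1654986, 1062948, 1, 930724]) (.leaf [1, 5, 7047368, 2287094, 1, 2645508]))) (.node (.node (.leaf [1, 1, 997592, 0, 31, 0]) (.leaf [1, 5, 2358560, 6537880, 5, 3284162])) (.node (.leaf [0, 1, 7105814, 7105814, 1, 0]) (.leaf [])))) (.node (.node (.node (.leaf [1, 1, 74088, 922338, 18, 930218]) (.leaf [1, 1, 971376, 5744358, 5, 7437680])) (.node (.leaf [1, 29, 4687512, 94770, 30, 724424]) (.leaf [1, 5, 2692302, 6147192, 1, 651278]))) (.node (.node (.leaf [1, 39, 396148, 329282, 29, 197736]) (.leaf [1, 1, 855754, 441054, 1, 823162])) (.node (.leaf [0, 8, 2522, 67168, 8, 0]) (.leaf []))))))))) (.node (.node (.node (.node (.node (.node (.node (.node (.leaf [1, 1, 921984, 921986, 2, 988344]) (.leaf [0, 8, 66766, 70028, 8, 0]))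 (.node (.leaf [1, 39, 329282, 678, 23, 132218]) (.leaf [1, 1, 3786276, 3133348, 5, 927698]))) (.node (.node (.leaf [0, 5, 469398, 469398, 5, 0]) (.leaf [1, 5, 928538, 7056746, 5, 6972580])) (.node (.leaf [1, 29, 2107398, 740156, 4, 10252]) (.leaf [1, 1, 3833048, 197390, 1, 7417102])))) (.node (.node (.node (.leaf [0, 2, 749454, 3045858, 2, 0]) (.leaf [1, 36, 5467124, 4077140, 22, 1975680])) (.node (.leaf [0, 48, 2041890, 510, 47, 90906]) (.leaf [1, 1, 5363326, 757910, 1, 1357048]))) (.node (.node (.leaf [1, 33, 199086, 486698, 1, 502500]) (.leaf [1, 4, 5809532, 5829878, 5, 2558694])) (.node (.leaf [1, 29, 2235936, 5883104, 23, 198576]) (.leaf []))))) (.node (.node (.node (.node (.leaf [0, 2, 1119552, 2453478, 2, 0]) (.leaf [0, 8, 8068, 4878, 8, 0])) (.node (.leaf [1, 47, 741054, 1383146, 32, 1514688]) (.leaf [1, 5, 6178888, 5314560, 2, 5553976]))) (.node (.node (.leaf [1, 12, 725424, 634212, 8, 864382]) (.leaf [1, 5, 5977770, 6227842, 22, 330794])) (.node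 (.leaf [1, 29, 1135962, 1801030, 4, 363222]) (.leaf [])))) (.node (.node (.node (.leaf [0, 2, 2371002, 543654, 2, 0]) (.leaf [1, 4, 5106356, 6214758, 29, 3904668])) (.node (.leaf [1, 42, 1482116, 3952038, 1, 403872]) (.leaf [1, 1, 5260152, 2942570, 5, 150116]))) (.node (.node (.leaf [1, 12, 4283668, 2173592, 33, 865038]) (.leaf [1, 1, 2123798, 7044606, 44, 395142])) (.node (.leaf [1, 29, 529206, 2438672, 22, 6675576]) (.leaf [])))))) (.node (.node (.node (.node (.node (.leaf [0, 4, 592872, 988194, 4, 0]) (.leaf [0, 8, 73922, 8066, 8, 0])) (.node (.leaf [1, 45, 2115642, 660074, 50, 197574]) (.leaf [1, 1, 2964310, 7153738, 1, 6029602]))) (.node (.node (.leaf [1, 15, 724586, 790628, 23, 330792]) (.leaf [1, 5, 1983420, 6050414, 5, 7072460])) (.node (.leaf [1, 29, 3048708, 5826434, 12, 5279496]) (.leaf [1, 1, 3936298, 7443640, 8, 713178])))) (.node (.node (.node (.leaf [0, 2, 1119570, 1794918, 2, 0]) (.leaf [1, 1, 2296014, 7349974, 37, 724584])) (.node (.leaf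 [1, 43, 592878, 988194, 22, 2568742]) (.leaf [1, 5, 664124, 4847780, 5, 6552410]))) (.node (.node (.leaf [1, 23, 460998, 411950, 34, 132220]) (.leaf [1, 1, 5897630, 4188370, 1, 5101834])) (.node (.leaf [1, 29, 1090386, 6101538, 39, 395642]) (.leaf []))))) (.node (.node (.node (.node (.leaf [0, 2, 1004478, 667144, 2, 0]) (.leaf [1, 17, 905258, 7138398, 1, 207654])) (.node (.leaf [1, 1, 1515204, 131880, 42, 263426]) (.leaf [1, 1, 2812324, 254548, 8, 174202]))) (.node (.node (.leaf [0, 23, 403542, 1803160, 23, 0]) (.leaf [1, 5, 891966, 6902488, 36, 6258142])) (.node (.leaf [1, 30, 790452, 6780000, 42, 3169492]) (.leaf [])))) (.node (.node (.node (.leaf [1, 5, 199092, 724922, 8, 1383984]) (.leaf [1, 4, 7104784, 4209216, 5, 3931812])) (.node (.leaf [1, 4, 2413488, 1610780, 2, 2791324]) (.leaf [1, 5, 4021198, 1500382, 1, 699454]))) (.node (.node (.leaf [1, 36, 356, 1318636, 12, 395492]) (.leaf [1, 2, 4026814, 6015306, 2, 20914])) (.node (.leaf [0, 8, 68626,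 67014, 8, 0]) (.leaf []))))))) (.node (.node (.node (.node (.node (.node (.leaf [0, 4, 724422, 724422, 4, 0]) (.leaf [0, 8, 71130, 2342, 8, 0])) (.node (.leaf [1, 45, 148530, 593720, 42, 1975680]) (.leaf [1, 1, 2999582, 91660, 1, 2916204]))) (.node (.node (.leaf [1, 1, 683262, 0, 23, 0]) (.leaf [1, 5, 7425716, 5819532, 5, 7436812])) (.node (.leaf [1, 29, 2251830, 2401442, 29, 3762192]) (.leaf [1, 1, 3688928, 5571212, 5, 4677312])))) (.node (.node (.node (.leaf [0, 2, 1408008, 1597192, 2, 0]) (.leaf [1, 1, 3917718, 1208522, 29, 2235936])) (.node (.leaf [1, 22, 1909838, 592878, 22, 419834]) (.leaf [1, 5, 6693916, 1495634, 1, 1662348]))) (.node (.node (.leaf [1, 16, 922660, 329280, 12, 461676]) (.leaf [1, 5, 1917324, 7478602, 8, 1366528])) (.node (.leaf [1, 29, 4423284, 961910, 29, 1570314]) (.leaf []))))) (.node (.node (.node (.node (.leaf [0, 2, 815320, 8400, 2, 0]) (.leaf [0, 8, 2874, 69778, 8, 0])) (.node (.leaf [1, 17, 1185762, 4415376, 47, 1055208])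 (.leaf [1, 8, 4105962, 2302912, 5, 1486932]))) (.node (.node (.leaf [1, 16, 856468, 1926968, 28, 1580544]) (.leaf [1, 5, 6844786, 7425412, 8, 6901526])) (.node (.leaf [1, 8, 4684008, 1138632, 42, 3630670]) (.leaf [])))) (.node (.node (.node (.leaf [1, 1, 1399440, 1186920, 4, 1911186]) (.leaf [1, 4, 1336612, 2717166, 5, 1088924])) (.node (.leaf [1, 42, 769320, 5401476, 17, 4818920]) (.leaf [1, 1, 4413054, 3462886, 1, 3717976]))) (.node (.node (.leaf [1, 33, 1778980, 790778, 33, 2840718]) (.leaf [1, 5, 7101596, 5883152, 1, 2649538])) (.node (.leaf [0, 8, 3452, 244, 8, 0]) (.leaf [])))))) (.node (.node (.node (.node (.node (.leaf [0, 2, 411954, 2436672, 2, 0]) (.leaf [0, 8, 72290, 8014, 8, 0])) (.node (.leaf [1, 22, 2436672, 462004, 32, 1021122]) (.leaf [1, 5, 5985148, 5825518, 1, 3451178]))) (.node (.node (.leaf [1, 29, 1712606, 396144, 4, 1336612]) (.leaf [1, 5, 6507052, 3522084, 17, 4445018])) (.node (.leaf [1, 29, 3183012, 4181594, 2, 1318800]) (.leaf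 [])))) (.node (.node (.node (.leaf [0, 2, 732834, 2198280, 2, 0]) (.leaf [1, 29, 2631792, 6185128, 4, 6054732])) (.node (.leaf [1, 4, 930724, 107356, 9, 1267730]) (.leaf [1, 1, 6771968, 1398848, 1, 120606]))) (.node (.node (.leaf [1, 34, 329958, 922660, 12, 131880]) (.leaf [1, 5, 5960436, 3232842, 1, 7041404])) (.node (.leaf [1, 22, 2251944, 1652818, 22, 3651724]) (.leaf []))))) (.node (.node (.node (.node (.leaf [0, 2, 1778130, 3045856, 2, 0]) (.leaf [1, 17, 3645406, 5835314, 36, 658562])) (.node (.leaf [1, 17, 4555488, 4675950, 50, 790282]) (.leaf [1, 1, 2818238, 1366422, 5, 4227756]))) (.node (.node (.leaf [1, 12, 2373504, 4703666, 1, 798526]) (.leaf [1, 1, 420510, 1738934, 5, 590604])) (.node (.leaf [0, 1, 4781298, 2775562, 1, 0]) (.leaf [])))) (.node (.node (.node (.leaf [0, 16, 988194, 1382976, 16, 0]) (.leaf [1, 5, 6755164, 702638, 11, 396652])) (.node (.leaf [1, 23, 790626, 937464, 29, 3303732]) (.leaf [1, 5, 7170764, 1386510, 5, 6323352])))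 (.node (.node (.leaf [1, 39, 593384, 2767464, 8, 173226]) (.leaf [1, 2, 1712768, 2664418, 1, 2596164])) (.node (.leaf [0, 8, 72196, 4422, 8, 0]) (.leaf [])))))))) (.node (.node (.node (.node (.node (.node (.node (.leaf [1, 1, 263778, 0, 3, 0]) (.leaf [0, 8, 68200, 5278, 8, 0])) (.node (.leaf [1, 39, 593216, 1992312, 16, 848254]) (.leaf [1, 1, 166766, 3032210, 5, 673346]))) (.node (.node (.leaf [1, 8, 1061928, 1465638, 1, 930384]) (.leaf [1, 5, 6383122, 2351658, 4, 5764424])) (.node (.leaf [1, 23, 460998, 4649454, 29, 1122576]) (.leaf [1, 5, 7076714, 5731120, 5, 6493302])))) (.node (.node (.node (.leaf [0, 2, 2412318, 2576800, 2, 0]) (.leaf [1, 1, 2081236, 6434014, 1, 33286])) (.node (.leaf [1, 47, 1333938, 594218, 50, 337530]) (.leaf [1, 5, 4701682, 7395780, 1, 7116424]))) (.node (.node (.leaf [1, 30, 724424, 1448840, 33, 461500]) (.leaf [1, 5, 1725522, 949224, 5, 7075060])) (.node (.leaf [1, 1, 395480, 4372480, 29, 4518582]) (.leaf []))))) (.node (.node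 (.node (.node (.leaf [0, 2, 1613658, 1531504, 2, 0]) (.leaf [0, 8, 67550, 5932, 8, 0])) (.node (.leaf [0, 44, 133224, 1317474, 44, 0]) (.leaf [1, 5, 112506, 5000810, 8, 4262184]))) (.node (.node (.leaf [1, 23, 66212, 346094, 1, 1407686]) (.leaf [1, 22, 5102700, 2652484, 5, 5331104])) (.node (.leaf [1, 8, 3098090, 2847140, 22, 946682]) (.leaf [])))) (.node (.node (.node (.leaf [1, 7, 798672, 1911344, 1, 1654806]) (.leaf [1, 37, 922330, 3079110, 4, 7372382])) (.node (.leaf [1, 9, 2041536, 658736, 42, 1935536]) (.leaf [1, 5, 5577836, 2526220, 1, 5258116]))) (.node (.node (.leaf [1, 33, 1383488, 354330, 33, 536442]) (.leaf [1, 5, 5586908, 4732348, 1, 2056834])) (.node (.leaf [1, 22, 6361598, 6107996, 29, 4886070]) (.leaf [])))))) (.node (.node (.node (.node (.node (.leaf [0, 2, 1844142, 1523088, 2, 0]) (.leaf [0, 8, 70026, 66762, 8, 0])) (.node (.leaf [1, 8, 1335936, 396648, 32, 329282]) (.leaf [1, 1, 4056614, 3233064, 1, 4910456]))) (.node (.node (.leaf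 [1, 29, 987840, 675370, 28, 197742]) (.leaf [1, 36, 987840, 5687276, 5, 1271500])) (.node (.leaf [1, 29, 2456856, 753386, 39, 724586]) (.leaf [1, 1, 1355716, 3053510, 1, 923436])))) (.node (.node (.node (.leaf [0, 2, 1597194, 601272, 2, 0]) (.leaf [1, 1, 2625548, 6529822, 4, 5327500])) (.node (.leaf [1, 9, 658560, 133224, 8, 1590296]) (.leaf [1, 5, 1014592, 6430960, 1, 3545824]))) (.node (.node (.leaf [1, 30, 330294, 724420, 34, 66210]) (.leaf [1, 1, 6255026, 2462682, 5, 599498])) (.node (.leaf [1, 1, 1515204, 1656038, 22, 2073888]) (.leaf []))))) (.node (.node (.node (.node (.leaf [0, 2, 996090, 749466, 2, 0]) (.leaf [1, 23, 67370, 2526114, 17, 3669766])) (.node (.leaf [1, 5, 403726, 593220, 31, 996086]) (.leaf [1, 5, 7154986, 6687356, 5, 664714]))) (.node (.node (.leaf [1, 30, 658912, 675192, 12, 1449190]) (.leaf [1, 44, 1342168, 7467438, 5, 1621148])) (.node (.leaf [0, 1, 2305946, 5004048, 1, 0]) (.leaf [])))) (.node (.node (.node (.leaf [1, 12, 0,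 0, 1, 1407682]) (.leaf [1, 1, 4173798, 6060528, 5, 1792898])) (.node (.leaf [1, 23, 1524, 6704240, 29, 1529280]) (.leaf [1, 1, 6039988, 5379628, 1, 5088758]))) (.node (.node (.leaf [1, 37, 790948, 1383484, 33, 3170682]) (.leaf [1, 5, 222268, 7068034, 2, 4287416])) (.node (.leaf [0, 8, 66602, 66384, 8, 0]) (.leaf []))))))) (.node (.node (.node (.node (.node (.node (.leaf [1, 1, 462504, 460992, 5, 197736]) (.leaf [0, 8, 7208, 5572, 8, 0])) (.node (.leaf [1, 42, 263778, 660074, 48, 1054050]) (.leaf [1, 1, 5171224, 7181400, 5, 7346122]))) (.node (.node (.leaf [0, 11, 592712, 592712, 11, 0]) (.leaf [1, 5, 7212936, 3901140, 1, 946694])) (.node (.leaf [1, 16, 592718, 1959032, 29, 2587716]) (.leaf [1, 1, 2742406, 5857460, 5, 4117092])))) (.node (.node (.node (.leaf [0, 2, 1729056, 90894, 2, 0]) (.leaf [1, 1, 3661780, 6368738, 29, 3303732])) (.node (.leaf [1, 42, 1399792, 922336, 22, 1457420]) (.leaf [1, 1, 827170, 690440, 5, 3011278]))) (.node (.node (.leaf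 [1, 4, 1424648, 592706, 34, 791790]) (.leaf [1, 5, 139052, 3944300, 5, 4028274])) (.node (.leaf [1, 29, 4027984, 4025110, 29, 911250]) (.leaf []))))) (.node (.node (.node (.node (.leaf [0, 2, 1054038, 2049942, 2, 0]) (.leaf [0, 8, 4422, 72196, 8, 0])) (.node (.leaf [1, 44, 1342168, 395646, 48, 1523092]) (.leaf [1, 1, 7269284, 6026382, 1, 6430410]))) (.node (.node (.leaf [1, 1, 90572, 1333920, 30, 592876]) (.leaf [0, 5, 3287304, 1248078, 44, 6672868])) (.node (.leaf [1, 29, 1798080, 4759374, 1, 1359460]) (.leaf [])))) (.node (.node (.node (.leaf [1, 1, 329286, 460992, 8, 922334]) (.leaf [1, 1, 3093436, 4028292, 5, 795180])) (.node (.leaf [1, 4, 2061510, 5264294, 42, 411958]) (.leaf [1, 1, 2888232, 632754, 5, 2012752]))) (.node (.node (.leaf [1, 29, 527204, 403368, 33, 272334]) (.leaf [1, 5, 462624, 4060910, 1, 1324284])) (.node (.leaf [0, 8, 68296, 70474, 8, 0]) (.leaf [])))))) (.node (.node (.node (.node (.node (.leaf [0, 2, 930234, 280056, 2, 0]) (.leaf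 [0, 8, 70944, 73864, 8, 0])) (.node (.leaf [1, 22, 1399782, 133236, 4, 668312]) (.leaf [1, 8, 5013290, 3455316, 5, 1477172]))) (.node (.node (.leaf [1, 29, 593384, 214384, 30, 988518]) (.leaf [1, 5, 4511604, 5427078, 22, 5644178])) (.node (.leaf [1, 17, 1844322, 3611968, 4, 2909406]) (.leaf [])))) (.node (.node (.node (.leaf [0, 2, 1803144, 486030, 2, 0]) (.leaf [1, 4, 5123882, 2145224, 4, 5566856])) (.node (.leaf [1, 17, 3313128, 2966544, 1, 1186082]) (.leaf [1, 2, 3984806, 6561542, 2, 3977436]))) (.node (.node (.leaf [1, 33, 420510, 1334088, 30, 1992490]) (.leaf [1, 1, 4484674, 2632256, 8, 74596])) (.node (.leaf [1, 22, 5910000, 1519062, 22, 1267736]) (.leaf []))))) (.node (.node (.node (.node (.leaf [0, 2, 1984098, 551896, 2, 0]) (.leaf [1, 17, 1620334, 5323900, 36, 988520])) (.node (.leaf [1, 17, 2181654, 2577636, 1, 403718]) (.leaf [1, 5, 5350792, 4617944, 2, 3331952]))) (.node (.node (.leaf [1, 12, 1318140, 527202, 33, 724924]) (.leaf [1, 5, 5242280,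 6194958, 17, 4555488])) (.node (.leaf [1, 29, 4402122, 5771308, 1, 625972]) (.leaf [])))) (.node (.node (.node (.leaf [0, 5, 2370990, 2370990, 5, 0]) (.leaf [1, 5, 556692, 2105300, 5, 6885440])) (.node (.leaf [1, 29, 2639070, 121362, 30, 198582]) (.leaf [1, 1, 1919504, 5702974, 5, 2030968]))) (.node (.node (.leaf [1, 12, 594218, 1448832, 39, 922500]) (.leaf [1, 1, 4077974, 2986806, 1, 1514314])) (.node (.leaf [0, 8, 3184, 3182, 8, 0]) (.leaf []))))))))))

/-- the facts, part 9 -/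
def factTab9 : WTab :=
  (.node (.node (.node (.node (.node (.node (.node (.node (.node (.leaf [1, 2, 263778, 263778, 1, 658728]) (.leaf [0, 8, 73060, 902, 8, 0])) (.node (.leaf [1, 1, 773822, 1119906, 39, 133230]) (.leaf [1, 1, 2007748, 2714660, 1, 5069452]))) (.node (.node (.leaf [0, 5, 536100, 536100, 5, 0]) (.leaf [1, 5, 7072924, 778022, 4, 282916])) (.node (.leaf [1, 29, 2317518, 513306, 12, 1187768]) (.leaf [1, 5, 3440868, 4150510, 5, 6836086])))) (.node (.node (.node (.leaf [0, 2, 1613640, 2593432, 2, 0]) (.leaf [1, 36, 6002798, 2367962, 22, 4527024])) (.node (.leaf [1, 22, 1186922, 1317120, 50, 2791002]) (.leaf [1, 1, 7331694, 4745996, 1, 1029742]))) (.node (.node (.leaf [1, 11, 658564, 403368, 33, 461168]) (.leaf [1, 5, 506864, 2189398, 17, 1186922])) (.node (.leaf [1, 12, 1590456, 598062, 29, 4672608]) (.leaf []))))) (.node (.node (.node (.node (.leaf [0, 2, 8400, 815320, 2, 0]) (.leaf [0, 8, 72554, 7370, 8, 0])) (.node (.leaf [1, 47, 2050122,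 461350, 2, 412608]) (.leaf [1, 5, 2141662, 7224210, 5, 5568772]))) (.node (.node (.leaf [1, 30, 724588, 263426, 26, 1383988]) (.leaf [1, 2, 2042052, 4778442, 5, 6362986])) (.node (.leaf [1, 29, 2247348, 3651056, 42, 2511118]) (.leaf [])))) (.node (.node (.node (.leaf [0, 2, 3515406, 1778128, 2, 0]) (.leaf [1, 4, 6048150, 2941338, 29, 4621656])) (.node (.leaf [1, 1, 1408346, 4883604, 47, 4890818]) (.leaf [1, 5, 6891080, 4095248, 5, 525534]))) (.node (.node (.leaf [0, 34, 0, 659238, 33, 3112200]) (.leaf [1, 1, 212866, 2035710, 5, 196064])) (.node (.leaf [1, 22, 593060, 5463114, 22, 5449008]) (.leaf [])))))) (.node (.node (.node (.node (.node (.leaf [0, 5, 988344, 988344, 5, 0]) (.leaf [0, 8, 1346, 1314, 8, 0])) (.node (.leaf [1, 49, 1654632, 461496, 48, 148530]) (.leaf [1, 37, 133224, 2554584, 1, 908198]))) (.node (.node (.leaf [1, 16, 922334, 133224, 1, 1852368]) (.leaf [1, 4, 444882, 3081624, 5, 5461138])) (.node (.leaf [1, 12, 4548876, 5836542, 29,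 2447604]) (.leaf [1, 1, 3689524, 4336394, 1, 335724])))) (.node (.node (.node (.leaf [0, 2, 8416, 1086798, 2, 0]) (.leaf [1, 1, 1710460, 5872762, 29, 4684176])) (.node (.leaf [1, 29, 8408, 4346844, 47, 1401794]) (.leaf [1, 5, 4401198, 3806312, 1, 3575508]))) (.node (.node (.leaf [1, 34, 132216, 1993656, 12, 4020244]) (.leaf [1, 1, 8916, 827850, 1, 4822522])) (.node (.leaf [1, 29, 2653500, 2418510, 29, 2411190]) (.leaf []))))) (.node (.node (.node (.node (.leaf [0, 2, 82656, 667146, 2, 0]) (.leaf [0, 8, 69454, 67714, 8, 0])) (.node (.leaf [0, 21, 790278, 198246, 17, 1512]) (.leaf [1, 5, 7432070, 3906552, 5, 775234]))) (.node (.node (.leaf [1, 28, 1465976, 1736960, 30, 205806]) (.leaf [1, 5, 574810, 3022898, 5, 687462])) (.node (.leaf [1, 1, 398166, 2257578, 8, 1968316]) (.leaf [])))) (.node (.node (.node (.leaf [1, 5, 263770, 988848, 8, 724590]) (.leaf [1, 5, 6332, 6101882, 1, 428400])) (.node (.leaf [1, 8, 1590296, 1308182, 4, 3298066]) (.leaf [1, 1,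 558356, 1509204, 1, 5477176]))) (.node (.node (.leaf [1, 36, 395488, 790446, 30, 264432]) (.leaf [1, 4, 7112288, 3451338, 2, 473254])) (.node (.leaf [0, 8, 67882, 3590, 8, 0]) (.leaf []))))))) (.node (.node (.node (.node (.node (.node (.leaf [0, 3, 807078, 329634, 3, 938616]) (.leaf [0, 8, 67208, 67174, 8, 0])) (.node (.leaf [1, 44, 609168, 593720, 43, 148530]) (.leaf [1, 1, 129622, 624104, 5, 5897290]))) (.node (.node (.leaf [1, 19, 0, 0, 1, 83334]) (.leaf [1, 5, 6635212, 1034458, 4, 5722726])) (.node (.leaf [1, 29, 3228462, 605210, 30, 724772]) (.leaf [1, 5, 1279012, 4567248, 8, 3179430])))) (.node (.node (.node (.leaf [0, 2, 1267746, 601278, 2, 0]) (.leaf [1, 12, 790442, 1117534, 1, 3291178])) (.node (.leaf [1, 22, 2115980, 988518, 47, 1333938]) (.leaf [1, 1, 1731806, 1415006, 1, 5870416]))) (.node (.node (.leaf [1, 30, 198582, 1448832, 33, 659576]) (.leaf [1, 17, 4157514, 2770316, 5, 2147808])) (.node (.leaf [1, 29, 4674486, 4391696, 1, 4173798])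 (.leaf []))))) (.node (.node (.node (.node (.leaf [0, 2, 477792, 140118, 2, 0]) (.leaf [0, 8, 73864, 70944, 8, 0])) (.node (.leaf [1, 9, 1333938, 790440, 1, 1580544]) (.leaf [1, 1, 6953618, 5654536, 1, 3260212]))) (.node (.node (.leaf [1, 30, 395312, 749114, 8, 3902304]) (.leaf [1, 4, 7072150, 6287504, 8, 5784404])) (.node (.leaf [1, 17, 4157514, 7059366, 22, 395652]) (.leaf [])))) (.node (.node (.node (.leaf [1, 4, 921984, 1382978, 1, 395490]) (.leaf [1, 22, 7199334, 578260, 4, 6622624])) (.node (.leaf [1, 42, 1070516, 1056060, 17, 2058336]) (.leaf [1, 1, 2646990, 2962134, 8, 963934]))) (.node (.node (.leaf [1, 30, 199082, 66206, 33, 2700964]) (.leaf [1, 1, 5143834, 4903804, 5, 2147808])) (.node (.leaf [1, 22, 5132872, 7505344, 23, 197570]) (.leaf [])))))) (.node (.node (.node (.node (.node (.leaf [0, 2, 280056, 930234, 2, 0]) (.leaf [0, 8, 6192, 73512, 8, 0])) (.node (.leaf [1, 22, 1580896, 923508, 9, 658918]) (.leaf [1, 1, 1151314, 1578440, 1, 5293706])))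 (.node (.node (.leaf [0, 29, 1646740, 1646740, 29, 0]) (.leaf [1, 5, 5515592, 193612, 17, 4106162])) (.node (.leaf [1, 17, 2963520, 6264720, 5, 239080]) (.leaf [])))) (.node (.node (.node (.leaf [0, 2, 3515418, 2774370, 2, 0]) (.leaf [1, 29, 1841520, 6495458, 4, 6103276])) (.node (.leaf [1, 9, 1495664, 3764052, 22, 2436672]) (.leaf [1, 5, 2724630, 825848, 5, 361054]))) (.node (.node (.leaf [1, 34, 593380, 955086, 29, 330800]) (.leaf [1, 4, 5707696, 1042516, 1, 6823844])) (.node (.leaf [1, 46, 263766, 5458968, 22, 5693632]) (.leaf []))))) (.node (.node (.node (.node (.leaf [0, 2, 156744, 1679514, 2, 0]) (.leaf [1, 36, 592878, 2516042, 17, 4657606])) (.node (.leaf [1, 47, 552554, 2569400, 8, 2181654]) (.leaf [1, 1, 1022574, 3590296, 5, 5072128]))) (.node (.node (.leaf [1, 8, 2181502, 732662, 12, 2379406]) (.leaf [1, 5, 2962016, 5834784, 36, 5410310])) (.node (.leaf [0, 1, 3092580, 2358332, 1, 0]) (.leaf [])))) (.node (.node (.node (.leaf [1, 16, 0, 0,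 1, 1926640]) (.leaf [1, 1, 4337804, 4778932, 5, 7148554])) (.node (.leaf [1, 23, 593724, 58046, 29, 3635238]) (.leaf [1, 1, 4034842, 2768370, 1, 1917404]))) (.node (.node (.leaf [1, 39, 1382984, 461342, 2, 536760]) (.leaf [1, 1, 2994306, 4393746, 1, 1333920])) (.node (.leaf [0, 8, 248, 67008, 8, 0]) (.leaf [])))))))) (.node (.node (.node (.node (.node (.node (.node (.leaf [0, 2, 65856, 65856, 2, 0]) (.leaf [0, 8, 744, 530, 8, 0])) (.node (.leaf [1, 33, 4356248, 1334592, 39, 132388]) (.leaf [1, 1, 1900464, 1437660, 1, 3286694]))) (.node (.node (.leaf [0, 5, 1292592, 1292592, 5, 0]) (.leaf [1, 1, 4686544, 3631668, 5, 5722152])) (.node (.leaf [1, 11, 461344, 4786876, 29, 1978548]) (.leaf [1, 8, 1375582, 2448356, 1, 4664654])))) (.node (.node (.node (.leaf [0, 2, 2198298, 592890, 2, 0]) (.leaf [1, 29, 4626330, 1713374, 36, 6414614])) (.node (.leaf [1, 42, 856484, 66870, 47, 1928248]) (.leaf [1, 1, 2032596, 1376768, 1, 3286604]))) (.node (.node (.leaf [1,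 33, 329792, 345744, 12, 198584]) (.leaf [1, 5, 5000406, 3022698, 4, 4489950])) (.node (.leaf [1, 12, 593712, 4281484, 29, 3199800]) (.leaf []))))) (.node (.node (.node (.node (.leaf [0, 2, 16, 1267728, 2, 0]) (.leaf [0, 8, 72300, 73380, 8, 0])) (.node (.leaf [1, 22, 1465652, 791286, 17, 263782]) (.leaf [1, 1, 5701012, 912836, 5, 4556838]))) (.node (.node (.leaf [1, 12, 132228, 634212, 8, 2568720]) (.leaf [1, 5, 6384226, 6672452, 1, 1359460])) (.node (.leaf [1, 17, 2325288, 5051248, 22, 2963876]) (.leaf [])))) (.node (.node (.node (.leaf [0, 2, 3836128, 2041552, 2, 0]) (.leaf [1, 4, 5398284, 1611466, 29, 2447604])) (.node (.leaf [1, 42, 765590, 2116298, 44, 1342168]) (.leaf [1, 5, 476186, 636216, 1, 6555082]))) (.node (.node (.leaf [1, 33, 527856, 1318130, 30, 1317126]) (.leaf [1, 1, 673858, 5965198, 4, 5203402])) (.node (.leaf [1, 8, 1029354, 2488784, 22, 7471744]) (.leaf [])))))) (.node (.node (.node (.node (.node (.leaf [1, 1, 1317126, 214384, 2, 337512])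 (.leaf [0, 8, 70280, 72786, 8, 0])) (.node (.leaf [1, 5, 1721504, 724768, 42, 1317132]) (.leaf [1, 1, 3216588, 7035866, 5, 2558694]))) (.node (.node (.leaf [1, 23, 330800, 658730, 23, 396144]) (.leaf [1, 5, 7016842, 786336, 5, 1916786])) (.node (.leaf [1, 29, 3169488, 1272506, 39, 66528]) (.leaf [1, 1, 529338, 1129008, 1, 6113654])))) (.node (.node (.node (.leaf [0, 2, 1292760, 140130, 2, 0]) (.leaf [1, 22, 7110902, 2190056, 1, 4386034])) (.node (.leaf [1, 42, 16810, 1382982, 47, 1647576]) (.leaf [1, 5, 1032522, 1213550, 5, 4085384]))) (.node (.node (.leaf [1, 30, 329282, 199082, 34, 264942]) (.leaf [1, 1, 6549886, 4404446, 5, 4377038])) (.node (.leaf [1, 29, 5372328, 2756908, 42, 1788364]) (.leaf []))))) (.node (.node (.node (.node (.leaf [0, 2, 1984096, 1292776, 2, 0]) (.leaf [1, 17, 2928986, 5773662, 29, 3964518])) (.node (.leaf [1, 50, 197574, 593716, 42, 2568740]) (.leaf [1, 1, 1682194, 5090988, 1, 3219372]))) (.node (.node (.leaf [0, 28, 1656314,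 1335542, 12, 17648]) (.leaf [1, 5, 1124868, 3977956, 5, 2061610])) (.node (.leaf [1, 42, 3690296, 2034976, 29, 3114720]) (.leaf [])))) (.node (.node (.node (.leaf [1, 1, 1713776, 148530, 10, 1267728]) (.leaf [1, 1, 2080900, 948592, 5, 465900])) (.node (.leaf [1, 29, 1190400, 317090, 1, 1029868]) (.leaf [1, 1, 3125382, 1611746, 1, 6827266]))) (.node (.node (.leaf [1, 8, 5013290, 2379060, 37, 1382984]) (.leaf [1, 2, 2335724, 1425362, 5, 316304])) (.node (.leaf [0, 8, 70096, 4238, 8, 0]) (.leaf []))))))) (.node (.node (.node (.node (.node (.node (.leaf [0, 4, 592878, 460998, 4, 0]) (.leaf [0, 8, 73696, 70724, 8, 0])) (.node (.leaf [1, 1, 1449348, 0, 47, 0]) (.leaf [1, 1, 394444, 4547536, 5, 5767324]))) (.node (.node (.leaf [1, 27, 0, 0, 1, 1400616]) (.leaf [1, 1, 5044594, 2177096, 5, 6421244])) (.node (.leaf [1, 29, 2439208, 5034514, 2, 1186284]) (.leaf [1, 1, 2204710, 7310036, 1, 1689942])))) (.node (.node (.node (.leaf [0, 2, 955096, 2593416, 2, 0]) (.leaf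 [1, 12, 3762196, 1357592, 1, 1249642])) (.node (.leaf [1, 17, 4223024, 2454654, 22, 1070168]) (.leaf [1, 1, 3039140, 6921000, 1, 1625172]))) (.node (.node (.leaf [1, 2, 3227820, 3897772, 12, 3756152]) (.leaf [1, 5, 4614090, 1568546, 5, 664518])) (.node (.leaf [1, 29, 2506248, 4385554, 29, 2236656]) (.leaf []))))) (.node (.node (.node (.node (.leaf [0, 2, 2370984, 1465638, 2, 0]) (.leaf [0, 8, 2872, 5930, 8, 0])) (.node (.leaf [1, 48, 1382984, 922334, 1, 1911852]) (.leaf [1, 1, 1417656, 3619968, 5, 2828870]))) (.node (.node (.leaf [1, 30, 396654, 263432, 12, 987848]) (.leaf [1, 5, 5979540, 3364954, 5, 5952908])) (.node (.leaf [1, 42, 4346504, 3653118, 8, 1366528]) (.leaf [])))) (.node (.node (.node (.leaf [1, 2, 659076, 66540, 4, 66876]) (.leaf [1, 4, 6841506, 746264, 5, 797498])) (.node (.leaf [1, 4, 3384864, 5369780, 1, 923160]) (.leaf [1, 1, 814094, 737574, 1, 7457410]))) (.node (.node (.leaf [1, 33, 1912362, 1927800, 4, 108976]) (.leaf [1, 5, 2031538,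 175026, 5, 4348000])) (.node (.leaf [0, 8, 540, 70484, 8, 0]) (.leaf [])))))) (.node (.node (.node (.node (.node (.leaf [0, 2, 1852554, 1975686, 2, 0]) (.leaf [0, 8, 1702, 3934, 8, 0])) (.node (.leaf [1, 44, 363720, 395306, 22, 6]) (.leaf [1, 5, 6352858, 2680792, 1, 4611752]))) (.node (.node (.leaf [1, 1, 946680, 592704, 30, 132062]) (.leaf [1, 5, 5487998, 6808518, 17, 2535194])) (.node (.leaf [1, 2, 3173364, 5452508, 29, 3776616]) (.leaf [])))) (.node (.node (.node (.leaf [0, 2, 2173266, 872934, 2, 0]) (.leaf [1, 4, 6734474, 2883366, 1, 3020016])) (.node (.leaf [1, 9, 955082, 2704246, 9, 2387282]) (.leaf [1, 5, 74950, 5467146, 1, 7092704]))) (.node (.node (.leaf [1, 34, 1580544, 1713276, 29, 527204]) (.leaf [1, 1, 5988442, 2252346, 5, 7200254])) (.node (.leaf [1, 22, 1193640, 1212104, 22, 4755270]) (.leaf []))))) (.node (.node (.node (.node (.leaf [0, 2, 271672, 1054032, 2, 0]) (.leaf [1, 37, 724428, 7037948, 17, 4305074])) (.node (.leaf [1, 1, 930724,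 1056386, 17, 1646400]) (.leaf [1, 1, 2645508, 3554746, 5, 6389878]))) (.node (.node (.leaf [1, 31, 741234, 329634, 1, 140302]) (.leaf [1, 5, 3284162, 3823670, 5, 3089990])) (.node (.leaf [0, 1, 7303390, 7303390, 1, 0]) (.leaf [])))) (.node (.node (.node (.leaf [1, 18, 329634, 2370984, 1, 865380]) (.leaf [1, 1, 5062134, 2657948, 5, 6689308])) (.node (.leaf [1, 30, 724424, 1976492, 29, 3624948]) (.leaf [1, 1, 2380186, 1345728, 5, 4613072]))) (.node (.node (.leaf [1, 29, 197736, 922334, 39, 659068]) (.leaf [1, 1, 987782, 393034, 1, 4140236])) (.node (.leaf [0, 8, 67714, 69454, 8, 0]) (.leaf []))))))))) (.node (.node (.node (.node (.node (.node (.node (.node (.leaf [1, 2, 988344, 593056, 1, 1384496]) (.leaf [0, 8, 6922, 71282, 8, 0])) (.node (.leaf [1, 23, 132218, 346, 39, 724772]) (.leaf [1, 8, 5781966, 6791424, 1, 1435434]))) (.node (.node (.leaf [0, 5, 2453304, 2453304, 5, 0]) (.leaf [1, 5, 4850284, 464140, 1, 4583428])) (.node (.leaf [1, 4, 10252, 4096006,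 29, 2115976]) (.leaf [1, 5, 1136600, 5090964, 1, 2083922])))) (.node (.node (.node (.leaf [0, 2, 1292778, 395152, 2, 0]) (.leaf [1, 36, 5335414, 1897340, 17, 1976036])) (.node (.leaf [0, 48, 0, 510, 47, 1646400]) (.leaf [1, 1, 1357048, 6539496, 1, 4630636]))) (.node (.node (.leaf [1, 33, 197574, 486042, 1, 971376]) (.leaf [1, 1, 1063616, 1739846, 5, 1959146])) (.node (.leaf [1, 12, 922662, 703086, 29, 2631792]) (.leaf []))))) (.node (.node (.node (.node (.leaf [0, 2, 2173248, 1061944, 2, 0]) (.leaf [0, 8, 6338, 5436, 8, 0])) (.node (.leaf [1, 32, 1514688, 922492, 47, 337680]) (.leaf [1, 2, 1506896, 1315760, 5, 5783752]))) (.node (.node (.leaf [1, 8, 864382, 1515034, 12, 330800]) (.leaf [1, 22, 330794, 6920444, 5, 6053082])) (.node (.leaf [1, 29, 2063460, 2270326, 1, 1319978]) (.leaf [])))) (.node (.node (.node (.leaf [0, 2, 551880, 74274, 2, 0]) (.leaf [1, 4, 5004896, 6249474, 29, 2110092])) (.node (.leaf [1, 1, 403872, 939626, 42, 1491176]) (.leaf [1,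 5, 150116, 1775044, 1, 5111826]))) (.node (.node (.leaf [1, 33, 865038, 1194314, 12, 4160016]) (.leaf [1, 44, 395142, 6924220, 1, 2115230])) (.node (.leaf [1, 22, 6675576, 7329442, 29, 1262032]) (.leaf [])))))) (.node (.node (.node (.node (.node (.leaf [1, 1, 1383484, 330792, 5, 658560]) (.leaf [0, 8, 8002, 5096, 8, 0])) (.node (.leaf [1, 50, 197574, 396148, 45, 2107728]) (.leaf [1, 1, 6029602, 4485790, 1, 3169976]))) (.node (.node (.leaf [1, 23, 330792, 1317132, 15, 329460]) (.leaf [1, 5, 7072460, 6748596, 5, 2000220])) (.node (.leaf [1, 12, 5279496, 1401920, 29, 2324124]) (.leaf [1, 8, 713178, 796758, 1, 2686108])))) (.node (.node (.node (.leaf [0, 2, 1119568, 3828232, 2, 0]) (.leaf [1, 37, 724584, 1634380, 1, 3399538])) (.node (.leaf [1, 22, 2568742, 988194, 43, 460998]) (.leaf [1, 5, 6552410, 827338, 5, 399570]))) (.node (.node (.leaf [1, 34, 132220, 1342836, 23, 592878]) (.leaf [1, 1, 5101834, 7292684, 1, 5898694])) (.node (.leaf [1, 39, 395642,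 728446, 29, 1092408]) (.leaf []))))) (.node (.node (.node (.node (.leaf [0, 2, 667144, 1004478, 2, 0]) (.leaf [1, 1, 470586, 6542484, 17, 1974546])) (.node (.leaf [1, 42, 263426, 1317474, 1, 1720992]) (.leaf [1, 1, 6049296, 5713414, 5, 295346]))) (.node (.node (.leaf [1, 12, 593208, 131714, 30, 988854]) (.leaf [1, 36, 6258142, 5763280, 5, 1173226])) (.node (.leaf [1, 39, 1927304, 2464772, 29, 3579048]) (.leaf [])))) (.node (.node (.node (.leaf [1, 8, 1383984, 922160, 5, 1524]) (.leaf [1, 5, 138938, 5901666, 4, 7494698])) (.node (.leaf [1, 2, 2791324, 6801184, 4, 1804320]) (.leaf [1, 1, 1337450, 3825694, 5, 1999060]))) (.node (.node (.leaf [1, 36, 724584, 659580, 12, 329960]) (.leaf [1, 2, 20914, 2905250, 2, 4874528])) (.node (.leaf [0, 8, 2442, 66606, 8, 0]) (.leaf []))))))) (.node (.node (.node (.node (.node (.node (.leaf [1, 4, 658728, 1382976, 1, 1382982]) (.leaf [0, 8, 68194, 5276, 8, 0])) (.node (.leaf [1, 45, 543666, 659576, 44, 1267728]) (.leaf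 [1, 1, 1405748, 3888588, 2, 2503404]))) (.node (.node (.leaf [1, 23, 0, 0, 1, 436648]) (.leaf [1, 5, 732290, 1253880, 5, 7228868])) (.node (.leaf [1, 29, 4881928, 2472614, 1, 436634]) (.leaf [1, 5, 4677312, 1355078, 1, 2512518])))) (.node (.node (.node (.leaf [0, 2, 1663038, 1885480, 2, 0]) (.leaf [1, 29, 2235936, 3060724, 1, 2675122])) (.node (.leaf [1, 22, 419834, 922338, 22, 1926638]) (.leaf [1, 1, 1870324, 607208, 5, 7026170]))) (.node (.node (.leaf [1, 12, 461676, 329280, 16, 1383996]) (.leaf [1, 5, 664656, 7047388, 5, 2647506])) (.node (.leaf [1, 29, 3216714, 5516850, 29, 1124382]) (.leaf []))))) (.node (.node (.node (.node (.leaf [0, 2, 140112, 362382, 2, 0]) (.leaf [0, 8, 71784, 68722, 8, 0])) (.node (.leaf [1, 17, 2173604, 3954384, 47, 1581224]) (.leaf [1, 5, 1486932, 427324, 8, 2928786]))) (.node (.node (.leaf [1, 28, 1580544, 666800, 16, 1127794]) (.leaf [1, 8, 6901526, 968276, 5, 6099562])) (.node (.leaf [1, 42, 3630670, 3669582, 8, 3622436])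 (.leaf [])))) (.node (.node (.node (.leaf [1, 2, 461504, 1383156, 2, 791292]) (.leaf [1, 1, 510400, 697962, 5, 334708])) (.node (.leaf [1, 9, 477812, 396152, 9, 1448852]) (.leaf [1, 1, 3717976, 4577398, 1, 4552848]))) (.node (.node (.leaf [1, 12, 1262038, 4157162, 33, 4883096]) (.leaf [1, 1, 2649538, 2862014, 5, 6449828])) (.node (.leaf [0, 8, 2774, 1156, 8, 0]) (.leaf [])))))) (.node (.node (.node (.node (.node (.leaf [0, 2, 131728, 1144602, 2, 0]) (.leaf [0, 8, 68376, 1306, 8, 0])) (.node (.leaf [1, 47, 601110, 1383146, 9, 263778]) (.leaf [1, 5, 6768134, 2680866, 1, 3953268]))) (.node (.node (.leaf [1, 4, 1336612, 396144, 29, 1522932]) (.leaf [1, 17, 4445018, 7052588, 5, 6355436])) (.node (.leaf [1, 42, 2642830, 1477682, 29, 2634590]) (.leaf [])))) (.node (.node (.node (.leaf [0, 2, 3507168, 3029560, 2, 0]) (.leaf [1, 29, 2036546, 6060994, 4, 7241208])) (.node (.leaf [1, 9, 1267730, 1975860, 4, 1402130]) (.leaf [1, 8, 6776206, 2510598, 1, 6780330])))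 (.node (.node (.leaf [1, 34, 395814, 17336, 23, 1317288]) (.leaf [1, 1, 7041404, 78780, 5, 6046772])) (.node (.leaf [1, 22, 5893536, 1826752, 22, 3758400]) (.leaf []))))) (.node (.node (.node (.node (.leaf [0, 2, 2387280, 395154, 2, 0]) (.leaf [1, 29, 5194134, 442098, 17, 1744922])) (.node (.leaf [1, 22, 329626, 791286, 5, 741224]) (.leaf [1, 5, 4227756, 7486988, 1, 2607658]))) (.node (.node (.leaf [1, 1, 798526, 1226572, 12, 1789200]) (.leaf [1, 4, 404046, 6705272, 5, 2698592])) (.node (.leaf [0, 1, 6055232, 1120538, 1, 0]) (.leaf [])))) (.node (.node (.node (.leaf [0, 16, 930232, 1333926, 16, 0]) (.leaf [1, 4, 6032148, 3030064, 5, 7031558])) (.node (.leaf [1, 29, 3303732, 969938, 23, 263424]) (.leaf [1, 5, 6323352, 5154966, 5, 6949020]))) (.node (.node (.leaf [1, 8, 173226, 1588796, 39, 461496]) (.leaf [1, 8, 987840, 3649242, 1, 4703886])) (.node (.leaf [0, 8, 67418, 3234, 8, 0]) (.leaf [])))))))) (.node (.node (.node (.node (.node (.node (.node (.leaf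 [0, 3, 0, 724422, 3, 724422]) (.leaf [0, 8, 4170, 906, 8, 0])) (.node (.leaf [1, 39, 132728, 396648, 1, 642450]) (.leaf [1, 1, 118314, 7266632, 1, 3673422]))) (.node (.node (.leaf [1, 1, 930384, 1391376, 8, 1054050]) (.leaf [1, 5, 1386784, 2674832, 5, 5789396])) (.node (.leaf [1, 29, 1122576, 2012194, 23, 592878]) (.leaf [1, 1, 870070, 5153270, 5, 1278590])))) (.node (.node (.node (.leaf [0, 2, 1292766, 1193824, 2, 0]) (.leaf [1, 1, 4674316, 7238260, 1, 1407686])) (.node (.leaf [1, 47, 790446, 1318130, 5, 857642]) (.leaf [1, 2, 6759178, 3032206, 1, 1527276]))) (.node (.node (.leaf [1, 33, 199088, 1334452, 30, 988186]) (.leaf [1, 5, 2178788, 7042072, 5, 276216])) (.node (.leaf [1, 1, 1868832, 2399380, 29, 2542398]) (.leaf []))))) (.node (.node (.node (.node (.leaf [0, 2, 1720662, 1646752, 2, 0]) (.leaf [0, 8, 3934, 1702, 8, 0])) (.node (.leaf [0, 44, 263592, 131880, 44, 0]) (.leaf [1, 1, 6812258, 6193150, 5, 7126122]))) (.node (.node (.leaf [1, 1, 1407686,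 2453480, 23, 132068]) (.leaf [1, 5, 5331104, 7415962, 22, 5249042])) (.node (.leaf [1, 22, 946682, 6711864, 8, 3303890]) (.leaf [])))) (.node (.node (.node (.leaf [1, 1, 1251622, 1465650, 7, 526854]) (.leaf [1, 4, 7372382, 1086970, 37, 1382978])) (.node (.leaf [1, 9, 2585184, 3070720, 42, 1408856]) (.leaf [1, 1, 5258116, 2500042, 5, 5617938]))) (.node (.node (.leaf [1, 33, 536442, 931736, 33, 923502]) (.leaf [1, 1, 2056834, 7122756, 5, 5659556])) (.node (.leaf [1, 29, 4886070, 2884154, 22, 6508538]) (.leaf [])))))) (.node (.node (.node (.node (.node (.leaf [0, 2, 732822, 1333920, 2, 0]) (.leaf [0, 8, 4864, 70720, 8, 0])) (.node (.leaf [1, 42, 1333940, 658914, 8, 601614]) (.leaf [1, 1, 4910456, 119530, 1, 4912936]))) (.node (.node (.leaf [1, 28, 197742, 2115646, 29, 1318640]) (.leaf [1, 5, 1271500, 3058556, 36, 1318640])) (.node (.leaf [1, 29, 1256094, 448802, 39, 329792]) (.leaf [1, 1, 923436, 4546782, 1, 1042994])))) (.node (.node (.node (.leaf [0,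 2, 1086798, 8416, 2, 0]) (.leaf [1, 1, 2369020, 5247868, 4, 6312078])) (.node (.leaf [1, 8, 1590296, 263592, 9, 396648]) (.leaf [1, 1, 3545824, 6980488, 5, 1375818]))) (.node (.node (.leaf [1, 34, 66210, 461670, 30, 725932]) (.leaf [1, 1, 5916298, 5581832, 5, 7269338])) (.node (.leaf [1, 22, 2073888, 3906342, 1, 1720992]) (.leaf []))))) (.node (.node (.node (.node (.leaf [0, 2, 296526, 205968, 2, 0]) (.leaf [1, 17, 2352646, 7119450, 23, 988512])) (.node (.leaf [1, 31, 996086, 593220, 5, 667800]) (.leaf [1, 5, 664714, 2450350, 5, 6935200]))) (.node (.node (.leaf [1, 12, 1590456, 1448834, 30, 461344]) (.leaf [1, 1, 16970, 7257924, 5, 3463572])) (.node (.leaf [0, 1, 3039364, 4254450, 1, 0]) (.leaf [])))) (.node (.node (.node (.leaf [1, 12, 724590, 988194, 1, 765930]) (.leaf [1, 1, 3106656, 1855296, 5, 1522082])) (.node (.leaf [1, 29, 1529280, 509082, 23, 199092]) (.leaf [1, 1, 5214022, 5665502, 1, 586554]))) (.node (.node (.leaf [1, 33, 263770, 25706, 37,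 131720]) (.leaf [1, 2, 4287416, 1879496, 5, 24700])) (.node (.leaf [0, 8, 4240, 70094, 8, 0]) (.leaf []))))))) (.node (.node (.node (.node (.node (.node (.leaf [1, 5, 922158, 988350, 1, 988344]) (.leaf [0, 8, 73702, 7842, 8, 0])) (.node (.leaf [1, 48, 741234, 724416, 1, 403872]) (.leaf [1, 5, 7346122, 5444802, 1, 5057488]))) (.node (.node (.leaf [0, 11, 131720, 131720, 11, 0]) (.leaf [1, 1, 946694, 776000, 5, 7497016])) (.node (.leaf [1, 29, 2587716, 892038, 16, 462518]) (.leaf [1, 1, 1685178, 1967000, 1, 3796206])))) (.node (.node (.node (.leaf [0, 2, 362394, 2000730, 2, 0]) (.leaf [1, 29, 3303732, 4406762, 1, 4732940])) (.node (.leaf [1, 47, 8400, 264940, 22, 1514696]) (.leaf [1, 5, 6543978, 1748184, 5, 5112446]))) (.node (.node (.leaf [1, 34, 791790, 592706, 4, 982636]) (.leaf [0, 17, 0, 2760680, 1, 2714990])) (.node (.leaf [1, 29, 3756816, 4335630, 29, 3486526]) (.leaf []))))) (.node (.node (.node (.node (.leaf [0, 2, 2107734, 535254, 2, 0]) (.leaf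 [0, 8, 72060, 72052, 8, 0])) (.node (.leaf [1, 48, 74096, 199082, 5, 997924]) (.leaf [1, 1, 6430410, 6879026, 1, 6673746]))) (.node (.node (.leaf [1, 30, 600948, 1936874, 1, 395480]) (.leaf [0, 1, 3436058, 3747924, 17, 3224170])) (.node (.leaf [1, 29, 2450364, 2023442, 39, 8740]) (.leaf [])))) (.node (.node (.node (.leaf [1, 8, 791784, 724762, 1, 1318634]) (.leaf [1, 1, 912624, 1460288, 5, 3445460])) (.node (.leaf [1, 4, 1534662, 6426744, 42, 609526]) (.leaf [1, 1, 1151990, 3974958, 5, 2278758]))) (.node (.node (.leaf [1, 33, 74596, 1854, 16, 527016]) (.leaf [1, 5, 535092, 1145212, 5, 3178710])) (.node (.leaf [0, 8, 67016, 240, 8, 0]) (.leaf [])))))) (.node (.node (.node (.node (.node (.leaf [0, 2, 700056, 8406, 2, 0]) (.leaf [0, 8, 6830, 69046, 8, 0])) (.node (.leaf [1, 9, 1251622, 1317296, 22, 1382982]) (.leaf [1, 5, 1477172, 4719274, 8, 5145022]))) (.node (.node (.leaf [1, 30, 988518, 1646736, 29, 461496]) (.leaf [1, 22, 5644178, 5636678, 5, 4795508]))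 (.node (.leaf [1, 17, 1070514, 4414710, 4, 1185924]) (.leaf [])))) (.node (.node (.node (.leaf [0, 2, 535264, 2198286, 2, 0]) (.leaf [1, 29, 5766162, 5662902, 4, 6704426])) (.node (.leaf [1, 1, 1186082, 700404, 17, 3107328]) (.leaf [1, 1, 3225282, 1418884, 5, 1679828]))) (.node (.node (.leaf [1, 34, 527352, 2306696, 12, 4285452]) (.leaf [1, 8, 74596, 614850, 1, 4749844])) (.node (.leaf [1, 22, 2979240, 1263512, 22, 1514688]) (.leaf []))))) (.node (.node (.node (.node (.leaf [0, 2, 469392, 1391376, 2, 0]) (.leaf [1, 17, 4329770, 6557704, 22, 4781246])) (.node (.leaf [1, 1, 403718, 222270, 17, 2041536]) (.leaf [1, 2, 3331952, 3326478, 5, 4623840]))) (.node (.node (.leaf [1, 23, 197736, 593050, 33, 264432]) (.leaf [1, 17, 4555488, 4368038, 5, 5135782])) (.node (.leaf [1, 29, 4186246, 7220140, 16, 765916]) (.leaf [])))) (.node (.node (.node (.leaf [0, 5, 2041704, 2041704, 5, 0]) (.leaf [1, 5, 6552796, 6166570, 5, 6035216])) (.node (.leaf [1, 30, 198582,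 1976494, 29, 3906798]) (.leaf [1, 1, 7346228, 3195426, 1, 486982]))) (.node (.node (.leaf [1, 39, 1317804, 133232, 23, 67370]) (.leaf [1, 5, 5165948, 5232334, 1, 2041210])) (.node (.leaf [0, 8, 67166, 2528, 8, 0]) (.leaf []))))))))))

/-- the facts, part 10 -/
def factTab10 : WTab :=
  (.node (.node (.node (.node (.node (.node (.node (.node (.node (.leaf [1, 1, 658728, 263778, 2, 790272]) (.leaf [0, 8, 69094, 1568, 8, 0])) (.node (.leaf [1, 39, 133230, 82488, 1, 387262]) (.leaf [1, 1, 5069452, 985938, 1, 2004408]))) (.node (.node (.leaf [0, 5, 477630, 477630, 5, 0]) (.leaf [1, 4, 282916, 3793156, 5, 6431812])) (.node (.leaf [1, 29, 4555800, 1226384, 12, 3303052]) (.leaf [1, 1, 7134178, 459000, 1, 5256778])))) (.node (.node (.node (.leaf [0, 2, 1457250, 2058352, 2, 0]) (.leaf [1, 22, 4527024, 313142, 36, 5937160])) (.node (.leaf [1, 50, 1070516, 329960, 22, 1976038]) (.leaf [1, 1, 5192546, 1429060, 2, 6451384]))) (.node (.node (.leaf [1, 33, 461168, 148344,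 11, 396652]) (.leaf [1, 17, 1186922, 3225916, 5, 621608])) (.node (.leaf [1, 29, 4672608, 2519668, 12, 1581218]) (.leaf []))))) (.node (.node (.node (.node (.leaf [0, 2, 938622, 938622, 2, 0]) (.leaf [0, 8, 70276, 6342, 8, 0])) (.node (.leaf [1, 4, 1391566, 462002, 47, 725088]) (.leaf [1, 5, 3313036, 2178898, 5, 2004038]))) (.node (.node (.leaf [1, 4, 99142, 280234, 28, 1384496]) (.leaf [1, 2, 1795250, 6277164, 5, 6438156])) (.node (.leaf [1, 37, 987842, 5793386, 42, 1647920]) (.leaf [])))) (.node (.node (.node (.leaf [0, 2, 3836130, 2304976, 2, 0]) (.leaf [1, 29, 4621656, 6737890, 4, 5967606])) (.node (.leaf [0, 42, 790628, 3952224, 47, 3244418]) (.leaf [1, 1, 334642, 5637486, 5, 1726044]))) (.node (.node (.leaf [1, 1, 4686544, 659238, 33, 3112200]) (.leaf [1, 5, 506864, 4565282, 1, 3164710])) (.node (.leaf [1, 22, 4359294, 101012, 17, 3567648]) (.leaf [])))))) (.node (.node (.node (.node (.node (.leaf [0, 5, 65856, 65856, 5, 0]) (.leaf [0, 8, 73514,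 6200, 8, 0])) (.node (.leaf [1, 48, 148530, 461496, 49, 1646754]) (.leaf [1, 37, 132218, 1255894, 1, 1371932]))) (.node (.node (.leaf [1, 1, 1852368, 263592, 16, 1382984]) (.leaf [1, 1, 3349964, 2721120, 5, 7343276])) (.node (.leaf [1, 12, 5608848, 7443322, 29, 2126652]) (.leaf [1, 1, 335724, 3830540, 1, 2511878])))) (.node (.node (.node (.leaf [0, 2, 8418, 1136352, 2, 0]) (.leaf [1, 29, 2504046, 2766650, 1, 2632618])) (.node (.leaf [1, 4, 807416, 263932, 31, 139944]) (.leaf [1, 5, 6242000, 4140202, 1, 1362980]))) (.node (.node (.leaf [1, 30, 988194, 460994, 34, 264104]) (.leaf [1, 1, 512066, 2344724, 1, 6615742])) (.node (.leaf [1, 29, 1665564, 6065478, 29, 5002608]) (.leaf []))))) (.node (.node (.node (.node (.leaf [0, 2, 1448850, 741222, 2, 0]) (.leaf [0, 8, 3922, 68730, 8, 0])) (.node (.leaf [0, 21, 0, 198246, 17, 263426]) (.leaf [1, 5, 775234, 3907306, 5, 7367894]))) (.node (.node (.leaf [1, 30, 205806, 1671096, 28, 1449340]) (.leaf [1, 1, 1515204,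 4367480, 5, 1230850])) (.node (.leaf [1, 30, 660084, 2284530, 42, 3227120]) (.leaf [])))) (.node (.node (.node (.leaf [1, 8, 724590, 790446, 5, 790284]) (.leaf [1, 1, 428400, 4246810, 5, 203900])) (.node (.leaf [1, 4, 930724, 4096950, 4, 2766962]) (.leaf [1, 5, 2025930, 932672, 5, 6109322]))) (.node (.node (.leaf [1, 30, 264432, 988848, 36, 658910]) (.leaf [1, 2, 341542, 7384010, 4, 6507372])) (.node (.leaf [0, 8, 252, 3454, 8, 0]) (.leaf []))))))) (.node (.node (.node (.node (.node (.node (.leaf [0, 3, 263778, 329634, 3, 0]) (.leaf [0, 8, 70480, 68290, 8, 0])) (.node (.leaf [1, 43, 148530, 593720, 44, 486042]) (.leaf [1, 5, 5897290, 6873220, 1, 195478]))) (.node (.node (.leaf [1, 19, 741234, 790272, 1, 403718]) (.leaf [1, 4, 5722726, 6257140, 5, 6911788])) (.node (.leaf [1, 30, 264948, 1328162, 29, 4282998]) (.leaf [1, 5, 3176548, 3934356, 5, 307832])))) (.node (.node (.node (.leaf [0, 2, 2190048, 420174, 2, 0]) (.leaf [1, 1, 3291178, 5526004, 12, 263604]))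 (.node (.leaf [1, 47, 1333938, 1317296, 22, 2107394]) (.leaf [1, 1, 5870416, 2434520, 1, 1542470]))) (.node (.node (.leaf [1, 30, 724928, 1251618, 33, 264434]) (.leaf [1, 5, 5265338, 1168830, 5, 4735638])) (.node (.leaf [1, 1, 4173798, 3378636, 29, 5374542]) (.leaf []))))) (.node (.node (.node (.node (.leaf [0, 2, 930222, 815322, 2, 0]) (.leaf [0, 8, 2878, 69782, 8, 0])) (.node (.leaf [1, 1, 1580544, 658918, 9, 996088]) (.leaf [1, 1, 3260212, 2207414, 1, 7172208]))) (.node (.node (.leaf [1, 30, 921992, 592704, 12, 988196]) (.leaf [1, 8, 4512072, 2688620, 1, 4337550])) (.node (.leaf [1, 5, 1556200, 5751252, 29, 4415968]) (.leaf [])))) (.node (.node (.node (.leaf [1, 1, 395490, 724772, 4, 1384496]) (.leaf [0, 29, 0, 894632, 5, 3586068])) (.node (.leaf [1, 42, 2000376, 1590794, 22, 18]) (.leaf [1, 8, 963934, 6573212, 1, 3890022]))) (.node (.node (.leaf [1, 23, 592706, 353988, 33, 2051130]) (.leaf [1, 5, 4185316, 4712808, 1, 4218814])) (.node (.leaf [1,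 29, 1602792, 6551158, 22, 5768894]) (.leaf [])))))) (.node (.node (.node (.node (.node (.leaf [0, 2, 1844136, 1580880, 2, 0]) (.leaf [0, 8, 70956, 7514, 8, 0])) (.node (.leaf [1, 9, 658918, 1383656, 22, 1588792]) (.leaf [1, 1, 5293706, 331122, 1, 879658]))) (.node (.node (.leaf [0, 29, 1646748, 1646748, 29, 0]) (.leaf [1, 5, 3273950, 1094898, 17, 3801578])) (.node (.leaf [1, 5, 239080, 708280, 17, 3169674]) (.leaf [])))) (.node (.node (.node (.leaf [0, 2, 2181664, 2585190, 2, 0]) (.leaf [1, 4, 6103276, 6244034, 29, 2426442])) (.node (.leaf [1, 22, 2436672, 3903926, 9, 1486444]) (.leaf [1, 1, 3023278, 5882956, 5, 5534750]))) (.node (.node (.leaf [1, 29, 330800, 337530, 34, 461502]) (.leaf [1, 1, 6823844, 3607672, 4, 6218524])) (.node (.leaf [1, 1, 1449348, 6183420, 22, 5116638]) (.leaf []))))) (.node (.node (.node (.node (.leaf [0, 2, 881176, 1663048, 2, 0]) (.leaf [1, 17, 3192646, 7256012, 4, 255550])) (.node (.leaf [1, 8, 2181654, 3951708, 47, 1293434])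 (.leaf [1, 1, 5778444, 5959838, 1, 3640042]))) (.node (.node (.leaf [1, 29, 864368, 790628, 12, 74260]) (.leaf [1, 36, 5410310, 6896254, 5, 4148756])) (.node (.leaf [0, 1, 4224686, 4949320, 1, 0]) (.leaf [])))) (.node (.node (.node (.leaf [0, 16, 131712, 131712, 16, 0]) (.leaf [1, 5, 7148554, 3125180, 1, 4188628])) (.node (.leaf [1, 1, 617410, 3365322, 29, 4417812]) (.leaf [1, 5, 1166524, 2114400, 1, 5439032]))) (.node (.node (.leaf [1, 2, 536760, 198076, 39, 922334]) (.leaf [1, 1, 4508994, 5160582, 1, 1333938])) (.node (.leaf [0, 8, 66386, 66600, 8, 0]) (.leaf [])))))))) (.node (.node (.node (.node (.node (.node (.node (.leaf [0, 2, 6, 329634, 2, 0]) (.leaf [0, 8, 72682, 3186, 8, 0])) (.node (.leaf [1, 39, 329460, 1317294, 33, 67370]) (.leaf [1, 1, 3286694, 5076562, 1, 1249642]))) (.node (.node (.leaf [0, 5, 1613640, 1613640, 5, 0]) (.leaf [1, 5, 5722152, 3644654, 1, 3624780])) (.node (.leaf [1, 12, 4883596, 3300448, 29, 2110092]) (.leaf [1, 1, 107926,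 5468648, 5, 4469558])))) (.node (.node (.node (.leaf [0, 2, 3070890, 263760, 2, 0]) (.leaf [0, 23, 0, 3461822, 1, 5069116])) (.node (.leaf [1, 47, 1399608, 1382982, 47, 66210]) (.leaf [1, 1, 3286604, 3021990, 1, 2036376]))) (.node (.node (.leaf [1, 12, 198584, 1251618, 33, 725092]) (.leaf [1, 4, 4489950, 1217142, 5, 4250702])) (.node (.leaf [1, 29, 3199800, 6861300, 12, 461672]) (.leaf []))))) (.node (.node (.node (.node (.leaf [0, 2, 1992498, 148530, 2, 0]) (.leaf [0, 8, 68722, 71784, 8, 0])) (.node (.leaf [1, 17, 263782, 395316, 22, 1448834]) (.leaf [1, 1, 3898730, 3599712, 1, 774304]))) (.node (.node (.leaf [1, 12, 461168, 3037616, 23, 330792]) (.leaf [1, 5, 6489266, 4762556, 17, 3982132])) (.node (.leaf [1, 22, 2963876, 1462528, 17, 3049032]) (.leaf [])))) (.node (.node (.node (.leaf [0, 2, 3515400, 2568400, 2, 0]) (.leaf [1, 4, 4464278, 1382932, 29, 2126652])) (.node (.leaf [1, 44, 1342168, 2250204, 42, 371630]) (.leaf [1, 1, 3471250, 7362844, 5,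 2509922]))) (.node (.node (.leaf [1, 33, 1523598, 66364, 12, 395814]) (.leaf [1, 4, 4744490, 1933598, 1, 3235156])) (.node (.leaf [1, 22, 7471744, 5100456, 8, 1366528]) (.leaf [])))))) (.node (.node (.node (.node (.node (.leaf [0, 2, 0, 675024, 2, 148518]) (.leaf [0, 8, 73690, 70722, 8, 0])) (.node (.leaf [1, 49, 996086, 592880, 5, 997924]) (.leaf [1, 1, 4985726, 2362244, 1, 5038774]))) (.node (.node (.leaf [1, 1, 814984, 0, 28, 0]) (.leaf [1, 5, 5648324, 517716, 4, 4122324])) (.node (.leaf [1, 39, 66528, 4138818, 29, 2963694]) (.leaf [1, 1, 6063716, 6854068, 1, 6920356])))) (.node (.node (.node (.leaf [0, 2, 609184, 2412312, 2, 0]) (.leaf [1, 1, 1502476, 5068642, 22, 5766678])) (.node (.leaf [1, 47, 1647576, 460998, 42, 214378]) (.leaf [1, 1, 92530, 3894116, 5, 4833874]))) (.node (.node (.leaf [1, 34, 264942, 922660, 30, 724772]) (.leaf [1, 4, 5792370, 2979260, 1, 7079234])) (.node (.leaf [1, 29, 2409528, 2214208, 42, 3227120]) (.leaf []))))) (.node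 (.node (.node (.node (.leaf [0, 2, 1391382, 337518, 2, 0]) (.leaf [1, 29, 3964518, 5090234, 17, 4106162])) (.node (.leaf [1, 42, 658560, 131716, 5, 1589460]) (.leaf [1, 1, 3219372, 2465640, 1, 1682290]))) (.node (.node (.leaf [0, 28, 0, 1335542, 12, 529876]) (.leaf [1, 5, 2061610, 248598, 5, 869224])) (.node (.leaf [1, 29, 3114720, 3680528, 42, 2513302]) (.leaf [])))) (.node (.node (.node (.leaf [0, 10, 263776, 148530, 10, 2330010]) (.leaf [1, 5, 465900, 5777660, 1, 2230326])) (.node (.leaf [1, 29, 2439372, 2340870, 4, 683256]) (.leaf [1, 1, 6827266, 6841634, 1, 3328870]))) (.node (.node (.leaf [1, 37, 1382984, 1657168, 8, 5145022]) (.leaf [1, 5, 1592848, 3738550, 2, 1150688])) (.node (.leaf [0, 8, 4618, 2440, 8, 0]) (.leaf []))))))) (.node (.node (.node (.node (.node (.node (.leaf [0, 4, 922338, 1382982, 4, 0]) (.leaf [0, 8, 8064, 73928, 8, 0])) (.node (.leaf [1, 47, 0, 0, 1, 1465970]) (.leaf [1, 5, 5767324, 6240608, 1, 782002]))) (.node (.node (.leaf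 [1, 27, 609168, 1185408, 1, 280246]) (.leaf [1, 5, 6421244, 7105624, 1, 5201164])) (.node (.leaf [1, 2, 1186284, 6763686, 29, 2455494]) (.leaf [1, 1, 6522744, 1188922, 8, 3467748])))) (.node (.node (.node (.leaf [0, 2, 1020952, 1860450, 2, 0]) (.leaf [1, 1, 2080900, 3480896, 29, 3159342])) (.node (.leaf [1, 22, 2127720, 1383652, 22, 1186922]) (.leaf [1, 1, 1625172, 5644830, 1, 2305990]))) (.node (.node (.leaf [1, 12, 790452, 3161426, 2, 2503404]) (.leaf [1, 1, 1502476, 4516514, 5, 4021386])) (.node (.leaf [1, 29, 2236656, 279376, 29, 3700662]) (.leaf []))))) (.node (.node (.node (.node (.leaf [0, 2, 2791002, 988182, 2, 0]) (.leaf [0, 8, 69446, 2026, 8, 0])) (.node (.leaf [1, 48, 1909828, 1317624, 45, 790272]) (.leaf [1, 1, 4235774, 4101592, 5, 3814902]))) (.node (.node (.leaf [1, 12, 987848, 396650, 30, 658566]) (.leaf [1, 5, 5952908, 5585464, 5, 6053702])) (.node (.leaf [1, 30, 1317632, 6780002, 42, 3953720]) (.leaf [])))) (.node (.node (.node (.leaf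 [1, 4, 1383334, 989354, 4, 132070]) (.leaf [1, 5, 797498, 6576732, 4, 6096422])) (.node (.leaf [1, 4, 4365818, 4477712, 1, 1457422]) (.leaf [1, 1, 7457410, 2600474, 1, 279182]))) (.node (.node (.leaf [1, 33, 1844648, 1976358, 4, 444882]) (.leaf [1, 5, 4348000, 3025010, 5, 2040656])) (.node (.leaf [0, 8, 3442, 68636, 8, 0]) (.leaf [])))))) (.node (.node (.node (.node (.node (.leaf [0, 2, 2576790, 1448838, 2, 0]) (.leaf [0, 8, 6204, 6196, 8, 0])) (.node (.leaf [1, 22, 6, 264108, 44, 749286]) (.leaf [1, 1, 4611752, 571770, 5, 6496256]))) (.node (.node (.leaf [1, 30, 658906, 396650, 28, 1008]) (.leaf [1, 5, 728858, 4201794, 17, 4568498])) (.node (.leaf [1, 29, 3776616, 7474964, 2, 2967024]) (.leaf [])))) (.node (.node (.node (.leaf [0, 2, 280074, 1473870, 2, 0]) (.leaf [1, 1, 3020016, 5251916, 4, 6736584])) (.node (.leaf [1, 9, 1597188, 1996960, 2, 2791324]) (.leaf [1, 1, 7261956, 1367982, 8, 5263214]))) (.node (.node (.leaf [1, 29, 527204, 938796, 34, 1591314])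 (.leaf [1, 1, 6311604, 2913554, 5, 5638564])) (.node (.leaf [1, 22, 4755270, 1378088, 22, 1844322]) (.leaf []))))) (.node (.node (.node (.node (.leaf [0, 2, 1202214, 1127968, 2, 0]) (.leaf [1, 17, 4305074, 7496144, 37, 329626])) (.node (.leaf [1, 17, 3770610, 2313544, 5, 1712258]) (.leaf [1, 1, 1845076, 6886936, 1, 1669862]))) (.node (.node (.leaf [1, 1, 140302, 329634, 31, 337512]) (.leaf [1, 5, 1715866, 351576, 5, 1110914])) (.node (.leaf [0, 2, 0, 7361198, 3, 6889532]) (.leaf [])))) (.node (.node (.node (.leaf [1, 1, 865380, 469392, 18, 724416]) (.leaf [1, 5, 6689308, 506010, 1, 5176468])) (.node (.leaf [1, 29, 1056564, 506874, 30, 988186]) (.leaf [1, 5, 4613072, 4471790, 1, 1779688]))) (.node (.node (.leaf [1, 39, 197736, 921984, 33, 659570]) (.leaf [1, 1, 4140236, 2780166, 1, 1430278])) (.node (.leaf [0, 8, 756, 68302, 8, 0]) (.leaf []))))))))) (.node (.node (.node (.node (.node (.node (.node (.node (.leaf [1, 2, 921984, 922334, 1, 921984]) (.leaf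 [0, 8, 3236, 67416, 8, 0])) (.node (.leaf [1, 39, 461164, 339194, 36, 396648]) (.leaf [1, 1, 1435434, 2691364, 8, 5784404]))) (.node (.node (.leaf [0, 5, 1333752, 1333752, 5, 0]) (.leaf [1, 1, 4583428, 2758426, 5, 5427508])) (.node (.leaf [1, 4, 1424648, 5265752, 29, 2181832]) (.leaf [1, 1, 2083922, 1476370, 5, 881408])))) (.node (.node (.node (.leaf [0, 2, 2412330, 724432, 2, 0]) (.leaf [1, 17, 1976036, 4390740, 36, 4611922])) (.node (.leaf [1, 42, 263778, 264108, 47, 806736]) (.leaf [1, 5, 618488, 134750, 5, 4610766]))) (.node (.node (.leaf [1, 1, 971376, 1448832, 33, 6]) (.leaf [1, 5, 1959146, 2378324, 1, 1054566])) (.node (.leaf [1, 29, 2631792, 5442028, 12, 1383988]) (.leaf []))))) (.node (.node (.node (.node (.leaf [0, 2, 3045840, 1382992, 2, 0]) (.leaf [0, 8, 4876, 8070, 8, 0])) (.node (.leaf [1, 47, 1392720, 593220, 16, 280064]) (.leaf [1, 5, 5783752, 5320648, 2, 1504114]))) (.node (.node (.leaf [0, 15, 988186, 932070, 12, 132228]) (.leaf [1,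 5, 4185316, 1074102, 17, 4091488])) (.node (.leaf [1, 1, 330148, 3326038, 29, 2525352]) (.leaf [])))) (.node (.node (.node (.leaf [0, 2, 486030, 1803144, 2, 0]) (.leaf [1, 29, 2110092, 7041914, 4, 4254036])) (.node (.leaf [1, 42, 823556, 1588946, 42, 1448832]) (.leaf [1, 1, 5521350, 1427788, 1, 5311198]))) (.node (.node (.leaf [1, 30, 329960, 264938, 33, 2569560]) (.leaf [1, 5, 1101658, 2680878, 1, 3045446])) (.node (.leaf [1, 22, 6436284, 7460068, 29, 50404]) (.leaf [])))))) (.node (.node (.node (.node (.node (.leaf [1, 5, 658560, 1383484, 1, 923496]) (.leaf [0, 8, 72288, 8010, 8, 0])) (.node (.leaf [1, 50, 741222, 461496, 48, 2453490]) (.leaf [1, 5, 1467650, 5704254, 1, 7235102]))) (.node (.node (.leaf [1, 23, 263436, 2313204, 4, 2247344]) (.leaf [1, 5, 6976498, 2808980, 5, 1887448])) (.node (.leaf [1, 29, 2727660, 1691778, 30, 600942]) (.leaf [1, 1, 6805004, 208430, 5, 803974])))) (.node (.node (.node (.leaf [0, 2, 1860432, 65874, 2, 0]) (.leaf [1,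 1, 2568106, 766552, 17, 1275698])) (.node (.leaf [0, 42, 1317122, 1383482, 43, 1317120]) (.leaf [1, 5, 6452116, 4347398, 1, 5319384]))) (.node (.node (.leaf [1, 33, 724584, 1326362, 34, 395304]) (.leaf [1, 1, 3947310, 6575402, 1, 6293830])) (.node (.leaf [1, 29, 4930710, 7270482, 39, 658572]) (.leaf []))))) (.node (.node (.node (.node (.leaf [0, 2, 90904, 222616, 2, 0]) (.leaf [1, 17, 1974546, 6010626, 1, 602618])) (.node (.leaf [1, 42, 403368, 593062, 1, 1251944]) (.leaf [1, 5, 295346, 3014480, 1, 5960750]))) (.node (.node (.leaf [1, 30, 988854, 131714, 12, 462000]) (.leaf [1, 5, 855248, 220832, 36, 4347574])) (.node (.leaf [1, 29, 3579048, 7273308, 39, 1911190]) (.leaf [])))) (.node (.node (.node (.leaf [1, 8, 329790, 132224, 8, 1383660]) (.leaf [1, 4, 7494698, 511998, 5, 73082])) (.node (.leaf [1, 2, 1844484, 6813552, 4, 2044394]) (.leaf [1, 5, 1999060, 5744826, 1, 1000442]))) (.node (.node (.leaf [1, 12, 329960, 263770, 36, 329454]) (.leaf [1, 1,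 5710222, 2629716, 2, 1445050])) (.node (.leaf [0, 8, 73228, 68206, 8, 0]) (.leaf []))))))) (.node (.node (.node (.node (.node (.node (.leaf [1, 1, 1382982, 1382976, 4, 395136]) (.leaf [0, 8, 4172, 910, 8, 0])) (.node (.leaf [1, 44, 1267728, 659576, 45, 1267728]) (.leaf [1, 2, 2503404, 220646, 1, 936916]))) (.node (.node (.leaf [1, 23, 724590, 460992, 1, 74106]) (.leaf [1, 5, 7228868, 6540068, 5, 337490])) (.node (.leaf [1, 1, 436634, 4139990, 29, 4017222]) (.leaf [1, 1, 1127292, 3731680, 8, 7486958])))) (.node (.node (.node (.leaf [0, 2, 1860438, 1934862, 2, 0]) (.leaf [1, 1, 2410180, 4276850, 8, 3161432])) (.node (.leaf [1, 47, 16632, 658728, 22, 148534]) (.leaf [1, 5, 7026170, 987596, 1, 1228228]))) (.node (.node (.leaf [1, 1, 57974, 724428, 33, 790782]) (.leaf [1, 5, 2647506, 2995988, 5, 403010])) (.node (.leaf [1, 29, 1124382, 135016, 29, 3026928]) (.leaf []))))) (.node (.node (.node (.node (.leaf [0, 2, 1325520, 1325520, 2, 0]) (.leaf [0, 8, 7514,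 70956, 8, 0])) (.node (.leaf [1, 47, 1581224, 1450512, 17, 2049768]) (.leaf [1, 1, 7400964, 6772196, 1, 3292232]))) (.node (.node (.leaf [1, 29, 732656, 798518, 12, 149696]) (.leaf [1, 8, 4866232, 4254880, 5, 6450668])) (.node (.leaf [1, 12, 4881748, 1022364, 42, 3433102]) (.leaf [])))) (.node (.node (.node (.leaf [1, 2, 790788, 330796, 5, 592710]) (.leaf [1, 5, 334708, 6948738, 1, 625972])) (.node (.leaf [1, 9, 1448852, 988356, 9, 634220]) (.leaf [1, 1, 5005758, 7167278, 1, 3032230]))) (.node (.node (.leaf [1, 33, 5334840, 462004, 1, 946694]) (.leaf [1, 1, 4474440, 3724790, 8, 1642032])) (.node (.leaf [0, 8, 68300, 748, 8, 0]) (.leaf [])))))) (.node (.node (.node (.node (.node (.leaf [0, 2, 1654632, 16818, 2, 0]) (.leaf [0, 8, 71424, 4168, 8, 0])) (.node (.leaf [1, 9, 263778, 922492, 47, 470234]) (.leaf [1, 1, 3953268, 3781138, 5, 6778648]))) (.node (.node (.leaf [1, 4, 809096, 988514, 16, 988856]) (.leaf [1, 5, 5304730, 4949570, 17, 3381982])) (.node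 (.leaf [1, 29, 2634590, 1824040, 42, 3885862]) (.leaf [])))) (.node (.node (.node (.leaf [0, 2, 1803150, 2765970, 2, 0]) (.leaf [1, 4, 7241208, 7427752, 29, 2026348])) (.node (.leaf [1, 5, 732652, 691662, 9, 362562]) (.leaf [1, 1, 6780330, 4097546, 8, 6769960]))) (.node (.node (.leaf [1, 23, 1317288, 24700, 34, 659580]) (.leaf [1, 5, 3846806, 1224100, 1, 7342658])) (.node (.leaf [1, 22, 3758400, 5107250, 22, 5903012]) (.leaf []))))) (.node (.node (.node (.node (.leaf [0, 2, 2782770, 724434, 2, 0]) (.leaf [1, 17, 1744922, 4514880, 29, 5067070])) (.node (.leaf [1, 22, 724774, 922490, 5, 485692]) (.leaf [1, 5, 2812380, 1930160, 2, 2242658]))) (.node (.node (.leaf [1, 12, 3564628, 2848628, 1, 1432722]) (.leaf [1, 5, 2698592, 4296790, 4, 668312])) (.node (.leaf [0, 1, 6643068, 74654, 1, 0]) (.leaf [])))) (.node (.node (.node (.leaf [0, 16, 1333926, 930232, 16, 0]) (.leaf [1, 5, 7031558, 6987640, 4, 5992736])) (.node (.leaf [1, 12, 330796, 594456, 29, 4621656])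 (.leaf [1, 5, 7164538, 2380316, 1, 5652450]))) (.node (.node (.leaf [1, 39, 461344, 168, 39, 198072]) (.leaf [1, 1, 4703886, 3663972, 8, 1318640])) (.node (.leaf [0, 8, 67724, 5786, 8, 0]) (.leaf [])))))))) (.node (.node (.node (.node (.node (.node (.node (.leaf [1, 3, 0, 0, 1, 790272]) (.leaf [0, 8, 1566, 1566, 8, 0])) (.node (.leaf [1, 1, 642450, 396648, 39, 66872]) (.leaf [1, 1, 3673422, 4127394, 1, 184170]))) (.node (.node (.leaf [1, 1, 214032, 2767464, 8, 1399796]) (.leaf [1, 5, 5789396, 7402274, 5, 926352])) (.node (.leaf [1, 23, 1317798, 1924668, 29, 2900364]) (.leaf [1, 5, 1278590, 6646458, 1, 1125952])))) (.node (.node (.node (.leaf [0, 2, 3861162, 2576802, 2, 0]) (.leaf [1, 1, 1407686, 704624, 1, 5373874])) (.node (.leaf [1, 47, 16632, 1383148, 50, 609526]) (.leaf [1, 1, 1527276, 7495024, 2, 6744582]))) (.node (.node (.leaf [1, 30, 988186, 856486, 33, 1520]) (.leaf [1, 5, 276216, 6947670, 5, 2054218])) (.node (.leaf [1, 29, 2542398, 2918168,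 1, 1226736]) (.leaf []))))) (.node (.node (.node (.node (.leaf [0, 2, 2313366, 1054048, 2, 0]) (.leaf [0, 8, 73868, 6440, 8, 0])) (.node (.leaf [1, 47, 864714, 2380562, 17, 2107746]) (.leaf [1, 5, 7126122, 3177130, 1, 6100308]))) (.node (.node (.leaf [1, 28, 508, 2313194, 23, 593058]) (.leaf [1, 5, 5238002, 609592, 17, 3296806])) (.node (.leaf [1, 17, 1054034, 223272, 17, 2249874]) (.leaf [])))) (.node (.node (.node (.leaf [1, 7, 526854, 1720662, 1, 535088]) (.leaf [1, 4, 6892936, 2140332, 37, 133224])) (.node (.leaf [1, 5, 485694, 313168, 42, 8240]) (.leaf [1, 5, 6524994, 6620576, 5, 3898096]))) (.node (.node (.leaf [1, 30, 198080, 264944, 33, 1129146]) (.leaf [1, 1, 6535042, 4163388, 1, 3102034])) (.node (.leaf [1, 29, 2409528, 49712, 22, 6161814]) (.leaf [])))))) (.node (.node (.node (.node (.node (.leaf [0, 2, 1712256, 1909842, 2, 0]) (.leaf [0, 8, 1312, 68378, 8, 0])) (.node (.leaf [1, 8, 601614, 658914, 42, 996082]) (.leaf [1, 1, 4383608, 741874,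 1, 4386088]))) (.node (.node (.leaf [1, 29, 1382984, 592872, 1, 527200]) (.leaf [1, 36, 395488, 5809188, 5, 136804])) (.node (.leaf [1, 39, 329792, 698410, 29, 539406]) (.leaf [1, 5, 1561404, 189336, 5, 5607658])))) (.node (.node (.node (.leaf [0, 2, 2313376, 2190054, 2, 0]) (.leaf [1, 4, 6312078, 7347648, 1, 3086454])) (.node (.leaf [1, 4, 930724, 922996, 31, 469224]) (.leaf [1, 1, 2794512, 4039916, 1, 526476]))) (.node (.node (.leaf [1, 23, 594224, 1325358, 34, 198240]) (.leaf [1, 5, 7269338, 4714536, 1, 5924874])) (.node (.leaf [1, 22, 2337144, 4690040, 1, 1251944]) (.leaf []))))) (.node (.node (.node (.node (.leaf [0, 2, 749448, 2000718, 2, 0]) (.leaf [1, 29, 1090386, 6256446, 17, 3060934])) (.node (.leaf [1, 31, 988198, 724590, 8, 1335936]) (.leaf [1, 5, 6862178, 6130870, 1, 7196122]))) (.node (.node (.leaf [1, 30, 461344, 347256, 12, 1581218]) (.leaf [1, 5, 3463572, 1728362, 1, 214538])) (.node (.leaf [0, 1, 2775562, 4781298, 1, 0]) (.leaf []))))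 (.node (.node (.node (.leaf [1, 1, 765930, 988194, 12, 329448]) (.leaf [1, 5, 1522082, 6380814, 1, 3312456])) (.node (.leaf [1, 29, 3690804, 142758, 23, 461160]) (.leaf [1, 1, 586554, 5349246, 1, 5084558]))) (.node (.node (.leaf [1, 37, 131720, 8584, 33, 790284]) (.leaf [1, 2, 2641016, 3359196, 1, 2443738])) (.node (.leaf [0, 8, 67894, 71646, 8, 0]) (.leaf []))))))) (.node (.node (.node (.node (.node (.node (.leaf [1, 1, 988344, 988350, 5, 1383648]) (.leaf [0, 8, 69684, 1350, 8, 0])) (.node (.leaf [1, 1, 403872, 724416, 48, 337512]) (.leaf [1, 5, 5648324, 1862000, 1, 5452262]))) (.node (.node (.leaf [0, 11, 2, 2, 11, 0]) (.leaf [1, 5, 4784428, 4058538, 5, 7409880])) (.node (.leaf [1, 12, 3517084, 3742162, 29, 4365828]) (.leaf [1, 1, 3796206, 6923434, 1, 1683096])))) (.node (.node (.node (.leaf [0, 2, 798688, 1473882, 2, 0]) (.leaf [1, 1, 1901046, 3090032, 29, 4359222])) (.node (.leaf [1, 22, 1514696, 988348, 47, 205968]) (.leaf [1, 5, 5112446, 953466,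 5, 6567606]))) (.node (.node (.leaf [1, 12, 4283668, 4881578, 34, 1383986]) (.leaf [1, 1, 1588944, 2760680, 1, 2714990])) (.node (.leaf [1, 29, 3486526, 5153636, 29, 3961608]) (.leaf []))))) (.node (.node (.node (.node (.leaf [0, 2, 872934, 2173266, 2, 0]) (.leaf [0, 8, 73862, 70946, 8, 0])) (.node (.leaf [1, 48, 396656, 922330, 8, 675528]) (.leaf [1, 1, 995796, 4280564, 5, 1376188]))) (.node (.node (.leaf [1, 1, 395480, 1317130, 30, 469230]) (.leaf [0, 5, 3810052, 2054966, 22, 1244])) (.node (.leaf [1, 39, 8740, 3331338, 29, 2451264]) (.leaf [])))) (.node (.node (.node (.leaf [1, 1, 1318634, 461004, 8, 264434]) (.leaf [1, 5, 3445460, 4151350, 1, 1159090])) (.node (.leaf [1, 4, 2334922, 6615394, 42, 1935536]) (.leaf [1, 5, 2278758, 355602, 1, 880334]))) (.node (.node (.leaf [1, 16, 527016, 348, 33, 140452]) (.leaf [1, 5, 3178710, 2036612, 5, 1251610])) (.node (.leaf [0, 8, 66104, 1152, 8, 0]) (.leaf [])))))) (.node (.node (.node (.node (.node (.leaf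 [0, 2, 1333936, 362376, 2, 0]) (.leaf [0, 8, 69680, 68380, 8, 0])) (.node (.leaf [1, 22, 1382982, 988518, 9, 535088]) (.leaf [1, 5, 1285688, 4788524, 1, 2298854]))) (.node (.node (.leaf [1, 28, 508, 724774, 26, 197920]) (.leaf [1, 4, 1581056, 6351232, 5, 5985148])) (.node (.leaf [1, 4, 1185924, 2182156, 17, 1070160]) (.leaf [])))) (.node (.node (.node (.leaf [0, 2, 3029560, 3507168, 2, 0]) (.leaf [1, 4, 6704426, 4455062, 29, 5794038])) (.node (.leaf [1, 17, 3426024, 5005230, 44, 732822]) (.leaf [1, 5, 1679828, 7335934, 1, 3020040]))) (.node (.node (.leaf [1, 12, 4285452, 4807498, 34, 1260174]) (.leaf [1, 36, 5335414, 3136334, 1, 4555430])) (.node (.leaf [1, 22, 1514688, 6894374, 22, 3168408]) (.leaf []))))) (.node (.node (.node (.node (.leaf [0, 2, 222616, 90904, 2, 0]) (.leaf [1, 22, 4781246, 6718100, 17, 4196714])) (.node (.leaf [1, 17, 1317136, 395308, 47, 1070160]) (.leaf [1, 5, 6030400, 631842, 5, 1706142]))) (.node (.node (.leaf [1, 33, 264432,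 461500, 23, 168]) (.leaf [1, 5, 1506050, 2978420, 5, 485692])) (.node (.leaf [1, 16, 765916, 4471420, 29, 4335972]) (.leaf [])))) (.node (.node (.node (.leaf [0, 5, 2107560, 2107560, 5, 0]) (.leaf [1, 5, 6035216, 6229722, 5, 6585244])) (.node (.leaf [1, 30, 724928, 5371526, 29, 2769672]) (.leaf [1, 1, 7487886, 6883082, 1, 1992192]))) (.node (.node (.leaf [1, 23, 67370, 395482, 39, 988010]) (.leaf [1, 1, 2041210, 3894684, 5, 5051364])) (.node (.leaf [0, 8, 7380, 2346, 8, 0]) (.leaf []))))))))))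

/-- the facts, part 11 -/
def factTab11 : WTab :=
  (.node (.node (.node (.node (.node (.node (.node (.node (.node (.leaf [0, 1, 329632, 329632, 1, 0]) (.leaf [0, 8, 5572, 7208, 8, 0])) (.node (.leaf [1, 39, 1383650, 463120, 12, 2634248]) (.leaf [1, 1, 1835276, 5662308, 1, 1900732]))) (.node (.node (.leaf [0, 5, 1252776, 1252776, 5, 0]) (.leaf [1, 5, 203596, 5892282, 5, 5953372])) (.node (.leaf [1, 12, 3303052, 1003836, 29, 4416396]) (.leaf [1, 1, 5256778, 5385454, 1, 6944554])))) (.node (.node (.node (.leaf [0, 2, 1588794, 2304960, 2, 0]) (.leaf [1, 22, 2336730, 3321808, 36, 6258142])) (.node (.leaf [1, 22, 1976038, 725436, 50, 1070162]) (.leaf [1, 2, 6451384, 259182, 1, 5069922]))) (.node (.node (.leaf [1, 12, 3690964, 1860788, 33, 131888]) (.leaf [1, 5, 1452868, 2207490, 5, 895784])) (.node (.leaf [1, 29, 1841520, 7190158, 12, 5139456]) (.leaf []))))) (.node (.node (.node (.node (.leaf [0, 2, 1539736, 1984086, 2, 0]) (.leaf [0, 8, 8076, 4884, 8,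 0])) (.node (.leaf [1, 47, 725088, 330798, 4, 954920]) (.leaf [1, 5, 2004038, 6325644, 5, 3107236]))) (.node (.node (.leaf [1, 28, 1384496, 814976, 4, 164998]) (.leaf [1, 5, 6438156, 5342706, 2, 2387796])) (.node (.leaf [1, 42, 1647920, 1316764, 37, 1318632]) (.leaf [])))) (.node (.node (.node (.leaf [0, 2, 469408, 1597182, 2, 0]) (.leaf [1, 16, 922660, 2442506, 4, 5257114])) (.node (.leaf [0, 47, 0, 2710008, 42, 568016]) (.leaf [1, 5, 1726044, 2978230, 1, 729644]))) (.node (.node (.leaf [1, 33, 3112200, 131888, 1, 3624780]) (.leaf [1, 1, 3164710, 3597316, 5, 621608])) (.node (.leaf [1, 17, 3567648, 4624956, 22, 3231552]) (.leaf [])))))) (.node (.node (.node (.node (.node (.leaf [0, 5, 660072, 660072, 5, 0]) (.leaf [0, 8, 908, 4174, 8, 0])) (.node (.leaf [1, 48, 1654632, 395640, 49, 16818]) (.leaf [1, 1, 1371932, 2594866, 37, 66362]))) (.node (.node (.leaf [1, 1, 271830, 1992312, 16, 930224]) (.leaf [1, 5, 7343276, 4178186, 1, 3148876])) (.node (.leaf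 [1, 29, 2126652, 5367204, 12, 5544444]) (.leaf [1, 1, 7061136, 2146914, 1, 1106716])))) (.node (.node (.node (.leaf [0, 2, 1267734, 2445088, 2, 0]) (.leaf [1, 1, 2632618, 203230, 29, 3697188])) (.node (.leaf [1, 31, 139944, 790444, 4, 272164]) (.leaf [1, 1, 1362980, 2491336, 5, 5721520]))) (.node (.node (.leaf [1, 34, 264104, 330300, 30, 1317126]) (.leaf [1, 1, 6615742, 818428, 1, 626808])) (.node (.leaf [1, 29, 5002608, 2850878, 29, 1665732]) (.leaf []))))) (.node (.node (.node (.node (.leaf [0, 2, 2436690, 996088, 2, 0]) (.leaf [0, 8, 71796, 1696, 8, 0])) (.node (.leaf [1, 1, 17140, 198246, 17, 263426]) (.leaf [1, 5, 3702454, 539288, 5, 1031152]))) (.node (.node (.leaf [1, 30, 139956, 1965218, 28, 1128462]) (.leaf [1, 5, 1230850, 4602718, 1, 1720992])) (.node (.leaf [1, 42, 3227120, 2341060, 30, 395316]) (.leaf [])))) (.node (.node (.node (.leaf [1, 1, 198244, 594224, 8, 66864]) (.leaf [1, 5, 1388404, 6809716, 4, 839678])) (.node (.leaf [1, 5, 732652,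 2643452, 4, 5140494]) (.leaf [1, 1, 1565146, 4757176, 5, 6012982]))) (.node (.node (.leaf [1, 36, 198246, 1978548, 8, 1416262]) (.leaf [1, 4, 6507372, 2599834, 2, 744238])) (.node (.leaf [0, 8, 66390, 4630, 8, 0]) (.leaf []))))))) (.node (.node (.node (.node (.node (.node (.leaf [0, 3, 790272, 724416, 3, 0]) (.leaf [0, 8, 3188, 72688, 8, 0])) (.node (.leaf [1, 43, 1992498, 659576, 44, 790272]) (.leaf [1, 1, 120668, 3993454, 5, 5000812]))) (.node (.node (.leaf [1, 1, 403718, 790272, 19, 337512]) (.leaf [1, 4, 5882090, 7218846, 5, 5882796])) (.node (.leaf [1, 29, 4282998, 311378, 30, 791284]) (.leaf [1, 5, 2349940, 2983812, 1, 5812872])))) (.node (.node (.node (.leaf [0, 2, 1136352, 8418, 2, 0]) (.leaf [1, 1, 1769334, 5611840, 1, 3068914])) (.node (.leaf [1, 22, 139952, 724768, 5, 272664]) (.leaf [1, 5, 6990202, 152642, 1, 7300756]))) (.node (.node (.leaf [1, 33, 264434, 345744, 30, 329956]) (.leaf [1, 1, 2242140, 3555160, 5, 4583720])) (.node (.leaf [1,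 1, 3106656, 3780222, 29, 3686982]) (.leaf []))))) (.node (.node (.node (.node (.leaf [0, 2, 337530, 938616, 2, 0]) (.leaf [0, 8, 71792, 68726, 8, 0])) (.node (.leaf [1, 9, 1399794, 380364, 47, 1063440]) (.leaf [1, 1, 6381732, 184098, 5, 340342]))) (.node (.node (.leaf [1, 12, 988196, 724770, 30, 1384490]) (.leaf [1, 1, 4337550, 595280, 8, 4792950])) (.node (.leaf [1, 29, 5535520, 2780786, 17, 4091488]) (.leaf [])))) (.node (.node (.node (.leaf [0, 7, 329632, 790628, 4, 658568]) (.leaf [1, 1, 16808, 894632, 5, 3586068])) (.node (.leaf [1, 29, 601948, 1317292, 42, 2174768]) (.leaf [1, 1, 4589592, 3245930, 1, 6149012]))) (.node (.node (.leaf [1, 33, 2051130, 363216, 23, 462506]) (.leaf [1, 1, 4218814, 7163588, 5, 4331610])) (.node (.leaf [1, 29, 3114720, 2448770, 22, 6704258]) (.leaf [])))))) (.node (.node (.node (.node (.node (.leaf [0, 2, 82672, 420186, 2, 0]) (.leaf [0, 8, 6834, 6834, 8, 0])) (.node (.leaf [1, 22, 214386, 396148, 46, 1909838]) (.leaf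 [1, 1, 4403380, 3068002, 1, 2319854]))) (.node (.node (.leaf [0, 29, 214370, 214370, 29, 0]) (.leaf [1, 17, 3801578, 6432730, 5, 4377038])) (.node (.leaf [1, 4, 5071782, 6761392, 17, 3498608]) (.leaf [])))) (.node (.node (.node (.leaf [0, 2, 667128, 1918224, 2, 0]) (.leaf [1, 4, 6547360, 6104510, 29, 1709808])) (.node (.leaf [1, 9, 108194, 3229980, 22, 1399794]) (.leaf [1, 5, 5534750, 7366622, 1, 3217856]))) (.node (.node (.leaf [1, 23, 790452, 938800, 34, 592708]) (.leaf [1, 1, 3678576, 4468060, 1, 4780356])) (.node (.leaf [1, 22, 5116638, 851240, 1, 1465970]) (.leaf []))))) (.node (.node (.node (.node (.leaf [0, 2, 2066584, 2124030, 2, 0]) (.leaf [1, 4, 255550, 5742218, 17, 3011542])) (.node (.leaf [1, 17, 1021122, 165512, 47, 1120562]) (.leaf [1, 1, 3640042, 970416, 1, 5753034]))) (.node (.node (.leaf [1, 12, 74260, 1317132, 29, 1119906]) (.leaf [1, 5, 3027276, 5144978, 44, 666966])) (.node (.leaf [0, 1, 5690200, 6207758, 1, 0]) (.leaf [])))) (.node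 (.node (.node (.leaf [1, 16, 263778, 16806, 1, 930222]) (.leaf [1, 1, 537938, 3040674, 5, 5922992])) (.node (.leaf [1, 29, 4417812, 722922, 1, 502500]) (.leaf [1, 1, 5439032, 3504620, 5, 902494]))) (.node (.node (.leaf [1, 39, 395816, 864534, 4, 2635758]) (.leaf [1, 1, 1333938, 3724592, 1, 4783524])) (.node (.leaf [0, 8, 5274, 68198, 8, 0]) (.leaf [])))))))) (.node (.node (.node (.node (.node (.node (.node (.leaf [0, 2, 197574, 724416, 2, 0]) (.leaf [0, 8, 3818, 2526, 8, 0])) (.node (.leaf [1, 33, 67370, 1317294, 39, 724586]) (.leaf [1, 1, 347870, 1587356, 5, 1456448]))) (.node (.node (.leaf [0, 5, 551718, 551718, 5, 0]) (.leaf [1, 5, 6646546, 6635652, 5, 2220254])) (.node (.leaf [1, 29, 2110092, 80882, 12, 4020244]) (.leaf [1, 5, 4469558, 2988820, 1, 173782])))) (.node (.node (.node (.leaf [0, 2, 403552, 1918240, 2, 0]) (.leaf [1, 1, 683262, 3461822, 1, 5069116])) (.node (.leaf [1, 47, 66210, 460998, 47, 932070]) (.leaf [1, 1, 7205654, 2836016, 1, 3310716])))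 (.node (.node (.leaf [1, 33, 678, 678, 29, 263426]) (.leaf [1, 5, 3145482, 3478050, 4, 3709850])) (.node (.leaf [1, 8, 4354750, 7249292, 29, 1116384]) (.leaf []))))) (.node (.node (.node (.node (.leaf [0, 2, 1646736, 741234, 2, 0]) (.leaf [0, 8, 73518, 73518, 8, 0])) (.node (.leaf [1, 22, 329280, 1318132, 5, 1399786]) (.leaf [1, 1, 774304, 315192, 1, 2655698]))) (.node (.node (.leaf [1, 23, 330792, 675374, 12, 594224]) (.leaf [1, 17, 3982132, 4436376, 5, 6383984])) (.node (.leaf [1, 1, 1136024, 6996790, 29, 3642588]) (.leaf [])))) (.node (.node (.node (.leaf [0, 4, 609168, 1654650, 6, 197568]) (.leaf [1, 29, 2126652, 2308506, 4, 4609424])) (.node (.leaf [1, 22, 1193640, 4026962, 42, 1965216]) (.leaf [1, 5, 2509922, 3867136, 1, 3603298]))) (.node (.node (.leaf [1, 12, 395814, 66206, 33, 1713264]) (.leaf [1, 1, 3235156, 6181922, 4, 4478714])) (.node (.leaf [1, 29, 1833234, 2001512, 22, 6837382]) (.leaf [])))))) (.node (.node (.node (.node (.node (.leaf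 [0, 2, 148528, 675024, 2, 0]) (.leaf [0, 8, 8066, 73922, 8, 0])) (.node (.leaf [1, 5, 997924, 725934, 49, 1333942]) (.leaf [1, 1, 3224824, 4519758, 5, 4462602]))) (.node (.node (.leaf [1, 28, 0, 0, 1, 296692]) (.leaf [1, 4, 4122324, 6722736, 5, 5568010])) (.node (.leaf [1, 39, 329786, 4746666, 29, 3301200]) (.leaf [1, 1, 6920356, 1671792, 1, 6785558])))) (.node (.node (.node (.leaf [0, 2, 2049954, 3490386, 2, 0]) (.leaf [1, 22, 5766678, 973544, 1, 1512512])) (.node (.leaf [1, 42, 1852556, 66210, 47, 1580712]) (.leaf [1, 5, 4833874, 6535632, 1, 158386]))) (.node (.node (.leaf [1, 30, 264948, 988848, 34, 1383328]) (.leaf [1, 1, 7079234, 3016610, 4, 5766888])) (.node (.leaf [1, 42, 3227120, 1907900, 29, 1814802]) (.leaf []))))) (.node (.node (.node (.node (.leaf [0, 2, 469398, 214368, 2, 0]) (.leaf [1, 29, 1383652, 3980608, 17, 3801578])) (.node (.leaf [1, 5, 1589460, 131716, 42, 396648]) (.leaf [1, 1, 2651986, 5736184, 1, 4346806]))) (.node (.node (.leaf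 [1, 1, 814984, 1335542, 12, 529876]) (.leaf [1, 5, 245498, 7418564, 5, 2775468])) (.node (.leaf [1, 29, 2112668, 6050310, 1, 2654576]) (.leaf [])))) (.node (.node (.node (.leaf [0, 10, 1267728, 148530, 10, 0]) (.leaf [1, 4, 6495910, 5717354, 5, 1456448])) (.node (.leaf [1, 4, 683256, 6219262, 29, 2456004]) (.leaf [1, 5, 3724214, 501552, 1, 3230062]))) (.node (.node (.leaf [1, 37, 922330, 1992494, 12, 2709336]) (.leaf [1, 2, 1150688, 6755300, 5, 1585898])) (.node (.leaf [0, 8, 66326, 472, 8, 0]) (.leaf []))))))) (.node (.node (.node (.node (.node (.node (.leaf [0, 5, 0, 0, 5, 0]) (.leaf [0, 8, 71430, 73058, 8, 0])) (.node (.leaf [1, 47, 609168, 593720, 46, 148530]) (.leaf [1, 5, 5256500, 6160764, 1, 845084]))) (.node (.node (.leaf [1, 1, 280246, 807090, 27, 486042]) (.leaf [1, 1, 3661444, 6951554, 5, 7429756])) (.node (.leaf [1, 4, 174832, 31158, 29, 2776720]) (.leaf [1, 8, 3467748, 6236810, 1, 6530158])))) (.node (.node (.node (.leaf [0, 2, 1984086,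 1539736, 2, 0]) (.leaf [1, 29, 3159342, 6299702, 1, 2230326])) (.node (.leaf [1, 22, 1186922, 593212, 22, 2127048]) (.leaf [1, 8, 4716722, 1172772, 5, 1774778]))) (.node (.node (.leaf [1, 2, 2503404, 1195164, 12, 263594]) (.leaf [1, 5, 4021386, 2345698, 1, 1512512])) (.node (.leaf [1, 29, 1947152, 4685890, 29, 1659126]) (.leaf []))))) (.node (.node (.node (.node (.leaf [0, 2, 214368, 469398, 2, 0]) (.leaf [0, 8, 72056, 7658, 8, 0])) (.node (.leaf [1, 48, 930224, 1382980, 1, 1055216]) (.leaf [1, 5, 3814902, 477856, 1, 4981856]))) (.node (.node (.leaf [1, 12, 658732, 2576618, 29, 658560]) (.leaf [1, 36, 395646, 6839636, 5, 7230806])) (.node (.leaf [1, 42, 3953720, 2468702, 30, 989358]) (.leaf [])))) (.node (.node (.node (.leaf [1, 1, 593720, 396152, 1, 66864]) (.leaf [1, 4, 6045040, 4436300, 5, 205466])) (.node (.leaf [1, 4, 3178562, 4596376, 1, 332310]) (.leaf [1, 1, 80662, 4919620, 8, 5419290]))) (.node (.node (.leaf [1, 4, 444882, 74102, 33, 1194148])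 (.leaf [1, 5, 3367672, 668102, 5, 1593996])) (.node (.leaf [0, 8, 2782, 69304, 8, 0]) (.leaf [])))))) (.node (.node (.node (.node (.node (.leaf [0, 2, 526848, 1646742, 2, 0]) (.leaf [0, 8, 70952, 73858, 8, 0])) (.node (.leaf [0, 44, 666966, 725426, 44, 75098]) (.leaf [1, 1, 5606648, 2654698, 5, 7364296]))) (.node (.node (.leaf [1, 28, 1008, 263432, 30, 395486]) (.leaf [1, 17, 4568498, 6628848, 5, 333088])) (.node (.leaf [1, 29, 3387396, 6193744, 2, 3688452]) (.leaf [])))) (.node (.node (.node (.leaf [0, 2, 3861150, 1720674, 2, 0]) (.leaf [1, 1, 1900464, 5430008, 4, 6713318])) (.node (.leaf [1, 2, 2791324, 3346732, 9, 1597196]) (.leaf [1, 8, 5263214, 5592060, 1, 6697798]))) (.node (.node (.leaf [1, 29, 609526, 340, 33, 16968]) (.leaf [1, 5, 5638564, 3697948, 1, 6315980])) (.node (.leaf [1, 22, 3382104, 170256, 8, 675528]) (.leaf []))))) (.node (.node (.node (.node (.leaf [0, 2, 263766, 2190066, 2, 0]) (.leaf [1, 29, 1256094, 2558446, 17, 2789278])) (.node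 (.leaf [1, 5, 1712258, 700066, 17, 3967824]) (.leaf [1, 1, 1669862, 5105868, 1, 1195238]))) (.node (.node (.leaf [1, 1, 1385514, 403542, 31, 872946]) (.leaf [1, 5, 1110914, 7382256, 5, 1528236])) (.node (.leaf [0, 4, 2453818, 7369246, 4, 7133348]) (.leaf [])))) (.node (.node (.node (.leaf [0, 18, 214374, 1127958, 18, 65862]) (.leaf [1, 5, 401804, 7056764, 5, 7041848])) (.node (.leaf [1, 30, 988186, 6576606, 29, 1064628]) (.leaf [1, 1, 365504, 56632, 1, 2700144]))) (.node (.node (.leaf [1, 33, 659570, 724590, 39, 168]) (.leaf [1, 1, 4074380, 1733668, 1, 1349188])) (.node (.leaf [0, 8, 72694, 72692, 8, 0]) (.leaf []))))))))) (.node (.node (.node (.node (.node (.node (.node (.node (.leaf [1, 1, 921984, 329282, 2, 1384496]) (.leaf [0, 8, 2032, 69448, 8, 0])) (.node (.leaf [1, 36, 396648, 931236, 39, 594220]) (.leaf [1, 5, 3479052, 3145310, 1, 61048]))) (.node (.node (.leaf [0, 5, 206810, 206810, 5, 0]) (.leaf [1, 1, 1924828, 4902318, 5, 5649614])) (.node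 (.leaf [1, 29, 2181832, 970074, 4, 982636]) (.leaf [1, 8, 259292, 3278246, 8, 757906])))) (.node (.node (.node (.leaf [0, 2, 74256, 749464, 2, 0]) (.leaf [1, 36, 5483338, 5465404, 17, 3861984])) (.node (.leaf [1, 47, 329280, 724592, 1, 403872]) (.leaf [1, 5, 4610766, 4520350, 5, 503690]))) (.node (.node (.leaf [1, 23, 592872, 132062, 33, 198576]) (.leaf [1, 5, 2367320, 3075828, 5, 869638])) (.node (.leaf [1, 29, 5042374, 6566360, 8, 2700432]) (.leaf []))))) (.node (.node (.node (.node (.leaf [0, 2, 214384, 609168, 2, 0]) (.leaf [0, 8, 73370, 5100, 8, 0])) (.node (.leaf [1, 16, 280064, 593220, 47, 955922]) (.leaf [1, 1, 7426448, 2606124, 1, 4413690]))) (.node (.node (.leaf [0, 15, 0, 932070, 12, 330798]) (.leaf [1, 17, 4091488, 3449636, 5, 4331610])) (.node (.leaf [1, 29, 2525352, 3340486, 1, 726098]) (.leaf [])))) (.node (.node (.node (.leaf [0, 2, 3828216, 1844152, 2, 0]) (.leaf [1, 29, 2316060, 258604, 4, 5722726])) (.node (.leaf [1, 42, 2222998, 2506034,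 42, 1111328]) (.leaf [1, 1, 5311198, 4902842, 1, 5525754]))) (.node (.node (.leaf [1, 33, 2569560, 790776, 30, 724924]) (.leaf [1, 1, 3045446, 2429134, 5, 1085194])) (.node (.leaf [1, 29, 50404, 6147032, 22, 7076546]) (.leaf [])))))) (.node (.node (.node (.node (.node (.leaf [1, 1, 198588, 462012, 5, 66208]) (.leaf [0, 8, 68384, 1310, 8, 0])) (.node (.leaf [1, 48, 2453490, 461496, 50, 337528]) (.leaf [1, 1, 7235102, 7447354, 5, 1451372]))) (.node (.node (.leaf [1, 4, 2247344, 296698, 23, 790618]) (.leaf [1, 5, 1887448, 1721684, 5, 7166010])) (.node (.leaf [1, 30, 600942, 3836606, 29, 2851140]) (.leaf [1, 5, 803974, 1823174, 1, 6086884])))) (.node (.node (.node (.leaf [0, 2, 601272, 1597194, 2, 0]) (.leaf [1, 17, 1275698, 5144028, 1, 3744846])) (.node (.leaf [0, 43, 0, 1383482, 42, 2]) (.leaf [1, 1, 5319384, 1953720, 5, 7099974]))) (.node (.node (.leaf [1, 23, 1317798, 1325364, 34, 725424]) (.leaf [1, 1, 6293830, 3989358, 1, 2699818])) (.node (.leaf [1,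 39, 658572, 2502250, 29, 4078602]) (.leaf []))))) (.node (.node (.node (.node (.leaf [0, 2, 1004472, 807088, 2, 0]) (.leaf [1, 17, 1637796, 5844620, 17, 4171918])) (.node (.leaf [1, 1, 1251944, 724584, 42, 666794]) (.leaf [1, 1, 7306820, 1101158, 5, 2979492]))) (.node (.node (.leaf [1, 28, 658564, 724772, 12, 725936]) (.leaf [1, 36, 4347574, 4151010, 5, 316304])) (.node (.leaf [1, 36, 132722, 6246760, 42, 1465472]) (.leaf [])))) (.node (.node (.node (.leaf [1, 8, 1383660, 1317470, 8, 725088]) (.leaf [1, 4, 7109422, 1087410, 5, 2787564])) (.node (.leaf [1, 4, 2044394, 6668484, 2, 1194314]) (.leaf [1, 5, 694400, 2664178, 1, 6734236]))) (.node (.node (.leaf [1, 36, 395646, 1383996, 11, 264940]) (.leaf [1, 2, 1445050, 5117690, 1, 6221762])) (.node (.leaf [0, 8, 70102, 66330, 8, 0]) (.leaf []))))))) (.node (.node (.node (.node (.node (.node (.leaf [0, 4, 0, 460992, 4, 988194]) (.leaf [0, 8, 1572, 1564, 8, 0])) (.node (.leaf [1, 42, 65874, 593720, 44, 2445088])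 (.leaf [1, 5, 5255788, 7397664, 1, 2174450]))) (.node (.node (.leaf [1, 1, 74106, 460992, 23, 329448]) (.leaf [1, 5, 6295096, 5277232, 5, 927812])) (.node (.leaf [1, 29, 3435612, 6159428, 29, 5335854]) (.leaf [1, 8, 7486958, 3965646, 1, 871290])))) (.node (.node (.node (.leaf [0, 2, 1597192, 1408008, 2, 0]) (.leaf [1, 8, 3161432, 6588674, 1, 1817650])) (.node (.leaf [1, 22, 148534, 658728, 47, 214200]) (.leaf [1, 5, 1315266, 5626144, 5, 5615470]))) (.node (.node (.leaf [1, 8, 3688280, 996092, 33, 988512]) (.leaf [1, 5, 4031772, 2778676, 5, 1585150])) (.node (.leaf [1, 29, 4687512, 6294572, 29, 3348426]) (.leaf []))))) (.node (.node (.node (.node (.leaf [0, 2, 1210456, 1663032, 2, 0]) (.leaf [0, 8, 67554, 69788, 8, 0])) (.node (.leaf [1, 50, 1588782, 395148, 50, 798506]) (.leaf [1, 1, 3292232, 5304928, 1, 7356778]))) (.node (.node (.leaf [1, 12, 149696, 280058, 29, 346102]) (.leaf [1, 5, 6450668, 6612766, 8, 5455124])) (.node (.leaf [1, 42, 3433102, 5396380,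 12, 4017392]) (.leaf [])))) (.node (.node (.node (.leaf [1, 5, 592710, 922156, 2, 264098]) (.leaf [1, 5, 662928, 6710104, 16, 765916])) (.node (.leaf [1, 9, 1342164, 5777586, 4, 1293104]) (.leaf [1, 1, 3032230, 3005434, 1, 5138028]))) (.node (.node (.leaf [1, 1, 946694, 594218, 33, 4610788]) (.leaf [1, 8, 1642032, 2892690, 1, 4599348])) (.node (.leaf [0, 8, 67014, 68626, 8, 0]) (.leaf [])))))) (.node (.node (.node (.node (.node (.leaf [0, 2, 1975698, 271656, 2, 0]) (.leaf [0, 8, 68732, 3928, 8, 0])) (.node (.leaf [1, 22, 930232, 396148, 32, 1720488]) (.leaf [1, 1, 411562, 1045752, 5, 1717796]))) (.node (.node (.leaf [1, 16, 988856, 264102, 4, 274198]) (.leaf [1, 17, 3381982, 6547458, 5, 5854928])) (.node (.leaf [1, 4, 168684, 3572668, 29, 2245464]) (.leaf [])))) (.node (.node (.node (.leaf [0, 2, 551886, 1844154, 2, 0]) (.leaf [1, 16, 263438, 3649970, 4, 7072150])) (.node (.leaf [1, 9, 362562, 1064468, 5, 346094]) (.leaf [1, 5, 6517820, 7392778, 1, 2970532])))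 (.node (.node (.leaf [1, 34, 396152, 3029550, 8, 3754136]) (.leaf [1, 1, 7342658, 2284932, 5, 3845980])) (.node (.leaf [1, 1, 1926458, 7070560, 22, 2393412]) (.leaf []))))) (.node (.node (.node (.node (.leaf [0, 2, 807088, 1004472, 2, 0]) (.leaf [1, 29, 2305134, 346082, 17, 3457178])) (.node (.leaf [1, 5, 485692, 922490, 22, 329288]) (.leaf [1, 2, 2242658, 1116502, 5, 2614866]))) (.node (.node (.leaf [1, 1, 1432722, 1754426, 12, 3424520]) (.leaf [1, 4, 3707910, 2166974, 5, 3743510])) (.node (.leaf [0, 1, 6944404, 362926, 1, 0]) (.leaf [])))) (.node (.node (.node (.leaf [0, 16, 1588782, 1926640, 16, 0]) (.leaf [1, 4, 5651244, 3088518, 5, 5454076])) (.node (.leaf [1, 29, 4621656, 253074, 12, 725430]) (.leaf [1, 1, 5652450, 1654884, 5, 6973840]))) (.node (.node (.leaf [1, 39, 198072, 1512, 39, 593054]) (.leaf [1, 1, 609846, 6093410, 1, 7481126])) (.node (.leaf [0, 8, 67212, 3822, 8, 0]) (.leaf [])))))))) (.node (.node (.node (.node (.node (.node (.node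 (.leaf [0, 3, 329632, 724422, 3, 0]) (.leaf [0, 8, 66754, 7206, 8, 0])) (.node (.leaf [1, 4, 1427164, 403884, 39, 922342]) (.leaf [1, 5, 7100476, 1858582, 1, 3720756]))) (.node (.node (.leaf [1, 8, 1399796, 1588796, 1, 16464]) (.leaf [1, 5, 6027800, 7478070, 5, 930060])) (.node (.leaf [1, 29, 2900364, 2325698, 23, 988008]) (.leaf [1, 5, 3746102, 7119206, 5, 3372722])))) (.node (.node (.node (.leaf [0, 2, 1382994, 1885482, 2, 0]) (.leaf [1, 12, 1318128, 3104618, 1, 4140236])) (.node (.leaf [1, 50, 609526, 1383148, 47, 214200]) (.leaf [1, 5, 1743362, 5064028, 5, 4643224]))) (.node (.node (.leaf [1, 4, 1358792, 602450, 33, 67380]) (.leaf [1, 17, 922324, 104794, 5, 1828086])) (.node (.leaf [1, 23, 65864, 6569450, 29, 3159342]) (.leaf []))))) (.node (.node (.node (.node (.leaf [0, 2, 856128, 1975696, 2, 0]) (.leaf [0, 8, 2870, 5936, 8, 0])) (.node (.leaf [1, 17, 2107746, 3764040, 47, 1121064]) (.leaf [1, 1, 7019262, 3572644, 5, 376008]))) (.node (.node (.leaf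 [1, 23, 593058, 798516, 28, 198076]) (.leaf [1, 5, 139052, 3221656, 22, 5768894])) (.node (.leaf [1, 17, 2249874, 2897670, 17, 1061948]) (.leaf [])))) (.node (.node (.node (.leaf [1, 7, 1514688, 1465650, 1, 1399440]) (.leaf [1, 37, 133224, 182448, 4, 6614388])) (.node (.leaf [1, 9, 1399794, 461004, 42, 1185766]) (.leaf [1, 1, 3462800, 1373302, 5, 6594842]))) (.node (.node (.leaf [1, 33, 1129146, 660080, 30, 512]) (.leaf [1, 1, 3102034, 2381644, 1, 6527750])) (.node (.leaf [1, 22, 6161814, 46660, 29, 1814802]) (.leaf [])))))) (.node (.node (.node (.node (.node (.leaf [0, 2, 16816, 486042, 2, 0]) (.leaf [0, 8, 3590, 67882, 8, 0])) (.node (.leaf [1, 21, 133224, 1317466, 5, 2379228]) (.leaf [1, 1, 4386088, 5235728, 1, 3260662]))) (.node (.node (.leaf [1, 1, 527200, 592872, 29, 922334]) (.leaf [1, 5, 136804, 5919888, 36, 658910])) (.node (.leaf [1, 39, 395494, 934938, 29, 4885080]) (.leaf [1, 5, 5092482, 2382934, 5, 675600])))) (.node (.node (.node (.leaf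 [0, 2, 2321766, 2379384, 2, 0]) (.leaf [1, 4, 6508378, 4790898, 1, 3291178])) (.node (.leaf [1, 31, 469224, 922996, 4, 1402130]) (.leaf [1, 1, 526476, 4178462, 1, 2588712]))) (.node (.node (.leaf [1, 34, 198240, 150138, 23, 461168]) (.leaf [1, 1, 5637626, 1577072, 1, 428418])) (.node (.leaf [1, 1, 1251944, 457810, 22, 3078024]) (.leaf []))))) (.node (.node (.node (.node (.leaf [0, 2, 1292776, 1984096, 2, 0]) (.leaf [1, 17, 3060934, 3458976, 29, 1092408])) (.node (.leaf [1, 8, 1335936, 921984, 31, 1317124]) (.leaf [1, 1, 7196122, 4708550, 5, 6595210]))) (.node (.node (.leaf [1, 30, 658914, 675194, 12, 5139456]) (.leaf [1, 5, 3020738, 2321066, 1, 1054212])) (.node (.leaf [0, 1, 1120538, 6055232, 1, 0]) (.leaf [])))) (.node (.node (.node (.leaf [1, 12, 198588, 263774, 1, 3762192]) (.leaf [1, 4, 5782554, 620132, 5, 72766])) (.node (.leaf [1, 23, 461160, 693500, 29, 2513460]) (.leaf [1, 5, 1718280, 2155612, 5, 5298990]))) (.node (.node (.leaf [1, 29, 724922,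 1325358, 37, 988190]) (.leaf [1, 1, 2443738, 2310164, 2, 3908744])) (.node (.leaf [0, 8, 68634, 3446, 8, 0]) (.leaf []))))))) (.node (.node (.node (.node (.node (.node (.leaf [0, 5, 1317792, 131718, 5, 461664]) (.leaf [0, 8, 71648, 1866, 8, 0])) (.node (.leaf [1, 48, 263778, 462004, 42, 1448832]) (.leaf [1, 1, 5452262, 3558742, 5, 5568010]))) (.node (.node (.leaf [0, 11, 396656, 396656, 11, 0]) (.leaf [1, 5, 7409880, 2633622, 5, 4505524])) (.node (.leaf [1, 29, 4365828, 2465290, 12, 3519372]) (.leaf [1, 1, 2086636, 3179552, 1, 127648])))) (.node (.node (.node (.leaf [0, 2, 1193824, 1292766, 2, 0]) (.leaf [1, 29, 4359222, 5508494, 1, 1249468])) (.node (.leaf [1, 22, 551552, 461338, 42, 2437028]) (.leaf [1, 2, 2485510, 5226004, 1, 6424092]))) (.node (.node (.leaf [1, 34, 1383986, 486360, 12, 4160016]) (.leaf [1, 1, 2714990, 3747924, 1, 1583568])) (.node (.leaf [1, 29, 919536, 4168792, 29, 3228462]) (.leaf []))))) (.node (.node (.node (.node (.leaf [0,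 2, 790288, 2066586, 2, 0]) (.leaf [0, 8, 2876, 69784, 8, 0])) (.node (.leaf [1, 8, 675528, 462512, 48, 658568]) (.leaf [1, 5, 1376188, 4966474, 1, 1322666]))) (.node (.node (.leaf [1, 1, 1868832, 527022, 30, 1185754]) (.leaf [0, 22, 0, 1150692, 5, 3817548])) (.node (.leaf [1, 42, 2974608, 7433868, 29, 4346670]) (.leaf [])))) (.node (.node (.node (.leaf [1, 1, 725096, 660076, 8, 330800]) (.leaf [1, 1, 3917718, 6613700, 5, 7642])) (.node (.leaf [1, 4, 2785834, 4240546, 42, 1408856]) (.leaf [1, 5, 1556548, 5128646, 1, 1751962]))) (.node (.node (.leaf [1, 33, 74766, 1195144, 12, 4548876]) (.leaf [1, 1, 2312026, 3039836, 5, 3433218])) (.node (.leaf [0, 8, 530, 744, 8, 0]) (.leaf [])))))) (.node (.node (.node (.node (.node (.leaf [0, 2, 807072, 1325526, 2, 0]) (.leaf [0, 8, 71646, 67894, 8, 0])) (.node (.leaf [1, 17, 263778, 659572, 47, 75098]) (.leaf [1, 1, 2298854, 2145926, 5, 561162]))) (.node (.node (.leaf [1, 26, 197920, 724774, 28, 198076]) (.leaf [1,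 5, 5985148, 428438, 4, 1590628])) (.node (.leaf [1, 4, 4744490, 6378532, 17, 658914]) (.leaf [])))) (.node (.node (.node (.leaf [0, 2, 535266, 3498786, 2, 0]) (.leaf [1, 4, 6635380, 936862, 4, 5040008])) (.node (.leaf [1, 44, 732822, 2379398, 17, 3564810]) (.leaf [1, 1, 1120194, 7482460, 5, 3552164]))) (.node (.node (.leaf [1, 34, 1449340, 1269246, 30, 1333936]) (.leaf [1, 1, 4555430, 1206190, 36, 4611922])) (.node (.leaf [1, 22, 3570588, 407048, 22, 18]) (.leaf []))))) (.node (.node (.node (.node (.leaf [0, 2, 1020942, 1020942, 2, 0]) (.leaf [1, 22, 7086024, 2041246, 17, 1233194])) (.node (.leaf [1, 47, 1070160, 659072, 17, 988176]) (.leaf [1, 5, 1706142, 2753496, 5, 5985114]))) (.node (.node (.leaf [1, 8, 403384, 535084, 33, 725094]) (.leaf [1, 5, 485692, 1082652, 5, 1509446])) (.node (.leaf [1, 29, 3611850, 6762512, 1, 469238]) (.leaf [])))) (.node (.node (.node (.leaf [0, 5, 2173248, 2173248, 5, 0]) (.leaf [1, 1, 1901046, 1648344, 5, 3855748])) (.node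 (.leaf [1, 29, 2769672, 850818, 30, 329956]) (.leaf [1, 1, 1992192, 1730128, 1, 7205954]))) (.node (.node (.leaf [1, 39, 66362, 329632, 23, 988512]) (.leaf [1, 5, 1092204, 804126, 1, 3887412])) (.node (.leaf [0, 8, 6708, 5270, 8, 0]) (.leaf []))))))))))

/-- the facts, part 12 -/
def factTab12 : WTab :=
  (.node (.node (.node (.node (.node (.node (.node (.node (.node (.leaf [0, 1, 329632, 329632, 1, 0]) (.leaf [0, 8, 72204, 4428, 8, 0])) (.node (.leaf [1, 12, 2634248, 2651060, 39, 922164]) (.leaf [1, 1, 1900732, 830402, 1, 2435212]))) (.node (.node (.leaf [0, 5, 1127958, 1127958, 5, 0]) (.leaf [1, 5, 5953372, 2781864, 5, 6028])) (.node (.leaf [1, 29, 3437670, 829994, 29, 66864]) (.leaf [1, 1, 3403492, 2653712, 8, 4727080])))) (.node (.node (.node (.leaf [0, 2, 2304976, 3836130, 2, 0]) (.leaf [1, 36, 6258142, 3315472, 22, 3077610])) (.node (.leaf [1, 50, 3046198, 66536, 17, 1186922]) (.leaf [1, 1, 2593224, 6270314, 1, 5828444]))) (.node (.node (.leaf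 [1, 33, 131888, 1226922, 12, 2512780]) (.leaf [1, 5, 895784, 5553768, 5, 1468802])) (.node (.leaf [1, 12, 5139456, 2994608, 29, 2426442]) (.leaf []))))) (.node (.node (.node (.node (.leaf [0, 2, 1193808, 1712262, 2, 0]) (.leaf [0, 8, 6336, 5428, 8, 0])) (.node (.leaf [1, 47, 856296, 1317794, 9, 1054050]) (.leaf [1, 5, 4333694, 4124494, 5, 6703958]))) (.node (.node (.leaf [1, 28, 198580, 988198, 12, 346]) (.leaf [1, 4, 749624, 4860018, 5, 7364296])) (.node (.leaf [1, 4, 554086, 6353092, 29, 1521048]) (.leaf [])))) (.node (.node (.node (.leaf [0, 2, 1325536, 1918230, 2, 0]) (.leaf [1, 4, 5257114, 4126766, 16, 1383996])) (.node (.leaf [1, 1, 1449348, 2710008, 42, 568016]) (.leaf [1, 1, 635468, 4988460, 5, 5106376]))) (.node (.node (.leaf [1, 33, 1465800, 150866, 29, 358]) (.leaf [1, 36, 6529864, 4443976, 1, 2443738])) (.node (.leaf [1, 17, 5408424, 2900746, 22, 2578998]) (.leaf [])))))) (.node (.node (.node (.node (.node (.leaf [0, 4, 6, 790272, 4, 0])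 (.leaf [0, 8, 70950, 7520, 8, 0])) (.node (.leaf [1, 49, 16818, 395640, 48, 1646754]) (.leaf [1, 37, 790782, 1065540, 1, 304396]))) (.node (.node (.leaf [1, 16, 930224, 1127784, 1, 806904]) (.leaf [1, 4, 4862610, 3593208, 5, 4857044])) (.node (.leaf [1, 29, 3311964, 1889346, 30, 271668]) (.leaf [1, 8, 2234050, 4307020, 8, 1502438])))) (.node (.node (.node (.leaf [0, 2, 3515416, 2379390, 2, 0]) (.leaf [1, 1, 5044594, 2529188, 29, 3698704])) (.node (.leaf [1, 5, 222268, 395144, 46, 724428]) (.leaf [1, 1, 1078790, 3066828, 5, 4427950]))) (.node (.node (.leaf [1, 34, 66864, 198588, 30, 790276]) (.leaf [1, 8, 1358628, 1435850, 1, 5485088])) (.node (.leaf [1, 29, 2887806, 3022528, 29, 1073028]) (.leaf []))))) (.node (.node (.node (.node (.leaf [0, 2, 543648, 469410, 2, 0]) (.leaf [0, 39, 0, 6988490, 17, 2797274])) (.node (.leaf [1, 17, 263426, 461344, 1, 214708]) (.leaf [1, 5, 1031152, 3767460, 5, 2508046]))) (.node (.node (.leaf [1, 28, 1128462, 1860790,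 30, 74100]) (.leaf [1, 5, 111298, 3746590, 1, 1251944])) (.node (.leaf [1, 23, 724922, 5183144, 42, 2502704]) (.leaf [])))) (.node (.node (.node (.leaf [1, 8, 66864, 330800, 1, 676]) (.leaf [1, 4, 839678, 7337408, 5, 927698])) (.node (.leaf [1, 4, 5140494, 7345460, 5, 346094]) (.leaf [1, 5, 6012982, 5633188, 1, 1749214]))) (.node (.node (.leaf [1, 8, 1416262, 90556, 36, 678]) (.leaf [1, 1, 3613134, 4479732, 2, 1329046])) (.node (.leaf [0, 8, 5270, 6708, 8, 0]) (.leaf []))))))) (.node (.node (.node (.node (.node (.node (.leaf [0, 3, 131718, 6, 3, 0]) (.leaf [0, 8, 67170, 67202, 8, 0])) (.node (.leaf [1, 44, 790272, 659576, 43, 1975680]) (.leaf [1, 5, 5000812, 530498, 1, 186524]))) (.node (.node (.leaf [1, 1, 610188, 0, 20, 0]) (.leaf [1, 5, 5882796, 2196988, 4, 5882074])) (.node (.leaf [1, 29, 2183496, 1418886, 30, 199082]) (.leaf [1, 1, 5812872, 3418098, 5, 3057892])))) (.node (.node (.node (.leaf [0, 2, 3507184, 1185424, 2, 0]) (.leaf [1, 1, 3068914,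 4582694, 1, 1554052])) (.node (.leaf [1, 5, 272664, 922994, 22, 74096]) (.leaf [1, 1, 7300756, 5598656, 5, 6980902]))) (.node (.node (.leaf [1, 33, 198078, 347256, 1, 848254]) (.leaf [1, 5, 4583720, 3507836, 1, 3369752])) (.node (.leaf [1, 29, 3686982, 4918544, 1, 3312456]) (.leaf []))))) (.node (.node (.node (.node (.leaf [0, 2, 1729072, 1984080, 2, 0]) (.leaf [0, 8, 7512, 70948, 8, 0])) (.node (.leaf [1, 47, 1145258, 1926296, 4, 1912362]) (.leaf [1, 5, 340342, 6391832, 1, 6490166]))) (.node (.node (.leaf [1, 29, 988014, 330300, 23, 460994]) (.leaf [1, 8, 5434072, 2406930, 4, 5701608])) (.node (.leaf [1, 17, 4091488, 368418, 29, 5602216]) (.leaf [])))) (.node (.node (.node (.leaf [0, 7, 0, 790628, 4, 1317474]) (.leaf [1, 5, 3586068, 5388548, 1, 214376])) (.node (.leaf [1, 29, 740884, 199088, 42, 1713776]) (.leaf [1, 1, 6149012, 1992670, 1, 4441416]))) (.node (.node (.leaf [1, 23, 66210, 239080, 33, 1588950]) (.leaf [1, 5, 4509492, 5164412, 1, 2903710]))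 (.node (.leaf [0, 8, 69308, 66100, 8, 0]) (.leaf [])))))) (.node (.node (.node (.node (.node (.leaf [0, 2, 16800, 601290, 2, 0]) (.leaf [0, 8, 7202, 5574, 8, 0])) (.node (.leaf [1, 46, 1909838, 660074, 22, 16818]) (.leaf [1, 1, 2319854, 3496388, 1, 3292576]))) (.node (.node (.leaf [0, 29, 2, 2, 29, 0]) (.leaf [1, 17, 5029490, 4823756, 5, 1387418])) (.node (.leaf [1, 17, 3498608, 2390546, 4, 5203402]) (.leaf [])))) (.node (.node (.node (.leaf [0, 2, 938634, 1597176, 2, 0]) (.leaf [1, 29, 1709808, 5104436, 4, 6547804])) (.node (.leaf [1, 9, 313832, 5008092, 47, 197924]) (.leaf [1, 1, 6176708, 3531652, 1, 7096976]))) (.node (.node (.leaf [1, 34, 592708, 956430, 23, 263594]) (.leaf [1, 5, 6507052, 3417182, 1, 6501274])) (.node (.leaf [1, 22, 5050782, 407048, 46, 148530]) (.leaf []))))) (.node (.node (.node (.node (.leaf [0, 2, 535248, 2304966, 2, 0]) (.leaf [1, 12, 4686550, 6250708, 17, 4312198])) (.node (.leaf [1, 47, 1120562, 1063608, 17, 1325352]) (.leaf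 [1, 2, 7311232, 6299912, 2, 2647760]))) (.node (.node (.leaf [1, 12, 1788886, 3642410, 23, 989358]) (.leaf [1, 44, 666966, 6703216, 5, 3216662])) (.node (.leaf [0, 1, 6207758, 5690200, 1, 0]) (.leaf [])))) (.node (.node (.node (.leaf [1, 1, 930222, 16816, 16, 790272]) (.leaf [1, 5, 5922992, 1967092, 1, 1253954])) (.node (.leaf [1, 29, 3034836, 121362, 1, 971376]) (.leaf [1, 1, 6045914, 3830766, 1, 7345812]))) (.node (.node (.leaf [1, 4, 2635758, 864534, 39, 659568]) (.leaf [1, 1, 527022, 2878674, 1, 3136922])) (.node (.leaf [0, 8, 470, 66328, 8, 0]) (.leaf [])))))))) (.node (.node (.node (.node (.node (.node (.node (.leaf [0, 2, 724416, 197574, 2, 0]) (.leaf [0, 8, 71132, 2338, 8, 0])) (.node (.leaf [1, 39, 659574, 411600, 37, 350]) (.leaf [1, 5, 1456448, 1571000, 1, 735782]))) (.node (.node (.leaf [0, 5, 2198118, 2198118, 5, 0]) (.leaf [1, 5, 2220254, 1466796, 5, 6883928])) (.node (.leaf [1, 30, 988194, 64954, 29, 1846668]) (.leaf [1, 5, 4294924, 2757654,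 1, 1674676])))) (.node (.node (.node (.leaf [0, 2, 988176, 1729074, 2, 0]) (.leaf [1, 1, 5069116, 6174436, 1, 436648])) (.node (.leaf [1, 43, 1852554, 988012, 47, 1580712]) (.leaf [1, 1, 3310716, 1274682, 1, 7486944]))) (.node (.node (.leaf [1, 29, 263426, 346, 33, 198246]) (.leaf [1, 4, 3709850, 7085272, 5, 3342774])) (.node (.leaf [1, 29, 1116384, 7353850, 8, 3227288]) (.leaf []))))) (.node (.node (.node (.node (.leaf [0, 2, 1448832, 16806, 2, 0]) (.leaf [0, 8, 4424, 6930, 8, 0])) (.node (.leaf [1, 5, 1399786, 660084, 22, 724770]) (.leaf [1, 5, 2569884, 5602258, 5, 4247784]))) (.node (.node (.leaf [1, 23, 790624, 1333922, 12, 396660]) (.leaf [1, 22, 6976840, 6819928, 5, 6898898])) (.node (.leaf [1, 29, 3642588, 4386866, 1, 880832]) (.leaf [])))) (.node (.node (.node (.leaf [0, 6, 0, 1654638, 4, 486042]) (.leaf [1, 29, 1797276, 3621260, 4, 4122324])) (.node (.leaf [1, 42, 1965216, 4883260, 22, 1844322]) (.leaf [1, 5, 6640208, 6452098, 5, 3895164])))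 (.node (.node (.leaf [1, 12, 198078, 264944, 33, 2512280]) (.leaf [1, 1, 3103444, 2233454, 4, 3104148])) (.node (.leaf [1, 22, 6837382, 2023086, 29, 2433504]) (.leaf [])))))) (.node (.node (.node (.node (.node (.leaf [0, 2, 1975686, 1852554, 2, 0]) (.leaf [0, 8, 6342, 70276, 8, 0])) (.node (.leaf [1, 48, 988194, 197920, 8, 1721166]) (.leaf [1, 5, 4462602, 7447684, 1, 3019020]))) (.node (.node (.leaf [1, 28, 987840, 419840, 16, 403378]) (.leaf [1, 5, 6438596, 4276446, 5, 147684])) (.node (.leaf [1, 29, 3301200, 877370, 39, 725100]) (.leaf [1, 1, 4631080, 5585324, 8, 3133482])))) (.node (.node (.node (.leaf [0, 2, 3490386, 2049954, 2, 0]) (.leaf [1, 1, 4213324, 2643630, 22, 5132872])) (.node (.leaf [1, 22, 329620, 988348, 46, 2379402]) (.leaf [1, 1, 2872790, 2712318, 5, 6927068]))) (.node (.node (.leaf [1, 34, 1383328, 790446, 30, 791284]) (.leaf [1, 1, 1611850, 6392240, 1, 7176138])) (.node (.leaf [1, 29, 1602792, 1380368, 42, 529536]) (.leaf [])))))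 (.node (.node (.node (.node (.leaf [0, 2, 222618, 700072, 2, 0]) (.leaf [1, 17, 3801578, 4948530, 29, 922160])) (.node (.leaf [1, 8, 807416, 922992, 42, 930216]) (.leaf [1, 1, 4346806, 2419586, 1, 3895018]))) (.node (.node (.leaf [1, 12, 529876, 3424870, 1, 296692]) (.leaf [1, 5, 2775468, 5070618, 5, 47930])) (.node (.leaf [1, 1, 2654576, 6051370, 29, 2120934]) (.leaf [])))) (.node (.node (.node (.leaf [1, 1, 1654632, 0, 11, 0]) (.leaf [1, 5, 1456448, 6513300, 4, 6347830])) (.node (.leaf [1, 29, 2241972, 714066, 12, 1318140]) (.leaf [1, 1, 3230062, 5961416, 5, 2535940]))) (.node (.node (.leaf [1, 12, 2709336, 1992482, 37, 1382978]) (.leaf [1, 2, 1728040, 1771466, 5, 530536])) (.node (.leaf [0, 8, 1858, 3598, 8, 0]) (.leaf []))))))) (.node (.node (.node (.node (.node (.node (.leaf [1, 1, 461160, 0, 5, 0]) (.leaf [0, 8, 6340, 70278, 8, 0])) (.node (.leaf [1, 46, 148530, 593720, 47, 486042]) (.leaf [1, 1, 845084, 1190646, 5, 5104308]))) (.node (.node (.leaf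 [1, 27, 798678, 2115978, 1, 1852368]) (.leaf [1, 5, 7429756, 3377174, 1, 4732854])) (.node (.leaf [1, 29, 2776720, 45378, 4, 108976]) (.leaf [1, 5, 1337212, 6610206, 1, 376174])))) (.node (.node (.node (.leaf [0, 2, 1737306, 197586, 2, 0]) (.leaf [1, 1, 4337804, 5779962, 29, 1657332])) (.node (.leaf [1, 22, 922324, 1317794, 22, 1976038]) (.leaf [1, 5, 1774778, 2030928, 8, 3678906]))) (.node (.node (.leaf [1, 1, 4686544, 0, 34, 0]) (.leaf [1, 5, 4350288, 1208258, 8, 3853518])) (.node (.leaf [1, 29, 1659126, 2297720, 29, 1952438]) (.leaf []))))) (.node (.node (.node (.node (.leaf [0, 2, 337518, 1391382, 2, 0]) (.leaf [0, 8, 7838, 4870, 8, 0])) (.node (.leaf [1, 1, 1055216, 922992, 48, 1399780]) (.leaf [1, 1, 6503642, 4888312, 2, 4109966]))) (.node (.node (.leaf [1, 29, 658560, 485692, 12, 395140]) (.leaf [1, 5, 7230806, 6817054, 36, 659236])) (.node (.leaf [1, 42, 1517716, 7334236, 42, 2840398]) (.leaf [])))) (.node (.node (.node (.leaf [1, 4, 403884,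 1252280, 4, 1055214]) (.leaf [1, 5, 205466, 6343222, 4, 5964684])) (.node (.leaf [1, 5, 1467650, 4137990, 4, 2703714]) (.leaf [1, 8, 5419290, 3920244, 1, 146518]))) (.node (.node (.leaf [1, 23, 66528, 1037244, 33, 1466472]) (.leaf [1, 5, 1593996, 6231776, 5, 2240262])) (.node (.leaf [0, 8, 68290, 70480, 8, 0]) (.leaf [])))))) (.node (.node (.node (.node (.node (.leaf [0, 2, 1778112, 2107744, 2, 0]) (.leaf [0, 8, 6826, 69042, 8, 0])) (.node (.leaf [0, 44, 923496, 725426, 44, 0]) (.leaf [1, 5, 7364296, 5825474, 1, 5541086]))) (.node (.node (.leaf [1, 28, 329960, 724774, 30, 658912]) (.leaf [1, 5, 7467584, 131982, 17, 2789278])) (.node (.leaf [1, 2, 3688452, 6494668, 29, 2259612]) (.leaf [])))) (.node (.node (.node (.leaf [0, 2, 881160, 205986, 2, 0]) (.leaf [1, 4, 6713318, 5573186, 1, 1249642])) (.node (.leaf [1, 2, 1844484, 3303048, 9, 700068]) (.leaf [1, 1, 682790, 5946382, 1, 688668]))) (.node (.node (.leaf [1, 33, 16968, 1682, 29, 485696]) (.leaf [1,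 1, 6377146, 1881656, 1, 428404])) (.node (.leaf [1, 8, 675528, 4605640, 22, 2270784]) (.leaf []))))) (.node (.node (.node (.node (.leaf [0, 2, 395152, 1292778, 2, 0]) (.leaf [1, 17, 2789278, 2552562, 29, 539406])) (.node (.leaf [1, 46, 2321782, 2115980, 17, 3861984]) (.leaf [1, 1, 4381842, 2539762, 2, 3445876]))) (.node (.node (.leaf [1, 31, 872946, 403542, 1, 923160]) (.leaf [1, 5, 74260, 6701500, 5, 2691458])) (.node (.leaf [0, 5, 724422, 5122094, 11, 6834346]) (.leaf [])))) (.node (.node (.node (.leaf [0, 18, 148530, 1127958, 18, 0]) (.leaf [1, 5, 7041848, 7175628, 5, 664274])) (.node (.leaf [1, 4, 1358792, 6176646, 29, 4286100]) (.leaf [1, 1, 2700144, 25688, 1, 750332]))) (.node (.node (.leaf [1, 29, 1383652, 132064, 39, 724590]) (.leaf [1, 1, 1349188, 7328040, 1, 4937740])) (.node (.leaf [0, 8, 3820, 67204, 8, 0]) (.leaf []))))))))) (.node (.node (.node (.node (.node (.node (.node (.node (.leaf [0, 2, 659580, 460992, 2, 462512]) (.leaf [0, 8, 2520,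 67162, 8, 0])) (.node (.leaf [1, 36, 396650, 1333758, 39, 264440]) (.leaf [1, 1, 61048, 4855018, 5, 3594376]))) (.node (.node (.leaf [0, 5, 1786518, 1786518, 5, 0]) (.leaf [1, 5, 5649614, 2799126, 1, 1926010])) (.node (.leaf [1, 12, 4283668, 4342522, 29, 1789212]) (.leaf [1, 1, 5517132, 5126008, 5, 5124458])))) (.node (.node (.node (.leaf [0, 2, 25032, 2000712, 2, 0]) (.leaf [1, 17, 3861984, 691086, 36, 5485268])) (.node (.leaf [1, 1, 403872, 724592, 47, 724770]) (.leaf [1, 1, 3263012, 5927890, 1, 2691584]))) (.node (.node (.leaf [1, 33, 198576, 659244, 23, 460992]) (.leaf [1, 5, 869638, 1006906, 5, 3082150])) (.node (.leaf [1, 8, 2700432, 1266278, 29, 5200176]) (.leaf []))))) (.node (.node (.node (.node (.leaf [0, 2, 148512, 403542, 2, 0]) (.leaf [0, 8, 5090, 8006, 8, 0])) (.node (.leaf [1, 4, 1334592, 1383996, 47, 133224]) (.leaf [1, 1, 4413690, 4996818, 1, 7371012]))) (.node (.node (.leaf [1, 1, 354150, 932070, 12, 330798]) (.leaf [1, 5, 5265338,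 58048, 22, 131732])) (.node (.leaf [1, 46, 791790, 330028, 29, 4457556]) (.leaf [])))) (.node (.node (.node (.leaf [0, 2, 1391392, 2461710, 2, 0]) (.leaf [1, 4, 5722726, 2593670, 29, 3032076])) (.node (.leaf [1, 42, 1111328, 6653814, 42, 2074646]) (.leaf [1, 2, 3035568, 4637386, 8, 973012]))) (.node (.node (.leaf [1, 33, 527352, 922152, 30, 724428]) (.leaf [1, 5, 2616346, 3227294, 1, 995004])) (.node (.leaf [1, 37, 987842, 1333658, 22, 5825282]) (.leaf [])))))) (.node (.node (.node (.node (.node (.leaf [1, 5, 66208, 724928, 1, 1020]) (.leaf [0, 8, 71432, 4162, 8, 0])) (.node (.leaf [1, 45, 922336, 1516, 5, 1589460]) (.leaf [1, 5, 403726, 309032, 1, 2629496]))) (.node (.node (.leaf [1, 23, 923508, 2766304, 8, 831774]) (.leaf [1, 5, 3069900, 6319770, 5, 7429434])) (.node (.leaf [1, 30, 1515040, 4646414, 29, 3575556]) (.leaf [1, 1, 1376276, 5873288, 1, 6794112])))) (.node (.node (.node (.leaf [0, 2, 1737288, 1408014, 2, 0]) (.leaf [1, 1, 3947310, 563644,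 17, 1101482])) (.node (.leaf [1, 1, 1976196, 1383482, 42, 2]) (.leaf [1, 1, 2248640, 4683898, 1, 1131624]))) (.node (.node (.leaf [1, 34, 725424, 149048, 23, 988008]) (.leaf [1, 1, 5489302, 59418, 1, 6374274])) (.node (.leaf [1, 39, 395142, 6306736, 29, 1905982]) (.leaf []))))) (.node (.node (.node (.node (.leaf [0, 2, 1408024, 1408024, 2, 0]) (.leaf [1, 17, 4171918, 5913886, 17, 1644794])) (.node (.leaf [1, 42, 1720488, 1383650, 42, 16818]) (.leaf [1, 5, 2979492, 4688168, 1, 6708906]))) (.node (.node (.leaf [1, 12, 725936, 1382978, 28, 396652]) (.leaf [1, 1, 1449348, 4938152, 5, 1387048])) (.node (.leaf [1, 42, 1465472, 2274196, 36, 66866]) (.leaf [])))) (.node (.node (.node (.leaf [1, 1, 609846, 0, 9, 0]) (.leaf [1, 5, 2787564, 4710042, 4, 6426234])) (.node (.leaf [1, 4, 873272, 2539330, 4, 2324114]) (.leaf [1, 1, 6734236, 6593810, 5, 448736]))) (.node (.node (.leaf [1, 11, 264940, 921992, 36, 659236]) (.leaf [1, 1, 5120996, 4369870, 2, 182338])) (.node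 (.leaf [0, 8, 4626, 66388, 8, 0]) (.leaf []))))))) (.node (.node (.node (.node (.node (.node (.leaf [0, 4, 988194, 460992, 4, 0]) (.leaf [0, 8, 66758, 7204, 8, 0])) (.node (.leaf [1, 44, 2445088, 593720, 42, 131730]) (.leaf [1, 1, 2174450, 5958076, 5, 5104172]))) (.node (.node (.leaf [1, 1, 370440, 133232, 23, 1318130]) (.leaf [1, 5, 927812, 1622188, 5, 6290952])) (.node (.leaf [1, 29, 5335854, 1353098, 29, 3559248]) (.leaf [1, 1, 590498, 5506206, 1, 4180128])))) (.node (.node (.node (.leaf [0, 2, 2140488, 1342152, 2, 0]) (.leaf [1, 29, 988014, 1229700, 1, 2963242])) (.node (.leaf [1, 5, 74260, 658914, 22, 930218]) (.leaf [1, 5, 5615470, 7163102, 5, 579204]))) (.node (.node (.leaf [1, 33, 988512, 2313546, 8, 2510782]) (.leaf [1, 17, 4329770, 3335094, 5, 4624476])) (.node (.leaf [1, 29, 3348426, 6982160, 29, 3624948]) (.leaf []))))) (.node (.node (.node (.node (.leaf [0, 2, 1523088, 1844142, 2, 0]) (.leaf [0, 8, 5786, 67724, 8, 0])) (.node (.leaf [1,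 50, 798506, 790618, 50, 1580886]) (.leaf [1, 1, 7300298, 2784606, 5, 5527278]))) (.node (.node (.leaf [1, 30, 790622, 527202, 1, 42336]) (.leaf [1, 5, 6186226, 6832784, 8, 6315550])) (.node (.leaf [1, 42, 5005064, 1404578, 42, 2897840]) (.leaf [])))) (.node (.node (.node (.leaf [1, 1, 395316, 462004, 1, 330800]) (.leaf [1, 16, 765916, 7337404, 5, 400228])) (.node (.leaf [1, 9, 1070330, 5683386, 9, 601284]) (.leaf [1, 5, 4935968, 2805470, 1, 7342296]))) (.node (.node (.leaf [1, 33, 1317476, 240240, 33, 2906574]) (.leaf [1, 1, 3749338, 3939326, 8, 4362962])) (.node (.leaf [0, 8, 66102, 69306, 8, 0]) (.leaf [])))))) (.node (.node (.node (.node (.node (.leaf [0, 2, 1054050, 148518, 2, 0]) (.leaf [0, 8, 1344, 1316, 8, 0])) (.node (.leaf [1, 32, 1720488, 660074, 22, 1399794]) (.leaf [1, 5, 1717796, 6277374, 1, 672212]))) (.node (.node (.leaf [1, 1, 510400, 0, 30, 0]) (.leaf [1, 5, 992932, 5927208, 17, 1744922])) (.node (.leaf [1, 29, 2245464, 5669344, 4, 102828])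 (.leaf [])))) (.node (.node (.node (.leaf [0, 2, 3070878, 1852536, 2, 0]) (.leaf [1, 4, 7072150, 2008620, 16, 790612])) (.node (.leaf [1, 9, 1193996, 1317478, 29, 8578]) (.leaf [1, 1, 2970532, 5931086, 5, 6378252]))) (.node (.node (.leaf [1, 8, 3754136, 1054038, 34, 659072]) (.leaf [1, 1, 7017418, 6766158, 5, 1324994])) (.node (.leaf [1, 22, 2393412, 301968, 1, 1911852]) (.leaf []))))) (.node (.node (.node (.node (.leaf [0, 2, 700072, 222618, 2, 0]) (.leaf [1, 17, 3457178, 478640, 29, 3037776])) (.node (.leaf [1, 47, 2044394, 1120226, 22, 1514688]) (.leaf [1, 5, 7480786, 5683190, 2, 1264784]))) (.node (.node (.leaf [1, 12, 3633096, 4061570, 12, 601944]) (.leaf [1, 5, 3743510, 1029926, 4, 2523026])) (.node (.leaf [0, 1, 7135594, 749920, 1, 0]) (.leaf [])))) (.node (.node (.node (.leaf [0, 16, 1926640, 1588782, 16, 0]) (.leaf [1, 5, 5454076, 2974950, 4, 5567348])) (.node (.leaf [1, 29, 3567156, 671066, 29, 263426]) (.leaf [1, 1, 1507780, 5993316, 1, 4552620])))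 (.node (.node (.leaf [1, 23, 12, 922330, 39, 132064]) (.leaf [1, 1, 7481126, 7405324, 1, 486192])) (.node (.leaf [0, 8, 2036, 5796, 8, 0]) (.leaf [])))))))) (.node (.node (.node (.node (.node (.node (.node (.leaf [0, 3, 197568, 197568, 3, 0]) (.leaf [0, 8, 6930, 4424, 8, 0])) (.node (.leaf [1, 39, 922342, 1014218, 4, 980120]) (.leaf [1, 1, 3720756, 3154648, 5, 6453874]))) (.node (.node (.leaf [1, 8, 1909828, 1926642, 1, 74088]) (.leaf [1, 5, 930060, 4746954, 5, 5987986])) (.node (.leaf [1, 29, 5347494, 4117670, 29, 3237712]) (.leaf [1, 5, 2888660, 1463836, 1, 578792])))) (.node (.node (.node (.leaf [0, 2, 609186, 2461720, 2, 0]) (.leaf [1, 1, 4140236, 7042036, 12, 988514])) (.node (.leaf [1, 47, 222618, 790788, 50, 477814]) (.leaf [1, 5, 4643224, 2481940, 5, 1537562]))) (.node (.node (.leaf [1, 33, 67380, 494788, 4, 1048492]) (.leaf [1, 5, 1828086, 4625788, 17, 1382998])) (.node (.leaf [1, 29, 3159342, 6692214, 23, 131720]) (.leaf []))))) (.node (.node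 (.node (.node (.leaf [0, 2, 2041536, 2436678, 2, 0]) (.leaf [0, 8, 69442, 2030, 8, 0])) (.node (.leaf [1, 47, 2317056, 1120568, 9, 2041536]) (.leaf [1, 5, 376008, 5526900, 1, 7038554]))) (.node (.node (.leaf [1, 23, 198578, 485692, 28, 725424]) (.leaf [1, 5, 7335194, 4410766, 22, 6704258])) (.node (.leaf [1, 29, 5046890, 5337498, 42, 2247344]) (.leaf [])))) (.node (.node (.node (.leaf [1, 1, 1399440, 1720662, 7, 1720662]) (.leaf [1, 37, 132218, 3442426, 4, 5825886])) (.node (.leaf [1, 4, 1912362, 66536, 42, 790630]) (.leaf [1, 5, 6594842, 6501958, 1, 3610778]))) (.node (.node (.leaf [1, 33, 4618830, 791280, 30, 725430]) (.leaf [1, 2, 265104, 6659270, 1, 2074108])) (.node (.leaf [1, 23, 724922, 3440392, 22, 5766678]) (.leaf [])))))) (.node (.node (.node (.node (.node (.leaf [0, 2, 1646752, 1720662, 2, 0]) (.leaf [0, 8, 72556, 71122, 8, 0])) (.node (.leaf [1, 5, 2379228, 133228, 21, 67368]) (.leaf [1, 1, 2274668, 3421190, 2, 2791324]))) (.node (.node (.leaf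 [1, 1, 1582506, 955086, 29, 197574]) (.leaf [1, 36, 988344, 330238, 5, 5253652])) (.node (.leaf [1, 29, 4885080, 982590, 39, 658916]) (.leaf [1, 1, 6033896, 2926642, 1, 4732214])))) (.node (.node (.node (.leaf [0, 2, 3037950, 3836112, 2, 0]) (.leaf [1, 1, 3291178, 4851824, 4, 6359592])) (.node (.leaf [1, 5, 732652, 592712, 31, 1382978]) (.leaf [1, 1, 5478326, 5025772, 1, 3679216]))) (.node (.node (.leaf [1, 34, 330296, 140296, 33, 197738]) (.leaf [1, 1, 428418, 1448034, 1, 5595324])) (.node (.leaf [1, 22, 3868682, 1511316, 22, 2526480]) (.leaf []))))) (.node (.node (.node (.node (.leaf [0, 2, 2412328, 2445078, 2, 0]) (.leaf [1, 17, 2945350, 2543416, 29, 3301200])) (.node (.leaf [1, 31, 634222, 1317794, 22, 2436672]) (.leaf [1, 1, 6669274, 4423106, 1, 6229382]))) (.node (.node (.leaf [1, 12, 5139456, 4346852, 30, 395492]) (.leaf [1, 1, 1054212, 3225390, 5, 3225440])) (.node (.leaf [0, 1, 2569370, 4543056, 1, 0]) (.leaf [])))) (.node (.node (.node (.leaf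 [1, 1, 3762192, 1317792, 12, 1020]) (.leaf [1, 5, 72766, 4247126, 4, 5784160])) (.node (.leaf [1, 11, 658564, 2434884, 29, 858996]) (.leaf [1, 5, 5298990, 3010358, 5, 1530086]))) (.node (.node (.leaf [1, 37, 988190, 150138, 29, 329964]) (.leaf [1, 5, 1748766, 6124258, 2, 928424])) (.node (.leaf [0, 8, 2438, 4622, 8, 0]) (.leaf []))))))) (.node (.node (.node (.node (.node (.node (.leaf [0, 5, 131718, 131718, 5, 0]) (.leaf [0, 8, 2350, 7372, 8, 0])) (.node (.leaf [1, 47, 403536, 594218, 48, 807072]) (.leaf [1, 5, 5107018, 581544, 1, 4709554]))) (.node (.node (.leaf [0, 11, 988198, 988198, 11, 0]) (.leaf [1, 3, 346084, 2817878, 5, 6037828])) (.node (.leaf [1, 29, 1863132, 1230786, 30, 1333930]) (.leaf [1, 1, 2131872, 5244852, 1, 3799636])))) (.node (.node (.node (.leaf [0, 2, 872944, 2124040, 2, 0]) (.leaf [1, 29, 1980006, 4349104, 1, 5374036])) (.node (.leaf [1, 42, 2437028, 199088, 22, 1292432]) (.leaf [1, 1, 6424092, 3880238, 2, 2476064]))) (.node (.node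 (.leaf [1, 30, 329960, 461000, 34, 790276]) (.leaf [1, 1, 4229678, 4604052, 1, 1252274])) (.node (.leaf [1, 29, 3228462, 4324418, 29, 1180938]) (.leaf []))))) (.node (.node (.node (.node (.leaf [0, 2, 658744, 551898, 2, 0]) (.leaf [0, 8, 71786, 68728, 8, 0])) (.node (.leaf [1, 50, 741216, 1383652, 48, 880824]) (.leaf [1, 1, 7300402, 4560422, 1, 665694]))) (.node (.node (.leaf [1, 30, 1185754, 1408682, 1, 1226736]) (.leaf [1, 1, 1712764, 1150692, 5, 3817548])) (.node (.leaf [1, 29, 4346670, 6626116, 42, 3163776]) (.leaf [])))) (.node (.node (.node (.leaf [1, 8, 330800, 790788, 1, 329788]) (.leaf [1, 5, 7642, 2688558, 1, 2675122])) (.node (.leaf [1, 4, 530882, 5503692, 42, 1185766]) (.leaf [1, 1, 1751962, 1761610, 5, 1753976]))) (.node (.node (.leaf [1, 12, 4548876, 4824308, 33, 140622]) (.leaf [1, 5, 3433218, 7075806, 1, 3044772])) (.node (.leaf [0, 8, 68630, 67012, 8, 0]) (.leaf [])))))) (.node (.node (.node (.node (.node (.leaf [0, 2, 1885480, 1663038,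 2, 0]) (.leaf [0, 8, 2344, 71134, 8, 0])) (.node (.leaf [1, 47, 75098, 988020, 17, 790272]) (.leaf [1, 1, 1160318, 2114154, 5, 4446666]))) (.node (.node (.leaf [1, 26, 1383996, 396650, 28, 725424]) (.leaf [1, 5, 6768134, 264134, 4, 990868])) (.node (.leaf [1, 17, 658914, 2315404, 4, 4478714]) (.leaf [])))) (.node (.node (.node (.leaf [0, 2, 3828222, 864546, 2, 0]) (.leaf [1, 4, 5040008, 3722548, 4, 6909466])) (.node (.leaf [1, 17, 3309264, 2908432, 46, 1448834]) (.leaf [1, 5, 3552164, 1859732, 1, 864902]))) (.node (.node (.leaf [1, 30, 1333936, 1493738, 34, 1465976]) (.leaf [1, 36, 5483338, 302184, 1, 368674])) (.node (.leaf [1, 22, 5160438, 432516, 22, 90560]) (.leaf []))))) (.node (.node (.node (.node (.leaf [0, 2, 1918230, 1325536, 2, 0]) (.leaf [1, 17, 1233194, 2090478, 22, 6442744])) (.node (.leaf [1, 47, 2306324, 1137530, 17, 2058336]) (.leaf [1, 5, 6434194, 610132, 5, 5816984]))) (.node (.node (.leaf [1, 33, 725094, 1656654, 8, 666802]) (.leaf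 [1, 5, 302322, 2502262, 5, 2881782])) (.node (.leaf [1, 1, 469238, 4192622, 29, 3463224]) (.leaf [])))) (.node (.node (.node (.leaf [0, 5, 938616, 938616, 5, 0]) (.leaf [1, 5, 3855748, 2783612, 1, 1249468])) (.node (.leaf [1, 29, 4153758, 826122, 30, 1516]) (.leaf [1, 5, 4880592, 2363522, 1, 2166676]))) (.node (.node (.leaf [1, 23, 988512, 724422, 39, 132218]) (.leaf [1, 1, 3887412, 7235406, 5, 1088924])) (.node (.leaf [0, 8, 73068, 904, 8, 0]) (.leaf []))))))))))

/-- the facts, part 13 -/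
def factTab13 : WTab :=
  (.node (.node (.node (.node (.node (.node (.node (.node (.node (.leaf [0, 1, 724422, 724422, 1, 0]) (.leaf [0, 8, 67416, 3236, 8, 0])) (.node (.leaf [1, 39, 264936, 1325706, 36, 592878]) (.leaf [1, 1, 2098300, 5014894, 1, 3481590]))) (.node (.node (.leaf [0, 5, 699888, 699888, 5, 0]) (.leaf [1, 5, 6497668, 687606, 5, 1320928])) (.node (.leaf [1, 29, 66864, 7213732, 29, 3559944]) (.leaf [1, 8, 4727080, 2683914, 1, 2282596])))) (.node (.node (.node (.leaf [0, 2, 2058352, 1457250, 2, 0]) (.leaf [1, 22, 6211124, 5351858, 36, 4347574])) (.node (.leaf [1, 17, 1186922, 66360, 50, 2321432]) (.leaf [1, 1, 5828444, 7049914, 1, 2782560]))) (.node (.node (.leaf [1, 12, 2184336, 3383354, 33, 66364]) (.leaf [1, 5, 916664, 6748678, 5, 794344])) (.node (.leaf [1, 12, 2768640, 3833858, 29, 1709808]) (.leaf []))))) (.node (.node (.node (.node (.leaf [0, 2, 2774352, 1119558, 2, 0]) (.leaf [0, 8, 4884, 8076, 8, 0])) (.node (.leaf [1, 9, 1054050,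 988012, 47, 1128794]) (.leaf [1, 1, 2051156, 2863014, 5, 3615190]))) (.node (.node (.leaf [1, 12, 346, 263426, 28, 1012]) (.leaf [1, 5, 7364296, 428488, 4, 363222])) (.node (.leaf [1, 29, 1521048, 6961242, 4, 1294966]) (.leaf [])))) (.node (.node (.node (.leaf [0, 2, 2198280, 732834, 2, 0]) (.leaf [1, 4, 7197744, 6859798, 29, 2317518])) (.node (.leaf [1, 42, 568016, 3952224, 1, 1465970]) (.leaf [1, 5, 5106376, 2398602, 1, 479060]))) (.node (.node (.leaf [1, 29, 358, 403388, 33, 1449510]) (.leaf [1, 1, 2443738, 4443976, 36, 6520820])) (.node (.leaf [1, 22, 2578998, 243858, 17, 4818920]) (.leaf [])))))) (.node (.node (.node (.node (.node (.leaf [0, 4, 724416, 131718, 4, 0]) (.leaf [0, 8, 6838, 6836, 8, 0])) (.node (.leaf [1, 43, 1852554, 660074, 49, 543666]) (.leaf [1, 1, 304396, 4562314, 37, 264096]))) (.node (.node (.leaf [1, 16, 1588784, 2050122, 1, 1531320]) (.leaf [1, 5, 4857044, 2121334, 4, 5440694])) (.node (.leaf [1, 30, 271668, 5646466, 29, 3106164])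 (.leaf [1, 1, 2436640, 6267904, 1, 6615756])))) (.node (.node (.node (.leaf [0, 2, 2181666, 3836118, 2, 0]) (.leaf [1, 29, 3698704, 490590, 1, 5201164])) (.node (.leaf [1, 46, 724428, 987846, 5, 24700]) (.leaf [1, 5, 4427950, 3500788, 1, 1095254]))) (.node (.node (.leaf [1, 30, 790276, 1384490, 34, 132720]) (.leaf [1, 1, 5485088, 764688, 8, 1045820])) (.node (.leaf [1, 29, 1073028, 4691066, 29, 2739966]) (.leaf []))))) (.node (.node (.node (.node (.leaf [0, 2, 329616, 2593434, 2, 0]) (.leaf [1, 1, 512066, 6988490, 17, 2797274])) (.node (.leaf [1, 17, 403368, 988854, 1, 8916]) (.leaf [1, 2, 1146066, 451250, 5, 125632]))) (.node (.node (.leaf [1, 1, 2650704, 1070514, 30, 666796]) (.leaf [1, 1, 1251944, 2628408, 5, 177154])) (.node (.leaf [1, 42, 2502704, 1758944, 23, 329964]) (.leaf [])))) (.node (.node (.node (.leaf [1, 8, 594224, 592704, 5, 1382984]) (.leaf [1, 5, 3479052, 6686088, 4, 5434424])) (.node (.leaf [1, 5, 1589128, 5517746, 4, 2250846]) (.leaf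 [1, 5, 2868978, 1188114, 5, 6233414]))) (.node (.node (.leaf [1, 36, 725088, 1992494, 12, 2249356]) (.leaf [1, 2, 1329046, 1380408, 1, 3465394])) (.node (.leaf [0, 8, 476, 4244, 8, 0]) (.leaf []))))))) (.node (.node (.node (.node (.node (.node (.leaf [1, 3, 1061928, 1185408, 1, 741234]) (.leaf [0, 8, 7376, 72552, 8, 0])) (.node (.leaf [1, 1, 1589788, 131718, 44, 1514688]) (.leaf [1, 1, 3763412, 7212006, 5, 4774636]))) (.node (.node (.leaf [1, 20, 0, 0, 1, 487206]) (.leaf [1, 4, 5520480, 5990870, 5, 5767324])) (.node (.leaf [1, 30, 199082, 5096830, 29, 2043894]) (.leaf [1, 1, 1158944, 4396650, 5, 2480884])))) (.node (.node (.node (.leaf [0, 2, 988182, 2791002, 2, 0]) (.leaf [1, 1, 2279986, 6320174, 1, 3917304])) (.node (.leaf [1, 22, 1317474, 198080, 8, 700224]) (.leaf [1, 1, 5054238, 1517978, 5, 1069304]))) (.node (.node (.leaf [1, 1, 848254, 1448834, 33, 510]) (.leaf [1, 5, 6546076, 5605386, 5, 1132818])) (.node (.leaf [1, 12, 593208, 3362276, 29, 4006482])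 (.leaf []))))) (.node (.node (.node (.node (.leaf [0, 2, 1580886, 996072, 2, 0]) (.leaf [0, 8, 67558, 69790, 8, 0])) (.node (.leaf [1, 4, 1912362, 164980, 47, 873602]) (.leaf [1, 1, 2535796, 5018136, 1, 100894]))) (.node (.node (.leaf [1, 23, 460994, 460994, 29, 1317792]) (.leaf [1, 4, 5701608, 4988520, 8, 4858818])) (.node (.leaf [1, 29, 4768600, 3184006, 22, 131732]) (.leaf [])))) (.node (.node (.node (.leaf [1, 1, 395490, 790628, 4, 1317474]) (.leaf [1, 5, 5165948, 7503686, 4, 5098360])) (.node (.leaf [1, 42, 964328, 3961276, 22, 90560]) (.leaf [1, 1, 4321816, 875820, 1, 2290590]))) (.node (.node (.leaf [1, 33, 1588950, 479808, 23, 132066]) (.leaf [1, 1, 2903710, 4190332, 5, 4788332])) (.node (.leaf [0, 8, 1158, 2770, 8, 0]) (.leaf [])))))) (.node (.node (.node (.node (.node (.leaf [0, 2, 741232, 955080, 2, 0]) (.leaf [0, 8, 73700, 7844, 8, 0])) (.node (.leaf [1, 22, 263778, 396148, 44, 666966]) (.leaf [1, 1, 1060762, 4744522, 1, 5728258]))) (.node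 (.node (.leaf [1, 1, 1292598, 420186, 29, 1448832]) (.leaf [1, 5, 1387418, 5680452, 17, 5184454])) (.node (.leaf [1, 17, 3367062, 6530844, 5, 1129632]) (.leaf [])))) (.node (.node (.node (.leaf [0, 2, 1712274, 881166, 2, 0]) (.leaf [1, 4, 6909092, 7194558, 1, 5069452])) (.node (.leaf [1, 9, 107372, 3033526, 47, 1656144]) (.leaf [1, 1, 7096976, 3570754, 1, 6177290]))) (.node (.node (.leaf [1, 2, 2239980, 2371500, 34, 199086]) (.leaf [1, 1, 6501274, 3207588, 5, 6355436])) (.node (.leaf [1, 46, 148530, 1076890, 22, 5168670]) (.leaf []))))) (.node (.node (.node (.node (.leaf [0, 2, 2436688, 864534, 2, 0]) (.leaf [1, 17, 4312198, 7228452, 12, 3624768])) (.node (.leaf [1, 47, 527858, 2437348, 17, 419832]) (.leaf [1, 2, 2647760, 4353866, 2, 7381544]))) (.node (.node (.leaf [1, 23, 989358, 2008788, 12, 2373176]) (.leaf [1, 5, 3069624, 1983020, 8, 700224])) (.node (.leaf [0, 1, 4949320, 4224686, 1, 0]) (.leaf [])))) (.node (.node (.node (.leaf [1, 16, 1975680,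 1646754, 1, 1588782]) (.leaf [1, 5, 6318128, 3745922, 1, 3753514])) (.node (.leaf [1, 1, 971376, 1976494, 29, 2319552]) (.leaf [1, 1, 7345812, 6896898, 1, 5964536]))) (.node (.node (.leaf [1, 33, 263774, 594216, 39, 1008]) (.leaf [1, 1, 3136922, 1679220, 1, 1259664])) (.node (.leaf [0, 8, 66608, 66392, 8, 0]) (.leaf [])))))))) (.node (.node (.node (.node (.node (.node (.node (.leaf [0, 2, 329634, 6, 2, 0]) (.leaf [0, 8, 68198, 5274, 8, 0])) (.node (.leaf [1, 30, 329786, 527206, 39, 1317476]) (.leaf [1, 5, 1932246, 3242660, 1, 315882]))) (.node (.node (.leaf [0, 5, 2058168, 2058168, 5, 0]) (.leaf [1, 5, 5787380, 3973934, 1, 2963878])) (.node (.leaf [1, 29, 1846668, 35910, 30, 1317126]) (.leaf [1, 1, 1674676, 3851188, 5, 4155780])))) (.node (.node (.node (.leaf [0, 2, 1531504, 1613658, 2, 0]) (.leaf [1, 1, 4914226, 6292114, 1, 74106])) (.node (.leaf [1, 46, 741216, 922492, 47, 9252]) (.leaf [1, 1, 6299048, 6352322, 1, 39740]))) (.node (.node (.leaf [1,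 33, 197736, 264936, 33, 674]) (.leaf [1, 5, 1101658, 4061420, 17, 4481400])) (.node (.leaf [1, 8, 4025450, 3604782, 29, 3916140]) (.leaf []))))) (.node (.node (.node (.node (.leaf [0, 2, 2436672, 411954, 2, 0]) (.leaf [0, 8, 70714, 4862, 8, 0])) (.node (.leaf [1, 47, 528360, 923498, 9, 1580896]) (.leaf [1, 5, 4247784, 713890, 5, 2778188]))) (.node (.node (.leaf [1, 12, 396660, 3037608, 23, 263430]) (.leaf [1, 5, 6898898, 2625694, 22, 7169268])) (.node (.leaf [1, 29, 3497904, 3441264, 4, 3624034]) (.leaf [])))) (.node (.node (.node (.leaf [1, 1, 996078, 1654638, 4, 486042]) (.leaf [1, 4, 4122324, 6241084, 29, 2390148])) (.node (.leaf [1, 42, 831790, 4875308, 8, 675528]) (.leaf [1, 5, 3895164, 4380364, 5, 6908048]))) (.node (.node (.leaf [1, 33, 2512280, 660080, 12, 510]) (.leaf [1, 4, 3104148, 4494858, 1, 3309244])) (.node (.leaf [1, 22, 4995464, 3893562, 22, 7276062]) (.leaf [])))))) (.node (.node (.node (.node (.node (.leaf [0, 2, 16818, 1654632, 2,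 0]) (.leaf [0, 8, 4874, 70730, 8, 0])) (.node (.leaf [1, 8, 1721166, 1384488, 48, 1317126]) (.leaf [1, 8, 2181834, 569182, 1, 7045024]))) (.node (.node (.leaf [1, 16, 403378, 419840, 28, 1318640]) (.leaf [1, 5, 147684, 4890258, 5, 7082698])) (.node (.leaf [1, 29, 1517046, 885098, 39, 790946]) (.leaf [1, 8, 3133482, 5609416, 1, 5366150])))) (.node (.node (.node (.leaf [0, 2, 3828234, 1193826, 2, 0]) (.leaf [1, 22, 5132872, 5156204, 1, 4346218])) (.node (.leaf [1, 46, 2379402, 264940, 22, 724430]) (.leaf [1, 5, 6927068, 2448058, 1, 2756892]))) (.node (.node (.leaf [1, 34, 264940, 461338, 30, 199082]) (.leaf [1, 1, 7176138, 7186376, 1, 1628476])) (.node (.leaf [0, 42, 0, 694922, 22, 2855928]) (.leaf []))))) (.node (.node (.node (.node (.leaf [0, 2, 1391376, 469392, 2, 0]) (.leaf [1, 12, 330292, 1042012, 17, 3669866])) (.node (.leaf [1, 42, 930216, 1382980, 8, 272164]) (.leaf [1, 5, 6806590, 2889960, 1, 3648758]))) (.node (.node (.leaf [1, 12, 1928246, 1449188,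 16, 403378]) (.leaf [1, 1, 1926458, 2807690, 5, 612778])) (.node (.leaf [1, 29, 2648098, 2723350, 1, 19164]) (.leaf [])))) (.node (.node (.node (.leaf [0, 11, 724422, 131712, 11, 263776]) (.leaf [1, 5, 1932246, 6036118, 4, 6053338])) (.node (.leaf [1, 12, 1318140, 6204720, 29, 3370392]) (.leaf [1, 1, 6859016, 2362678, 1, 1758688]))) (.node (.node (.leaf [1, 12, 537100, 1926636, 37, 133224]) (.leaf [1, 5, 530536, 2760440, 2, 1521632])) (.node (.leaf [0, 8, 240, 67016, 8, 0]) (.leaf []))))))) (.node (.node (.node (.node (.node (.node (.leaf [1, 5, 0, 0, 1, 594216]) (.leaf [0, 8, 4872, 70736, 8, 0])) (.node (.leaf [1, 46, 1992498, 659576, 47, 790272]) (.leaf [1, 1, 2855622, 1680080, 5, 7239922]))) (.node (.node (.leaf [1, 1, 1852368, 1062096, 27, 280056]) (.leaf [1, 1, 1375080, 3645656, 5, 6182516])) (.node (.leaf [1, 29, 2635758, 745154, 4, 444882]) (.leaf [1, 1, 376174, 7398282, 5, 998376])))) (.node (.node (.node (.leaf [0, 2, 1918240, 403552, 2, 0])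 (.leaf [1, 29, 1657332, 5252420, 1, 4188628])) (.node (.leaf [1, 22, 1976038, 988012, 22, 1382998]) (.leaf [1, 1, 1123220, 3261544, 5, 1200212]))) (.node (.node (.leaf [1, 34, 0, 0, 1, 3624780]) (.leaf [1, 8, 3853518, 7047378, 5, 3239626])) (.node (.leaf [1, 29, 5396350, 559084, 29, 3292806]) (.leaf []))))) (.node (.node (.node (.node (.leaf [0, 2, 477808, 90906, 2, 0]) (.leaf [0, 8, 5936, 2870, 8, 0])) (.node (.leaf [1, 48, 1317128, 1383988, 45, 1448832]) (.leaf [1, 2, 4109966, 5781878, 1, 6360652]))) (.node (.node (.leaf [1, 29, 396150, 131714, 23, 1383660]) (.leaf [1, 37, 922154, 7234770, 5, 6703958])) (.node (.leaf [1, 42, 2840398, 5805272, 42, 1723344]) (.leaf [])))) (.node (.node (.node (.leaf [1, 4, 1055214, 782040, 4, 667468]) (.leaf [1, 5, 401310, 6831270, 4, 6103276])) (.node (.leaf [1, 4, 2703714, 6707214, 5, 1451372]) (.leaf [1, 5, 6891722, 4142452, 5, 1428600]))) (.node (.node (.leaf [1, 33, 1466472, 702410, 23, 132384]) (.leaf [1, 5, 1621108,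 1411428, 5, 5804886])) (.node (.leaf [0, 8, 67008, 248, 8, 0]) (.leaf [])))))) (.node (.node (.node (.node (.node (.leaf [0, 2, 2445088, 1267734, 2, 0]) (.leaf [0, 8, 69674, 68382, 8, 0])) (.node (.leaf [1, 20, 263766, 264098, 44, 1934694]) (.leaf [1, 5, 6900836, 5713970, 1, 6559142]))) (.node (.node (.leaf [1, 30, 658912, 724774, 28, 724924]) (.leaf [1, 17, 2789278, 2206272, 5, 7200254])) (.node (.leaf [1, 29, 3700212, 4114558, 2, 997080]) (.leaf [])))) (.node (.node (.node (.leaf [0, 2, 1712272, 3498784, 2, 0]) (.leaf [1, 4, 6495910, 950226, 29, 3201462])) (.node (.leaf [1, 9, 700068, 2050124, 2, 1194314]) (.leaf [1, 1, 688668, 1259318, 1, 427934]))) (.node (.node (.leaf [1, 34, 1449510, 3046860, 16, 527016]) (.leaf [1, 1, 428404, 6317756, 1, 6515562])) (.node (.leaf [1, 22, 2115980, 7354128, 22, 6302046]) (.leaf []))))) (.node (.node (.node (.node (.leaf [0, 2, 1465650, 214374, 2, 0]) (.leaf [1, 17, 2263538, 6993748, 29, 4885080])) (.node (.leaf [1,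 17, 3861984, 3564624, 46, 3045848]) (.leaf [1, 2, 3445876, 6668902, 1, 3266102]))) (.node (.node (.leaf [1, 31, 1185408, 1185408, 1, 1457422]) (.leaf [1, 5, 2691458, 4089646, 5, 140116])) (.node (.leaf [0, 8, 724422, 7303390, 16, 7105814]) (.leaf [])))) (.node (.node (.node (.leaf [1, 18, 403368, 67380, 4, 1334096]) (.leaf [1, 5, 6573628, 31596, 3, 403384])) (.node (.leaf [1, 29, 4286100, 813980, 4, 1048492]) (.leaf [1, 1, 4682198, 4282906, 1, 4932770]))) (.node (.node (.leaf [1, 39, 724590, 1317476, 29, 922160]) (.leaf [1, 1, 131654, 4754762, 1, 2625548])) (.node (.leaf [0, 8, 71126, 72564, 8, 0]) (.leaf []))))))))) (.node (.node (.node (.node (.node (.node (.node (.node (.leaf [0, 2, 395136, 460992, 2, 0]) (.leaf [0, 8, 67720, 69450, 8, 0])) (.node (.leaf [1, 39, 264440, 156582, 36, 658562]) (.leaf [1, 1, 319810, 2577294, 5, 927942]))) (.node (.node (.leaf [0, 5, 601288, 601288, 5, 0]) (.leaf [1, 5, 3533164, 7184524, 5, 334188])) (.node (.leaf [1,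 29, 1789212, 926572, 12, 4160016]) (.leaf [1, 5, 5124458, 1526036, 1, 5530744])))) (.node (.node (.node (.leaf [0, 2, 551896, 1984098, 2, 0]) (.leaf [1, 5, 222268, 3597918, 36, 5730380])) (.node (.leaf [1, 47, 1053696, 461162, 42, 1448832]) (.leaf [1, 1, 2691584, 5745640, 1, 4387268]))) (.node (.node (.leaf [1, 30, 264944, 1448834, 33, 396654]) (.leaf [1, 4, 6005616, 2801000, 5, 4462602])) (.node (.leaf [1, 8, 2634576, 6079768, 29, 2557860]) (.leaf []))))) (.node (.node (.node (.node (.leaf [0, 2, 271662, 1342170, 2, 0]) (.leaf [0, 8, 1700, 3930, 8, 0])) (.node (.leaf [1, 47, 133224, 921992, 4, 998610]) (.leaf [1, 1, 4990872, 3950252, 5, 4120670]))) (.node (.node (.leaf [1, 12, 330798, 1448840, 1, 758856]) (.leaf [1, 5, 4509492, 5057098, 17, 5016146])) (.node (.leaf [1, 29, 4457556, 5293278, 46, 264444]) (.leaf [])))) (.node (.node (.node (.leaf [0, 2, 1473870, 280074, 2, 0]) (.leaf [1, 4, 5882090, 4328272, 29, 1926798])) (.node (.leaf [1, 42, 16810,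 775832, 42, 260628]) (.leaf [1, 8, 973012, 3321208, 2, 2320240]))) (.node (.node (.leaf [1, 30, 724428, 594216, 33, 1260174]) (.leaf [1, 1, 995004, 84278, 5, 2813578])) (.node (.leaf [1, 22, 5825282, 7479308, 37, 1318632]) (.leaf [])))))) (.node (.node (.node (.node (.node (.leaf [1, 1, 996078, 0, 6, 0]) (.leaf [0, 8, 68730, 3922, 8, 0])) (.node (.leaf [1, 5, 1589460, 1516, 45, 1382976]) (.leaf [1, 1, 2629496, 3577780, 5, 667800]))) (.node (.node (.leaf [1, 8, 831774, 2766304, 23, 1383480]) (.leaf [1, 5, 7429434, 4391378, 5, 2343112])) (.node (.leaf [1, 29, 3575556, 1165490, 30, 1720492]) (.leaf [1, 1, 6794112, 2643828, 1, 1013882])))) (.node (.node (.node (.leaf [0, 2, 2058336, 345928, 2, 0]) (.leaf [1, 17, 1101482, 2612082, 1, 2699818])) (.node (.leaf [1, 42, 2, 1383482, 1, 1992818]) (.leaf [1, 1, 1131624, 4504256, 1, 3360890]))) (.node (.node (.leaf [1, 33, 1383488, 411768, 34, 263600]) (.leaf [1, 1, 6374274, 23558, 1, 5484934])) (.node (.leaf [1,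 29, 1905982, 6150930, 39, 658734]) (.leaf []))))) (.node (.node (.node (.node (.leaf [0, 2, 749464, 74256, 2, 0]) (.leaf [1, 23, 12, 1971186, 17, 1101482])) (.node (.leaf [1, 42, 16818, 329954, 42, 1515044]) (.leaf [1, 5, 951942, 6193318, 2, 3370026]))) (.node (.node (.leaf [1, 30, 139948, 1631114, 28, 1260004]) (.leaf [1, 5, 1387048, 1564580, 1, 1465970])) (.node (.leaf [1, 1, 3227964, 7339574, 8, 1375612]) (.leaf [])))) (.node (.node (.node (.leaf [1, 9, 0, 0, 1, 486192]) (.leaf [1, 5, 4113614, 4830704, 1, 2632780])) (.node (.leaf [1, 4, 2324114, 1550648, 4, 1144928]) (.leaf [1, 1, 778708, 7254970, 1, 324556]))) (.node (.node (.leaf [1, 2, 4026814, 2371324, 36, 330794]) (.leaf [1, 2, 182338, 3421722, 1, 5264870])) (.node (.leaf [0, 8, 66332, 70100, 8, 0]) (.leaf []))))))) (.node (.node (.node (.node (.node (.node (.leaf [0, 4, 658728, 922336, 4, 0]) (.leaf [0, 8, 6932, 4418, 8, 0])) (.node (.leaf [1, 1, 421352, 0, 46, 0]) (.leaf [1, 1, 2973140, 5069824,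 5, 3880594]))) (.node (.node (.leaf [1, 23, 1318130, 395482, 1, 766752]) (.leaf [1, 1, 34888, 337230, 5, 6614780])) (.node (.leaf [1, 29, 2842056, 1009082, 1, 946694]) (.leaf [1, 1, 4180128, 6505814, 1, 1305364])))) (.node (.node (.node (.leaf [0, 2, 1086792, 345930, 2, 0]) (.leaf [1, 1, 2963242, 5458336, 29, 1317792])) (.node (.leaf [1, 22, 930218, 658914, 5, 140116]) (.leaf [1, 1, 2135476, 5355648, 5, 5995622]))) (.node (.node (.leaf [1, 12, 1854742, 2197946, 33, 198244]) (.leaf [1, 5, 4624476, 4631574, 17, 4196714])) (.node (.leaf [1, 29, 1056564, 6566132, 29, 2434224]) (.leaf []))))) (.node (.node (.node (.node (.leaf [0, 2, 3037960, 1251438, 2, 0]) (.leaf [0, 8, 7664, 72050, 8, 0])) (.node (.leaf [1, 5, 8588, 132058, 50, 1399782]) (.leaf [1, 5, 5527278, 5020182, 1, 6689932]))) (.node (.node (.leaf [1, 1, 42336, 214032, 30, 263428]) (.leaf [1, 8, 6315550, 514994, 5, 6160714])) (.node (.leaf [1, 17, 74442, 3403944, 2, 4481712]) (.leaf [])))) (.node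 (.node (.node (.leaf [1, 1, 330800, 594218, 1, 660084]) (.leaf [1, 5, 205644, 6948702, 1, 469238])) (.node (.leaf [1, 9, 601284, 2198006, 9, 1070340]) (.leaf [1, 1, 7342296, 5321004, 5, 4068038]))) (.node (.node (.leaf [1, 33, 2906574, 601614, 33, 988850]) (.leaf [1, 8, 4362962, 3837104, 1, 2559866])) (.node (.leaf [0, 8, 532, 70482, 8, 0]) (.leaf [])))))) (.node (.node (.node (.node (.node (.leaf [0, 2, 2107746, 634218, 2, 0]) (.leaf [0, 8, 73512, 6192, 8, 0])) (.node (.leaf [1, 22, 922336, 66206, 2, 421352]) (.leaf [1, 1, 4214560, 2772762, 1, 3235156]))) (.node (.node (.leaf [1, 30, 0, 0, 1, 625972]) (.leaf [1, 17, 1744922, 1475892, 5, 1322948])) (.node (.leaf [1, 29, 3230448, 6352350, 4, 3107498]) (.leaf [])))) (.node (.node (.node (.leaf [0, 2, 3861144, 2765968, 2, 0]) (.leaf [1, 29, 732656, 824382, 4, 5434424])) (.node (.leaf [1, 29, 8578, 132732, 9, 1843970]) (.leaf [1, 1, 4141114, 360526, 5, 2824602]))) (.node (.node (.leaf [1, 34, 1120232, 873612,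 16, 403374]) (.leaf [1, 5, 1324994, 3937560, 1, 7045298])) (.node (.leaf [1, 22, 3842244, 160218, 1, 1055216]) (.leaf []))))) (.node (.node (.node (.node (.leaf [0, 2, 741216, 1408026, 2, 0]) (.leaf [1, 29, 3173814, 5126042, 17, 2879594])) (.node (.leaf [1, 22, 1514688, 100744, 47, 2184990]) (.leaf [1, 2, 1264784, 2139962, 5, 7242408]))) (.node (.node (.leaf [1, 12, 601944, 1754432, 12, 4680588]) (.leaf [1, 5, 2492246, 3959036, 17, 988186])) (.node (.leaf [0, 1, 6914232, 140510, 1, 0]) (.leaf [])))) (.node (.node (.node (.leaf [1, 1, 1588944, 0, 17, 0]) (.leaf [1, 16, 133230, 1976304, 5, 7394094])) (.node (.leaf [1, 29, 263426, 4786876, 29, 3429342]) (.leaf [1, 5, 2905226, 2268324, 5, 3042302]))) (.node (.node (.leaf [1, 39, 132064, 462512, 23, 197580]) (.leaf [1, 1, 7103476, 6399886, 1, 741384])) (.node (.leaf [0, 8, 750, 68298, 8, 0]) (.leaf [])))))))) (.node (.node (.node (.node (.node (.node (.node (.leaf [0, 3, 724422, 329632, 3, 0]) (.leaf [0,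 8, 3232, 3230, 8, 0])) (.node (.leaf [1, 36, 1318130, 272676, 39, 197572]) (.leaf [1, 5, 5849212, 7080744, 1, 393046]))) (.node (.node (.leaf [1, 1, 74088, 411942, 8, 1926628]) (.leaf [1, 5, 732156, 4520636, 5, 6898580])) (.node (.leaf [1, 29, 3237712, 1589948, 29, 4622478]) (.leaf [1, 1, 578792, 588612, 5, 2740952])))) (.node (.node (.node (.leaf [0, 2, 601278, 1267746, 2, 0]) (.leaf [1, 1, 4074380, 6377626, 12, 921992])) (.node (.leaf [1, 50, 477814, 660076, 47, 25050]) (.leaf [1, 1, 2864216, 7067442, 1, 2741362]))) (.node (.node (.leaf [1, 33, 1317128, 495096, 4, 282916]) (.leaf [1, 37, 987842, 3818042, 5, 2646922])) (.node (.leaf [1, 12, 807920, 1297820, 29, 3201462]) (.leaf []))))) (.node (.node (.node (.node (.leaf [0, 2, 2124042, 1144600, 2, 0]) (.leaf [0, 8, 72050, 7664, 8, 0])) (.node (.leaf [1, 9, 2041536, 99652, 47, 3032568]) (.leaf [1, 1, 7175588, 198894, 5, 6858238]))) (.node (.node (.leaf [1, 28, 725424, 2576618, 23, 1010]) (.leaf [1, 5,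 7350826, 7479448, 1, 2654576])) (.node (.leaf [1, 1, 1960582, 1338372, 17, 1062102]) (.leaf [])))) (.node (.node (.node (.leaf [1, 3, 724590, 922330, 1, 263778]) (.leaf [1, 4, 5825886, 4439404, 37, 66362])) (.node (.leaf [1, 9, 313832, 1263976, 42, 1802816]) (.leaf [1, 5, 1257720, 3437302, 1, 5949712]))) (.node (.node (.leaf [1, 30, 725430, 1317300, 33, 5344250]) (.leaf [1, 1, 2074108, 1841734, 2, 791148])) (.node (.leaf [1, 22, 5766678, 4844060, 23, 329964]) (.leaf [])))))) (.node (.node (.node (.node (.node (.leaf [0, 2, 148530, 1992498, 2, 0]) (.leaf [0, 8, 7204, 66758, 8, 0])) (.node (.leaf [1, 49, 988198, 724770, 8, 675528]) (.leaf [1, 2, 2791324, 5572742, 1, 3412936]))) (.node (.node (.leaf [1, 29, 197574, 337530, 1, 1589448]) (.leaf [1, 5, 5253652, 786758, 36, 1317294])) (.node (.leaf [1, 4, 4416386, 6823734, 17, 2041890]) (.leaf [1, 8, 5094836, 271346, 8, 5547920])))) (.node (.node (.node (.leaf [0, 2, 1885464, 222606, 2, 0]) (.leaf [1, 4, 6440176,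 504686, 16, 403378])) (.node (.leaf [1, 31, 1382978, 1382984, 5, 346094]) (.leaf [1, 1, 3679216, 4035382, 1, 5468304]))) (.node (.node (.leaf [1, 33, 197738, 807912, 34, 725930]) (.leaf [1, 5, 69602, 3937490, 1, 6253884])) (.node (.leaf [1, 22, 2526480, 4068788, 22, 3867882]) (.leaf []))))) (.node (.node (.node (.node (.leaf [0, 2, 1588792, 411942, 2, 0]) (.leaf [1, 29, 3301200, 6812790, 17, 4131094])) (.node (.leaf [1, 22, 2436672, 988012, 31, 477814]) (.leaf [1, 1, 6229382, 1903322, 1, 7274782]))) (.node (.node (.leaf [1, 12, 2768640, 3754148, 30, 658916]) (.leaf [1, 5, 1231354, 1878640, 5, 1589460])) (.node (.leaf [0, 1, 865738, 5980650, 1, 0]) (.leaf [])))) (.node (.node (.node (.leaf [0, 12, 65856, 131720, 12, 264100]) (.leaf [1, 5, 410594, 5207642, 4, 6704426])) (.node (.leaf [1, 29, 858996, 1411890, 11, 396652]) (.leaf [1, 1, 5179702, 600138, 1, 6091768]))) (.node (.node (.leaf [1, 3, 57980, 90726, 37, 1383156]) (.leaf [1, 2, 928424, 5110654,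 5, 1570854])) (.node (.leaf [0, 8, 73226, 6698, 8, 0]) (.leaf []))))))) (.node (.node (.node (.node (.node (.node (.leaf [0, 5, 1317288, 1317288, 5, 0]) (.leaf [0, 8, 70022, 5570, 8, 0])) (.node (.leaf [1, 48, 807072, 462004, 47, 667144]) (.leaf [1, 1, 4709554, 2543906, 5, 5253188]))) (.node (.node (.leaf [0, 11, 131714, 131714, 11, 0]) (.leaf [1, 5, 6037828, 2460036, 3, 732662])) (.node (.leaf [1, 30, 1333930, 3561296, 29, 1204740]) (.leaf [1, 1, 3799636, 7342776, 1, 2130528])))) (.node (.node (.node (.leaf [0, 2, 2321760, 362392, 2, 0]) (.leaf [1, 1, 5374036, 7035326, 29, 1996974])) (.node (.leaf [1, 8, 1449842, 395816, 46, 469232]) (.leaf [1, 2, 2617222, 2975128, 1, 2521564]))) (.node (.node (.leaf [1, 34, 790276, 922998, 30, 724924]) (.leaf [1, 1, 1252274, 6261596, 1, 4954498])) (.node (.leaf [1, 29, 2868498, 4370500, 29, 4282998]) (.leaf []))))) (.node (.node (.node (.node (.leaf [0, 2, 82662, 1061928, 2, 0]) (.leaf [0, 8, 7520, 70950, 8, 0])) (.node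 (.leaf [1, 48, 880824, 593212, 50, 337530]) (.leaf [1, 1, 2152360, 2027236, 5, 4397300]))) (.node (.node (.leaf [1, 28, 198240, 2774184, 23, 989358]) (.leaf [1, 5, 3817548, 2054966, 1, 1523426])) (.node (.leaf [1, 42, 3098088, 1051332, 29, 4886070]) (.leaf [])))) (.node (.node (.node (.leaf [1, 8, 922330, 988196, 1, 658914]) (.leaf [1, 4, 5980122, 7437330, 5, 400158])) (.node (.leaf [1, 4, 5672532, 3346892, 42, 1802816]) (.leaf [1, 1, 6197538, 6315488, 1, 7399688]))) (.node (.node (.leaf [1, 33, 469732, 925014, 30, 271668]) (.leaf [1, 1, 2123798, 2646186, 5, 3771888])) (.node (.leaf [0, 8, 2444, 66604, 8, 0]) (.leaf [])))))) (.node (.node (.node (.node (.node (.leaf [0, 2, 1909840, 1399794, 2, 0]) (.leaf [0, 8, 5432, 72784, 8, 0])) (.node (.leaf [1, 22, 527202, 1318132, 17, 988186]) (.leaf [1, 5, 4446666, 2230854, 1, 908198]))) (.node (.node (.leaf [1, 28, 725424, 263432, 26, 922660]) (.leaf [1, 4, 990868, 2210822, 5, 6778648])) (.node (.leaf [1, 17,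 1121064, 5717372, 4, 3104148]) (.leaf [])))) (.node (.node (.node (.leaf [0, 2, 74272, 1473864, 2, 0]) (.leaf [1, 29, 2241972, 3487400, 4, 6362678])) (.node (.leaf [1, 46, 1448834, 223278, 17, 3103464]) (.leaf [1, 5, 6337548, 1747060, 1, 682746]))) (.node (.node (.leaf [1, 30, 1926642, 1433730, 33, 610176]) (.leaf [1, 1, 368674, 4716254, 36, 5485268])) (.node (.leaf [1, 22, 90560, 4606168, 22, 5034318]) (.leaf []))))) (.node (.node (.node (.node (.leaf [0, 2, 1934872, 3070888, 2, 0]) (.leaf [1, 29, 2119668, 255656, 17, 4237774])) (.node (.leaf [1, 47, 1517546, 865874, 22, 807072]) (.leaf [1, 5, 5816984, 5914024, 5, 7078888]))) (.node (.node (.leaf [1, 1, 537938, 66024, 33, 346]) (.leaf [1, 5, 2881782, 5786248, 5, 821770])) (.node (.leaf [1, 29, 461672, 143880, 29, 4910662]) (.leaf [])))) (.node (.node (.node (.leaf [0, 5, 24870, 24870, 5, 0]) (.leaf [1, 5, 6545600, 3738250, 1, 5374036])) (.node (.leaf [1, 30, 1516, 3365326, 29, 4291572]) (.leaf [1, 1,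 2166676, 6479658, 5, 4032864]))) (.node (.node (.leaf [1, 30, 170, 1448840, 39, 395642]) (.leaf [1, 1, 1656540, 3733888, 8, 6644812])) (.node (.leaf [0, 8, 69092, 1560, 8, 0]) (.leaf []))))))))))

/-- the facts, part 14 -/
def factTab14 : WTab :=
  (.node (.node (.node (.node (.node (.node (.node (.node (.node (.leaf [0, 2, 0, 65862, 2, 263778]) (.leaf [0, 8, 67722, 5792, 8, 0])) (.node (.leaf [1, 36, 592878, 404388, 39, 791282]) (.leaf [1, 1, 3481590, 6784198, 1, 2208302]))) (.node (.node (.leaf [0, 5, 1581048, 1581048, 5, 0]) (.leaf [1, 5, 1320928, 7056816, 5, 6348508])) (.node (.leaf [1, 1, 4686544, 6901944, 29, 5147868]) (.leaf [1, 1, 5355376, 6448606, 1, 4075382])))) (.node (.node (.node (.leaf [0, 2, 2330008, 1934874, 2, 0]) (.leaf [1, 36, 4347574, 3463494, 22, 5693632])) (.node (.leaf [1, 48, 1778466, 790950, 50, 477814]) (.leaf [1, 1, 684362, 3068704, 5, 6495432]))) (.node (.node (.leaf [1, 33, 66364, 1227578, 12, 2044564]) (.leaf [1, 5, 794344,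 2461570, 5, 1180166])) (.node (.leaf [1, 29, 1709808, 6594684, 12, 2579158]) (.leaf []))))) (.node (.node (.node (.node (.leaf [0, 2, 1251438, 3037960, 2, 0]) (.leaf [0, 8, 73368, 5092, 8, 0])) (.node (.leaf [1, 50, 8234, 131888, 5, 930574]) (.leaf [1, 5, 3615190, 514624, 1, 2174244]))) (.node (.node (.leaf [1, 28, 922492, 411940, 8, 2181502]) (.leaf [1, 36, 5623060, 4416702, 5, 7372564])) (.node (.leaf [1, 29, 530352, 4799992, 4, 594724]) (.leaf [])))) (.node (.node (.node (.leaf [0, 2, 1852542, 3507174, 2, 0]) (.leaf [1, 29, 2317518, 946426, 4, 7470516])) (.node (.leaf [1, 42, 371624, 1590794, 46, 148530]) (.leaf [1, 1, 4913178, 2404570, 1, 2345752]))) (.node (.node (.leaf [1, 33, 2767128, 725424, 1, 2963878]) (.leaf [1, 5, 858394, 7252930, 1, 2065838])) (.node (.leaf [1, 22, 3045264, 6267380, 17, 4481400]) (.leaf [])))))) (.node (.node (.node (.node (.node (.leaf [0, 4, 329634, 65862, 4, 0]) (.leaf [0, 8, 7200, 5580, 8, 0])) (.node (.leaf [1, 46,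 741216, 594218, 49, 724432]) (.leaf [1, 1, 2051156, 3375852, 37, 790956]))) (.node (.node (.leaf [1, 16, 1465636, 1654986, 1, 1794576]) (.leaf [1, 5, 6842768, 5019398, 8, 3754136])) (.node (.leaf [1, 30, 1975692, 5231926, 29, 2653500]) (.leaf [1, 1, 6615756, 3062220, 1, 1831618])))) (.node (.node (.node (.leaf [0, 2, 1251448, 3498768, 2, 0]) (.leaf [1, 1, 3661444, 5175810, 29, 3229644])) (.node (.leaf [1, 46, 329636, 2181830, 17, 3688290]) (.leaf [1, 1, 4927250, 2992440, 1, 7451396]))) (.node (.node (.leaf [1, 34, 1318130, 461338, 12, 395814]) (.leaf [1, 1, 4509506, 1815830, 37, 460998])) (.node (.leaf [1, 29, 2727660, 7259022, 29, 5528736]) (.leaf []))))) (.node (.node (.node (.node (.leaf [0, 2, 461010, 2058354, 2, 0]) (.leaf [1, 17, 2797274, 7064472, 1, 626808])) (.node (.leaf [1, 1, 8916, 263928, 17, 666794]) (.leaf [1, 5, 125632, 4559328, 2, 874410]))) (.node (.node (.leaf [1, 30, 666796, 1201872, 1, 3893736]) (.leaf [1, 5, 628626, 462480, 5, 234106]))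 (.node (.leaf [1, 42, 3114384, 1081012, 16, 823548]) (.leaf [])))) (.node (.node (.node (.leaf [1, 5, 1382984, 724770, 8, 461168]) (.leaf [1, 4, 5434424, 2887062, 5, 3594376])) (.node (.leaf [1, 4, 2250846, 5657828, 5, 1582902]) (.leaf [1, 5, 6233414, 5543164, 5, 2754696]))) (.node (.node (.leaf [1, 12, 2249356, 1992482, 36, 329790]) (.leaf [1, 2, 845634, 620116, 5, 5253652])) (.node (.leaf [0, 8, 66612, 2446, 8, 0]) (.leaf []))))))) (.node (.node (.node (.node (.node (.node (.leaf [1, 1, 741234, 807090, 3, 1054050]) (.leaf [0, 8, 6704, 73224, 8, 0])) (.node (.leaf [1, 44, 1514688, 131718, 1, 1583236]) (.leaf [1, 5, 4774636, 4868606, 1, 3952562]))) (.node (.node (.leaf [1, 20, 741234, 131718, 1, 930724]) (.leaf [1, 5, 5767324, 2929766, 4, 5529456])) (.node (.leaf [1, 23, 592706, 4649460, 29, 3698704]) (.leaf [1, 5, 2480884, 4824996, 1, 913198])))) (.node (.node (.node (.leaf [0, 2, 420174, 2190048, 2, 0]) (.leaf [1, 12, 1646408, 1010106, 1, 5069452]))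 (.node (.leaf [1, 8, 700224, 1384500, 22, 988848]) (.leaf [1, 5, 1069304, 6678508, 1, 5168286]))) (.node (.node (.leaf [1, 33, 659580, 931578, 30, 1516]) (.leaf [1, 5, 1132818, 6935738, 5, 6547060])) (.node (.leaf [1, 29, 4006482, 6466164, 12, 462000]) (.leaf []))))) (.node (.node (.node (.node (.leaf [0, 2, 2115642, 930216, 2, 0]) (.leaf [0, 8, 5784, 67726, 8, 0])) (.node (.leaf [1, 5, 634216, 922154, 47, 1779624]) (.leaf [1, 1, 100894, 4323630, 1, 3724070]))) (.node (.node (.leaf [1, 30, 329292, 2576616, 1, 798524]) (.leaf [1, 8, 7295342, 4382054, 5, 7394094])) (.node (.leaf [1, 29, 3886376, 3641034, 17, 5016146]) (.leaf [])))) (.node (.node (.node (.leaf [1, 4, 1317474, 1317132, 1, 658918]) (.leaf [1, 4, 5098360, 6218570, 5, 5051364])) (.node (.leaf [1, 22, 90560, 1432884, 42, 1432726]) (.leaf [1, 1, 2290590, 7231118, 1, 4190430]))) (.node (.node (.leaf [1, 1, 1375080, 683268, 33, 2174424]) (.leaf [1, 1, 2263444, 6291506, 2, 4481712])) (.node (.leaf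 [0, 8, 1164, 2776, 8, 0]) (.leaf [])))))) (.node (.node (.node (.node (.node (.leaf [0, 2, 634216, 156762, 2, 0]) (.leaf [0, 8, 69678, 1356, 8, 0])) (.node (.leaf [1, 44, 666966, 660074, 22, 790272]) (.leaf [1, 1, 5728258, 707380, 1, 1069092]))) (.node (.node (.leaf [1, 29, 1448832, 271656, 1, 551718]) (.leaf [1, 5, 6808346, 971098, 17, 3604246])) (.node (.leaf [1, 46, 123822, 5430172, 1, 1252784]) (.leaf [])))) (.node (.node (.node (.leaf [0, 2, 2140504, 1004490, 2, 0]) (.leaf [1, 1, 5069452, 4815846, 4, 6641414])) (.node (.leaf [1, 9, 1292426, 1978220, 8, 1590138]) (.leaf [1, 1, 618438, 1658890, 1, 4365374]))) (.node (.node (.leaf [1, 34, 199086, 642448, 2, 3368254]) (.leaf [1, 5, 5304730, 1589064, 1, 7096676])) (.node (.leaf [1, 44, 526848, 1076890, 22, 4046478]) (.leaf []))))) (.node (.node (.node (.node (.leaf [0, 2, 2041552, 3836128, 2, 0]) (.leaf [1, 23, 66872, 6536646, 17, 1233094])) (.node (.leaf [1, 17, 419832, 380032, 47, 1261008]) (.leaf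 [1, 5, 3875276, 2240564, 1, 4368436]))) (.node (.node (.leaf [1, 23, 791788, 1753420, 12, 3762196]) (.leaf [1, 8, 700224, 99354, 5, 2344020])) (.node (.leaf [0, 1, 2621756, 2804460, 1, 0]) (.leaf [])))) (.node (.node (.node (.leaf [1, 1, 1588782, 214386, 16, 1992498]) (.leaf [1, 1, 3753514, 4265582, 5, 6306998])) (.node (.leaf [1, 23, 592872, 6704232, 29, 1846836]) (.leaf [1, 5, 736080, 6930910, 1, 7082278]))) (.node (.node (.leaf [1, 39, 921984, 149688, 16, 197740]) (.leaf [1, 1, 1646568, 1244172, 1, 3134220])) (.node (.leaf [0, 8, 4234, 70090, 8, 0]) (.leaf [])))))))) (.node (.node (.node (.node (.node (.node (.node (.leaf [0, 2, 263776, 790278, 2, 0]) (.leaf [0, 8, 4174, 908, 8, 0])) (.node (.leaf [1, 39, 1317476, 215544, 30, 725100]) (.leaf [1, 1, 315882, 4655478, 5, 1915288]))) (.node (.node (.leaf [0, 5, 2124024, 2124024, 5, 0]) (.leaf [1, 1, 2963878, 6906858, 5, 5767980])) (.node (.leaf [1, 29, 2316060, 1418886, 12, 395814]) (.leaf [1, 5, 6376292,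 1784332, 1, 1771934])))) (.node (.node (.node (.leaf [0, 2, 1860450, 1020952, 2, 0]) (.leaf [1, 1, 74106, 5478438, 1, 4056916])) (.node (.leaf [1, 47, 9252, 1383146, 46, 337530]) (.leaf [1, 1, 39740, 2309356, 1, 6285108]))) (.node (.node (.leaf [1, 33, 674, 1318130, 33, 168]) (.leaf [1, 17, 4481400, 5893116, 5, 1085194])) (.node (.leaf [1, 29, 3916140, 5444026, 8, 4873700]) (.leaf []))))) (.node (.node (.node (.node (.leaf [0, 2, 197586, 1737306, 2, 0]) (.leaf [0, 8, 7840, 4868, 8, 0])) (.node (.leaf [1, 9, 1580896, 461168, 47, 1260506]) (.leaf [1, 1, 842708, 5138304, 5, 5262430]))) (.node (.node (.leaf [1, 12, 790442, 2774192, 23, 988516]) (.leaf [1, 22, 6361598, 4493052, 5, 3531172])) (.node (.leaf [1, 4, 3624034, 6309630, 29, 3492864]) (.leaf [])))) (.node (.node (.node (.leaf [1, 4, 486042, 1654650, 1, 1333920]) (.leaf [1, 29, 3048708, 380882, 4, 2556012])) (.node (.leaf [1, 8, 675528, 1433882, 42, 304924]) (.leaf [1, 1, 1085506, 6710784, 1, 5181762])))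 (.node (.node (.leaf [1, 12, 395136, 461344, 33, 1647080]) (.leaf [1, 1, 4486382, 6016532, 4, 3901370])) (.node (.leaf [1, 39, 724920, 3438486, 22, 4781246]) (.leaf [])))))) (.node (.node (.node (.node (.node (.leaf [0, 2, 1646754, 214386, 2, 0]) (.leaf [0, 8, 73374, 72292, 8, 0])) (.node (.leaf [1, 50, 65874, 462008, 42, 1712258]) (.leaf [1, 1, 7045024, 5975014, 8, 2043048]))) (.node (.node (.leaf [1, 28, 1382984, 988194, 1, 831774]) (.leaf [1, 5, 1852044, 4826940, 5, 6809036])) (.node (.leaf [1, 39, 790946, 7137582, 29, 1722504]) (.leaf [1, 1, 7079308, 3324282, 1, 6345938])))) (.node (.node (.node (.leaf [0, 2, 955098, 2461722, 2, 0]) (.leaf [0, 12, 0, 5038164, 4, 5792334])) (.node (.leaf [1, 47, 1910178, 1451370, 17, 3567648]) (.leaf [1, 1, 1405148, 6458344, 8, 1752854]))) (.node (.node (.leaf [1, 30, 199082, 199088, 34, 791286]) (.leaf [1, 1, 6905018, 1380680, 5, 1387418])) (.node (.leaf [1, 1, 1976196, 4579140, 22, 2534880]) (.leaf []))))) (.node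 (.node (.node (.node (.leaf [0, 2, 1020936, 271674, 2, 0]) (.leaf [1, 17, 3669866, 5430916, 12, 725940])) (.node (.leaf [1, 42, 1317120, 66534, 50, 527206]) (.leaf [1, 1, 3648758, 483302, 5, 6089902]))) (.node (.node (.leaf [1, 16, 403378, 230664, 12, 1910500]) (.leaf [1, 5, 612778, 4067090, 1, 1911852])) (.node (.leaf [1, 1, 19164, 581838, 29, 3891130]) (.leaf [])))) (.node (.node (.node (.leaf [1, 11, 0, 0, 1, 1646754]) (.leaf [1, 4, 6053338, 4106212, 5, 1915288])) (.node (.leaf [1, 23, 197736, 6189660, 29, 1657332]) (.leaf [1, 1, 1758688, 5573854, 1, 6594420]))) (.node (.node (.leaf [1, 37, 133224, 1911186, 12, 1254292]) (.leaf [1, 5, 2962016, 5230002, 2, 3117764])) (.node (.leaf [0, 8, 66392, 66608, 8, 0]) (.leaf []))))))) (.node (.node (.node (.node (.node (.node (.leaf [1, 5, 395136, 198246, 1, 66208]) (.leaf [0, 8, 73372, 72294, 8, 0])) (.node (.leaf [1, 47, 790272, 659576, 46, 1975680]) (.leaf [1, 5, 7239922, 3992882, 1, 2732142]))) (.node (.node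 (.leaf [1, 1, 271830, 131880, 27, 395136]) (.leaf [1, 5, 6182516, 3637044, 1, 1012540])) (.node (.leaf [1, 4, 444882, 5107128, 29, 3903486]) (.leaf [1, 1, 3660152, 6707584, 5, 2941768])))) (.node (.node (.node (.leaf [0, 2, 2461720, 609186, 2, 0]) (.leaf [1, 29, 2517120, 3475344, 1, 3753514])) (.node (.leaf [1, 22, 2585206, 923004, 17, 1186922]) (.leaf [1, 5, 1200212, 3676666, 1, 869722]))) (.node (.node (.leaf [1, 34, 987840, 362214, 29, 358]) (.leaf [1, 5, 4878130, 7450964, 2, 3565132])) (.node (.leaf [1, 29, 3292806, 4039108, 29, 4667286]) (.leaf []))))) (.node (.node (.node (.node (.leaf [0, 2, 1654650, 337512, 2, 0]) (.leaf [0, 8, 71280, 6926, 8, 0])) (.node (.leaf [1, 45, 1448832, 461502, 48, 988190]) (.leaf [1, 5, 6975594, 1546676, 5, 1047616]))) (.node (.node (.leaf [1, 23, 1383660, 131714, 29, 659070]) (.leaf [0, 4, 7230800, 7369246, 4, 0])) (.node (.leaf [1, 39, 724920, 5180244, 42, 859156]) (.leaf [])))) (.node (.node (.node (.leaf [1, 4,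 419840, 3169334, 2, 1712768]) (.leaf [1, 4, 6103276, 6720928, 5, 664778])) (.node (.leaf [1, 5, 403726, 2644932, 4, 5344080]) (.leaf [1, 5, 1428600, 5775658, 5, 6612970]))) (.node (.node (.leaf [1, 12, 66024, 66202, 33, 1852708]) (.leaf [1, 5, 5804886, 1664612, 5, 1621148])) (.node (.leaf [0, 8, 66096, 1160, 8, 0]) (.leaf [])))))) (.node (.node (.node (.node (.node (.leaf [0, 2, 675024, 148528, 2, 0]) (.leaf [0, 8, 71644, 67890, 8, 0])) (.node (.leaf [1, 44, 1934694, 1317290, 20, 790288]) (.leaf [1, 1, 6559142, 5408486, 5, 6619172]))) (.node (.node (.leaf [1, 28, 1383150, 131720, 30, 461344]) (.leaf [1, 17, 2263538, 7277148, 5, 5638564])) (.node (.leaf [1, 2, 997080, 584208, 29, 2506032]) (.leaf [])))) (.node (.node (.node (.leaf [0, 2, 675040, 2066568, 2, 0]) (.leaf [1, 29, 3201462, 3864338, 4, 6347830])) (.node (.leaf [1, 4, 873272, 4680766, 9, 815316]) (.leaf [1, 5, 4300370, 4612990, 2, 2937262]))) (.node (.node (.leaf [1, 16, 527016, 133244, 34,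 1465800]) (.leaf [1, 8, 5756088, 3937470, 1, 6884996])) (.node (.leaf [1, 22, 6302046, 506604, 22, 2107394]) (.leaf []))))) (.node (.node (.node (.node (.leaf [0, 2, 2453490, 700074, 2, 0]) (.leaf [1, 29, 4885080, 1955044, 17, 3391322])) (.node (.leaf [1, 17, 1187946, 3564624, 44, 1934694]) (.leaf [1, 8, 58980, 1348286, 5, 4578950]))) (.node (.node (.leaf [1, 1, 148680, 0, 32, 0]) (.leaf [1, 5, 1835330, 2773964, 1, 527024])) (.node (.leaf [0, 5, 5944334, 5388548, 29, 6158490]) (.leaf [])))) (.node (.node (.node (.leaf [1, 4, 1334096, 66368, 18, 666794]) (.leaf [1, 3, 403384, 57056, 5, 6573306])) (.node (.leaf [1, 29, 1455192, 1348218, 4, 282916]) (.leaf [1, 1, 4932770, 2734878, 1, 3635924]))) (.node (.node (.leaf [1, 23, 263932, 724428, 39, 593714]) (.leaf [1, 1, 2625548, 7015738, 1, 197510])) (.node (.leaf [0, 8, 68202, 73236, 8, 0]) (.leaf []))))))))) (.node (.node (.node (.node (.node (.node (.node (.node (.leaf [0, 2, 658728, 592872, 2, 0]) (.leaf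 [0, 8, 70474, 68296, 8, 0])) (.node (.leaf [1, 30, 263932, 1251622, 39, 1382988]) (.leaf [1, 5, 927942, 617412, 1, 856070]))) (.node (.node (.leaf [0, 5, 75108, 75108, 5, 0]) (.leaf [1, 5, 334188, 4382016, 5, 3533990])) (.node (.leaf [1, 30, 329960, 64958, 29, 3292806]) (.leaf [1, 5, 1574822, 1537718, 1, 705050])))) (.node (.node (.node (.leaf [0, 2, 1803160, 2445072, 2, 0]) (.leaf [1, 36, 5730380, 2146236, 5, 24700])) (.node (.leaf [1, 47, 403536, 329964, 47, 264600]) (.leaf [1, 1, 3422850, 1274548, 1, 4964792]))) (.node (.node (.leaf [1, 33, 396654, 347256, 30, 791280]) (.leaf [1, 5, 4462602, 5254162, 4, 5941244])) (.node (.leaf [1, 29, 2557860, 5219026, 8, 3902304]) (.leaf []))))) (.node (.node (.node (.node (.leaf [0, 2, 411952, 25050, 2, 0]) (.leaf [0, 8, 6198, 6198, 8, 0])) (.node (.leaf [1, 47, 1194650, 988020, 5, 16816]) (.leaf [1, 5, 4120670, 1642314, 1, 4279702]))) (.node (.node (.leaf [1, 12, 1384492, 1909828, 1, 617754]) (.leaf [1, 17, 5016146,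 5231376, 5, 4788332])) (.node (.leaf [1, 29, 4687146, 2591638, 42, 535082]) (.leaf [])))) (.node (.node (.node (.leaf [0, 2, 2765968, 3861144, 2, 0]) (.leaf [1, 29, 1926798, 5017478, 4, 5882074])) (.node (.leaf [1, 42, 260628, 5014972, 42, 214378]) (.leaf [1, 8, 4650026, 3858818, 5, 2463430]))) (.node (.node (.leaf [1, 30, 922330, 923496, 33, 1466304]) (.leaf [1, 1, 2386212, 6273526, 1, 527532])) (.node (.leaf [1, 29, 5046890, 3815152, 22, 6420216]) (.leaf [])))))) (.node (.node (.node (.node (.node (.leaf [0, 6, 724422, 131712, 6, 263776]) (.leaf [0, 8, 1352, 1318, 8, 0])) (.node (.leaf [1, 5, 272014, 132058, 48, 996088]) (.leaf [1, 1, 3879776, 3190246, 8, 1335936]))) (.node (.node (.leaf [1, 8, 617402, 2568734, 23, 395148]) (.leaf [1, 5, 6186226, 1389086, 16, 527016])) (.node (.leaf [1, 36, 988344, 4742842, 29, 3043968]) (.leaf [1, 1, 5141372, 2367242, 8, 5418654])))) (.node (.node (.node (.leaf [0, 2, 1185424, 3507184, 2, 0]) (.leaf [1, 17, 1487556,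 101386, 1, 2172970])) (.node (.leaf [1, 42, 741236, 922668, 1, 141468]) (.leaf [1, 1, 1726418, 6717560, 5, 1159928]))) (.node (.node (.leaf [1, 34, 263600, 140964, 33, 923502]) (.leaf [1, 1, 6057618, 2152520, 1, 2172970])) (.node (.leaf [1, 29, 5194134, 6035682, 39, 1382988]) (.leaf []))))) (.node (.node (.node (.node (.leaf [0, 2, 1597176, 938634, 2, 0]) (.leaf [1, 17, 1101482, 7192282, 23, 197580])) (.node (.leaf [1, 42, 1992498, 264098, 42, 609524]) (.leaf [1, 2, 3370026, 5656542, 5, 1444198]))) (.node (.node (.leaf [1, 28, 1260004, 1531510, 30, 74092]) (.leaf [1, 5, 1592848, 3718392, 36, 5663944])) (.node (.leaf [1, 8, 1375612, 501258, 1, 4356246]) (.leaf [])))) (.node (.node (.node (.leaf [1, 9, 741234, 131718, 1, 741384]) (.leaf [1, 1, 2632780, 6179474, 5, 2919974])) (.node (.leaf [1, 4, 349778, 6457328, 4, 3491378]) (.leaf [1, 1, 37612, 2000930, 1, 1685514]))) (.node (.node (.leaf [1, 36, 330794, 642264, 2, 4874528]) (.leaf [1, 2, 1025218, 5153766,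 1, 6312946])) (.node (.leaf [0, 8, 1866, 71648, 8, 0]) (.leaf []))))))) (.node (.node (.node (.node (.node (.node (.leaf [0, 4, 1317126, 592872, 4, 0]) (.leaf [0, 8, 3226, 3226, 8, 0])) (.node (.leaf [1, 46, 0, 0, 1, 676032]) (.leaf [1, 5, 3880594, 4225566, 1, 3162290]))) (.node (.node (.leaf [1, 23, 133224, 395488, 1, 41328]) (.leaf [1, 5, 6614780, 2517660, 1, 232456])) (.node (.leaf [1, 1, 946694, 6186802, 29, 2702454]) (.leaf [1, 5, 901344, 3606932, 1, 3036330])))) (.node (.node (.node (.leaf [0, 2, 2329992, 1342158, 2, 0]) (.leaf [1, 1, 2098032, 7371316, 1, 33276])) (.node (.leaf [1, 22, 8234, 791288, 1, 527024]) (.leaf [1, 5, 5995622, 5646488, 1, 2151940]))) (.node (.node (.leaf [1, 33, 198244, 1968642, 12, 1187768]) (.leaf [1, 1, 1130652, 1567898, 5, 4087988])) (.node (.leaf [1, 29, 2434224, 5996912, 29, 1064628]) (.leaf []))))) (.node (.node (.node (.node (.leaf [0, 2, 1119558, 2774352, 2, 0]) (.leaf [0, 8, 4416, 6934, 8, 0])) (.node (.leaf [1,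 50, 1522922, 724762, 50, 1399794]) (.leaf [1, 1, 2567816, 2883020, 5, 7176058]))) (.node (.node (.leaf [1, 12, 593712, 592706, 30, 462516]) (.leaf [1, 8, 5704552, 6050484, 5, 5765578])) (.node (.leaf [1, 2, 4481712, 1203942, 17, 140298]) (.leaf [])))) (.node (.node (.node (.leaf [1, 5, 12, 462512, 5, 922330]) (.leaf [1, 1, 469238, 7126614, 5, 8076])) (.node (.leaf [0, 4, 552224, 6945306, 9, 1663052]) (.leaf [1, 5, 2529766, 5907322, 5, 5852652]))) (.node (.node (.leaf [1, 3, 346084, 767536, 33, 1524440]) (.leaf [0, 44, 0, 6318764, 5, 3179184])) (.node (.leaf [0, 8, 67020, 68632, 8, 0]) (.leaf [])))))) (.node (.node (.node (.node (.node (.leaf [0, 2, 65874, 1860432, 2, 0]) (.leaf [0, 8, 6436, 7518, 8, 0])) (.node (.leaf [1, 2, 421352, 66364, 22, 1382976]) (.leaf [1, 1, 3235156, 5781242, 1, 4345070]))) (.node (.node (.leaf [1, 30, 987840, 419840, 16, 765916]) (.leaf [1, 5, 5960436, 1166558, 17, 3457178])) (.node (.leaf [1, 4, 3107498, 4450758, 29, 4358772])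 (.leaf [])))) (.node (.node (.node (.leaf [0, 2, 3507174, 1852542, 2, 0]) (.leaf [1, 4, 5434424, 809092, 29, 346102])) (.node (.leaf [1, 5, 1589128, 371312, 9, 74090]) (.leaf [1, 5, 2824602, 4947108, 1, 2958564]))) (.node (.node (.leaf [1, 16, 403374, 2258760, 34, 865880]) (.leaf [1, 1, 5784442, 1194830, 5, 203952])) (.node (.leaf [1, 1, 1055216, 411824, 22, 3840720]) (.leaf []))))) (.node (.node (.node (.node (.leaf [0, 2, 1531488, 938632, 2, 0]) (.leaf [1, 17, 2879594, 4081228, 29, 2967240])) (.node (.leaf [1, 47, 1318802, 461666, 22, 1267728]) (.leaf [1, 1, 6702950, 4065896, 1, 272550]))) (.node (.node (.leaf [1, 12, 214208, 4133642, 12, 5798016]) (.leaf [1, 17, 988186, 6703218, 5, 2501024])) (.node (.leaf [0, 1, 5004048, 2305946, 1, 0]) (.leaf [])))) (.node (.node (.node (.leaf [1, 17, 0, 0, 1, 1583568]) (.leaf [1, 5, 7394094, 80198, 16, 67374])) (.node (.leaf [1, 29, 2976678, 6126872, 29, 2243934]) (.leaf [1, 5, 3042302, 843024, 5, 4099242]))) (.node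 (.node (.leaf [1, 39, 1317798, 922152, 39, 790284]) (.leaf [1, 1, 741384, 3382792, 1, 6446312])) (.node (.leaf [0, 8, 72692, 72694, 8, 0]) (.leaf [])))))))) (.node (.node (.node (.node (.node (.node (.node (.leaf [1, 3, 658728, 1317126, 1, 790272]) (.leaf [0, 8, 2524, 3824, 8, 0])) (.node (.leaf [1, 39, 197572, 807604, 36, 988520]) (.leaf [1, 1, 393046, 5579142, 5, 5334322]))) (.node (.node (.leaf [1, 8, 535088, 4017558, 4, 1334096]) (.leaf [1, 5, 6898580, 6192130, 5, 337356])) (.node (.leaf [1, 30, 198080, 64960, 29, 4027984]) (.leaf [1, 5, 1559112, 6821766, 5, 166708])))) (.node (.node (.node (.leaf [0, 2, 1382992, 3045840, 2, 0]) (.leaf [1, 12, 921992, 1117532, 1, 4937740])) (.node (.leaf [1, 50, 2453494, 594220, 47, 988192]) (.leaf [1, 1, 2741362, 2237690, 1, 2724272]))) (.node (.node (.leaf [1, 4, 282916, 931730, 33, 988190]) (.leaf [1, 5, 2646922, 4984550, 37, 1318632])) (.node (.leaf [1, 29, 3201462, 2417432, 12, 273022]) (.leaf []))))) (.node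 (.node (.node (.node (.leaf [0, 2, 486042, 16816, 2, 0]) (.leaf [0, 8, 71284, 72192, 8, 0])) (.node (.leaf [1, 9, 2585184, 3557742, 47, 2448768]) (.leaf [1, 5, 6858238, 2725812, 1, 6949940]))) (.node (.node (.leaf [1, 30, 660072, 2774192, 23, 1317128]) (.leaf [1, 1, 2654576, 2160204, 5, 7437922])) (.node (.leaf [1, 17, 1062102, 6435998, 1, 1967790]) (.leaf [])))) (.node (.node (.node (.leaf [1, 1, 263778, 462512, 3, 329448]) (.leaf [1, 37, 790782, 6762512, 4, 6550302])) (.node (.leaf [1, 42, 280246, 131886, 17, 1185762]) (.leaf [1, 1, 5949712, 1948246, 5, 541872]))) (.node (.node (.leaf [1, 1, 34888, 9914, 33, 3961274]) (.leaf [1, 1, 4352860, 3763276, 1, 1134948])) (.node (.leaf [1, 22, 6442682, 5984570, 16, 823548]) (.leaf [])))))) (.node (.node (.node (.node (.node (.leaf [0, 2, 1975680, 82674, 2, 0]) (.leaf [0, 8, 70272, 72790, 8, 0])) (.node (.leaf [1, 8, 675528, 592704, 49, 1317124]) (.leaf [1, 2, 1844484, 5535466, 1, 5894902]))) (.node (.node (.leaf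 [1, 29, 271662, 82656, 1, 741226]) (.leaf [1, 5, 334994, 7105874, 37, 197736])) (.node (.leaf [1, 17, 2041890, 2827282, 4, 4555806]) (.leaf [1, 1, 6395884, 3435796, 1, 2555380])))) (.node (.node (.node (.leaf [0, 2, 815304, 1679496, 2, 0]) (.leaf [1, 16, 403378, 6748252, 4, 7084236])) (.node (.leaf [1, 31, 1712258, 2568388, 8, 1911186]) (.leaf [1, 1, 4853414, 1232682, 5, 4415636]))) (.node (.node (.leaf [1, 34, 329634, 955086, 1, 436634]) (.leaf [1, 1, 6253884, 2483190, 5, 135458])) (.node (.leaf [1, 22, 4756338, 2340702, 22, 1810296]) (.leaf []))))) (.node (.node (.node (.node (.leaf [0, 2, 2568384, 1926624, 2, 0]) (.leaf [1, 17, 2140058, 5961870, 1, 428418])) (.node (.leaf [1, 31, 1909838, 1383146, 22, 1399794]) (.leaf [1, 5, 6467094, 1152970, 5, 4801286]))) (.node (.node (.leaf [1, 30, 658916, 214208, 12, 2579158]) (.leaf [1, 5, 1589460, 4369914, 5, 1873450])) (.node (.leaf [0, 1, 206366, 7104060, 1, 0]) (.leaf [])))) (.node (.node (.node (.leaf [0,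 12, 329956, 131720, 12, 0]) (.leaf [1, 4, 6704426, 7367018, 5, 673346])) (.node (.leaf [1, 12, 3690964, 2741454, 29, 538584]) (.leaf [1, 1, 6091768, 1420840, 1, 5023172]))) (.node (.node (.leaf [1, 37, 922154, 131880, 11, 1014]) (.leaf [1, 2, 2189032, 4485834, 5, 2955850])) (.node (.leaf [0, 8, 70090, 4234, 8, 0]) (.leaf []))))))) (.node (.node (.node (.node (.node (.node (.leaf [0, 5, 395310, 395310, 5, 0]) (.leaf [0, 8, 5436, 6338, 8, 0])) (.node (.leaf [1, 43, 16816, 594218, 48, 18]) (.leaf [1, 2, 602170, 4116262, 1, 2740862]))) (.node (.node (.leaf [0, 11, 1382984, 1382984, 11, 0]) (.leaf [1, 5, 7101880, 2501414, 5, 3669086])) (.node (.leaf [1, 30, 1926644, 4134040, 29, 546180]) (.leaf [1, 5, 1415106, 468442, 5, 5704052])))) (.node (.node (.node (.leaf [0, 2, 3037944, 1729062, 2, 0]) (.leaf [1, 29, 1518408, 4385734, 1, 4583428])) (.node (.leaf [1, 46, 469232, 395816, 8, 1466808]) (.leaf [1, 1, 2521564, 1199108, 2, 2814750]))) (.node (.node (.leaf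 [1, 34, 1317798, 66876, 30, 724428]) (.leaf [1, 1, 149190, 400860, 1, 3108058])) (.node (.leaf [1, 29, 4282998, 722566, 29, 2757462]) (.leaf []))))) (.node (.node (.node (.node (.leaf [0, 2, 807090, 1992480, 2, 0]) (.leaf [0, 8, 67556, 69786, 8, 0])) (.node (.leaf [1, 5, 74260, 1383988, 50, 271658]) (.leaf [1, 5, 4397300, 3671328, 1, 2135896]))) (.node (.node (.leaf [1, 23, 989358, 485694, 28, 672]) (.leaf [1, 5, 2765780, 1267414, 1, 527360])) (.node (.leaf [1, 29, 4886070, 4594180, 42, 3303888]) (.leaf [])))) (.node (.node (.node (.leaf [1, 1, 658914, 396656, 8, 1382978]) (.leaf [1, 5, 400158, 4247050, 4, 6054732])) (.node (.leaf [1, 4, 3559082, 5108556, 42, 527206]) (.leaf [1, 1, 278230, 6982672, 5, 4229312]))) (.node (.node (.leaf [1, 30, 271668, 2651058, 33, 601614]) (.leaf [1, 5, 3771888, 5314030, 1, 2115230])) (.node (.leaf [0, 8, 73230, 68204, 8, 0]) (.leaf [])))))) (.node (.node (.node (.node (.node (.leaf [0, 2, 2453472, 1333938, 2, 0]) (.leaf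 [0, 8, 70740, 73932, 8, 0])) (.node (.leaf [1, 17, 988186, 660084, 22, 1259496]) (.leaf [1, 5, 1746680, 3001148, 1, 405222]))) (.node (.node (.leaf [1, 1, 57978, 592706, 30, 264096]) (.leaf [1, 5, 6429356, 4597420, 22, 6675576])) (.node (.leaf [1, 4, 3104148, 7500560, 17, 864714]) (.leaf [])))) (.node (.node (.node (.leaf [0, 2, 1391394, 2782752, 2, 0]) (.leaf [1, 4, 6362678, 1011496, 29, 3370392])) (.node (.leaf [1, 17, 3235176, 4618320, 44, 395142]) (.leaf [1, 1, 682746, 6827642, 5, 6468682]))) (.node (.node (.leaf [1, 33, 610176, 930724, 30, 1909842]) (.leaf [1, 1, 995340, 5650008, 44, 1934694])) (.node (.leaf [1, 22, 2181482, 7352636, 22, 5687064]) (.leaf []))))) (.node (.node (.node (.node (.leaf [0, 2, 1070346, 2387286, 2, 0]) (.leaf [1, 17, 4237774, 6116460, 29, 2110896])) (.node (.leaf [1, 47, 68714, 593720, 22, 18]) (.leaf [1, 5, 5325472, 5286024, 1, 1498042]))) (.node (.node (.leaf [1, 33, 346, 67368, 1, 1253954]) (.leaf [1, 5, 2032898, 3102042,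 17, 2971752])) (.node (.leaf [1, 29, 4910662, 5433234, 29, 593712]) (.leaf [])))) (.node (.node (.node (.leaf [0, 5, 634032, 634032, 5, 0]) (.leaf [1, 1, 5374036, 7271006, 5, 6546902])) (.node (.leaf [1, 29, 1518408, 954188, 23, 658916]) (.leaf [1, 5, 2442390, 7056820, 5, 6419898]))) (.node (.node (.leaf [1, 39, 395642, 932070, 30, 197738]) (.leaf [1, 8, 6644812, 6545370, 1, 1648370])) (.node (.leaf [0, 8, 5580, 7200, 8, 0]) (.leaf []))))))))))

/-- the facts, part 15 -/
def factTab15 : WTab :=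
  (.node (.node (.node (.node (.node (.node (.node (.node (.node (.leaf [0, 2, 0, 790272, 2, 131718]) (.leaf [0, 8, 67206, 3828, 8, 0])) (.node (.leaf [1, 39, 395646, 1995174, 4, 255550]) (.leaf [1, 1, 2226672, 6704784, 1, 682882]))) (.node (.node (.leaf [0, 5, 865370, 865370, 5, 0]) (.leaf [1, 2, 2700608, 2394252, 5, 6251576])) (.node (.leaf [1, 29, 5147868, 508946, 1, 3624780]) (.leaf [1, 8, 4302112, 6036844, 5, 2999360])))) (.node (.node (.node (.leaf [0, 2, 1399776, 296520, 2, 0]) (.leaf [1, 22, 5050782, 3609068, 36, 5663944])) (.node (.leaf [1, 50, 477814, 133230, 48, 2379048]) (.leaf [1, 5, 6495432, 6373314, 1, 437900]))) (.node (.node (.leaf [1, 16, 133230, 139946, 33, 592712]) (.leaf [1, 8, 1515366, 2623674, 5, 2961420])) (.node (.leaf [1, 29, 2763504, 6405870, 29, 3683466]) (.leaf []))))) (.node (.node (.node (.node (.leaf [0, 2, 2370990, 2370990, 2, 0]) (.leaf [0, 8, 5088, 8008, 8, 0])) (.node (.leaf [1, 5, 930574, 659238, 50, 205802]) (.leaf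 [1, 1, 4509506, 4526464, 5, 1831148]))) (.node (.node (.leaf [1, 8, 2181502, 1185754, 28, 1383152]) (.leaf [1, 5, 7372564, 2126112, 36, 5550374])) (.node (.leaf [1, 4, 594724, 301918, 29, 1263540]) (.leaf [])))) (.node (.node (.node (.leaf [0, 2, 1259838, 3819822, 2, 0]) (.leaf [1, 29, 4555800, 3670506, 4, 6980576])) (.node (.leaf [1, 46, 148530, 1780802, 42, 765584]) (.leaf [1, 1, 2345752, 1295228, 1, 4057554]))) (.node (.node (.leaf [1, 1, 2963878, 1383660, 33, 2578470]) (.leaf [1, 1, 2065838, 2929462, 5, 1129068])) (.node (.leaf [1, 17, 4481400, 5536850, 22, 2312602]) (.leaf [])))))) (.node (.node (.node (.node (.node (.leaf [0, 4, 658734, 395142, 4, 0]) (.leaf [0, 8, 73698, 7846, 8, 0])) (.node (.leaf [1, 49, 724432, 462004, 46, 337530]) (.leaf [1, 37, 790956, 1240502, 1, 2174244]))) (.node (.node (.leaf [1, 1, 2453490, 0, 16, 790278]) (.leaf [1, 8, 3754136, 3840936, 5, 6095002])) (.node (.leaf [1, 29, 2653500, 555818, 30, 1992490]) (.leaf [1, 5,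 3846290, 1316670, 1, 334882])))) (.node (.node (.node (.leaf [0, 2, 1251450, 2058342, 2, 0]) (.leaf [1, 29, 3229644, 2804618, 1, 4732854])) (.node (.leaf [1, 17, 3688290, 3427212, 46, 724418]) (.leaf [1, 1, 7451396, 714600, 1, 4076794]))) (.node (.node (.leaf [1, 12, 395814, 199088, 34, 988520]) (.leaf [1, 37, 460998, 2793468, 1, 4788238])) (.node (.leaf [1, 29, 5528736, 4994440, 29, 2851140]) (.leaf []))))) (.node (.node (.node (.node (.leaf [0, 2, 3029550, 1127952, 2, 0]) (.leaf [1, 8, 1358628, 6795816, 17, 5357662])) (.node (.leaf [1, 5, 2379228, 263782, 17, 199082]) (.leaf [1, 5, 3621946, 2694178, 5, 917120]))) (.node (.node (.leaf [1, 30, 2379054, 1971962, 12, 478976]) (.leaf [1, 5, 234106, 6735456, 5, 514666])) (.node (.leaf [1, 16, 823548, 5410746, 42, 3295488]) (.leaf [])))) (.node (.node (.node (.leaf [1, 8, 1317796, 1318638, 5, 658740]) (.leaf [1, 5, 72410, 7014658, 1, 42336])) (.node (.leaf [1, 22, 930234, 1307010, 4, 4489950]) (.leaf [1,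 1, 1879852, 4530844, 1, 1404916]))) (.node (.node (.leaf [1, 36, 1383996, 1720500, 12, 1195660]) (.leaf [1, 5, 5253652, 2509698, 2, 324406])) (.node (.leaf [0, 8, 4242, 478, 8, 0]) (.leaf []))))))) (.node (.node (.node (.node (.node (.node (.leaf [0, 3, 214374, 65856, 3, 1992480]) (.leaf [0, 8, 73064, 71428, 8, 0])) (.node (.leaf [1, 43, 872946, 659576, 42, 1514688]) (.leaf [1, 5, 7072924, 5345446, 1, 2767154]))) (.node (.node (.leaf [1, 1, 930724, 131718, 20, 337512]) (.leaf [1, 1, 4468848, 3254052, 5, 6671276])) (.node (.leaf [1, 29, 3698704, 2021190, 23, 462506]) (.leaf [1, 5, 2607430, 4908120, 5, 1826496])))) (.node (.node (.node (.leaf [0, 2, 1786530, 3819834, 2, 0]) (.leaf [1, 1, 5069452, 5513040, 12, 1654990])) (.node (.leaf [1, 8, 223784, 921988, 22, 658736]) (.leaf [1, 1, 6639120, 4124192, 1, 2145210]))) (.node (.node (.leaf [1, 30, 1516, 1580890, 33, 395814]) (.leaf [1, 4, 6901780, 5677402, 5, 1125092])) (.node (.leaf [1, 29, 5766162, 3540800,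 12, 601294]) (.leaf []))))) (.node (.node (.node (.node (.leaf [0, 2, 1909830, 477798, 2, 0]) (.leaf [0, 8, 7658, 72056, 8, 0])) (.node (.leaf [1, 47, 1779624, 1383486, 5, 477808]) (.leaf [1, 5, 4872586, 4426564, 8, 3359462]))) (.node (.node (.leaf [1, 1, 798524, 930236, 30, 724762]) (.leaf [1, 5, 7394094, 7130664, 8, 6685822])) (.node (.leaf [1, 17, 5016146, 3255252, 29, 2643344]) (.leaf [])))) (.node (.node (.node (.leaf [1, 4, 329280, 790276, 1, 66030]) (.leaf [1, 5, 3321268, 5390564, 1, 527200])) (.node (.leaf [1, 22, 2181482, 2249016, 42, 2214766]) (.leaf [1, 1, 2076544, 1384490, 2, 2079068]))) (.node (.node (.leaf [1, 33, 2174424, 1343336, 1, 1012540]) (.leaf [1, 2, 4481712, 7173464, 1, 3391228])) (.node (.leaf [0, 8, 69310, 66108, 8, 0]) (.leaf [])))))) (.node (.node (.node (.node (.node (.leaf [0, 2, 18, 1531506, 2, 0]) (.leaf [0, 8, 71642, 1868, 8, 0])) (.node (.leaf [1, 46, 1382984, 396648, 8, 215040]) (.leaf [1, 1, 3036178, 4111526, 1, 7432022])))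 (.node (.node (.leaf [1, 1, 1457064, 732822, 29, 1909828]) (.leaf [1, 17, 3604246, 2712274, 5, 6104396])) (.node (.leaf [1, 1, 1252784, 3369394, 46, 189678]) (.leaf [])))) (.node (.node (.node (.leaf [0, 2, 2782752, 1391394, 2, 0]) (.leaf [1, 1, 1835276, 6059804, 4, 6771916])) (.node (.leaf [1, 8, 1590138, 107352, 9, 551546]) (.leaf [1, 1, 4365374, 2379156, 1, 503770]))) (.node (.node (.leaf [1, 34, 329284, 758216, 2, 1186284]) (.leaf [1, 1, 7096676, 3824790, 5, 5854928])) (.node (.leaf [1, 22, 4046478, 407048, 44, 1259850]) (.leaf []))))) (.node (.node (.node (.node (.leaf [0, 2, 2198296, 1457248, 2, 0]) (.leaf [1, 29, 1517046, 6845956, 17, 4445018])) (.node (.leaf [1, 47, 1910180, 2042552, 17, 634218]) (.leaf [1, 1, 4368436, 2240564, 5, 3877086]))) (.node (.node (.leaf [1, 12, 3762196, 4300970, 23, 264438]) (.leaf [1, 5, 3153418, 2070698, 36, 5467124])) (.node (.leaf [0, 1, 894636, 1172924, 1, 0]) (.leaf [])))) (.node (.node (.node (.leaf [0, 16, 329632,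 214386, 16, 1465632]) (.leaf [1, 4, 4288890, 3081642, 5, 5239040])) (.node (.leaf [1, 29, 1846836, 382148, 23, 460992]) (.leaf [1, 1, 7082278, 814092, 5, 349860]))) (.node (.node (.leaf [1, 16, 197740, 403370, 39, 1384496]) (.leaf [1, 1, 3134220, 1878028, 1, 1654806])) (.node (.leaf [0, 8, 67890, 71644, 8, 0]) (.leaf [])))))))) (.node (.node (.node (.node (.node (.node (.node (.leaf [0, 2, 790278, 263776, 2, 0]) (.leaf [0, 8, 1564, 1572, 8, 0])) (.node (.leaf [1, 37, 724428, 8400, 39, 1514]) (.leaf [1, 1, 298478, 1931060, 5, 344738]))) (.node (.node (.leaf [0, 5, 1794750, 1794750, 5, 0]) (.leaf [1, 5, 7174066, 870470, 16, 8246])) (.node (.leaf [1, 12, 395814, 5096830, 29, 3032076]) (.leaf [1, 1, 1771934, 2898546, 5, 6517554])))) (.node (.node (.node (.leaf [0, 2, 2593416, 955096, 2, 0]) (.leaf [1, 1, 370440, 1619698, 1, 3070258])) (.node (.leaf [1, 47, 807090, 988012, 47, 1384998]) (.leaf [1, 5, 7254802, 5895224, 1, 6020260]))) (.node (.node (.leaf [1,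 23, 395488, 395488, 33, 922490]) (.leaf [1, 5, 2616346, 1163756, 17, 4682684])) (.node (.leaf [1, 29, 4204050, 7089270, 12, 987848]) (.leaf []))))) (.node (.node (.node (.node (.leaf [0, 2, 1852552, 1185414, 2, 0]) (.leaf [0, 8, 69782, 2878, 8, 0])) (.node (.leaf [1, 5, 938800, 1383660, 47, 2108904]) (.leaf [1, 5, 5262430, 7255144, 1, 323192]))) (.node (.node (.leaf [1, 23, 988516, 930238, 12, 263604]) (.leaf [1, 5, 3531172, 1876324, 22, 6508538])) (.node (.leaf [1, 29, 3496728, 1954846, 4, 3099266]) (.leaf [])))) (.node (.node (.node (.leaf [1, 4, 1259850, 1975680, 1, 1333938]) (.leaf [1, 4, 2556012, 5119734, 29, 2324124])) (.node (.leaf [1, 22, 2115980, 2249184, 42, 2149736]) (.leaf [1, 1, 5181762, 5332098, 1, 1101970]))) (.node (.node (.leaf [1, 33, 1647080, 198246, 12, 658728]) (.leaf [1, 4, 3901370, 5097598, 1, 4744132])) (.node (.leaf [1, 22, 4781246, 6176318, 39, 329958]) (.leaf [])))))) (.node (.node (.node (.node (.node (.leaf [0, 2, 1514694,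 1720656, 2, 0]) (.leaf [0, 8, 5094, 73376, 8, 0])) (.node (.leaf [1, 42, 1712258, 922164, 50, 131730]) (.leaf [1, 1, 4827366, 4947226, 1, 4643638]))) (.node (.node (.leaf [1, 1, 831774, 988194, 28, 922334]) (.leaf [1, 5, 6809036, 4515492, 5, 1201380])) (.node (.leaf [1, 29, 3236196, 548090, 39, 790784]) (.leaf [1, 1, 5110084, 2818428, 5, 5772904])))) (.node (.node (.node (.leaf [0, 2, 1020954, 1918242, 2, 0]) (.leaf [1, 4, 6685688, 1960272, 4, 288120])) (.node (.leaf [1, 17, 3567648, 1465302, 47, 1928640]) (.leaf [1, 8, 1752854, 2993520, 1, 934174]))) (.node (.node (.leaf [1, 23, 461162, 1325356, 34, 395142]) (.leaf [1, 5, 1387418, 1902658, 1, 6622282])) (.node (.leaf [1, 22, 2534880, 4558020, 1, 1992818]) (.leaf []))))) (.node (.node (.node (.node (.leaf [0, 2, 296520, 1399776, 2, 0]) (.leaf [1, 23, 1383990, 2526116, 17, 5365894])) (.node (.leaf [1, 50, 527206, 66202, 42, 988192]) (.leaf [1, 2, 4112542, 3091864, 2, 6128224]))) (.node (.node (.leaf [1,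 12, 2900692, 2634578, 1, 831774]) (.leaf [1, 5, 3610, 5186612, 1, 1055216])) (.node (.leaf [1, 1, 3763876, 4277120, 22, 741234]) (.leaf [])))) (.node (.node (.node (.leaf [0, 11, 131712, 131712, 11, 0]) (.leaf [1, 1, 2479008, 600712, 5, 1059574])) (.node (.leaf [1, 29, 1657332, 855236, 23, 168]) (.leaf [1, 5, 575026, 5478756, 8, 5137376]))) (.node (.node (.leaf [1, 37, 6, 601288, 1, 405222]) (.leaf [1, 2, 3117764, 530028, 5, 4148756])) (.node (.leaf [0, 8, 5276, 68194, 8, 0]) (.leaf []))))))) (.node (.node (.node (.node (.node (.node (.leaf [1, 1, 66208, 461344, 5, 658728]) (.leaf [0, 8, 5092, 73368, 8, 0])) (.node (.leaf [1, 1, 1713268, 131718, 47, 1514688]) (.leaf [1, 5, 4842392, 5872610, 1, 4105626]))) (.node (.node (.leaf [1, 27, 395136, 1317474, 1, 806904]) (.leaf [1, 5, 928080, 2674768, 5, 6643508])) (.node (.leaf [1, 23, 66528, 5233150, 29, 2315728]) (.leaf [1, 5, 2941768, 1568152, 1, 4730916])))) (.node (.node (.node (.leaf [0, 2, 1473880, 140128,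 2, 0]) (.leaf [1, 1, 3753514, 159728, 29, 3693396])) (.node (.leaf [1, 17, 1186922, 330294, 22, 2791006]) (.leaf [1, 2, 6171068, 4050486, 1, 845076]))) (.node (.node (.leaf [1, 29, 358, 938798, 34, 1318640]) (.leaf [1, 2, 3565132, 878552, 5, 4029730])) (.node (.leaf [1, 29, 3361680, 679112, 29, 3066066]) (.leaf []))))) (.node (.node (.node (.node (.leaf [0, 2, 271674, 1020936, 2, 0]) (.leaf [0, 8, 7668, 7660, 8, 0])) (.node (.leaf [1, 48, 1580884, 923508, 48, 148530]) (.leaf [1, 5, 1047616, 4031450, 5, 7167750]))) (.node (.node (.leaf [1, 29, 1318130, 82670, 30, 659236]) (.leaf [0, 4, 6373366, 7500950, 4, 0])) (.node (.leaf [1, 42, 859156, 2747582, 39, 329958]) (.leaf [])))) (.node (.node (.node (.leaf [1, 2, 1712768, 297364, 4, 675382]) (.leaf [1, 4, 6547360, 4491708, 5, 269598])) (.node (.leaf [1, 4, 5344080, 6668618, 5, 667800]) (.leaf [1, 1, 129634, 6128750, 5, 7438564]))) (.node (.node (.leaf [1, 33, 1852708, 66534, 12, 131880]) (.leaf [1, 5, 1911188,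 4989682, 5, 2438176])) (.node (.leaf [0, 8, 536, 752, 8, 0]) (.leaf [])))))) (.node (.node (.node (.node (.node (.leaf [0, 2, 955080, 741232, 2, 0]) (.leaf [0, 8, 2342, 71130, 8, 0])) (.node (.leaf [1, 8, 223784, 790446, 50, 1384490]) (.leaf [1, 1, 4603814, 7364266, 5, 1125092]))) (.node (.node (.leaf [1, 30, 461344, 131720, 28, 922488]) (.leaf [1, 5, 5638564, 329368, 17, 3391322])) (.node (.leaf [1, 29, 3576732, 1843010, 4, 990868]) (.leaf [])))) (.node (.node (.node (.leaf [0, 2, 864544, 2387296, 2, 0]) (.leaf [1, 29, 2871678, 6227532, 4, 6053338])) (.node (.leaf [1, 9, 815316, 6398618, 4, 1144928]) (.leaf [1, 2, 2937262, 1987912, 5, 4176890]))) (.node (.node (.leaf [1, 16, 724758, 206810, 33, 733156]) (.leaf [1, 1, 6884996, 6084210, 8, 5756104])) (.node (.leaf [1, 22, 4178944, 3034472, 5, 734172]) (.leaf []))))) (.node (.node (.node (.node (.leaf [0, 2, 1054032, 271672, 2, 0]) (.leaf [1, 17, 2995078, 7011460, 1, 428404])) (.node (.leaf [1, 44, 1934694,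 2115980, 17, 1854552]) (.leaf [1, 5, 4578950, 3222946, 8, 256548]))) (.node (.node (.leaf [1, 32, 741234, 197574, 1, 404886]) (.leaf [1, 1, 527024, 6705844, 5, 2435168])) (.node (.leaf [0, 4, 14246, 3994876, 12, 2736730]) (.leaf [])))) (.node (.node (.node (.leaf [1, 1, 1449852, 658566, 18, 74090]) (.leaf [1, 4, 5967542, 2326448, 5, 5897290])) (.node (.leaf [1, 4, 282916, 7197058, 29, 1470756]) (.leaf [1, 5, 2842588, 6894204, 1, 3129614]))) (.node (.node (.leaf [1, 12, 330292, 527206, 39, 396156]) (.leaf [1, 1, 3349710, 3336134, 1, 3722436])) (.node (.leaf [0, 8, 4168, 71424, 8, 0]) (.leaf []))))))))) (.node (.node (.node (.node (.node (.node (.node (.node (.leaf [0, 2, 592878, 1317120, 2, 0]) (.leaf [0, 8, 3190, 72686, 8, 0])) (.node (.leaf [1, 39, 1382988, 485862, 30, 790952]) (.leaf [1, 5, 2661256, 3226764, 1, 496046]))) (.node (.node (.leaf [0, 5, 2115792, 2115792, 5, 0]) (.leaf [1, 5, 600212, 7119068, 5, 5488854])) (.node (.leaf [1, 29, 3292806,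 12506, 30, 724924]) (.leaf [1, 1, 705050, 6873392, 5, 1776200])))) (.node (.node (.node (.leaf [0, 2, 864528, 2568390, 2, 0]) (.leaf [1, 36, 6529864, 426668, 17, 3688290])) (.node (.leaf [1, 47, 264600, 461162, 47, 667144]) (.leaf [1, 1, 4964792, 2848912, 1, 2303140]))) (.node (.node (.leaf [1, 33, 461672, 1465464, 3, 403384]) (.leaf [1, 5, 1353042, 5345064, 5, 2493890])) (.node (.leaf [1, 29, 2036546, 5227996, 12, 988196]) (.leaf []))))) (.node (.node (.node (.node (.leaf [0, 2, 131730, 1202226, 2, 0]) (.leaf [0, 8, 70946, 73862, 8, 0])) (.node (.leaf [1, 5, 16816, 659572, 47, 1845480]) (.leaf [1, 5, 3949120, 5496036, 5, 3742216]))) (.node (.node (.leaf [1, 1, 617754, 1334760, 12, 921990]) (.leaf [1, 5, 6546076, 2446524, 22, 7202424])) (.node (.leaf [1, 42, 535082, 5948278, 29, 3625584]) (.leaf [])))) (.node (.node (.node (.leaf [0, 2, 3498786, 535266, 2, 0]) (.leaf [1, 4, 5520480, 6418870, 29, 3096252])) (.node (.leaf [1, 1, 1926458, 4157330, 42, 979966])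 (.leaf [1, 5, 2463430, 2563096, 8, 5386922]))) (.node (.node (.leaf [1, 33, 1466304, 923496, 30, 1382978]) (.leaf [1, 1, 527532, 401832, 1, 1785178])) (.node (.leaf [1, 29, 1916334, 7179508, 22, 7202424]) (.leaf [])))))) (.node (.node (.node (.node (.node (.leaf [1, 6, 0, 0, 1, 1333920]) (.leaf [0, 8, 73520, 6194, 8, 0])) (.node (.leaf [1, 48, 996088, 790944, 5, 806744]) (.leaf [1, 8, 1335936, 5714358, 1, 3881444]))) (.node (.node (.leaf [1, 23, 395148, 2766302, 8, 502508]) (.leaf [1, 16, 527016, 369454, 5, 6160714])) (.node (.leaf [1, 29, 3043968, 171378, 36, 1317294]) (.leaf [1, 8, 5418654, 3381906, 1, 5011864])))) (.node (.node (.node (.leaf [0, 2, 526864, 3819832, 2, 0]) (.leaf [1, 1, 2172970, 3234368, 17, 1496218])) (.node (.leaf [1, 1, 141468, 198244, 42, 337514]) (.leaf [1, 5, 1159928, 4044262, 1, 1519084]))) (.node (.node (.leaf [1, 30, 198080, 460992, 34, 922160]) (.leaf [1, 1, 2172970, 686388, 1, 5979138])) (.node (.leaf [1, 39, 1382988, 6570854,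 29, 5067070]) (.leaf []))))) (.node (.node (.node (.node (.leaf [0, 2, 1613646, 2782768, 2, 0]) (.leaf [1, 17, 4641242, 2930628, 17, 1143986])) (.node (.leaf [1, 42, 609524, 1317290, 42, 1975680]) (.leaf [1, 1, 5865202, 1316442, 5, 737910]))) (.node (.node (.leaf [1, 30, 996094, 2058354, 1, 1961064]) (.leaf [1, 36, 5663944, 2739510, 5, 1585898])) (.node (.leaf [1, 39, 996430, 7464898, 8, 1642032]) (.leaf [])))) (.node (.node (.node (.leaf [1, 1, 741384, 131718, 9, 337512]) (.leaf [1, 5, 4302252, 1950374, 5, 401468])) (.node (.leaf [1, 2, 2438364, 6586004, 4, 1854890]) (.leaf [1, 1, 4983834, 3532300, 5, 3850218]))) (.node (.node (.leaf [1, 1, 4026468, 0, 37, 0]) (.leaf [1, 1, 6312946, 3863126, 2, 1329144])) (.node (.leaf [0, 8, 244, 3452, 8, 0]) (.leaf []))))))) (.node (.node (.node (.node (.node (.node (.leaf [0, 4, 395136, 1382976, 4, 0]) (.leaf [0, 8, 2526, 3818, 8, 0])) (.node (.leaf [1, 46, 741234, 724416, 1, 1910508]) (.leaf [1, 1, 4736534, 1830042,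 5, 6383122]))) (.node (.node (.leaf [1, 1, 41328, 132390, 23, 67368]) (.leaf [1, 5, 6558252, 6244108, 1, 1710460])) (.node (.leaf [1, 29, 1781832, 5239540, 29, 2242128]) (.leaf [1, 1, 3036330, 3525540, 5, 1164124])))) (.node (.node (.node (.leaf [0, 2, 1070334, 2585200, 2, 0]) (.leaf [1, 1, 33276, 2797240, 1, 2212786])) (.node (.leaf [1, 1, 527024, 659070, 22, 205802]) (.leaf [1, 1, 2177786, 4704914, 5, 1307624]))) (.node (.node (.leaf [1, 33, 329964, 1688570, 12, 3303052]) (.leaf [1, 5, 4087988, 7381638, 1, 859152])) (.node (.leaf [1, 29, 3413988, 350076, 29, 861588]) (.leaf []))))) (.node (.node (.node (.node (.leaf [0, 2, 2173254, 2173254, 2, 0]) (.leaf [0, 8, 70718, 4858, 8, 0])) (.node (.leaf [1, 50, 1399794, 461004, 50, 1712614]) (.leaf [1, 5, 7176058, 5157392, 1, 3739668]))) (.node (.node (.leaf [1, 30, 462516, 592706, 12, 461672]) (.leaf [1, 5, 5765578, 7359632, 8, 6250804])) (.node (.leaf [1, 29, 2772106, 448004, 42, 2914136]) (.leaf []))))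 (.node (.node (.node (.leaf [1, 5, 922330, 922330, 5, 197580]) (.leaf [1, 5, 4565012, 5480524, 5, 1323504])) (.node (.leaf [0, 9, 0, 5617220, 4, 2441976]) (.leaf [1, 1, 3368950, 6364116, 1, 6340610]))) (.node (.node (.leaf [1, 33, 1524440, 1449510, 3, 732662]) (.leaf [1, 1, 527856, 6318764, 5, 3179184])) (.node (.leaf [0, 8, 66108, 69310, 8, 0]) (.leaf [])))))) (.node (.node (.node (.node (.node (.leaf [0, 2, 1720656, 1514694, 2, 0]) (.leaf [0, 8, 69046, 6830, 8, 0])) (.node (.leaf [1, 46, 1654640, 395306, 22, 148530]) (.leaf [1, 1, 3103444, 7436442, 1, 5766584]))) (.node (.node (.leaf [1, 16, 765916, 419840, 30, 1318640]) (.leaf [1, 17, 3457178, 3272054, 5, 6046772])) (.node (.leaf [1, 2, 4939716, 876838, 8, 1070160]) (.leaf [])))) (.node (.node (.node (.leaf [0, 2, 1844154, 551886, 2, 0]) (.leaf [1, 4, 5261644, 641764, 29, 3199800])) (.node (.leaf [1, 9, 74090, 2372330, 5, 1582902]) (.leaf [1, 1, 813372, 6612848, 1, 7156846]))) (.node (.node (.leaf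 [1, 16, 592718, 1400308, 33, 997592]) (.leaf [1, 5, 203952, 301716, 1, 5779556])) (.node (.leaf [1, 22, 3051972, 6365042, 22, 3514488]) (.leaf []))))) (.node (.node (.node (.node (.leaf [0, 2, 724434, 2782770, 2, 0]) (.leaf [1, 17, 3654746, 5610344, 29, 564840])) (.node (.leaf [1, 22, 1267728, 922496, 47, 990530]) (.leaf [1, 1, 272550, 2953826, 1, 7305442]))) (.node (.node (.leaf [1, 12, 5798016, 4939380, 12, 16640]) (.leaf [1, 5, 2164610, 1127228, 5, 930574])) (.node (.leaf [0, 1, 6244074, 536458, 1, 0]) (.leaf [])))) (.node (.node (.node (.leaf [1, 17, 741234, 131718, 1, 1252274]) (.leaf [1, 5, 5262148, 702638, 16, 790440])) (.node (.leaf [1, 29, 2243934, 4802826, 29, 3166080]) (.leaf [1, 1, 2074958, 4692394, 1, 7402954]))) (.node (.node (.leaf [1, 39, 790284, 594216, 39, 988008]) (.leaf [1, 1, 1713776, 6667084, 1, 6813230])) (.node (.leaf [0, 8, 3828, 67206, 8, 0]) (.leaf [])))))))) (.node (.node (.node (.node (.node (.node (.node (.leaf [1, 1, 790272,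 1317126, 3, 395136]) (.leaf [0, 8, 70478, 68294, 8, 0])) (.node (.leaf [1, 1, 1647920, 0, 42, 0]) (.leaf [1, 1, 3022108, 2552868, 5, 5239040]))) (.node (.node (.leaf [1, 4, 1334096, 2766464, 8, 1251622]) (.leaf [1, 5, 5237852, 2578868, 5, 597796])) (.node (.leaf [1, 29, 4027984, 47954, 30, 512]) (.leaf [1, 5, 166708, 6616008, 5, 1757352])))) (.node (.node (.node (.leaf [0, 2, 1202226, 131730, 2, 0]) (.leaf [1, 12, 461168, 2797240, 1, 2625548])) (.node (.leaf [1, 47, 988192, 724932, 50, 2436680]) (.leaf [1, 5, 292370, 6413456, 1, 4114534]))) (.node (.node (.leaf [1, 30, 329958, 1119908, 33, 922340]) (.leaf [1, 5, 1287182, 643082, 17, 5353992])) (.node (.leaf [1, 29, 2871678, 3010136, 12, 609344]) (.leaf []))))) (.node (.node (.node (.node (.leaf [0, 2, 1342170, 271662, 2, 0]) (.leaf [0, 8, 7846, 73698, 8, 0])) (.node (.leaf [1, 5, 485694, 395820, 47, 1655642]) (.leaf [1, 1, 7097050, 3630324, 5, 6257138]))) (.node (.node (.leaf [1, 23, 1317128, 930238,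 30, 395304]) (.leaf [0, 16, 0, 6703952, 8, 7164944])) (.node (.leaf [1, 1, 1161070, 623868, 17, 1252776]) (.leaf [])))) (.node (.node (.node (.leaf [0, 3, 0, 1318636, 3, 132390]) (.leaf [1, 4, 6550302, 4192622, 37, 264096])) (.node (.leaf [1, 42, 1407672, 1008, 17, 2049768]) (.leaf [1, 5, 2180878, 1548214, 5, 6789044]))) (.node (.node (.leaf [1, 33, 3961274, 8740, 1, 232456]) (.leaf [1, 1, 1134948, 1659372, 1, 3240624])) (.node (.leaf [1, 16, 823548, 7377372, 22, 7086014]) (.leaf [])))))) (.node (.node (.node (.node (.node (.leaf [0, 2, 1185414, 1852552, 2, 0]) (.leaf [0, 8, 73694, 70726, 8, 0])) (.node (.leaf [1, 50, 741216, 461502, 49, 1136374]) (.leaf [1, 1, 5894902, 3578402, 2, 1194314]))) (.node (.node (.leaf [1, 1, 741226, 1975696, 29, 807088]) (.leaf [1, 37, 197736, 5699558, 5, 729508])) (.node (.leaf [1, 17, 3046194, 4555164, 4, 149696]) (.leaf [1, 2, 5198894, 6470718, 2, 1356672])))) (.node (.node (.node (.leaf [0, 2, 2585184, 815310, 2, 0])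 (.leaf [1, 4, 7170640, 281220, 4, 5435144])) (.node (.leaf [1, 8, 1911186, 2774198, 31, 1523100]) (.leaf [1, 5, 4415636, 4483074, 1, 5431742]))) (.node (.node (.leaf [1, 1, 436634, 337530, 34, 724416]) (.leaf [1, 1, 831790, 3344074, 1, 7362696])) (.node (.leaf [1, 22, 1810296, 5399008, 22, 4494096]) (.leaf []))))) (.node (.node (.node (.node (.leaf [0, 2, 2304978, 1539726, 2, 0]) (.leaf [1, 1, 428418, 6819184, 17, 2156522])) (.node (.leaf [1, 47, 741054, 791790, 31, 1843976]) (.leaf [1, 5, 4801286, 3246852, 5, 6331902]))) (.node (.node (.leaf [1, 12, 1646408, 1802810, 23, 593058]) (.leaf [1, 5, 3344252, 161058, 5, 133978])) (.node (.leaf [0, 1, 815776, 7273684, 1, 0]) (.leaf [])))) (.node (.node (.node (.leaf [1, 1, 354150, 0, 15, 0]) (.leaf [1, 5, 674532, 6111290, 1, 1961064])) (.node (.leaf [1, 29, 538584, 1769856, 12, 2512780]) (.leaf [1, 1, 6731578, 6834842, 1, 6899648]))) (.node (.node (.leaf [1, 4, 496948, 330800, 37, 790956]) (.leaf [1, 5, 2955850,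 4688786, 2, 2048480])) (.node (.leaf [0, 8, 4622, 2438, 8, 0]) (.leaf []))))))) (.node (.node (.node (.node (.node (.node (.leaf [0, 1, 66024, 131712, 1, 329448]) (.leaf [0, 8, 4870, 7838, 8, 0])) (.node (.leaf [1, 48, 18, 462004, 43, 214384]) (.leaf [1, 1, 2740862, 2945338, 2, 473254]))) (.node (.node (.leaf [1, 15, 329292, 2110082, 4, 288120]) (.leaf [1, 5, 3669086, 6058832, 5, 6447200])) (.node (.leaf [1, 29, 546180, 1484742, 30, 1909844]) (.leaf [1, 1, 2208508, 1532850, 1, 2543986])))) (.node (.node (.node (.leaf [0, 2, 1523104, 1136358, 2, 0]) (.leaf [1, 1, 4583428, 452882, 29, 1725414])) (.node (.leaf [1, 44, 1523094, 1382980, 8, 1976690]) (.leaf [1, 2, 2993202, 2411392, 2, 58022]))) (.node (.node (.leaf [1, 30, 724428, 67370, 34, 988008]) (.leaf [1, 1, 3108058, 5727488, 1, 83334])) (.node (.leaf [1, 29, 2183496, 4168280, 29, 1956906]) (.leaf []))))) (.node (.node (.node (.node (.leaf [0, 2, 700074, 2453490, 2, 0]) (.leaf [0, 8, 7656, 72048, 8,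 0])) (.node (.leaf [1, 50, 271658, 461502, 5, 140116]) (.leaf [1, 1, 7228162, 3558432, 5, 216052]))) (.node (.node (.leaf [1, 23, 791788, 798510, 28, 922496]) (.leaf [1, 1, 527360, 7400620, 5, 2896160])) (.node (.leaf [1, 29, 3306492, 2751612, 42, 660080]) (.leaf [])))) (.node (.node (.node (.leaf [0, 8, 592880, 65864, 8, 658730]) (.leaf [1, 5, 994560, 5524696, 8, 2700432])) (.node (.leaf [1, 4, 4149938, 6716816, 8, 1590138]) (.leaf [1, 5, 4229312, 4770730, 1, 814654]))) (.node (.node (.leaf [1, 33, 667300, 1586208, 12, 4285452]) (.leaf [0, 36, 0, 2754524, 2, 786490])) (.node (.leaf [0, 8, 70098, 66334, 8, 0]) (.leaf [])))))) (.node (.node (.node (.node (.node (.leaf [0, 2, 1580896, 700062, 2, 0]) (.leaf [0, 8, 72786, 70280, 8, 0])) (.node (.leaf [1, 47, 1721498, 922660, 2, 1515366]) (.leaf [1, 1, 405222, 452810, 5, 1567724]))) (.node (.node (.leaf [1, 30, 264096, 592706, 1, 255546]) (.leaf [1, 22, 6675576, 3366932, 5, 7075060])) (.node (.leaf [1, 17,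 3046196, 2672782, 4, 3901370]) (.leaf [])))) (.node (.node (.node (.leaf [0, 2, 205984, 1086810, 2, 0]) (.leaf [1, 4, 6955382, 4299832, 29, 2052468])) (.node (.leaf [1, 44, 395142, 90902, 17, 4346850]) (.leaf [1, 5, 5304398, 423278, 1, 2171110]))) (.node (.node (.leaf [1, 11, 1712608, 403386, 33, 734168]) (.leaf [1, 44, 1934694, 6517144, 1, 1324284])) (.node (.leaf [1, 22, 5687064, 498372, 22, 2041894]) (.leaf []))))) (.node (.node (.node (.node (.leaf [0, 2, 1127958, 1992486, 2, 0]) (.leaf [1, 29, 2450364, 5063632, 17, 3982132])) (.node (.leaf [1, 47, 140628, 1993328, 29, 601948]) (.leaf [1, 1, 1498042, 4239372, 5, 5833726]))) (.node (.node (.leaf [1, 33, 395482, 1317792, 23, 1383650]) (.leaf [1, 17, 2971752, 6973014, 5, 2036294])) (.node (.leaf [1, 1, 1366680, 701904, 29, 2869800]) (.leaf [])))) (.node (.node (.node (.leaf [0, 5, 1325520, 1325520, 5, 0]) (.leaf [1, 5, 402876, 2894990, 5, 4992762])) (.node (.leaf [1, 23, 658916, 6704234, 29, 1725414])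 (.leaf [1, 5, 6419898, 295568, 5, 2458226]))) (.node (.node (.leaf [1, 39, 329786, 10086, 33, 4158842]) (.leaf [1, 5, 993798, 2820902, 1, 1185350])) (.node (.leaf [0, 8, 72198, 4420, 8, 0]) (.leaf []))))))))))

/-- the facts -/
def factTab : WTab :=
  (.node (.node (.node (.node factTab0 factTab8) (.node factTab4 factTab12)) (.node (.node factTab2 factTab10) (.node factTab6 factTab14))) (.node (.node (.node factTab1 factTab9) (.node factTab5 factTab13)) (.node (.node factTab3 factTab11) (.node factTab7 factTab15))))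

end

end Cfsg.Agent.ONan
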