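import Cfsg.Agent.Lib.ONan.Check0
import Cfsg.Agent.Lib.ONan.Check1
import Cfsg.Agent.Lib.ONan.Check2
import Cfsg.Agent.Lib.ONan.Check3

/-! All the checked facts hold. -/

set_option autoImplicit false

namespace Cfsg.Agent.ONan

open Cfsg.Agent.CosetCert

theorem okFact_all {n : ℕ} (hn : n < 7360) : okFact dataON n = true := by
  rcases lt_or_ge n 460 with h0 | h0
  · have := allBelow_spec factsOK0 (i := n - 0) (by omega)
    rwa [show 0 + (n - 0) = n by omega] at this
  rcases lt_or_ge n 920 with h1 | h1
  · have := allBelow_spec factsOK1 (i := n - 460) (by omega)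
    rwa [show 460 + (n - 460) = n by omega] at this
  rcases lt_or_ge n 1380 with h2 | h2
  · have := allBelow_spec factsOK2 (i := n - 920) (by omega)
    rwa [show 920 + (n - 920) = n by omega] at this
  rcases lt_or_ge n 1840 with h3 | h3
  · have := allBelow_spec factsOK3 (i := n - 1380) (by omega)
    rwa [show 1380 + (n - 1380) = n by omega] at this
  rcases lt_or_ge n 2300 with h4 | h4
  · have := allBelow_spec factsOK4 (i := n - 1840) (by omega)
    rwa [show 1840 + (n - 1840) = n by omega] at this
  rcases lt_or_ge n 2760 with h5 | h5
  · have := allBelow_spec factsOK5 (i := n - 2300) (by omega)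
    rwa [show 2300 + (n - 2300) = n by omega] at this
  rcases lt_or_ge n 3220 with h6 | h6
  · have := allBelow_spec factsOK6 (i := n - 2760) (by omega)
    rwa [show 2760 + (n - 2760) = n by omega] at this
  rcases lt_or_ge n 3680 with h7 | h7
  · have := allBelow_spec factsOK7 (i := n - 3220) (by omega)
    rwa [show 3220 + (n - 3220) = n by omega] at this
  rcases lt_or_ge n 4140 with h8 | h8
  · have := allBelow_spec factsOK8 (i := n - 3680) (by omega)
    rwa [show 3680 + (n - 3680) = n by omega] at this
  rcases lt_or_ge n 4600 with h9 | h9
  · have := allBelow_spec factsOK9 (i := n - 4140) (by omega)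
    rwa [show 4140 + (n - 4140) = n by omega] at this
  rcases lt_or_ge n 5060 with h10 | h10
  · have := allBelow_spec factsOK10 (i := n - 4600) (by omega)
    rwa [show 4600 + (n - 4600) = n by omega] at this
  rcases lt_or_ge n 5520 with h11 | h11
  · have := allBelow_spec factsOK11 (i := n - 5060) (by omega)
    rwa [show 5060 + (n - 5060) = n by omega] at this
  rcases lt_or_ge n 5980 with h12 | h12
  · have := allBelow_spec factsOK12 (i := n - 5520) (by omega)
    rwa [show 5520 + (n - 5520) = n by omega] at this
  rcases lt_or_ge n 6440 with h13 | h13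
  · have := allBelow_spec factsOK13 (i := n - 5980) (by omega)
    rwa [show 5980 + (n - 5980) = n by omega] at this
  rcases lt_or_ge n 6900 with h14 | h14
  · have := allBelow_spec factsOK14 (i := n - 6440) (by omega)
    rwa [show 6440 + (n - 6440) = n by omega] at this
  have := allBelow_spec factsOK15 (i := n - 6900) (by omega)
  rwa [show 6900 + (n - 6900) = n by omega] at this

/-- In any group satisfying the rules, all facts hold. -/
theorem holds_all {G : Type*} [Group G] {ψ : H0 →* G} {g : G} {x : ℕ → G}
    (R : DRules ψ g x dataON) : ∀ n < 7360, Holds ψ g x dataON n := by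
  intro n
  induction n using Nat.strong_induction_on with
  | _ n ih => exact fun hn => okFact_sound R (okFact_all hn) fun k hk => ih k hk (by omega)

end Cfsg.Agent.ONan
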