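import Cfsg.Agent.Lib.ONan.HGroup
import Cfsg.Agent.Lib.ONan.ElemData
import Mathlib.GroupTheory.Perm.Basic

/-!
Elements of the group of order 3753792 as coded products of transversal elements, compared by their
images of five base points.
-/

set_option autoImplicit false
set_option maxRecDepth 100000

namespace Cfsg.Agent.ONan

open Cfsg.Agent.CosetCert

noncomputable section

/-- The image of the point `i` under a packed permutation. -/
def ap (v i : ℕ) : ℕ := Nat.land (Nat.shiftRight v (Nat.mul 8 i)) 255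

/-- The generator `x` on points. -/
def act0 (x q : ℕ) : ℕ := ap (genTrie.get x) q

/-- A word on points, first letter first. -/
def actW (w : List ℕ) (q : ℕ) : ℕ := List.rec (fun q => q) (fun x _ r q => r (act0 x q)) w q

/-- The checks on the packed generators. -/
def genCheck : Bool :=
  allBelow (fun x => allBelow (fun q => Nat.blt (act0 x q) 114 && Nat.beq (act0 x (act0 x q)) q) 114) 6

theorem genCheck_ok : genCheck = true := by decide +kernel

theorem act0_spec {x q : ℕ} (hx : x < 6) (hq : q < 114) : act0 x q < 114 ∧ act0 x (act0 x q) = q := by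
  have := allBelow_spec (allBelow_spec genCheck_ok hx) hq
  simpa [Nat.beq_eq, Nat.blt_eq] using this

/-- The generator `x` on all numbers. -/
def pfun (x q : ℕ) : ℕ := if x < 6 ∧ q < 114 then act0 x q else q

theorem pfun_pfun (x q : ℕ) : pfun x (pfun x q) = q := by
  by_cases h : x < 6 ∧ q < 114
  · obtain ⟨h1, h2⟩ := act0_spec h.1 h.2
    simp [pfun, h, h1, h2]
  · simp [pfun, h]

/-- The permutation of the generator `x`. -/
def genP (x : ℕ) : Equiv.Perm ℕ := Function.Involutive.toPerm (pfun x) (pfun_pfun x)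

theorem genP_sq (x : ℕ) : genP x * genP x = 1 :=
  Equiv.ext fun q => pfun_pfun x q

theorem wprod_genP_symm (w : List ℕ) :
    ∀ q < 114, (∀ x ∈ w, x < 6) →
      actW w q < 114 ∧ (wprod genP w).symm q = actW w q := by
  induction w with
  | nil => intro q hq _; exact ⟨hq, by simp [wprod, actW, Equiv.Perm.one_def]⟩
  | cons x w ih =>
    intro q hq hw
    obtain ⟨h1, -⟩ := act0_spec (hw x List.mem_cons_self) hq
    obtain ⟨h2, h3⟩ := ih _ h1 fun y hy => hw y (List.mem_cons_of_mem _ hy)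
    refine ⟨h2, ?_⟩
    rw [wprod_cons, Equiv.Perm.mul_def, Equiv.symm_trans_apply]
    have : (genP x).symm q = act0 x q := if_pos ⟨hw x List.mem_cons_self, hq⟩
    rw [this]
    exact h3

/-- The relators fix every point. -/
def relCheck : Bool :=
  relsH.all fun w => (w.all fun x => Nat.blt x 6) && allBelow (fun q => Nat.beq (actW w q) q) 114

theorem relCheck_ok : relCheck = true := by decide +kernel

theorem wprod_genP_rel {w : List ℕ} (hw : w ∈ relsH) : wprod genP w = 1 := by
  have h := relCheck_ok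
  simp only [relCheck, List.all_eq_true, Bool.and_eq_true, Nat.blt_eq] at h
  obtain ⟨h1, h2⟩ := h w hw
  have hout : ∀ (u : List ℕ) (q : ℕ), ¬ q < 114 → (wprod genP u).symm q = q := by
    intro u q hq
    induction u with
    | nil => simp [wprod, Equiv.Perm.one_def]
    | cons x u ih =>
      rw [wprod_cons, Equiv.Perm.mul_def, Equiv.symm_trans_apply]
      have : (genP x).symm q = q := if_neg fun h => hq h.2
      rw [this, ih]
  refine inv_eq_one.1 (Equiv.ext fun q => ?_)
  show (wprod genP w).symm q = q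
  by_cases hq : q < 114
  · rw [(wprod_genP_symm w q hq h1).2]
    exact Nat.eq_of_beq_eq_true (allBelow_spec h2 hq)
  · exact hout w q hq

/-- The permutation representation of degree 114. -/
def perm114 : H0 →* Equiv.Perm ℕ :=
  PresentedGroup.toGroup (f := fun i : Fin 6 => genP i) (by
    rintro r ⟨w, hw, rfl⟩
    rw [wprod_map]
    have : (fun x => FreeGroup.lift (fun i : Fin 6 => genP i) (freeGen x)) = genP := by
      funext x
      by_cases hx : x < 6
      · simp [freeGen, hx]
      · simp only [freeGen, dif_neg hx, map_one]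
        exact (Equiv.ext fun q => (if_neg fun h => hx h.1).symm)
    rw [this]
    exact wprod_genP_rel hw)

/-- The image of a point under an element, from the right. -/
def pt (h : H0) (q : ℕ) : ℕ := (perm114 h).symm q

theorem pt_mul (g h : H0) (q : ℕ) : pt (g * h) q = pt h (pt g q) := by
  simp [pt, Equiv.Perm.mul_def]

theorem pt_one (q : ℕ) : pt 1 q = q := by simp [pt, Equiv.Perm.one_def]

theorem pt_inv_pt (h : H0) (q : ℕ) : pt h⁻¹ (pt h q) = q := by
  rw [← pt_mul, mul_inv_cancel, pt_one]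

theorem pt_injective (h : H0) : Function.Injective (pt h) := (perm114 h).symm.injective

theorem pt_wprod {w : List ℕ} (hw : ∀ x ∈ w, x < 6) {q : ℕ} (hq : q < 114) :
    actW w q < 114 ∧ pt (wprod gen0 w) q = actW w q := by
  obtain ⟨h1, h2⟩ := wprod_genP_symm w q hq hw
  refine ⟨h1, ?_⟩
  rw [pt, wprod_map]
  have : wprod (fun x => perm114 (gen0 x)) w = wprod genP w := by
    rw [wprod, wprod]
    congr 1
    refine List.map_congr_left fun x hx => ?_
    simp [gen0, hw x hx, perm114]
  rw [this, h2]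

/-! ### Transversal elements -/

/-- The transversal element `i`. -/
def tEl (i : ℕ) : H0 := wprod gen0 (tWord.get i)

/-- The checks on the transversal tables. -/
def transCheck (i : ℕ) : Bool :=
  ((tWord.get i).all fun x => Nat.blt x 6) && allBelow (fun q =>
    Nat.beq (actW (tWord.get i) q) (ap (tFwd.get i) q) &&
      Nat.beq (ap (tBwd.get i) (ap (tFwd.get i) q)) q && Nat.blt (ap (tBwd.get i) q) 114) 114

theorem trans_ok0 : allBelow (fun i => transCheck i) 40 = true := by decide +kernel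
theorem trans_ok1 : allBelow (fun i => transCheck (40 + i)) 40 = true := by decide +kernel
theorem trans_ok2 : allBelow (fun i => transCheck (80 + i)) 40 = true := by decide +kernel
theorem trans_ok3 : allBelow (fun i => transCheck (120 + i)) 40 = true := by decide +kernel
theorem trans_ok4 : allBelow (fun i => transCheck (160 + i)) 30 = true := by decide +kernel

theorem transCheck_ok {i : ℕ} (hi : i < 190) : transCheck i = true := by
  rcases lt_or_ge i 40 with h | h
  · exact allBelow_spec trans_ok0 h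
  rcases lt_or_ge i 80 with h' | h'
  · have := allBelow_spec trans_ok1 (i := i - 40) (by omega)
    rwa [show 40 + (i - 40) = i by omega] at this
  rcases lt_or_ge i 120 with h'' | h''
  · have := allBelow_spec trans_ok2 (i := i - 80) (by omega)
    rwa [show 80 + (i - 80) = i by omega] at this
  rcases lt_or_ge i 160 with h3 | h3
  · have := allBelow_spec trans_ok3 (i := i - 120) (by omega)
    rwa [show 120 + (i - 120) = i by omega] at this
  have := allBelow_spec trans_ok4 (i := i - 160) (by omega)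
  rwa [show 160 + (i - 160) = i by omega] at this

theorem pt_tEl {i q : ℕ} (hi : i < 190) (hq : q < 114) :
    ap (tFwd.get i) q < 114 ∧ pt (tEl i) q = ap (tFwd.get i) q := by
  have h := transCheck_ok hi
  simp only [transCheck, List.all_eq_true, Bool.and_eq_true, Nat.blt_eq] at h
  obtain ⟨⟨h1, -⟩, -⟩ := And.intro (And.intro (allBelow_spec h.2 hq) h.1) trivial
  obtain ⟨h2, h3⟩ := pt_wprod h.1 hq
  simp only [Bool.and_eq_true, Nat.beq_eq, Nat.blt_eq] at h1
  rw [← h1.1.1]
  exact ⟨h2, h3⟩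

theorem pt_tEl_inv {i q : ℕ} (hi : i < 190) (hq : q < 114) :
    ap (tBwd.get i) q < 114 ∧ pt (tEl i)⁻¹ q = ap (tBwd.get i) q := by
  have h := transCheck_ok hi
  simp only [transCheck, List.all_eq_true, Bool.and_eq_true, Nat.blt_eq] at h
  have hq' := allBelow_spec h.2 hq
  simp only [Bool.and_eq_true, Nat.beq_eq, Nat.blt_eq] at hq'
  refine ⟨hq'.2, ?_⟩
  -- the inverse undoes the forward map
  have hmem : ∀ p < 114, ap (tBwd.get i) (ap (tFwd.get i) p) = p := fun p hp => by
    have := allBelow_spec h.2 hp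
    simp only [Bool.and_eq_true, Nat.beq_eq] at this
    exact this.1.2
  let f : Fin 114 → Fin 114 := fun p => ⟨ap (tFwd.get i) p, (pt_tEl hi p.2).1⟩
  have hf : Function.Injective f := fun a b hab => by
    apply Fin.ext
    rw [← hmem a a.2, ← hmem b b.2]
    exact congrArg (ap (tBwd.get i)) (congrArg Fin.val hab)
  obtain ⟨p, hp⟩ := (Finite.injective_iff_surjective.1 hf) ⟨q, hq⟩
  have hp' : ap (tFwd.get i) p = q := congrArg Fin.val hp
  rw [← hp', hmem p p.2, ← (pt_tEl hi p.2).2, pt_inv_pt]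

/-! ### Codes -/

/-- The five transversal indices of a code. -/
def i5 (c : ℕ) : ℕ := Nat.add 178 (Nat.mod c 12)
/-- The five transversal indices of a code. -/
def i4 (c : ℕ) : ℕ := Nat.add 171 (Nat.mod (Nat.div c 12) 7)
/-- The five transversal indices of a code. -/
def i3 (c : ℕ) : ℕ := Nat.add 122 (Nat.mod (Nat.div c 84) 49)
/-- The five transversal indices of a code. -/
def i2 (c : ℕ) : ℕ := Nat.add 114 (Nat.mod (Nat.div c 4116) 8)
/-- The five transversal indices of a code. -/
def i1 (c : ℕ) : ℕ := Nat.mod (Nat.div c 32928) 114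

theorem idx_lt (c : ℕ) : i1 c < 190 ∧ i2 c < 190 ∧ i3 c < 190 ∧ i4 c < 190 ∧ i5 c < 190 := by
  have h1 := Nat.mod_lt (c / 32928) (show 114 > 0 by norm_num)
  have h2 := Nat.mod_lt (c / 4116) (show 8 > 0 by norm_num)
  have h3 := Nat.mod_lt (c / 84) (show 49 > 0 by norm_num)
  have h4 := Nat.mod_lt (c / 12) (show 7 > 0 by norm_num)
  have h5 := Nat.mod_lt c (show 12 > 0 by norm_num)
  refine ⟨?_, ?_, ?_, ?_, ?_⟩
  · show c / 32928 % 114 < 190; omega
  · show 114 + c / 4116 % 8 < 190; omega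
  · show 122 + c / 84 % 49 < 190; omega
  · show 171 + c / 12 % 7 < 190; omega
  · show 178 + c % 12 < 190; omega

/-- The element with code `c`. -/
def elC (c : ℕ) : H0 := tEl (i5 c) * tEl (i4 c) * tEl (i3 c) * tEl (i2 c) * tEl (i1 c)

/-- The element with signed code `s`. -/
def elS (s : ℕ) : H0 := if s % 2 = 0 then elC (s / 2) else (elC (s / 2))⁻¹

/-- The product of a list of signed codes. -/
def elL : List ℕ → H0
  | [] => 1
  | s :: l => elS s * elL l

theorem elL_append (u v : List ℕ) : elL (u ++ v) = elL u * elL v := by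
  induction u with
  | nil => simp [elL]
  | cons s u ih => simp [elL, ih, mul_assoc]

/-- Five points. -/
structure T5 where
  a : ℕ
  b : ℕ
  c : ℕ
  d : ℕ
  e : ℕ

/-- Apply a packed permutation to five points. -/
def T5.move (v : ℕ) (t : T5) : T5 := ⟨ap v t.a, ap v t.b, ap v t.c, ap v t.d, ap v t.e⟩

/-- All five points lie in range. -/
def T5.InRange (t : T5) : Prop := t.a < 114 ∧ t.b < 114 ∧ t.c < 114 ∧ t.d < 114 ∧ t.e < 114

/-- The images of five points. -/
def T5.image (h : H0) (t : T5) : T5 := ⟨pt h t.a, pt h t.b, pt h t.c, pt h t.d, pt h t.e⟩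

theorem T5.image_mul (g h : H0) (t : T5) : T5.image (g * h) t = T5.image h (T5.image g t) := by
  simp [T5.image, pt_mul]

theorem T5.move_fwd {i : ℕ} (hi : i < 190) {t : T5} (ht : t.InRange) :
    (T5.move (tFwd.get i) t).InRange ∧ T5.image (tEl i) t = T5.move (tFwd.get i) t := by
  obtain ⟨ha, hb, hc, hd, he⟩ := ht
  exact ⟨⟨(pt_tEl hi ha).1, (pt_tEl hi hb).1, (pt_tEl hi hc).1, (pt_tEl hi hd).1, (pt_tEl hi he).1⟩,
    by simp [T5.image, T5.move, (pt_tEl hi ha).2, (pt_tEl hi hb).2, (pt_tEl hi hc).2, (pt_tEl hi hd).2,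
      (pt_tEl hi he).2]⟩

theorem T5.move_bwd {i : ℕ} (hi : i < 190) {t : T5} (ht : t.InRange) :
    (T5.move (tBwd.get i) t).InRange ∧ T5.image (tEl i)⁻¹ t = T5.move (tBwd.get i) t := by
  obtain ⟨ha, hb, hc, hd, he⟩ := ht
  exact ⟨⟨(pt_tEl_inv hi ha).1, (pt_tEl_inv hi hb).1, (pt_tEl_inv hi hc).1, (pt_tEl_inv hi hd).1,
      (pt_tEl_inv hi he).1⟩,
    by simp [T5.image, T5.move, (pt_tEl_inv hi ha).2, (pt_tEl_inv hi hb).2, (pt_tEl_inv hi hc).2,
      (pt_tEl_inv hi hd).2, (pt_tEl_inv hi he).2]⟩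

/-- A signed code on five points. -/
def stepS (s : ℕ) (t : T5) : T5 :=
  Bool.rec
    (T5.move (tBwd.get (i5 (Nat.div s 2))) (T5.move (tBwd.get (i4 (Nat.div s 2)))
      (T5.move (tBwd.get (i3 (Nat.div s 2))) (T5.move (tBwd.get (i2 (Nat.div s 2)))
        (T5.move (tBwd.get (i1 (Nat.div s 2))) t)))))
    (T5.move (tFwd.get (i1 (Nat.div s 2))) (T5.move (tFwd.get (i2 (Nat.div s 2)))
      (T5.move (tFwd.get (i3 (Nat.div s 2))) (T5.move (tFwd.get (i4 (Nat.div s 2)))
        (T5.move (tFwd.get (i5 (Nat.div s 2))) t)))))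
    (Nat.beq (Nat.mod s 2) 0)

theorem stepS_spec (s : ℕ) {t : T5} (ht : t.InRange) :
    (stepS s t).InRange ∧ T5.image (elS s) t = stepS s t := by
  obtain ⟨h1, h2, h3, h4, h5⟩ := idx_lt (s / 2)
  cases h : Nat.beq (Nat.mod s 2) 0
  · have hm : ¬ s % 2 = 0 := Nat.ne_of_beq_eq_false h
    have e : elS s = (tEl (i1 (s / 2)))⁻¹ * (tEl (i2 (s / 2)))⁻¹ * (tEl (i3 (s / 2)))⁻¹ *
        (tEl (i4 (s / 2)))⁻¹ * (tEl (i5 (s / 2)))⁻¹ := by
      simp [elS, hm, elC, mul_assoc]
    rw [e, T5.image_mul, T5.image_mul, T5.image_mul, T5.image_mul]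
    obtain ⟨r1, e1⟩ := T5.move_bwd h1 ht
    obtain ⟨r2, e2⟩ := T5.move_bwd h2 r1
    obtain ⟨r3, e3⟩ := T5.move_bwd h3 r2
    obtain ⟨r4, e4⟩ := T5.move_bwd h4 r3
    obtain ⟨r5, e5⟩ := T5.move_bwd h5 r4
    rw [e1, e2, e3, e4, e5, stepS, h]
    exact ⟨r5, rfl⟩
  · have hm : s % 2 = 0 := Nat.eq_of_beq_eq_true h
    have e : elS s = tEl (i5 (s / 2)) * tEl (i4 (s / 2)) * tEl (i3 (s / 2)) * tEl (i2 (s / 2)) *
        tEl (i1 (s / 2)) := by simp [elS, hm, elC]
    rw [e, T5.image_mul, T5.image_mul, T5.image_mul, T5.image_mul]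
    obtain ⟨r5, e5⟩ := T5.move_fwd h5 ht
    obtain ⟨r4, e4⟩ := T5.move_fwd h4 r5
    obtain ⟨r3, e3⟩ := T5.move_fwd h3 r4
    obtain ⟨r2, e2⟩ := T5.move_fwd h2 r3
    obtain ⟨r1, e1⟩ := T5.move_fwd h1 r2
    rw [e5, e4, e3, e2, e1, stepS, h]
    exact ⟨r1, rfl⟩

/-- A list of signed codes on five points. -/
def stepL (l : List ℕ) (t : T5) : T5 := List.rec (fun t => t) (fun s _ r t => r (stepS s t)) l t

theorem stepL_spec : ∀ (l : List ℕ) {t : T5}, t.InRange →
    (stepL l t).InRange ∧ T5.image (elL l) t = stepL l t := by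
  intro l
  induction l with
  | nil => intro t ht; exact ⟨ht, by simp [elL, T5.image, pt_one, stepL]⟩
  | cons s l ih =>
    intro t ht
    obtain ⟨r, e⟩ := stepS_spec s ht
    obtain ⟨r', e'⟩ := ih r
    refine ⟨r', ?_⟩
    rw [elL, T5.image_mul, e, e']
    rfl

/-- The base points. -/
def base5 : T5 := ⟨0, 1, 2, 3, 4⟩

theorem base5_inRange : base5.InRange := by simp [base5, T5.InRange]

/-- Each transversal fixes the earlier base points, and moves its own one injectively. -/
def baseCheck : Bool :=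
  allBelow (fun i => Nat.beq (ap (tFwd.get i) 0) i) 114 &&
  allBelow (fun i => Nat.beq (ap (tFwd.get (114 + i)) 0) 0 &&
    allBelow (fun j => Nat.beq i j || !(Nat.beq (ap (tFwd.get (114 + i)) 1) (ap (tFwd.get (114 + j)) 1))) 8) 8 &&
  allBelow (fun i => Nat.beq (ap (tFwd.get (122 + i)) 0) 0 && Nat.beq (ap (tFwd.get (122 + i)) 1) 1 &&
    allBelow (fun j => Nat.beq i j || !(Nat.beq (ap (tFwd.get (122 + i)) 2) (ap (tFwd.get (122 + j)) 2))) 49) 49 &&
  allBelow (fun i => Nat.beq (ap (tFwd.get (171 + i)) 0) 0 && Nat.beq (ap (tFwd.get (171 + i)) 1) 1 &&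
    Nat.beq (ap (tFwd.get (171 + i)) 2) 2 &&
    allBelow (fun j => Nat.beq i j || !(Nat.beq (ap (tFwd.get (171 + i)) 3) (ap (tFwd.get (171 + j)) 3))) 7) 7 &&
  allBelow (fun i => Nat.beq (ap (tFwd.get (178 + i)) 0) 0 && Nat.beq (ap (tFwd.get (178 + i)) 1) 1 &&
    Nat.beq (ap (tFwd.get (178 + i)) 2) 2 && Nat.beq (ap (tFwd.get (178 + i)) 3) 3 &&
    allBelow (fun j => Nat.beq i j || !(Nat.beq (ap (tFwd.get (178 + i)) 4) (ap (tFwd.get (178 + j)) 4))) 12) 12

theorem baseCheck_ok : baseCheck = true := by decide +kernel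

/-- Codes below the order are separated by the base points. -/
theorem image_elC_injective {c c' : ℕ} (hc : c < 3753792) (hc' : c' < 3753792)
    (h : T5.image (elC c) base5 = T5.image (elC c') base5) : c = c' := by
  have hb := baseCheck_ok
  simp only [baseCheck, Bool.and_eq_true] at hb
  obtain ⟨⟨⟨⟨hb1, hb2⟩, hb3⟩, hb4⟩, hb5⟩ := hb
  have p1 : ∀ i < 114, pt (tEl i) 0 = i := fun i hi => by
    rw [(pt_tEl (by omega) (by norm_num)).2]
    exact Nat.eq_of_beq_eq_true (allBelow_spec hb1 hi)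
  have p2 : ∀ i < 8, pt (tEl (114 + i)) 0 = 0 ∧
      ∀ j < 8, pt (tEl (114 + i)) 1 = pt (tEl (114 + j)) 1 → i = j := fun i hi => by
    have := allBelow_spec hb2 hi
    simp only [Bool.and_eq_true, Nat.beq_eq] at this
    refine ⟨by rw [(pt_tEl (by omega) (by norm_num)).2]; exact this.1, fun j hj e => ?_⟩
    rw [(pt_tEl (by omega) (by norm_num)).2, (pt_tEl (by omega) (by norm_num)).2] at e
    simpa [e, Nat.beq_eq] using allBelow_spec this.2 hj
  have p3 : ∀ i < 49, pt (tEl (122 + i)) 0 = 0 ∧ pt (tEl (122 + i)) 1 = 1 ∧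
      ∀ j < 49, pt (tEl (122 + i)) 2 = pt (tEl (122 + j)) 2 → i = j := fun i hi => by
    have := allBelow_spec hb3 hi
    simp only [Bool.and_eq_true, Nat.beq_eq] at this
    refine ⟨by rw [(pt_tEl (by omega) (by norm_num)).2]; exact this.1.1,
      by rw [(pt_tEl (by omega) (by norm_num)).2]; exact this.1.2, fun j hj e => ?_⟩
    rw [(pt_tEl (by omega) (by norm_num)).2, (pt_tEl (by omega) (by norm_num)).2] at e
    simpa [e, Nat.beq_eq] using allBelow_spec this.2 hj
  have p4 : ∀ i < 7, pt (tEl (171 + i)) 0 = 0 ∧ pt (tEl (171 + i)) 1 = 1 ∧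
      pt (tEl (171 + i)) 2 = 2 ∧
      ∀ j < 7, pt (tEl (171 + i)) 3 = pt (tEl (171 + j)) 3 → i = j := fun i hi => by
    have := allBelow_spec hb4 hi
    simp only [Bool.and_eq_true, Nat.beq_eq] at this
    refine ⟨by rw [(pt_tEl (by omega) (by norm_num)).2]; exact this.1.1.1,
      by rw [(pt_tEl (by omega) (by norm_num)).2]; exact this.1.1.2,
      by rw [(pt_tEl (by omega) (by norm_num)).2]; exact this.1.2, fun j hj e => ?_⟩
    rw [(pt_tEl (by omega) (by norm_num)).2, (pt_tEl (by omega) (by norm_num)).2] at e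
    simpa [e, Nat.beq_eq] using allBelow_spec this.2 hj
  have p5 : ∀ i < 12, pt (tEl (178 + i)) 0 = 0 ∧ pt (tEl (178 + i)) 1 = 1 ∧
      pt (tEl (178 + i)) 2 = 2 ∧ pt (tEl (178 + i)) 3 = 3 ∧
      ∀ j < 12, pt (tEl (178 + i)) 4 = pt (tEl (178 + j)) 4 → i = j := fun i hi => by
    have := allBelow_spec hb5 hi
    simp only [Bool.and_eq_true, Nat.beq_eq] at this
    refine ⟨by rw [(pt_tEl (by omega) (by norm_num)).2]; exact this.1.1.1.1,
      by rw [(pt_tEl (by omega) (by norm_num)).2]; exact this.1.1.1.2,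
      by rw [(pt_tEl (by omega) (by norm_num)).2]; exact this.1.1.2,
      by rw [(pt_tEl (by omega) (by norm_num)).2]; exact this.1.2, fun j hj e => ?_⟩
    rw [(pt_tEl (by omega) (by norm_num)).2, (pt_tEl (by omega) (by norm_num)).2] at e
    simpa [e, Nat.beq_eq] using allBelow_spec this.2 hj
  have a1 : c / 32928 % 114 = c / 32928 := Nat.mod_eq_of_lt (by omega)
  have b1 : c' / 32928 % 114 = c' / 32928 := Nat.mod_eq_of_lt (by omega)
  simp only [T5.image, base5, T5.mk.injEq, elC, pt_mul] at h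
  have hd : ∀ a b, Nat.div a b = a / b := fun _ _ => rfl
  have hm : ∀ a b, Nat.mod a b = a % b := fun _ _ => rfl
  simp only [i1, i2, i3, i4, i5, Nat.add_eq, hd, hm] at h
  obtain ⟨e0, e1, e2, e3, e4⟩ := h
  have l5 := Nat.mod_lt c (show 12 > 0 by norm_num)
  have l5' := Nat.mod_lt c' (show 12 > 0 by norm_num)
  have l4 := Nat.mod_lt (c / 12) (show 7 > 0 by norm_num)
  have l4' := Nat.mod_lt (c' / 12) (show 7 > 0 by norm_num)
  have l3 := Nat.mod_lt (c / 84) (show 49 > 0 by norm_num)
  have l3' := Nat.mod_lt (c' / 84) (show 49 > 0 by norm_num)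
  have l2 := Nat.mod_lt (c / 4116) (show 8 > 0 by norm_num)
  have l2' := Nat.mod_lt (c' / 4116) (show 8 > 0 by norm_num)
  have l1 := Nat.mod_lt (c / 32928) (show 114 > 0 by norm_num)
  have l1' := Nat.mod_lt (c' / 32928) (show 114 > 0 by norm_num)
  rw [(p5 _ l5).1, (p5 _ l5').1, (p4 _ l4).1, (p4 _ l4').1, (p3 _ l3).1, (p3 _ l3').1, (p2 _ l2).1,
    (p2 _ l2').1, p1 _ l1, p1 _ l1'] at e0
  rw [← e0] at e1 e2 e3 e4
  replace e1 := pt_injective _ e1
  rw [(p5 _ l5).2.1, (p5 _ l5').2.1, (p4 _ l4).2.1, (p4 _ l4').2.1, (p3 _ l3).2.1,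
    (p3 _ l3').2.1] at e1
  have d2 := (p2 _ l2).2 _ l2' e1
  rw [← d2] at e2 e3 e4
  replace e2 := pt_injective _ (pt_injective _ e2)
  rw [(p5 _ l5).2.2.1, (p5 _ l5').2.2.1, (p4 _ l4).2.2.1, (p4 _ l4').2.2.1] at e2
  have d3 := (p3 _ l3).2.2 _ l3' e2
  rw [← d3] at e3 e4
  replace e3 := pt_injective _ (pt_injective _ (pt_injective _ e3))
  rw [(p5 _ l5).2.2.2.1, (p5 _ l5').2.2.2.1] at e3
  have d4 := (p4 _ l4).2.2.2 _ l4' e3
  rw [← d4] at e4
  replace e4 := pt_injective _ (pt_injective _ (pt_injective _ (pt_injective _ e4)))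
  have d5 := (p5 _ l5).2.2.2.2 _ l5' e4
  omega

theorem elC_bijective : Function.Bijective (fun c : Fin 3753792 => elC c) := by
  have hinj : Function.Injective (fun c : Fin 3753792 => elC c) := fun c c' h =>
    Fin.ext (image_elC_injective c.2 c'.2 (by simp only at h; rw [h]))
  refine ⟨hinj, (Function.Injective.bijective_of_nat_card_le hinj ?_).2⟩
  rw [Nat.card_fin]
  exact card_H0_le

theorem card_H0 : Nat.card H0 = 3753792 := by
  rw [← Nat.card_eq_of_bijective _ elC_bijective, Nat.card_fin]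

/-- The base points separate elements. -/
theorem eq_of_image {g h : H0} (e : T5.image g base5 = T5.image h base5) : g = h := by
  obtain ⟨c, rfl⟩ := elC_bijective.2 g
  obtain ⟨c', rfl⟩ := elC_bijective.2 h
  exact congrArg elC (image_elC_injective c.2 c'.2 e)

theorem perm114_injective : Function.Injective perm114 := fun g h e =>
  eq_of_image (by simp [T5.image, pt, e])

/-- Comparison of five points. -/
def T5.beq (t u : T5) : Bool :=
  Nat.beq t.a u.a && Nat.beq t.b u.b && Nat.beq t.c u.c && Nat.beq t.d u.d && Nat.beq t.e u.e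

/-- Two products of signed codes are equal. -/
def sameL (u v : List ℕ) : Bool := T5.beq (stepL u base5) (stepL v base5)

theorem eq_of_sameL {u v : List ℕ} (h : sameL u v = true) : elL u = elL v := by
  apply eq_of_image
  rw [(stepL_spec u base5_inRange).2, (stepL_spec v base5_inRange).2]
  simp only [sameL, T5.beq, Bool.and_eq_true, Nat.beq_eq] at h
  obtain ⟨⟨⟨⟨h1, h2⟩, h3⟩, h4⟩, h5⟩ := h
  exact T5.casesOn (motive := fun t => t.a = (stepL v base5).a → t.b = (stepL v base5).b →
    t.c = (stepL v base5).c → t.d = (stepL v base5).d → t.e = (stepL v base5).e → t = stepL v base5)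
    (stepL u base5) (fun a b c d e ha hb hc hd he => by subst ha hb hc hd he; rfl) h1 h2 h3 h4 h5

end

end Cfsg.Agent.ONan
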