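import Cfsg.Agent.Lib.ONan.ChainLow
import Cfsg.Agent.Lib.ONan.ChainTop
import Mathlib.GroupTheory.PresentedGroup

/-!
The group presented by the relators among `a, …, f` in the presentation of the O'Nan group has at most
3753792 elements.
-/

set_option autoImplicit false

namespace Cfsg.Agent.ONan

open Cfsg.Agent.CosetCert

noncomputable section

/-- The relators among `a, …, f` (numbered `0, …, 5`). -/
def relsH : List (List ℕ) := [[0, 0], [1, 1], [2, 2], [3, 3], [4, 4], [5, 5]] ++ ChainTop.base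

/-- The free generator with number `x`. -/
def freeGen (x : ℕ) : FreeGroup (Fin 6) := if h : x < 6 then FreeGroup.of ⟨x, h⟩ else 1

/-- The relators as elements of the free group. -/
def relSetH : Set (FreeGroup (Fin 6)) := {r | ∃ w ∈ relsH, r = wprod freeGen w}

/-- The group presented by the relators among `a, …, f`. -/
abbrev H0 : Type := PresentedGroup relSetH

/-- The generator with number `x`. -/
def gen0 (x : ℕ) : H0 := if h : x < 6 then PresentedGroup.of ⟨x, h⟩ else 1

theorem mk_freeGen (x : ℕ) : PresentedGroup.mk relSetH (freeGen x) = gen0 x := by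
  unfold freeGen gen0
  split
  · rfl
  · exact map_one _

theorem wprod_map {G M : Type*} [Group G] [Group M] (φ : G →* M) (g : ℕ → G) (w : List ℕ) :
    φ (wprod g w) = wprod (fun x => φ (g x)) w := by
  rw [wprod, wprod, map_list_prod, List.map_map]; rfl

theorem wprod_cons {G : Type*} [Group G] (g : ℕ → G) (x : ℕ) (w : List ℕ) :
    wprod g (x :: w) = g x * wprod g w := by
  simp [wprod]

theorem wprod_append {G : Type*} [Group G] (g : ℕ → G) (u v : List ℕ) :
    wprod g (u ++ v) = wprod g u * wprod g v := by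
  simp [wprod]

theorem rel0 {w : List ℕ} (h : w ∈ relsH) : wprod gen0 w = 1 := by
  rw [← funext mk_freeGen, ← wprod_map]
  exact PresentedGroup.one_of_mem ⟨w, h, rfl⟩

theorem gen0_sq (x : ℕ) : gen0 x * gen0 x = 1 := by
  by_cases h : x < 6
  · have : wprod gen0 [x, x] = 1 := rel0 (by interval_cases x <;> simp [relsH])
    simpa [wprod] using this
  · rw [gen0, dif_neg h, one_mul]

theorem relTop {w : List ℕ} (h : w ∈ ChainTop.base) : wprod gen0 w = 1 :=
  rel0 (List.mem_append_right _ h)

/-- The generators with the last two replaced by trivial elements. -/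
def genLow (x : ℕ) : H0 := if x < 4 then gen0 x else 1

theorem genLow_sq (x : ℕ) : genLow x * genLow x = 1 := by
  unfold genLow
  split
  · exact gen0_sq x
  · rw [one_mul]

theorem genLow_base : ∀ w ∈ ChainLow.base, wprod genLow w = 1 := by
  have ha : wprod gen0 [0, 2, 3, 2, 3, 2, 3, 2, 3] = gen0 5 := by
    have h : wprod gen0 [0, 5, 3, 2, 3, 2, 3, 2, 3, 2] = 1 := relTop (by decide +kernel)
    rw [show [0, 5, 3, 2, 3, 2, 3, 2, 3, 2] = [0, 5] ++ [2, 3, 2, 3, 2, 3, 2, 3].reverse from rfl,
      wprod_append, wprod_reverse gen0_sq, mul_inv_eq_one] at h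
    rw [show [0, 2, 3, 2, 3, 2, 3, 2, 3] = [0] ++ [2, 3, 2, 3, 2, 3, 2, 3] from rfl, wprod_append, ← h,
      ← wprod_append, show [0] ++ [0, 5] = [0, 0, 5] from rfl, wprod_cons, wprod_cons, ← mul_assoc,
      gen0_sq, one_mul, wprod]
    simp
  have hlow : ∀ w ∈ ChainLow.base, (∀ x ∈ w, x < 4) := by decide +kernel
  have hmem : ∀ w ∈ ChainLow.base, w ∈ ChainTop.base ∨
      w = [0, 2, 3, 2, 3, 2, 3, 2, 3] ++ [0, 2, 3, 2, 3, 2, 3, 2, 3] ∨
      w = ([0, 2, 3, 2, 3, 2, 3, 2, 3] ++ [1]) ++ ([0, 2, 3, 2, 3, 2, 3, 2, 3] ++ [1]) := by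
    decide +kernel
  intro w hw
  have e : wprod genLow w = wprod gen0 w := by
    rw [wprod, wprod]
    congr 1
    exact List.map_congr_left fun x hx => if_pos (hlow w hw x hx)
  rw [e]
  have hcases : w ∈ ChainTop.base ∨
      w = [0, 2, 3, 2, 3, 2, 3, 2, 3] ++ [0, 2, 3, 2, 3, 2, 3, 2, 3] ∨
      w = ([0, 2, 3, 2, 3, 2, 3, 2, 3] ++ [1]) ++ ([0, 2, 3, 2, 3, 2, 3, 2, 3] ++ [1]) := by
    exact hmem w hw
  rcases hcases with h | rfl | rfl
  · exact relTop h
  · rw [wprod_append, ha, gen0_sq]
  · rw [wprod_append, wprod_append, ha]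
    have h : wprod gen0 [1, 5, 1, 5] = 1 := relTop (by decide +kernel)
    simp only [wprod, List.map_cons, List.map_nil, List.prod_cons, List.prod_nil, mul_one] at h ⊢
    rw [mul_eq_one_comm] at h
    simpa [mul_assoc] using h

theorem closure_gen0 : Subgroup.closure (gen0 '' {x | x < 6}) = ⊤ := by
  rw [eq_top_iff, ← PresentedGroup.closure_range_of relSetH, Subgroup.closure_le]
  rintro _ ⟨i, rfl⟩
  exact Subgroup.subset_closure ⟨i, i.2, by simp [gen0]⟩

theorem cardLe_H0 : CardLe (⊤ : Subgroup H0) 3753792 := by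
  have h1 := cardLe_of_cert (P := ChainLow.P) genLow_sq genLow_base ChainLow.rots_ok
    (sw := ChainLow.sw) (H := ⊥) (by intro w hw; simp [ChainLow.sw] at hw) ChainLow.subs_ok
    ChainLow.cert_ok ChainLow.tab_ok cardLe_bot
  have h2 := cardLe_of_cert (P := ChainTop.P) gen0_sq (fun w hw => relTop hw) ChainTop.rots_ok
    (sw := ChainTop.sw) (H := Subgroup.closure (genLow '' {x | x < ChainLow.P.k}))
    (by
      intro w hw
      have : ∃ x, x < 4 ∧ w = [x] := by
        simp only [ChainTop.sw, List.mem_cons, List.not_mem_nil, or_false] at hw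
        rcases hw with rfl | rfl | rfl | rfl <;> exact ⟨_, by norm_num, rfl⟩
      obtain ⟨x, hx, rfl⟩ := this
      exact Subgroup.subset_closure ⟨x, hx, by simp [genLow, hx, wprod]⟩)
    ChainTop.subs_ok ChainTop.cert_ok ChainTop.tab_ok h1
  rw [← closure_gen0]
  exact h2

instance : Finite H0 := (cardLe_H0.of_top).1

theorem card_H0_le : Nat.card H0 ≤ 3753792 := (cardLe_H0.of_top).2

end

end Cfsg.Agent.ONan
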