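import Cfsg.Agent.Lib.ONan.Cover
import Mathlib.GroupTheory.GroupAction.Quotient

/-!
A group satisfying the rules has at most 460815505920 elements, and the image of the group of order 3753792
has index at most 122760 in it.
-/

set_option autoImplicit false

namespace Cfsg.Agent.ONan

open Cfsg.Agent.CosetCert

noncomputable section

/-- The code of the left factor of a stabiliser fact. -/
def stabCode (n : ℕ) : ℕ := fld (factTab.get n) 3

/-- Increasing, even codes below the order, each from a fact at node `k`. -/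
def stabListCheck (k : ℕ) : List ℕ → Bool
  | [] => true
  | [n] => stabFact k n && Nat.beq (Nat.mod (stabCode n) 2) 0 && Nat.blt (stabCode n) 7507584
  | n :: m :: l => stabFact k n && Nat.beq (Nat.mod (stabCode n) 2) 0 && Nat.blt (stabCode n) 7507584 &&
      Nat.blt (stabCode n) (stabCode m) && stabListCheck k (m :: l)

/-- The stabiliser lists are right. -/
def stabCheck : Bool :=
  stabListCheck 1 stab1 && Nat.beq stab1.length 64 && stabListCheck 2 stab2 && Nat.beq stab2.length 672 &&
    stabListCheck 5 stab5 && Nat.beq stab5.length 72 && stabListCheck 8 stab8 && Nat.beq stab8.length 588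

theorem stabCheck_ok : stabCheck = true := by decide +kernel

theorem stabList_spec (k : ℕ) : ∀ l : List ℕ, stabListCheck k l = true →
    (∀ n ∈ l, stabFact k n = true ∧ stabCode n % 2 = 0 ∧ stabCode n < 7507584) ∧
      (l.map stabCode).Pairwise (· < ·) := by
  intro l
  induction l with
  | nil => intro _; simp
  | cons n l ih =>
    intro h
    cases l with
    | nil =>
      simp only [stabListCheck, Bool.and_eq_true, Nat.beq_eq, Nat.blt_eq] at h
      refine ⟨fun m hm => ?_, by simp⟩
      rw [List.mem_singleton.1 hm]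
      exact ⟨h.1.1, h.1.2, h.2⟩
    | cons m l =>
      simp only [stabListCheck, Bool.and_eq_true, Nat.beq_eq, Nat.blt_eq] at h
      obtain ⟨⟨⟨⟨h1, h2⟩, h3⟩, h4⟩, h5⟩ := h
      obtain ⟨k1, k2⟩ := ih h5
      refine ⟨fun q hq => ?_, ?_⟩
      · rcases List.mem_cons.1 hq with rfl | hq
        · exact ⟨h1, h2, h3⟩
        · exact k1 q hq
      · rw [List.map_cons, List.pairwise_cons]
        refine ⟨fun q hq => ?_, k2⟩
        rw [List.map_cons, List.mem_cons] at hq
        rcases hq with rfl | hq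
        · exact h4
        · exact h4.trans ((List.pairwise_cons.1 k2).1 q hq)

variable {G : Type*} [Group G] {ψ : H0 →* G} {g : G} {x : ℕ → G}

/-- The coset of `x k`. -/
def cos (ψ : H0 →* G) (x : ℕ → G) (k : ℕ) : G ⧸ ψ.range := (x k : G ⧸ ψ.range)

theorem orbit_le (R : DRules ψ g x dataON) {k : ℕ} {l : List ℕ} (hl : stabListCheck k l = true)
    {m : ℕ} (hm : l.length = m) {s : ℕ} (hs : m * s = 3753792) :
    letI := MulAction.compHom (G ⧸ ψ.range) ψ
    Finite (MulAction.orbit H0 (cos ψ x k)) ∧ Nat.card (MulAction.orbit H0 (cos ψ x k)) ≤ s := by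
  letI := MulAction.compHom (G ⧸ ψ.range) ψ
  obtain ⟨h1, h2⟩ := stabList_spec k l hl
  have hmem : ∀ i : Fin l.length,
      elS (stabCode (l.get i)) ∈ MulAction.stabilizer H0 (cos ψ x k) := by
    intro i
    have hf := stabFact_spec R (h1 _ (List.get_mem l i)).1
    rw [MulAction.mem_stabilizer_iff]
    show ψ (elS (fld (factTab.get (l.get i)) 3)) • (x k : G ⧸ ψ.range) = (x k : G ⧸ ψ.range)
    rw [MulAction.Quotient.smul_mk, smul_eq_mul, ← hf]
    exact QuotientGroup.mk_mul_of_mem _ ⟨_, rfl⟩
  have hinj : Function.Injective fun i : Fin l.length =>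
      (⟨elS (stabCode (l.get i)), hmem i⟩ : MulAction.stabilizer H0 (cos ψ x k)) := by
    intro i j hij
    have e := congrArg Subtype.val hij
    obtain ⟨-, ei, bi⟩ := h1 _ (List.get_mem l i)
    obtain ⟨-, ej, bj⟩ := h1 _ (List.get_mem l j)
    simp only [elS, ei, ej, if_true] at e
    have e' := image_elC_injective (c := stabCode (l.get i) / 2) (c' := stabCode (l.get j) / 2)
      (by omega) (by omega) (by rw [e])
    have hval : stabCode (l.get i) = stabCode (l.get j) := by omega
    have hnd : (l.map stabCode).Nodup := h2.imp fun h => Nat.ne_of_lt h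
    have hi : (l.map stabCode)[(i : ℕ)]'(by simp) = (l.map stabCode)[(j : ℕ)]'(by simp) := by
      simpa using hval
    exact Fin.ext ((hnd.getElem_inj_iff).1 hi)
  have hc := Nat.card_le_card_of_injective _ hinj
  rw [Nat.card_fin, hm] at hc
  have hprod : Nat.card (MulAction.orbit H0 (cos ψ x k)) *
      Nat.card (MulAction.stabilizer H0 (cos ψ x k)) = 3753792 := by
    rw [← Nat.card_prod, Nat.card_congr (MulAction.orbitProdStabilizerEquivGroup H0 (cos ψ x k)),
      card_H0]
  refine ⟨Nat.finite_of_card_ne_zero fun h0 => by rw [h0, Nat.zero_mul] at hprod; omega, ?_⟩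
  have hmpos : 0 < m := Nat.pos_of_ne_zero fun h0 => by rw [h0, Nat.zero_mul] at hs; omega
  exact Nat.le_of_mul_le_mul_right (by
    calc Nat.card (MulAction.orbit H0 (cos ψ x k)) * m
        ≤ Nat.card (MulAction.orbit H0 (cos ψ x k)) *
            Nat.card (MulAction.stabilizer H0 (cos ψ x k)) := Nat.mul_le_mul_left _ hc
      _ = 3753792 := hprod
      _ = s * m := by rw [← hs, Nat.mul_comm]) hmpos

theorem index_le (R : DRules ψ g x dataON) (htop : ψ.range ⊔ Subgroup.closure {g} = ⊤) :
    Finite (G ⧸ ψ.range) ∧ ψ.range.index ≤ 122760 := by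
  letI := MulAction.compHom (G ⧸ ψ.range) ψ
  have h := stabCheck_ok
  simp only [stabCheck, Bool.and_eq_true, Nat.beq_eq] at h
  obtain ⟨⟨⟨⟨⟨⟨⟨c1, n1⟩, c2⟩, n2⟩, c5⟩, n5⟩, c8⟩, n8⟩ := h
  obtain ⟨f1, b1⟩ := orbit_le R c1 n1 (s := 58653) (by norm_num)
  obtain ⟨f2, b2⟩ := orbit_le R c2 n2 (s := 5586) (by norm_num)
  obtain ⟨f5, b5⟩ := orbit_le R c5 n5 (s := 52136) (by norm_num)
  obtain ⟨f8, b8⟩ := orbit_le R c8 n8 (s := 6384) (by norm_num)
  let O : ℕ → Set (G ⧸ ψ.range) := fun k => MulAction.orbit H0 (cos ψ x k)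
  have hcov : (Set.univ : Set (G ⧸ ψ.range)) = {((1 : G) : G ⧸ ψ.range)} ∪ O 1 ∪ O 2 ∪ O 5 ∪ O 8 := by
    refine (Set.eq_univ_of_forall fun q => ?_).symm
    obtain ⟨z, rfl⟩ := QuotientGroup.mk_surjective q
    obtain ⟨k, hk, a, b, rfl⟩ := U_eq_univ R htop z
    have e : ((ψ a * x k * ψ b : G) : G ⧸ ψ.range) = a • cos ψ x k := by
      rw [QuotientGroup.mk_mul_of_mem _ (show ψ b ∈ ψ.range from ⟨b, rfl⟩)]
      exact (MulAction.Quotient.smul_mk _ (ψ a) (x k)).symm
    rw [e]
    simp only [List.mem_cons, List.not_mem_nil, or_false] at hk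
    rcases hk with rfl | rfl | rfl | rfl | rfl
    · refine Or.inl (Or.inl (Or.inl (Or.inl ?_)))
      rw [Set.mem_singleton_iff, ← e, R.x0, mul_one]
      exact QuotientGroup.eq.2 (mul_mem (inv_mem (mul_mem ⟨a, rfl⟩ ⟨b, rfl⟩)) (one_mem _))
    · exact Or.inl (Or.inl (Or.inl (Or.inr (MulAction.mem_orbit _ _))))
    · exact Or.inl (Or.inl (Or.inr (MulAction.mem_orbit _ _)))
    · exact Or.inl (Or.inr (MulAction.mem_orbit _ _))
    · exact Or.inr (MulAction.mem_orbit _ _)
  have hfin : (Set.univ : Set (G ⧸ ψ.range)).Finite := by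
    rw [hcov]
    exact ((((Set.finite_singleton _).union (Set.toFinite _)).union (Set.toFinite _)).union
      (Set.toFinite _)).union (Set.toFinite _)
  refine ⟨Set.finite_univ_iff.1 hfin, ?_⟩
  have hbound : (Set.univ : Set (G ⧸ ψ.range)).ncard ≤ 1 + 58653 + 5586 + 52136 + 6384 := by
    rw [hcov]
    refine (Set.ncard_union_le _ _).trans (Nat.add_le_add ((Set.ncard_union_le _ _).trans
      (Nat.add_le_add ((Set.ncard_union_le _ _).trans (Nat.add_le_add ((Set.ncard_union_le _ _).trans
        (Nat.add_le_add (Set.ncard_singleton _).le ?_)) ?_)) ?_)) ?_)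
    all_goals (rw [← Nat.card_coe_set_eq]; assumption)
  rw [Set.ncard_univ] at hbound
  exact hbound

theorem finite_card_le (R : DRules ψ g x dataON) (htop : ψ.range ⊔ Subgroup.closure {g} = ⊤) :
    Finite G ∧ Nat.card G ≤ 460815505920 := by
  obtain ⟨hf, hi⟩ := index_le R htop
  have hH : Finite ψ.range := Finite.of_surjective ψ.rangeRestrict ψ.rangeRestrict_surjective
  have hfin : Finite G := Finite.of_equiv _ (Subgroup.groupEquivQuotientProdSubgroup (s := ψ.range)).symm
  refine ⟨hfin, ?_⟩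
  rw [← Subgroup.index_mul_card ψ.range]
  have hc : Nat.card ψ.range ≤ 3753792 := by
    rw [← card_H0]
    exact Nat.card_le_card_of_surjective ψ.rangeRestrict ψ.rangeRestrict_surjective
  calc ψ.range.index * Nat.card ψ.range ≤ 122760 * 3753792 := Nat.mul_le_mul hi hc
    _ = 460815505920 := by norm_num

end

end Cfsg.Agent.ONan
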