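import Cfsg.Agent.Lib.ONan.RepSylow
import Mathlib.GroupTheory.Perm.Cycle.Type

/-! The order of the presented O'Nan group is 460815505920. -/

set_option autoImplicit false
set_option maxRecDepth 100000

namespace Cfsg.Agent.ONan.Rep

noncomputable section

theorem syl2_ok : groupCheck 2 syl2Mats syl2Words syl2Pow syl2Conj syl2Vec = true := by decide +kernel

theorem syl3_ok : groupCheck 3 syl3Mats syl3Words syl3Pow syl3Conj syl3Vec = true := by decide +kernel

theorem syl7_ok : groupCheck 7 syl7Mats syl7Words syl7Pow syl7Conj syl7Vec = true := by decide +kernel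

theorem ord5_ok : orderCheck 5 word5 mat5 = true := by decide +kernel

theorem ord11_ok : orderCheck 11 word11 mat11 = true := by decide +kernel

theorem ord19_ok : orderCheck 19 word19 mat19 = true := by decide +kernel

theorem ord31_ok : orderCheck 31 word31 mat31 = true := by decide +kernel

theorem dvd_range {K : Subgroup Q45} {n : ℕ} (h : K ≤ rho.range ∧ Nat.card K = n) :
    n ∣ Nat.card rho.range :=
  h.2 ▸ Subgroup.card_dvd_of_le h.1

theorem dvd_of_order {p : ℕ} (h : ∃ z ∈ rho.range, orderOf z = p) : p ∣ Nat.card rho.range := by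
  obtain ⟨z, hz, rfl⟩ := h
  have := orderOf_dvd_natCard (⟨z, hz⟩ : rho.range)
  rwa [Subgroup.orderOf_mk] at this

theorem card_range_dvd : 460815505920 ∣ Nat.card rho.range := by
  have h2 : 2 ^ 9 ∣ Nat.card rho.range := by
    obtain ⟨K, h⟩ := groupCheck_spec syl2_ok
    rw [show syl2Mats.length = 9 from rfl] at h
    exact dvd_range h
  have h3 : 3 ^ 4 ∣ Nat.card rho.range := by
    obtain ⟨K, h⟩ := groupCheck_spec syl3_ok
    rw [show syl3Mats.length = 4 from rfl] at h
    exact dvd_range h
  have h7 : 7 ^ 3 ∣ Nat.card rho.range := by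
    obtain ⟨K, h⟩ := groupCheck_spec syl7_ok
    rw [show syl7Mats.length = 3 from rfl] at h
    exact dvd_range h
  have h5 := dvd_of_order (orderCheck_spec (by norm_num) ord5_ok)
  have h11 := dvd_of_order (orderCheck_spec (by norm_num) ord11_ok)
  have h19 := dvd_of_order (orderCheck_spec (by norm_num) ord19_ok)
  have h31 := dvd_of_order (orderCheck_spec (by norm_num) ord31_ok)
  rw [show 460815505920 = 2 ^ 9 * 3 ^ 4 * 5 * 7 ^ 3 * 11 * 19 * 31 by norm_num]
  exact Nat.Coprime.mul_dvd_of_dvd_of_dvd (by norm_num) (Nat.Coprime.mul_dvd_of_dvd_of_dvd (by norm_num)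
    (Nat.Coprime.mul_dvd_of_dvd_of_dvd (by norm_num) (Nat.Coprime.mul_dvd_of_dvd_of_dvd (by norm_num)
      (Nat.Coprime.mul_dvd_of_dvd_of_dvd (by norm_num) (Nat.Coprime.mul_dvd_of_dvd_of_dvd (by norm_num)
        h2 h3) h5) h7) h11) h19) h31

instance : Finite rho.range := Finite.of_surjective rho.rangeRestrict rho.rangeRestrict_surjective

theorem card_ON : Nat.card Cfsg.Spor.ON = 460815505920 :=
  le_antisymm card_ON_le <| (Nat.le_of_dvd Nat.card_pos card_range_dvd).trans
    (Nat.card_le_card_of_surjective rho.rangeRestrict rho.rangeRestrict_surjective)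

theorem rho_injective : Function.Injective rho := by
  have h : Function.Injective rho.rangeRestrict :=
    ((Nat.bijective_iff_surjective_and_card rho.rangeRestrict).2 ⟨rho.rangeRestrict_surjective,
      le_antisymm (card_ON ▸ Nat.le_of_dvd Nat.card_pos card_range_dvd)
        (Nat.card_le_card_of_surjective rho.rangeRestrict rho.rangeRestrict_surjective)⟩).1
  exact fun a b e => h (Subtype.ext e)

end

end Cfsg.Agent.ONan.Rep
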