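import Cfsg.Agent.Lib.ONan.Lower

/-! The subgroup generated by `a, …, f` has order 3753792 and index 122760. -/

set_option autoImplicit false

namespace Cfsg.Agent.ONan

open Cfsg.Agent.CosetCert
open Cfsg.Spor

noncomputable section

theorem card_range_mul_index :
    psiON.range.index * Nat.card psiON.range = 460815505920 := by
  rw [Subgroup.index_mul_card, Rep.card_ON]

theorem card_range_le : Nat.card psiON.range ≤ 3753792 := by
  rw [← card_H0]
  exact Nat.card_le_card_of_surjective psiON.rangeRestrict psiON.rangeRestrict_surjective

theorem card_psiON_range : Nat.card psiON.range = 3753792 := by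
  refine le_antisymm card_range_le ?_
  by_contra h
  have hle : Nat.card psiON.range ≤ 3753791 := by omega
  have := Nat.mul_le_mul index_psiON_le hle
  rw [card_range_mul_index] at this
  omega

theorem index_psiON : psiON.range.index = 122760 := by
  refine Nat.eq_of_mul_eq_mul_right (show 0 < Nat.card psiON.range from Nat.card_pos) ?_
  rw [card_range_mul_index, card_psiON_range]

theorem psiON_injective : Function.Injective psiON := by
  have h : Function.Bijective psiON.rangeRestrict :=
    (Nat.bijective_iff_surjective_and_card _).2
      ⟨psiON.rangeRestrict_surjective, by rw [card_H0, card_psiON_range]⟩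
  exact fun a b e => h.1 (Subtype.ext e)

theorem map_closure_eq_range :
    (Subgroup.closure ({Cfsg.Spor.ON.a, Cfsg.Spor.ON.b, Cfsg.Spor.ON.c, Cfsg.Spor.ON.d, Cfsg.Spor.ON.e,
      Cfsg.Spor.ON.f} : Set (FreeGroup Cfsg.Spor.ON.Gen))).map (PresentedGroup.mk relON) = psiON.range := by
  rw [range_psiON, MonoidHom.map_closure]
  simp only [Set.image_insert_eq, Set.image_singleton]
  rfl

end

end Cfsg.Agent.ONan
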