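import Mathlib.GroupTheory.Index
import Mathlib.Tactic.Group
import Mathlib.Algebra.Group.Subgroup.Finite

/-!
A group generated by a sequence, each entry normalising the span of the later ones and having its
`p`-th power in it, has at most `p ^ k` elements.
-/

set_option autoImplicit false

namespace Cfsg.Agent.ONan.PC

variable {G : Type*} [Group G]

/-- The span of a list. -/
abbrev span (l : List G) : Subgroup G := Subgroup.closure {z | z ∈ l}

theorem span_cons_le (p : ℕ) (hp : 0 < p) {e : G} {l : List G} (hpow : e ^ p ∈ span l)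
    (hconj : ∀ z ∈ l, e⁻¹ * z * e ∈ span l) (hfin : Finite (span l)) :
    Finite (span (e :: l)) ∧ Nat.card (span (e :: l)) ≤ p * Nat.card (span l) := by
  set K := span l with hK
  have hKe : ∀ z ∈ K, e⁻¹ * z * e ∈ K := by
    intro z hz
    induction hz using Subgroup.closure_induction with
    | mem z hz => exact hconj z hz
    | one => simp
    | mul a b _ _ ha hb =>
      have : e⁻¹ * (a * b) * e = e⁻¹ * a * e * (e⁻¹ * b * e) := by group
      rw [this]; exact mul_mem ha hb
    | inv a _ ha =>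
      have : e⁻¹ * a⁻¹ * e = (e⁻¹ * a * e)⁻¹ := by group
      rw [this]; exact inv_mem ha
  -- the products `e ^ n * z` with `n < p`
  let S : Set G := {w | ∃ n < p, ∃ z ∈ K, w = e ^ n * z}
  have hS1 : (1 : G) ∈ S := ⟨0, hp, 1, one_mem _, by simp⟩
  have hSK : ∀ w ∈ S, ∀ z ∈ K, w * z ∈ S := by
    rintro _ ⟨n, hn, z, hz, rfl⟩ z' hz'
    exact ⟨n, hn, z * z', mul_mem hz hz', by rw [mul_assoc]⟩
  have hSe : ∀ w ∈ S, w * e ∈ S := by
    rintro _ ⟨n, hn, z, hz, rfl⟩
    have h := hKe z hz
    by_cases hn' : n + 1 < p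
    · exact ⟨n + 1, hn', _, h, by rw [pow_succ]; group⟩
    · obtain rfl : n + 1 = p := by omega
      exact ⟨0, hp, e ^ (n + 1) * (e⁻¹ * z * e), mul_mem hpow h, by rw [pow_succ, pow_zero]; group⟩
  have hSpow : ∀ m : ℕ, ∀ w ∈ S, w * e ^ m ∈ S := by
    intro m
    induction m with
    | zero => intro w hw; simpa using hw
    | succ m ih => intro w hw; rw [pow_succ, ← mul_assoc]; exact hSe _ (ih w hw)
  have hSinv : ∀ w ∈ S, w * e⁻¹ ∈ S := by
    intro w hw
    have h := hSK _ (hSpow (p - 1) w hw) _ (inv_mem (hKe _ hpow))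
    have e1 : w * e ^ (p - 1) * (e⁻¹ * e ^ p * e)⁻¹ = w * e⁻¹ := by
      obtain ⟨q, rfl⟩ : ∃ q, p = q + 1 := ⟨p - 1, by omega⟩
      rw [Nat.add_sub_cancel, pow_succ]
      group
    rwa [e1] at h
  have hall : ∀ w ∈ span (e :: l), w ∈ S := by
    intro w hw
    induction hw using Subgroup.closure_induction_right with
    | one => exact hS1
    | mul_right a b _ hb ha =>
      rcases List.mem_cons.1 hb with rfl | hb
      · exact hSe _ ha
      · exact hSK _ ha _ (Subgroup.subset_closure hb)
    | mul_inv_cancel a b _ hb ha =>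
      rcases List.mem_cons.1 hb with rfl | hb
      · exact hSinv _ ha
      · exact hSK _ ha _ (inv_mem (Subgroup.subset_closure hb))
  choose n hn z hz hw using fun w : span (e :: l) => hall w w.2
  let F : span (e :: l) → Fin p × K := fun w => (⟨n w, hn w⟩, ⟨z w, hz w⟩)
  have hF : Function.Injective F := fun a b h => by
    simp only [F, Prod.mk.injEq, Fin.mk.injEq, Subtype.mk.injEq] at h
    exact Subtype.ext (by rw [hw a, hw b, h.1, h.2])
  refine ⟨Finite.of_injective F hF, (Nat.card_le_card_of_injective F hF).trans ?_⟩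
  rw [Nat.card_prod, Nat.card_fin]

/-- The recursive condition on the sequence. -/
def IsPC (p : ℕ) : List G → Prop
  | [] => True
  | e :: l => e ^ p ∈ span l ∧ (∀ z ∈ l, e⁻¹ * z * e ∈ span l) ∧ IsPC p l

theorem card_le_of_isPC {p : ℕ} (hp : 0 < p) : ∀ {l : List G}, IsPC p l →
    Finite (span l) ∧ Nat.card (span l) ≤ p ^ l.length := by
  intro l
  induction l with
  | nil =>
    intro _
    have h : span ([] : List G) = ⊥ := by simp [span]
    rw [h]
    exact ⟨inferInstance, by simp⟩
  | cons e l ih =>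
    rintro ⟨h1, h2, h3⟩
    obtain ⟨hf, hc⟩ := ih h3
    obtain ⟨hf', hc'⟩ := span_cons_le p hp h1 h2 hf
    refine ⟨hf', hc'.trans ?_⟩
    rw [List.length_cons, pow_succ']
    exact Nat.mul_le_mul_left _ hc

end Cfsg.Agent.ONan.PC
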