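import Cfsg.Agent.Lib.ONan.SubON
import Mathlib.GroupTheory.GroupAction.Transitive

/-! The O'Nan group as a permutation group of degree 122760. -/

set_option autoImplicit false

namespace Cfsg.Agent.ONan

noncomputable section

theorem exists_perm_realization : ∃ H : Subgroup (Equiv.Perm (Fin 122760)), Cfsg.IsON H ∧
    MulAction.IsPretransitive H (Fin 122760) ∧
    Nat.card (MulAction.stabilizer H (0 : Fin 122760)) = 3753792 ∧
    (∃ K : Subgroup H, Cfsg.IsJ1 K) ∧ (∃ K : Subgroup H, Cfsg.IsM11 K) := by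
  haveI : IsSimpleGroup Cfsg.Spor.ON := isSimple_ON
  haveI : Finite (Cfsg.Spor.ON ⧸ psiON.range) := Quotient.finite _
  have hn : Nat.card (Cfsg.Spor.ON ⧸ psiON.range) = 122760 := index_psiON
  let e : Cfsg.Spor.ON ⧸ psiON.range ≃ Fin 122760 := Finite.equivFinOfCardEq hn
  let act : Cfsg.Spor.ON →* Equiv.Perm (Fin 122760) :=
    (e.permCongrHom.toMonoidHom).comp (MulAction.toPermHom Cfsg.Spor.ON _)
  have hact : ∀ g q, act g (e q) = e (g • q) := fun g q => by
    simp [act, Equiv.permCongrHom]
  have hinj : Function.Injective act := by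
    rcases act.normal_ker.eq_bot_or_eq_top with h | h
    · exact (act.ker_eq_bot_iff).1 h
    · exfalso
      have hsub : ∀ g : Cfsg.Spor.ON, g ∈ psiON.range := by
        intro g
        have h1 : act g = 1 := MonoidHom.mem_ker.1 (h ▸ Subgroup.mem_top g)
        have h2 := hact g ((1 : Cfsg.Spor.ON) : Cfsg.Spor.ON ⧸ psiON.range)
        rw [h1, Equiv.Perm.one_apply] at h2
        have h3 := e.injective h2
        rw [MulAction.Quotient.smul_mk, smul_eq_mul, mul_one, QuotientGroup.eq] at h3
        simpa using h3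
      have htop : psiON.range = ⊤ := eq_top_iff.2 fun g _ => hsub g
      have := index_psiON
      rw [htop, Subgroup.index_top] at this
      omega
  let E : Cfsg.Spor.ON ≃* act.range := MonoidHom.ofInjective hinj
  have htr : MulAction.IsPretransitive act.range (Fin 122760) := by
    refine ⟨fun p q => ?_⟩
    obtain ⟨g, hg⟩ := MulAction.exists_smul_eq Cfsg.Spor.ON (e.symm p) (e.symm q)
    refine ⟨E g, ?_⟩
    show act g p = q
    have := hact g (e.symm p)
    rwa [Equiv.apply_symm_apply, hg, Equiv.apply_symm_apply] at this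
  refine ⟨act.range, ⟨E.symm.isSimpleGroup, by rw [← Nat.card_congr E.toEquiv, Rep.card_ON]⟩, htr,
    ?_, ?_, ?_⟩
  · haveI := htr
    have h := Nat.card_congr (MulAction.orbitProdStabilizerEquivGroup act.range (0 : Fin 122760))
    rw [Nat.card_prod, MulAction.orbit_eq_univ, Nat.card_congr (Equiv.Set.univ _), Nat.card_fin,
      ← Nat.card_congr E.toEquiv, Rep.card_ON] at h
    exact Nat.eq_of_mul_eq_mul_left (show 0 < 122760 by norm_num) (h.trans (by norm_num))
  · obtain ⟨K, hs, hc⟩ := Sub.exists_J1
    refine ⟨K.map E.toMonoidHom, ?_, ?_⟩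
    · exact (E.subgroupMap K).symm.isSimpleGroup
    · exact ((Nat.card_congr (E.subgroupMap K).toEquiv).symm.trans hc)
  · obtain ⟨K, hs, hc⟩ := Sub.exists_M11
    refine ⟨K.map E.toMonoidHom, ?_, ?_⟩
    · exact (E.subgroupMap K).symm.isSimpleGroup
    · exact ((Nat.card_congr (E.subgroupMap K).toEquiv).symm.trans hc)

end

end Cfsg.Agent.ONan
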