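import Cfsg.Agent.Lib.ONan.Index
import Cfsg.Prelude.Def_Spor_ON

/-!
The presented O'Nan group satisfies the rules: it has at most 460815505920 elements and the subgroup
generated by `a, …, f` has index at most 122760.
-/

set_option autoImplicit false

namespace Cfsg.Agent.ONan

open Cfsg.Agent.CosetCert
open Cfsg.Spor

noncomputable section

/-- The generator with number `x` (`6` is `g`). -/
def gON : ℕ → ON.Gen
  | 0 => .a
  | 1 => .b
  | 2 => .c
  | 3 => .d
  | 4 => .e
  | 5 => .f
  | _ => .g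

/-- The defining relators. -/
abbrev relON : Set (FreeGroup ON.Gen) := coxRelators ON.edges ∪ {r | r ∈ ON.extra}

/-- The generator with number `x` of the presented group, trivial from `7` on. -/
def ofON (x : ℕ) : Cfsg.Spor.ON := if x < 7 then PresentedGroup.of (gON x) else 1

theorem cox_one {x y : ON.Gen} (hx : x ∈ coxNodes ON.edges) (hy : y ∈ coxNodes ON.edges) {n : ℕ}
    (hn : coxLabel ON.edges x y = n) :
    ((PresentedGroup.of x : Cfsg.Spor.ON) * PresentedGroup.of y) ^ n = 1 := by
  have : PresentedGroup.mk relON ((FreeGroup.of x * FreeGroup.of y) ^ n) = 1 :=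
    PresentedGroup.one_of_mem (Or.inl ⟨x, hx, y, hy, by rw [hn]⟩)
  simpa [map_pow, map_mul, PresentedGroup.of] using this

theorem gON_node {x : ℕ} (hx : x < 6) : gON x ∈ coxNodes ON.edges := by
  interval_cases x <;> decide

theorem ofON_sq {x : ℕ} (hx : x < 6) : ofON x * ofON x = 1 := by
  have h := cox_one (gON_node hx) (gON_node hx) (n := 1) (by interval_cases x <;> decide)
  rw [pow_one] at h
  simpa [ofON, show x < 7 by omega] using h

theorem extra_one {r : FreeGroup ON.Gen} (h : r ∈ ON.extra) : PresentedGroup.mk relON r = 1 :=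
  PresentedGroup.one_of_mem (Or.inr h)

/-- A Coxeter relation between generators numbered below `6`. -/
def isCox (w : List ℕ) : Bool :=
  match w with
  | x :: y :: _ => decide (x < 6 ∧ y < 6) && Nat.beq (2 * coxLabel ON.edges (gON x) (gON y)) w.length &&
      wordEq w ((List.replicate (coxLabel ON.edges (gON x) (gON y)) [x, y]).flatten)
  | _ => false

theorem isCox_spec {w : List ℕ} (h : isCox w = true) : wprod ofON w = 1 := by
  match w, h with
  | x :: y :: l, h =>
    simp only [isCox, Bool.and_eq_true, decide_eq_true_eq] at h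
    obtain ⟨⟨⟨hx, hy⟩, -⟩, hw⟩ := h
    rw [eq_of_wordEq hw]
    have key : ∀ n, wprod ofON (List.replicate n [x, y]).flatten = (ofON x * ofON y) ^ n := by
      intro n
      induction n with
      | zero => simp [wprod]
      | succ n ih =>
        rw [List.replicate_succ, List.flatten_cons, wprod_append, ih, pow_succ']
        simp [wprod]
    rw [key]
    simpa [ofON, show x < 7 by omega, show y < 7 by omega] using cox_one (gON_node hx) (gON_node hy) rfl

theorem af_cd : ofON 0 * ofON 5 = (ofON 2 * ofON 3) ^ 4 := by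
  have h := extra_one (show ON.a * ON.f * ((ON.c * ON.d) ^ 4)⁻¹ ∈ ON.extra by simp [ON.extra])
  simpa [map_mul, map_inv, map_pow, mul_inv_eq_one, PresentedGroup.of, ofON, gON] using h

theorem g_sq : ofON 6 * ofON 6 = ofON 0 * ofON 5 := by
  have h := extra_one (show ON.a * ON.f * (ON.g ^ 2)⁻¹ ∈ ON.extra by simp [ON.extra])
  rw [map_mul, map_mul, map_inv, map_pow, mul_inv_eq_one, pow_two] at h
  simpa [ofON, gON, PresentedGroup.of] using h.symm

theorem relH_one : ∀ w ∈ relsH, wprod ofON w = 1 := by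
  have hcases : ∀ w ∈ relsH, isCox w = true ∨ (∃ x ∈ List.range 6, w = [x, x]) ∨
      w = [0, 5] ++ [2, 3, 2, 3, 2, 3, 2, 3].reverse := by decide +kernel
  intro w hw
  rcases hcases w hw with h | ⟨x, hx, rfl⟩ | rfl
  · exact isCox_spec h
  · simpa [wprod] using ofON_sq (List.mem_range.1 hx)
  · rw [wprod_append]
    have h1 : wprod ofON [0, 5] = wprod ofON [2, 3, 2, 3, 2, 3, 2, 3] := by
      simpa [wprod, pow_succ, pow_zero, mul_assoc] using af_cd
    have h2 : wprod ofON [2, 3, 2, 3, 2, 3, 2, 3].reverse =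
        (wprod ofON [2, 3, 2, 3, 2, 3, 2, 3])⁻¹ := by
      have i2 : (ofON 2)⁻¹ = ofON 2 := inv_eq_of_mul_eq_one_right (ofON_sq (by norm_num))
      have i3 : (ofON 3)⁻¹ = ofON 3 := inv_eq_of_mul_eq_one_right (ofON_sq (by norm_num))
      simp [wprod, i2, i3, mul_assoc]
    rw [h2, h1, mul_inv_cancel]

/-- The map of the group of order 3753792. -/
def psiON : H0 →* Cfsg.Spor.ON :=
  PresentedGroup.toGroup (f := fun i : Fin 6 => ofON i) (by
    rintro r ⟨w, hw, rfl⟩
    rw [wprod_map]
    have hlt : ∀ w ∈ relsH, ∀ x ∈ w, x < 6 := by decide +kernel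
    have : wprod (fun x => FreeGroup.lift (fun i : Fin 6 => ofON i) (freeGen x)) w = wprod ofON w := by
      rw [wprod, wprod]
      congr 1
      exact List.map_congr_left fun x hx => by simp [freeGen, hlt w hw x hx]
    rw [this]
    exact relH_one w hw)

theorem psiON_gen {x : ℕ} (hx : x < 6) : psiON (gen0 x) = ofON x := by
  simp [psiON, gen0, hx]

/-- The named elements `x k`. -/
def xON (k : ℕ) : Cfsg.Spor.ON :=
  match defsG.find? (fun d => Nat.beq (fld d 0) k) with
  | some d => ofON 6 * psiON (elS (fld d 2)) * ofON 6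
  | none => if k = 1 then ofON 6 else 1

theorem invON {x : ℕ} (hx : x < 6) : (ofON x)⁻¹ = ofON x := inv_eq_of_mul_eq_one_right (ofON_sq hx)

theorem relG_one : ∀ r ∈ relsG, wprod (letG psiON (ofON 6)) r = 1 := by
  have hg : (ofON 6)⁻¹ = ofON 0 * (ofON 5 * ofON 6) := by
    refine inv_eq_of_mul_eq_one_right ?_
    have h05 : ofON 0 * ofON 5 * (ofON 0 * ofON 5) = 1 := by
      simpa [wprod, mul_assoc] using isCox_spec (w := [0, 5, 0, 5]) (by decide +kernel)
    rw [← g_sq] at h05
    calc ofON 6 * (ofON 0 * (ofON 5 * ofON 6)) = ofON 6 * (ofON 0 * ofON 5) * ofON 6 := by group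
      _ = ofON 6 * ofON 6 * (ofON 6 * ofON 6) := by rw [← g_sq]; group
      _ = 1 := h05
  have hag : ofON 0 * ofON 5 * ((ofON 6)⁻¹ * (ofON 6)⁻¹) = 1 := by
    rw [← g_sq]; group
  have hlt : ∀ r ∈ relsG, ∀ x ∈ r, x ≤ 6 := by decide +kernel
  intro r hr
  have e : wprod (letG psiON (ofON 6)) r = wprod ofON r := by
    rw [wprod, wprod]
    congr 1
    refine List.map_congr_left fun x hx => ?_
    rcases eq_or_lt_of_le (hlt r hr x hx) with rfl | h
    · simp [letG]
    · rw [letG, if_neg (by omega), psiON_gen h]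
  rw [e]
  simp only [relsG, List.mem_cons, List.not_mem_nil, or_false] at hr
  rcases hr with rfl | rfl | rfl | rfl | rfl | rfl
  · simpa [wprod, hg, mul_assoc] using hag
  · have h := extra_one (show ON.c * ((ON.d * ON.g * ON.d * ON.g)⁻¹ * ON.c *
      (ON.d * ON.g * ON.d * ON.g)) ∈ ON.extra by simp [ON.extra])
    simp only [map_mul, map_inv, mul_inv_rev] at h
    change ofON 2 * ((ofON 6)⁻¹ * ((ofON 3)⁻¹ * ((ofON 6)⁻¹ * (ofON 3)⁻¹)) * ofON 2 *
      (ofON 3 * ofON 6 * ofON 3 * ofON 6)) = 1 at h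
    simpa [wprod, hg, invON, mul_assoc] using h
  · have h := extra_one (show ON.d * ((ON.c * ON.g * ON.c * ON.g)⁻¹ * ON.d *
      (ON.c * ON.g * ON.c * ON.g)) ∈ ON.extra by simp [ON.extra])
    simp only [map_mul, map_inv, mul_inv_rev] at h
    change ofON 3 * ((ofON 6)⁻¹ * ((ofON 2)⁻¹ * ((ofON 6)⁻¹ * (ofON 2)⁻¹)) * ofON 3 *
      (ofON 2 * ofON 6 * ofON 2 * ofON 6)) = 1 at h
    simpa [wprod, hg, invON, mul_assoc] using h
  · have h := extra_one (show (ON.b * ON.c * ON.d * ON.g) ^ 5 ∈ ON.extra by simp [ON.extra])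
    simp only [map_mul, map_pow] at h
    change (ofON 1 * ofON 2 * ofON 3 * ofON 6) ^ 5 = 1 at h
    simpa [wprod, pow_succ, pow_zero, mul_assoc] using h
  · have h := extra_one (show ON.g * ON.b * (ON.c⁻¹ * ON.g * ON.c) * (ON.b⁻¹ * ON.g * ON.b) *
      (ON.c⁻¹ * ON.g * ON.c) ∈ ON.extra by simp [ON.extra])
    simp only [map_mul, map_inv] at h
    change ofON 6 * ofON 1 * ((ofON 2)⁻¹ * ofON 6 * ofON 2) * ((ofON 1)⁻¹ * ofON 6 * ofON 1) *
      ((ofON 2)⁻¹ * ofON 6 * ofON 2) = 1 at h
    simpa [wprod, invON, mul_assoc] using h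
  · have h := extra_one (show ON.g * ON.e * (ON.d⁻¹ * ON.g * ON.d) * (ON.e⁻¹ * ON.g * ON.e) *
      (ON.d⁻¹ * ON.g * ON.d) ∈ ON.extra by simp [ON.extra])
    simp only [map_mul, map_inv] at h
    change ofON 6 * ofON 4 * ((ofON 3)⁻¹ * ofON 6 * ofON 3) * ((ofON 4)⁻¹ * ofON 6 * ofON 4) *
      ((ofON 3)⁻¹ * ofON 6 * ofON 3) = 1 at h
    simpa [wprod, invON, mul_assoc] using h

theorem rulesON : DRules psiON (ofON 6) xON dataON where
  x0 := by
    have : defsG.find? (fun d => Nat.beq (fld d 0) 0) = none := by decide +kernel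
    simp [xON, this]
  x1 := by
    have : defsG.find? (fun d => Nat.beq (fld d 0) 1) = none := by decide +kernel
    simp [xON, this]
  gg := by rw [map_mul, psiON_gen (by norm_num), psiON_gen (by norm_num), g_sq]
  rel := relG_one
  def_ := by
    have h : ∀ d ∈ defsG, fld d 1 = 1 ∧ defsG.find? (fun d' => Nat.beq (fld d' 0) (fld d 0)) = some d ∧
        defsG.find? (fun d => Nat.beq (fld d 0) 1) = none := by decide +kernel
    intro d hd
    obtain ⟨h1, h2, h3⟩ := h d hd
    rw [h1]
    simp [xON, h2, h3]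

/-- The subgroup generated by `a, …, f`. -/
theorem range_psiON :
    psiON.range = Subgroup.closure {ofON 0, ofON 1, ofON 2, ofON 3, ofON 4, ofON 5} := by
  rw [MonoidHom.range_eq_map, ← closure_gen0, MonoidHom.map_closure]
  congr 1
  ext z
  simp only [Set.mem_image, Set.mem_ofPred_eq, Set.mem_insert_iff, Set.mem_singleton_iff]
  constructor
  · rintro ⟨_, ⟨x, hx, rfl⟩, rfl⟩
    rw [psiON_gen hx]
    interval_cases x <;> simp
  · rintro (rfl | rfl | rfl | rfl | rfl | rfl) <;>
      exact ⟨_, ⟨_, by norm_num, rfl⟩, psiON_gen (by norm_num)⟩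

theorem psiON_top : psiON.range ⊔ Subgroup.closure {ofON 6} = ⊤ := by
  rw [eq_top_iff, ← PresentedGroup.closure_range_of relON, Subgroup.closure_le]
  rintro _ ⟨i, rfl⟩
  rw [range_psiON]
  cases i
  · exact Subgroup.mem_sup_right (Subgroup.subset_closure (by simp [ofON, gON]))
  all_goals exact Subgroup.mem_sup_left (Subgroup.subset_closure (by simp [ofON, gON]))

theorem index_psiON_le : psiON.range.index ≤ 122760 := (index_le rulesON psiON_top).2

instance : Finite Cfsg.Spor.ON := (finite_card_le rulesON psiON_top).1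

theorem card_ON_le : Nat.card Cfsg.Spor.ON ≤ 460815505920 := (finite_card_le rulesON psiON_top).2

end

end Cfsg.Agent.ONan
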