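import Cfsg.Agent.Lib.Compute.CosetCert

/-! Data of deductions among double cosets in the presented O'Nan group. -/

set_option autoImplicit false
set_option maxRecDepth 100000
set_option maxHeartbeats 2000000

namespace Cfsg.Agent.ONan

open Cfsg.Agent.CosetCert

noncomputable section

/-- their proofs, part 0 -/
def proofTab0 : WTab :=
  (.node (.node (.node (.node (.node (.node (.node (.node (.node (.leaf [0]) (.leaf [5, 63848, 14632])) (.node (.leaf [3, 2047]) (.leaf [6, 97385, 79498]))) (.node (.node (.leaf [5, 2216, 16232]) (.leaf [6, 79017, 58762, 79016])) (.node (.leaf [6, 25898, 47736]) (.leaf [8, 1, 4416766, 5, 3, 10, 923372986, 3, 4, 16392, 925482874, 4, 3, 56248, 933590138, 3, 3, 4])))) (.node (.node (.node (.leaf [5, 5016, 472]) (.leaf [6, 71881, 55210])) (.node (.leaf [3, 2559]) (.leaf [8, 2, 2399422, 4, 0, 8, 4072, 922581706, 1, 2, 16760, 925200522, 2, 1, 2, 0, 5, 5352, 933329386, 2, 1])))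 (.node (.node (.leaf [3, 1535]) (.leaf [6, 87993, 42634])) (.node (.leaf [6, 57193, 20058]) (.leaf []))))) (.node (.node (.node (.node (.leaf [5, 2904, 472]) (.leaf [5, 66504, 14344])) (.node (.leaf [3, 2303]) (.leaf [6, 76170, 102200]))) (.node (.node (.leaf [8, 30, 395808, 4, 9, 2, 20298, 2, 2, 1, 0, 5, 806906, 1, 2, 0, 5, 34096650, 2, 1]) (.leaf [6, 61866, 79016])) (.node (.leaf [3, 3327]) (.leaf [])))) (.node (.node (.node (.leaf [5, 9944, 472]) (.leaf [6, 47994, 76520])) (.node (.leaf [8, 9, 1679684, 5, 3, 3, 3452266, 3, 4, 3, 4, 0, 5, 34123258, 3, 0, 5, 16376, 34385386, 3, 4]) (.leaf [3, 6911]))) (.node (.node (.leaf [3, 1791]) (.leaf [6, 89562, 92056])) (.node (.leaf [6, 42874, 60120]) (.leaf [])))))) (.node (.node (.node (.node (.node (.leaf [5, 2040]) (.leaf [5, 65080, 62664])) (.node (.leaf [8, 43, 197568, 5, 0, 7, 820298, 4, 3, 2072, 33589162, 3, 4, 3, 0, 5, 33588794, 3, 4]) (.leaf [6, 96426, 97384])))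 (.node (.node (.leaf [3, 1151]) (.leaf [6, 76074, 79016])) (.node (.leaf [6, 47737, 30586]) (.leaf [3, 7295])))) (.node (.node (.node (.leaf [5, 7160, 2744]) (.leaf [6, 74409, 49162])) (.node (.leaf [3, 2687]) (.leaf [3, 6783]))) (.node (.node (.leaf [8, 16, 1382984, 4, 3, 7, 805018, 2, 1, 2072, 34360906, 1, 2, 2, 1, 0, 5, 15656, 812858, 2]) (.leaf [6, 92057, 40842])) (.node (.leaf [6, 57193, 50394]) (.leaf []))))) (.node (.node (.node (.node (.leaf [5, 3416, 2744]) (.leaf [5, 69128, 14344])) (.node (.leaf [8, 1, 1128800, 4, 0, 3, 823610, 1, 2, 2, 0, 5, 216, 33589162, 2, 1, 0, 5, 33593018, 1, 2]) (.leaf [3, 6527]))) (.node (.node (.leaf [3, 1407]) (.leaf [6, 60138, 87992])) (.node (.leaf [3, 3455]) (.leaf [])))) (.node (.node (.node (.leaf [5, 14328]) (.leaf [6, 57802, 79016])) (.node (.leaf [6, 44282, 46584]) (.leaf [8, 5, 5765834, 5, 6, 6, 920489370, 4, 3, 56648, 923607962, 3, 4, 3, 0, 5, 16248, 926762986,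 3, 4]))) (.node (.node (.leaf [6, 28586, 28824]) (.leaf [6, 30810, 96248])) (.node (.leaf [5, 62872, 14632]) (.leaf []))))))) (.node (.node (.node (.node (.node (.node (.leaf [7, 1, 131718, 2, 216, 906, 3408890]) (.leaf [5, 64440, 62664])) (.node (.leaf [3, 2111]) (.leaf [6, 81162, 97384]))) (.node (.node (.leaf [6, 16122, 17240]) (.leaf [6, 79017, 59210, 79016])) (.node (.leaf [6, 47737, 29642]) (.leaf [8, 5, 110408, 3, 3, 9, 920216442, 1, 2, 3, 17016, 919168074, 1, 2, 3, 3, 2, 1, 0, 5, 16760, 928103994, 3, 2, 1, 0, 5, 16776, 921268234, 3, 2, 1])))) (.node (.node (.node (.leaf [5, 6200, 136]) (.leaf [6, 74409, 21178])) (.node (.leaf [8, 50, 1333942, 4, 0, 12, 38922, 1, 2, 2104, 41418, 2, 1, 33854762, 1, 2, 33857578, 2]) (.leaf [3, 6719]))) (.node (.node (.leaf [3, 1599]) (.leaf [6, 53898, 87992])) (.node (.leaf [6, 22634, 57192]) (.leaf []))))) (.node (.node (.node (.node (.leaf [5, 3112, 296]) (.leaf [5,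 67464, 62664])) (.node (.leaf [3, 2367]) (.leaf [3, 6463]))) (.node (.node (.leaf [6, 21273, 20554]) (.leaf [6, 76762, 87032])) (.node (.leaf [3, 3391]) (.leaf [])))) (.node (.node (.node (.leaf [5, 13304]) (.leaf [6, 76521, 72410])) (.node (.leaf [6, 45241, 42410]) (.leaf [3, 6975]))) (.node (.node (.leaf [6, 28825, 27226]) (.leaf [6, 54234, 92056])) (.node (.leaf [6, 60121, 55562]) (.leaf [])))))) (.node (.node (.node (.node (.node (.leaf [5, 728, 2744]) (.leaf [5, 65704, 62664])) (.node (.leaf [3, 2239]) (.leaf [6, 97385, 47562, 97384]))) (.node (.node (.leaf [7, 1, 82658, 2, 2056, 805738, 34360314]) (.leaf [6, 79017, 51722])) (.node (.leaf [3, 3263]) (.leaf [])))) (.node (.node (.node (.leaf [5, 8520, 136]) (.leaf [6, 76521, 23338, 76520])) (.node (.leaf [7, 8, 2437026, 1, 3189658, 34384890]) (.leaf [8, 2, 3688452, 3, 3, 10, 6648, 930433114, 1, 2, 3, 16520, 102042, 1, 2, 3, 3, 2, 1, 0, 5, 3304, 894970,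 3, 2, 1, 0, 5, 11736, 929143274, 3, 2, 1]))) (.node (.node (.leaf [8, 23, 330800, 4, 3, 6, 19098, 2, 1, 3173162, 1, 2, 2, 1, 0, 5, 3173130, 2]) (.leaf [6, 92057, 72762])) (.node (.leaf [6, 60121, 39434]) (.leaf []))))) (.node (.node (.node (.node (.leaf [5, 4120, 296]) (.leaf [6, 59818, 71880])) (.node (.leaf [6, 39769, 37274]) (.leaf [8, 2, 5160294, 1, 3, 9, 4072, 927300298, 3, 0, 5, 105450, 3, 2, 3, 5, 0, 2, 0, 5, 891738, 3]))) (.node (.node (.leaf [6, 21434, 23208]) (.leaf [6, 87993, 61098, 87992])) (.node (.leaf [5, 56152, 200]) (.leaf [])))) (.node (.node (.node (.leaf [3, 959]) (.leaf [6, 58666, 79016])) (.node (.leaf [6, 24794, 47736]) (.leaf [8, 1, 2889654, 3, 3, 4, 921013674, 1, 2, 3, 3, 2, 1, 0, 5, 2056, 932283898, 3, 2, 1, 0, 5, 16328, 921790186, 3, 2, 1, 0, 5, 10328, 932290266, 3, 2, 1]))) (.node (.node (.leaf [3, 1983]) (.leaf [6, 94570, 96248])) (.node (.leaf [5, 63304, 62664]) (.leaf []))))))))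 (.node (.node (.node (.node (.node (.node (.node (.leaf [5, 280, 472]) (.leaf [5, 64120, 62664])) (.node (.leaf [8, 23, 461496, 4, 0, 7, 3164618, 1, 2, 14152, 30506, 2, 1, 2, 0, 5, 3177850, 2, 1]) (.leaf [6, 97385, 80266]))) (.node (.node (.leaf [5, 16392, 1992]) (.leaf [6, 79017, 59082, 79016])) (.node (.leaf [6, 47737, 29130]) (.leaf [8, 5, 4664794, 4, 9, 6, 919702986, 2, 56904, 923380938, 1, 2, 2, 1, 0, 5, 919943642, 1, 2])))) (.node (.node (.node (.leaf [5, 5608, 2744]) (.leaf [6, 43258, 73832])) (.node (.leaf [6, 34794, 41368]) (.leaf [8, 5, 7020022, 3, 3, 20, 16376, 922057434, 1, 2, 3, 10984, 3509210, 1, 2, 3, 56104, 919437002, 1, 2, 3, 56328, 922853642, 1, 2, 3, 3, 2, 1]))) (.node (.node (.leaf [3, 1567]) (.leaf [6, 87993, 61594, 87992])) (.node (.leaf [6, 21690, 57192]) (.leaf []))))) (.node (.node (.node (.node (.leaf [5, 3016, 136]) (.leaf [5, 66920, 14152])) (.node (.leaf [8, 17, 263778, 5, 6,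 9, 36794, 4, 3, 37354, 3, 16376, 37370, 4, 3, 4, 3]) (.leaf [3, 6431]))) (.node (.node (.leaf [6, 20921, 18426]) (.leaf [6, 61962, 79016])) (.node (.leaf [8, 4, 349778, 3, 3, 9, 47594, 1, 2, 3, 2328, 34394314, 1, 2, 3, 3, 2, 1, 0, 5, 2344, 34387930, 3, 2, 1, 0, 5, 45274, 3, 2, 1]) (.leaf [])))) (.node (.node (.node (.leaf [5, 11112, 136]) (.leaf [6, 49978, 76520])) (.node (.leaf [6, 45241, 41546]) (.leaf [8, 5, 2320248, 3, 3, 10, 16616, 920484442, 1, 2, 3, 4792, 33665482, 1, 2, 3, 3, 2, 1, 0, 5, 16488, 928074490, 3, 2, 1, 0, 5, 16536, 922827850, 3, 2, 1]))) (.node (.node (.leaf [6, 28825, 26666]) (.leaf [6, 92057, 52218])) (.node (.leaf [6, 60121, 54650]) (.leaf [])))))) (.node (.node (.node (.node (.node (.leaf [5, 2536]) (.leaf [5, 65384, 62664])) (.node (.leaf [8, 1, 1054212, 5, 6, 3, 35194, 4, 3, 4, 3, 0, 5, 3159674, 3, 4, 0, 5, 2216, 33851882, 3]) (.leaf [6, 97385, 89370]))) (.node (.node (.leaf [8,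 1, 1649100, 3, 3, 4, 3163146, 1, 2, 3, 3, 2, 1, 0, 5, 200, 18570, 3, 2, 1, 0, 5, 15672, 33835210, 3, 2, 1, 0, 5, 33834490, 3, 2, 1]) (.leaf [6, 51306, 79016])) (.node (.leaf [6, 47737, 31610]) (.leaf [8, 1, 4192248, 5, 6, 6, 921013722, 4, 3, 56536, 919187818, 3, 4, 3, 0, 5, 56472, 919192362, 3, 4])))) (.node (.node (.node (.leaf [5, 7752, 136]) (.leaf [6, 74409, 72442])) (.node (.leaf [6, 33946, 43448]) (.leaf [8, 5, 2490124, 5, 3, 11, 16648, 920995914, 3, 4, 7224, 921261098, 4, 3, 67064, 927028698, 3, 3, 4]))) (.node (.node (.leaf [3, 1695]) (.leaf [6, 92057, 72250, 92056])) (.node (.leaf [6, 33354, 57192]) (.leaf []))))) (.node (.node (.node (.node (.leaf [5, 3720, 472]) (.leaf [6, 71881, 32250, 71880])) (.node (.leaf [6, 39289, 34202]) (.leaf [3, 6559]))) (.node (.node (.leaf [3, 1439]) (.leaf [6, 60650, 87992])) (.node (.leaf [3, 3487]) (.leaf [])))) (.node (.node (.node (.leaf [8, 1, 2766126, 5, 9, 8,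 3421466, 3, 34354506, 4, 3, 34355706, 3, 4, 3, 4]) (.leaf [6, 79017, 58154, 79016])) (.node (.leaf [6, 46585, 44906]) (.leaf [3, 7071]))) (.node (.node (.leaf [3, 1951]) (.leaf [6, 96249, 94026])) (.node (.leaf [5, 63096, 14632]) (.leaf []))))))) (.node (.node (.node (.node (.node (.node (.leaf [8, 1, 263778, 1, 3, 12, 906, 3, 0, 5, 1208, 938, 3, 2, 3, 216, 1354, 3, 5, 0, 2]) (.leaf [5, 64776, 62664])) (.node (.leaf [3, 2143]) (.leaf [6, 82826, 97384]))) (.node (.node (.leaf [2]) (.leaf [6, 75930, 79016])) (.node (.leaf [6, 47737, 30170, 47736]) (.leaf [8, 5, 2663996, 5, 0, 7, 923886474, 4, 3, 16680, 34451098, 3, 4, 3, 0, 5, 16968, 928859274, 3, 4])))) (.node (.node (.node (.leaf [5, 6648, 2744]) (.leaf [6, 22090, 74408])) (.node (.leaf [6, 39658, 42008]) (.leaf [3, 6751]))) (.node (.node (.leaf [3, 1631]) (.leaf [6, 87993, 73658])) (.node (.leaf [6, 48922, 57192]) (.leaf []))))) (.node (.node (.node (.node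 (.leaf [5, 3208, 2744]) (.leaf [5, 68152, 62664])) (.node (.leaf [8, 42, 1580896, 5, 6, 3, 823562, 4, 3, 4, 3, 0, 5, 823626, 3, 4, 0, 5, 1880, 33591674, 3]) (.leaf [8, 5, 6025896, 4, 9, 10, 920751498, 2, 56664, 922304138, 1, 2, 16776, 932789162, 2, 1, 2, 1]))) (.node (.node (.leaf [8, 30, 790446, 3, 3, 4, 807210, 1, 2, 3, 3, 2, 1, 0, 5, 3429610, 3, 2, 1, 0, 5, 34362650, 3, 2, 1, 0, 5, 806778, 3, 2, 1]) (.leaf [6, 87033, 73498])) (.node (.leaf [3, 3423]) (.leaf [])))) (.node (.node (.node (.leaf [8, 1, 593388, 3, 3, 4, 3148186, 1, 2, 3, 3, 2, 1, 0, 5, 56, 3421402, 3, 2, 1, 0, 5, 2264, 13562, 3, 2, 1, 0, 5, 788890, 3, 2, 1]) (.leaf [6, 79017, 57322, 79016])) (.node (.leaf [6, 14794, 46584]) (.leaf [3, 7007]))) (.node (.node (.leaf [6, 28825, 27802]) (.leaf [6, 95721, 33930])) (.node (.leaf [5, 62696, 14632]) (.leaf [])))))) (.node (.node (.node (.node (.node (.leaf [5, 2808, 264]) (.leaf [5, 66056, 14152]))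 (.node (.leaf [3, 2271]) (.leaf [6, 97385, 94938]))) (.node (.node (.leaf [8, 1, 1333938, 3, 3, 17, 13066, 1, 2, 3, 13690, 1, 2, 3, 3426490, 1, 2, 3, 15752, 3427834, 1, 2, 3, 3, 2, 1]) (.leaf [6, 79017, 73178])) (.node (.leaf [3, 3295]) (.leaf [])))) (.node (.node (.node (.leaf [5, 9160, 136]) (.leaf [6, 58026, 76520])) (.node (.leaf [8, 9, 1597010, 5, 3, 3, 830778, 3, 4, 3, 4, 0, 5, 36968, 33598906, 3, 0, 5, 16376, 34123178, 3, 4]) (.leaf [8, 2, 5157920, 5, 6, 7, 6648, 925976666, 4, 3, 16792, 919694698, 3, 4, 3, 0, 5, 3752, 920231530, 3, 4]))) (.node (.node (.leaf [3, 1759]) (.leaf [6, 92057, 85610])) (.node (.leaf [6, 60121, 45642, 60120]) (.leaf []))))) (.node (.node (.node (.node (.leaf [5, 4600, 472]) (.leaf [6, 59930, 71880])) (.node (.leaf [8, 17, 3095232, 4, 3, 3, 37674, 2, 1, 2, 1, 0, 5, 824730, 2, 0, 5, 824698, 2, 1]) (.leaf [8, 2, 1854410, 5, 0, 8, 4072, 933329610, 4, 3, 16888, 928077418, 3, 4,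 3, 0, 5, 4072, 933067754, 3, 4]))) (.node (.node (.leaf [8, 12, 601294, 4, 6, 5, 23930, 1, 2, 23034, 2, 1, 2, 0, 5, 810458, 2, 1]) (.leaf [6, 87993, 61178])) (.node (.leaf [5, 56696, 200]) (.leaf [])))) (.node (.node (.node (.leaf [3, 991]) (.leaf [6, 48218, 79016])) (.node (.leaf [6, 25338, 47736]) (.leaf [3, 7135]))) (.node (.node (.leaf [8, 8, 634220, 4, 6, 5, 3163066, 1, 2, 32074, 2, 1, 2, 0, 5, 805354, 2, 1]) (.leaf [6, 97385, 46698])) (.node (.leaf [5, 63576, 14152]) (.leaf []))))))))) (.node (.node (.node (.node (.node (.node (.node (.node (.leaf [5, 248]) (.leaf [5, 63976, 14632])) (.node (.leaf [3, 2063]) (.leaf [6, 97385, 77130, 97384]))) (.node (.node (.leaf [5, 16296, 16232]) (.leaf [6, 79017, 48986])) (.node (.leaf [6, 47737, 28874]) (.leaf [3, 7183])))) (.node (.node (.node (.leaf [5, 5288, 2744]) (.leaf [6, 73833, 60634])) (.node (.leaf [8, 48, 82678, 4, 0, 3, 38426, 1, 2, 2, 0, 5, 3184410,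 2, 1, 0, 5, 38650, 1, 2]) (.leaf [8, 2, 4739462, 3, 3, 14, 4072, 919435978, 1, 2, 3, 16376, 33638794, 1, 2, 3, 3245994, 1, 2, 3, 3, 2, 1, 0, 5, 5160, 929921850, 3, 2, 1]))) (.node (.node (.leaf [3, 1551]) (.leaf [6, 87993, 42858])) (.node (.leaf [6, 57193, 20314, 57192]) (.leaf []))))) (.node (.node (.node (.node (.leaf [5, 2952, 2744]) (.leaf [5, 66712, 14344])) (.node (.leaf [8, 50, 790630, 1, 7, 11, 36634, 3, 2, 3, 200, 33589114, 3, 33589178, 2, 0, 5, 5, 0, 3]) (.leaf [6, 102201, 92410]))) (.node (.node (.leaf [8, 30, 660072, 4, 6, 9, 20490, 1, 2, 34096666, 2, 2056, 3423146, 1, 2, 1, 2]) (.leaf [6, 79017, 53770])) (.node (.leaf [8, 29, 1927302, 5, 9, 5, 3457418, 3, 3194618, 4, 3, 3, 4, 0, 5, 19640, 34098570, 4, 3]) (.leaf [])))) (.node (.node (.node (.leaf [5, 10744, 264]) (.leaf [6, 76521, 49338])) (.node (.leaf [6, 34522, 45240]) (.leaf [8, 5, 4529978, 5, 6, 11, 16616, 928086618, 4, 3, 12712, 921542554,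 3, 16408, 928884154, 4, 3, 4, 3]))) (.node (.node (.leaf [6, 28825, 26410]) (.leaf [6, 92057, 90746])) (.node (.leaf [6, 60121, 45130]) (.leaf [])))))) (.node (.node (.node (.node (.node (.leaf [5, 1496, 2248]) (.leaf [5, 65224, 14152])) (.node (.leaf [8, 42, 337512, 5, 9, 6, 820250, 3, 200, 821274, 4, 3, 3, 4, 0, 5, 821050, 4, 3]) (.leaf [6, 97385, 92842]))) (.node (.node (.leaf [8, 1, 354150, 4, 6, 3, 15354, 1, 2, 1, 2, 0, 5, 56, 13626, 2, 1, 0, 5, 33572874, 2]) (.leaf [6, 79017, 51050])) (.node (.leaf [6, 47737, 30714]) (.leaf [3, 7311])))) (.node (.node (.node (.leaf [5, 7416, 472]) (.leaf [6, 74409, 50522])) (.node (.leaf [8, 22, 724774, 4, 0, 9, 40362, 1, 2, 3183610, 2, 1, 827978, 1, 2, 2]) (.leaf [8, 5, 6729550, 3, 3, 20, 16648, 924403786, 1, 2, 3, 264, 932816010, 1, 2, 3, 56152, 926519034, 1, 2, 3, 16664, 922855594, 1, 2, 3, 3, 2, 1]))) (.node (.node (.leaf [8, 12, 1384494, 4, 0, 3, 3166762, 1, 2,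 2, 0, 5, 15336, 34099754, 2, 1, 0, 5, 15336, 3434746, 1, 2]) (.leaf [6, 92057, 71994])) (.node (.leaf [6, 57193, 51658]) (.leaf []))))) (.node (.node (.node (.node (.leaf [5, 3576, 296]) (.leaf [6, 71881, 31850])) (.node (.leaf [6, 39081, 36122]) (.leaf [3, 6543]))) (.node (.node (.leaf [3, 1423]) (.leaf [6, 87993, 60394, 87992])) (.node (.leaf [8, 37, 659576, 4, 0, 3, 3460650, 1, 2, 2, 0, 5, 31336, 3177274, 2, 1, 0, 5, 34105002, 1, 2]) (.leaf [])))) (.node (.node (.node (.leaf [3, 911]) (.leaf [6, 57994, 79016])) (.node (.leaf [6, 46585, 44570]) (.leaf [3, 7055]))) (.node (.node (.leaf [3, 1935]) (.leaf [6, 31066, 96248])) (.node (.leaf [5, 62984, 62664]) (.leaf []))))))) (.node (.node (.node (.node (.node (.node (.leaf [5, 1272]) (.leaf [5, 64600, 14632])) (.node (.leaf [3, 2127]) (.leaf [6, 97385, 82090]))) (.node (.node (.leaf [2]) (.leaf [6, 79017, 75834])) (.node (.leaf [6, 29898, 47736]) (.leaf [8,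 5, 4231410, 3, 3, 4, 925197178, 1, 2, 3, 3, 2, 1, 0, 5, 16936, 926005482, 3, 2, 1, 0, 5, 1896, 919423610, 3, 2, 1, 0, 5, 16888, 931750170, 3, 2, 1])))) (.node (.node (.node (.leaf [5, 6424, 2744]) (.leaf [6, 74409, 23578])) (.node (.leaf [6, 42009, 36618]) (.leaf [3, 6735]))) (.node (.node (.leaf [8, 23, 462504, 3, 3, 18, 21098, 1, 2, 3, 15336, 33578330, 1, 2, 3, 34102010, 1, 2, 3, 2056, 3432874, 1, 2, 3, 3, 2, 1]) (.leaf [6, 87993, 79002])) (.node (.leaf [6, 23930, 57192]) (.leaf []))))) (.node (.node (.node (.node (.leaf [5, 3160, 472]) (.leaf [5, 67784, 14632])) (.node (.leaf [8, 4, 1391566, 1, 3, 8, 37034, 3, 0, 5, 3182138, 3, 2, 3, 5, 0, 2, 0, 5, 2280, 3183050, 3]) (.leaf [3, 6479]))) (.node (.node (.leaf [8, 23, 724932, 4, 0, 3, 3429450, 1, 2, 2, 0, 5, 3164810, 2, 1, 0, 5, 3163562, 1, 2]) (.leaf [6, 81402, 87032])) (.node (.leaf [8, 46, 823556, 4, 0, 4, 52504, 3442170, 1, 2, 2, 0, 5, 52520, 3188714,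 2, 1, 0, 5, 33608586, 1, 2]) (.leaf [])))) (.node (.node (.node (.leaf [6, 13130, 13512]) (.leaf [6, 19386, 79016])) (.node (.leaf [6, 45241, 42810]) (.leaf [3, 6991]))) (.node (.node (.leaf [6, 27530, 28824]) (.leaf [6, 92057, 91594])) (.node (.leaf [5, 14376, 62664]) (.leaf [])))))) (.node (.node (.node (.node (.node (.leaf [5, 2760, 136]) (.leaf [5, 65864, 14344])) (.node (.leaf [3, 2255]) (.leaf [6, 97385, 94842]))) (.node (.node (.leaf [3, 1231]) (.leaf [6, 79017, 72618])) (.node (.leaf [7, 1, 2305136, 2, 2056, 34375178, 34393338]) (.leaf [])))) (.node (.node (.node (.leaf [5, 8936, 472]) (.leaf [6, 76521, 75034])) (.node (.leaf [6, 43066, 44056]) (.leaf [8, 2, 5146354, 5, 6, 7, 6648, 928335962, 4, 3, 16840, 920996570, 3, 4, 3, 0, 5, 6648, 894906, 3, 4]))) (.node (.node (.leaf [3, 1743]) (.leaf [6, 92057, 76394])) (.node (.leaf [6, 60121, 45386, 60120]) (.leaf []))))) (.node (.node (.node (.node (.leaf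 [5, 4360, 472]) (.leaf [6, 71881, 51946])) (.node (.leaf [8, 8, 1185408, 4, 0, 3, 37450, 1, 2, 2, 0, 5, 33594538, 2, 1, 0, 5, 37466, 1, 2]) (.leaf [8, 2, 2376052, 4, 6, 10, 4072, 933591754, 1, 2, 105706, 2, 56600, 922576810, 1, 2, 1, 2]))) (.node (.node (.leaf [6, 23209, 22682]) (.leaf [6, 74122, 87992])) (.node (.leaf [5, 56440, 200]) (.leaf [])))) (.node (.node (.node (.leaf [5, 15608]) (.leaf [6, 79017, 47962])) (.node (.leaf [6, 25050, 47736]) (.leaf [8, 1, 407912, 5, 3, 10, 924159402, 3, 4, 17160, 926767818, 4, 3, 16328, 922304058, 3, 3, 4]))) (.node (.node (.leaf [8, 1, 1712424, 4, 3, 6, 17258, 2, 1, 18906, 1, 2, 2, 1, 0, 5, 2072, 34110490, 2]) (.leaf [6, 13898, 97384])) (.node (.leaf [5, 63432, 14632]) (.leaf [])))))))) (.node (.node (.node (.node (.node (.node (.node (.leaf [5, 472, 648]) (.leaf [5, 64264, 62664])) (.node (.leaf [3, 2095]) (.leaf [6, 80682, 97384]))) (.node (.node (.leaf [5, 16904,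 16232]) (.leaf [6, 49498, 79016])) (.node (.leaf [6, 29386, 47736]) (.leaf [8, 5, 5026078, 3, 3, 4, 924945866, 1, 2, 3, 3, 2, 1, 0, 5, 17080, 3254554, 3, 2, 1, 0, 5, 56744, 931218778, 3, 2, 1, 0, 5, 1880, 919429418, 3, 2, 1])))) (.node (.node (.node (.leaf [5, 5912, 472]) (.leaf [6, 74409, 17882])) (.node (.leaf [6, 41369, 38778]) (.leaf [3, 6703]))) (.node (.node (.leaf [3, 1583]) (.leaf [6, 61722, 87992])) (.node (.leaf [6, 22186, 57192]) (.leaf []))))) (.node (.node (.node (.node (.leaf [5, 3064, 264]) (.leaf [5, 67144, 14344])) (.node (.leaf [3, 2351]) (.leaf [8, 5, 4801438, 4, 9, 10, 919178634, 2, 56664, 922566282, 1, 2, 16328, 927554154, 2, 1, 2, 1]))) (.node (.node (.leaf [7, 12, 1318128, 1, 21066, 34361674]) (.leaf [6, 79017, 55322])) (.node (.leaf [3, 3375]) (.leaf [])))) (.node (.node (.node (.leaf [6, 2602, 13000]) (.leaf [6, 30938, 76520])) (.node (.leaf [6, 45241, 42154]) (.leaf [8, 2, 701240,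 5, 6, 7, 7864, 926251594, 4, 3, 16680, 933074874, 3, 4, 3, 0, 5, 8216, 933342970, 3, 4]))) (.node (.node (.leaf [6, 26954, 28824]) (.leaf [6, 53306, 92056])) (.node (.leaf [6, 55050, 60120]) (.leaf [])))))) (.node (.node (.node (.node (.node (.leaf [5, 312, 2744]) (.leaf [5, 65560, 14344])) (.node (.leaf [8, 48, 1333938, 4, 0, 3, 821754, 1, 2, 2, 0, 5, 821146, 2, 1, 0, 5, 24330, 1, 2]) (.leaf [6, 47290, 97384]))) (.node (.node (.leaf [8, 16, 790276, 4, 0, 7, 3164282, 1, 2, 2056, 33835770, 2, 1, 2, 0, 5, 18586, 2, 1]) (.leaf [6, 51562, 79016])) (.node (.leaf [6, 33146, 47736]) (.leaf [3, 7343])))) (.node (.node (.node (.leaf [5, 8136, 136]) (.leaf [6, 21018, 76520])) (.node (.leaf [8, 22, 1514696, 4, 6, 5, 42922, 1, 2, 828138, 2, 1, 2, 0, 5, 828762, 2, 1]) (.leaf [8, 5, 2162192, 3, 3, 5, 16648, 924141642, 1, 2, 3, 3, 2, 1, 0, 5, 16744, 932264810, 3, 2, 1, 0, 5, 56920, 927573722, 3, 2, 1, 0, 5, 16424, 925994698,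 3, 2, 1]))) (.node (.node (.leaf [8, 23, 592880, 3, 3, 4, 19050, 1, 2, 3, 3, 2, 1, 0, 5, 34103386, 3, 2, 1, 0, 5, 25066, 3, 2, 1, 0, 5, 34106042, 3, 2, 1]) (.leaf [6, 85226, 92056])) (.node (.leaf [6, 60121, 43498]) (.leaf []))))) (.node (.node (.node (.node (.leaf [5, 3848, 2744]) (.leaf [6, 71881, 32554])) (.node (.leaf [8, 5, 857642, 5, 9, 5, 37242, 3, 33592858, 4, 3, 3, 4, 0, 5, 2184, 33589914, 4, 3]) (.leaf [8, 2, 3691440, 3, 3, 10, 4072, 931232458, 1, 2, 3, 16376, 3494074, 1, 2, 3, 3, 2, 1, 0, 5, 8008, 891370, 3, 2, 1, 0, 5, 17048, 925207370, 3, 2, 1]))) (.node (.node (.leaf [6, 19194, 23208]) (.leaf [6, 60906, 87992])) (.node (.leaf [3, 3503]) (.leaf [])))) (.node (.node (.node (.leaf [8, 1, 263778, 5, 3, 8, 906, 3, 4, 1098, 4, 3, 15050, 3, 3, 4]) (.leaf [6, 79017, 58410])) (.node (.leaf [6, 24538, 47736]) (.leaf [3, 7087]))) (.node (.node (.leaf [3, 1967]) (.leaf [6, 96249, 74074])) (.node (.leaf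 [5, 63208, 14344]) (.leaf []))))))) (.node (.node (.node (.node (.node (.node (.leaf [8, 1, 988194, 4, 6, 10, 90, 1, 2, 472, 786842, 2, 216, 1786, 1, 2, 1, 2]) (.leaf [5, 64936, 14344])) (.node (.leaf [8, 1, 594224, 5, 6, 6, 13850, 4, 3, 2072, 33588986, 3, 4, 3, 0, 5, 2104, 33850586, 3, 4]) (.leaf [6, 97385, 84122]))) (.node (.node (.leaf [8, 4, 600936, 5, 3, 3, 13610, 3, 4, 3, 4, 0, 5, 1608, 33568074, 3, 0, 5, 2072, 18154, 3, 4]) (.leaf [6, 76042, 79016])) (.node (.leaf [6, 47737, 30426]) (.leaf [8, 5, 3927450, 3, 3, 14, 923624346, 1, 2, 3, 16680, 922596058, 1, 2, 3, 16408, 921810698, 1, 2, 3, 3, 2, 1, 0, 5, 2024, 921812858, 3, 2, 1])))) (.node (.node (.node (.leaf [5, 6920, 2744]) (.leaf [6, 74409, 48010])) (.node (.leaf [6, 41930, 42008]) (.leaf [3, 6767]))) (.node (.node (.leaf [8, 4, 609522, 3, 3, 14, 800074, 1, 2, 3, 2104, 805738, 1, 2, 3, 19592, 34105082, 1, 2, 3, 3, 2, 1, 0, 5, 2424, 800106, 3, 2,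 1]) (.leaf [6, 87993, 86922])) (.node (.leaf [6, 57193, 49690]) (.leaf []))))) (.node (.node (.node (.node (.leaf [5, 3272, 472]) (.leaf [5, 68632, 14632])) (.node (.leaf [6, 34986, 38520]) (.leaf [8, 5, 232258, 4, 0, 11, 923372938, 1, 2, 56504, 925985242, 2, 1, 56712, 919172474, 1, 2, 2]))) (.node (.node (.leaf [3, 1391]) (.leaf [5, 57001])) (.node (.leaf [8, 42, 3095590, 4, 0, 7, 33869210, 1, 2, 19608, 33573850, 2, 1, 2, 0, 5, 55002, 2, 1]) (.leaf [])))) (.node (.node (.node (.leaf [0]) (.leaf [6, 79017, 77002])) (.node (.leaf [6, 46585, 44154]) (.leaf [3, 7023]))) (.node (.node (.leaf [6, 28825, 28058]) (.leaf [6, 95721, 35690])) (.node (.leaf [5, 62792, 14152]) (.leaf [])))))) (.node (.node (.node (.node (.node (.leaf [5, 2856, 296]) (.leaf [5, 66248, 62664])) (.node (.leaf [3, 2287]) (.leaf [6, 91402, 97384]))) (.node (.node (.leaf [8, 28, 658918, 4, 0, 7, 3427018, 1, 2, 15528, 3165690, 2, 1, 2, 0, 5,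 34360138, 2, 1]) (.leaf [6, 52602, 79016])) (.node (.leaf [3, 3311]) (.leaf [])))) (.node (.node (.node (.leaf [5, 9512, 472]) (.leaf [6, 76521, 58378])) (.node (.leaf [8, 9, 881180, 5, 9, 2, 830810, 3, 3, 4, 0, 5, 831050, 4, 3, 0, 5, 6312, 3190474, 3, 4]) (.leaf [8, 2, 5618810, 3, 3, 15, 6648, 931219546, 1, 2, 3, 16968, 922043290, 1, 2, 3, 16504, 927037258, 1, 2, 3, 3, 2, 1, 0, 5, 7416, 933329674, 3, 2, 1]))) (.node (.node (.leaf [3, 1775]) (.leaf [6, 92057, 73530])) (.node (.leaf [6, 37210, 60120]) (.leaf []))))) (.node (.node (.node (.node (.leaf [5, 4808, 2744]) (.leaf [6, 33642, 71880])) (.node (.leaf [8, 17, 2708336, 5, 9, 9, 824138, 3, 34119066, 4, 3, 2184, 35882, 3, 4, 3, 4]) (.leaf [8, 2, 3190374, 4, 3, 11, 4072, 927038154, 2, 1, 16648, 931487834, 1, 2, 16600, 927561354, 2, 2, 1]))) (.node (.node (.leaf [3, 1519]) (.leaf [6, 61242, 87992])) (.node (.leaf [7, 29, 3287282, 2, 19608, 921484490, 933545786])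 (.leaf [])))) (.node (.node (.node (.leaf [3, 1007]) (.leaf [6, 79017, 77962])) (.node (.leaf [6, 25594, 47736]) (.leaf [3, 7151]))) (.node (.node (.leaf [3, 2031]) (.leaf [6, 97385, 74794])) (.node (.leaf [5, 63704, 14632]) (.leaf []))))))))))

/-- their proofs, part 1 -/
def proofTab1 : WTab :=
  (.node (.node (.node (.node (.node (.node (.node (.node (.node (.leaf [1]) (.leaf [5, 63864, 14152])) (.node (.leaf [8, 1, 1366528, 4, 9, 8, 3429162, 2, 34108234, 1, 2, 34111498, 2, 1, 2, 1]) (.leaf [6, 97385, 79514]))) (.node (.node (.leaf [5, 2232, 16232]) (.leaf [6, 79017, 58778, 79016])) (.node (.leaf [6, 47737, 25914]) (.leaf [8, 1, 4416766, 5, 6, 10, 923372986, 4, 3, 16984, 928880666, 3, 56184, 922072090, 4, 3, 4, 3])))) (.node (.node (.node (.leaf [5, 5032, 296]) (.leaf [6, 55722, 71880])) (.node (.leaf [8, 47, 1318130, 4, 0, 6, 824618, 1, 2, 38250, 2, 1, 2, 0, 5, 824650, 2, 1]) (.leaf [3, 6656]))) (.node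 (.node (.leaf [8, 1, 2568738, 3, 3, 4, 3421530, 1, 2, 3, 3, 2, 1, 0, 5, 200, 33836090, 3, 2, 1, 0, 5, 19480, 806186, 3, 2, 1, 0, 5, 2072, 33578970, 3, 2, 1]) (.leaf [6, 42650, 87992])) (.node (.leaf [6, 57193, 20074]) (.leaf []))))) (.node (.node (.node (.node (.leaf [5, 2904, 2744]) (.leaf [5, 66504, 14632])) (.node (.leaf [8, 9, 263778, 5, 6, 9, 36266, 4, 3, 36858, 3, 8024, 3182602, 4, 3, 4, 3]) (.leaf [6, 102201, 76186]))) (.node (.node (.leaf [3, 1280]) (.leaf [6, 79017, 61882])) (.node (.leaf [8, 5, 1926294, 5, 6, 5, 33601754, 4, 3, 33607658, 3, 4, 3, 0, 5, 16392, 800186, 3, 4]) (.leaf [])))) (.node (.node (.node (.leaf [5, 10008, 2744]) (.leaf [6, 76521, 48106])) (.node (.leaf [3, 2816]) (.leaf [8, 5, 6031206, 5, 0, 12, 16616, 927562330, 4, 3, 9032, 924424682, 3, 4, 16456, 931219002, 4, 3, 3]))) (.node (.node (.leaf [8, 12, 922158, 5, 0, 3, 25114, 4, 3, 3, 0, 5, 15336, 28026, 3, 4, 0, 5, 815002, 4,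 3]) (.leaf [6, 92057, 89578])) (.node (.leaf [6, 60121, 42890]) (.leaf [])))))) (.node (.node (.node (.node (.node (.leaf [5, 56, 2056]) (.leaf [5, 65096, 14152])) (.node (.leaf [2]) (.leaf [6, 97385, 96442]))) (.node (.node (.leaf [8, 1, 1992498, 4, 0, 12, 2056, 15050, 1, 2, 18312, 3160810, 2, 1, 200, 33834714, 1, 2, 2]) (.leaf [6, 79017, 76090])) (.node (.leaf [6, 30602, 47736]) (.leaf [8, 1, 2214706, 5, 9, 7, 56968, 928606666, 3, 200, 923106890, 4, 3, 3, 4, 0, 5, 2072, 925484954, 4, 3])))) (.node (.node (.node (.leaf [5, 7176, 472]) (.leaf [6, 49178, 74408])) (.node (.leaf [8, 46, 139952, 4, 0, 8, 39016, 34298, 1, 2, 56, 24234, 2, 1, 2, 0, 5, 42986, 2, 1]) (.leaf [8, 5, 1062766, 5, 0, 8, 16648, 33638474, 4, 3, 4632, 925985050, 3, 4, 3, 0, 5, 16648, 33916346, 3, 4]))) (.node (.node (.leaf [3, 1664]) (.leaf [6, 40858, 92056])) (.node (.leaf [6, 57193, 50506]) (.leaf []))))) (.node (.node (.node (.node (.leaf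 [5, 3432, 296]) (.leaf [5, 69240, 62664])) (.node (.leaf [3, 2432]) (.leaf [8, 5, 34690, 4, 6, 5, 923897226, 1, 2, 104442, 2, 1, 2, 0, 5, 16472, 929827274, 2, 1]))) (.node (.node (.leaf [8, 1, 378688, 4, 6, 3, 3167546, 1, 2, 1, 2, 0, 5, 806346, 2, 1, 0, 5, 806746, 2]) (.leaf [6, 87993, 60154])) (.node (.leaf [8, 4, 102828, 5, 3, 3, 839098, 3, 4, 3, 4, 0, 5, 1688, 33869690, 3, 0, 5, 17528, 839562, 3, 4]) (.leaf [])))) (.node (.node (.node (.leaf [5, 14152, 14344]) (.leaf [6, 57818, 79016])) (.node (.leaf [6, 44330, 46584]) (.leaf [3, 7040]))) (.node (.node (.leaf [6, 28825, 28602]) (.leaf [6, 96249, 30826])) (.node (.leaf [5, 62872, 62664]) (.leaf []))))))) (.node (.node (.node (.node (.node (.node (.leaf [5, 1032]) (.leaf [5, 64456, 62664])) (.node (.leaf [8, 1, 395316, 5, 0, 6, 13770, 4, 3, 33786, 3, 4, 3, 0, 5, 56, 3421722, 3, 4]) (.leaf [6, 97385, 81178]))) (.node (.node (.leaf [6, 17241, 16138]) (.leaf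 [6, 79017, 78202])) (.node (.leaf [6, 29658, 47736]) (.leaf [3, 7232])))) (.node (.node (.node (.leaf [5, 6200, 264]) (.leaf [6, 74409, 18858])) (.node (.leaf [5, 41993]) (.leaf [8, 5, 6299288, 3, 3, 5, 16376, 96986, 1, 2, 3, 3, 2, 1, 0, 5, 17160, 925473930, 3, 2, 1, 0, 5, 56168, 929928154, 3, 2, 1, 0, 5, 16904, 930980602, 3, 2, 1]))) (.node (.node (.leaf [8, 8, 2766310, 4, 6, 6, 3425306, 1, 2, 200, 3170730, 2, 1, 2, 0, 5, 14360, 3429514, 2, 1]) (.leaf [6, 53914, 87992])) (.node (.leaf [6, 22650, 57192]) (.leaf []))))) (.node (.node (.node (.node (.leaf [5, 3112, 472]) (.leaf [5, 67480, 62664])) (.node (.leaf [8, 2, 997592, 5, 6, 3, 3182730, 4, 3, 4, 3, 0, 5, 8824, 786842, 3, 4, 0, 5, 801402, 3]) (.leaf [8, 5, 849262, 5, 6, 9, 919702922, 4, 3, 103386, 3, 17016, 928091546, 4, 3, 4, 3]))) (.node (.node (.leaf [6, 20570, 21272]) (.leaf [6, 87033, 76778])) (.node (.leaf [8, 17, 1581720, 3, 3, 9, 3460186, 1, 2,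 3, 472, 34393802, 1, 2, 3, 3, 2, 1, 0, 5, 17528, 832330, 3, 2, 1, 0, 5, 33859946, 3, 2, 1]) (.leaf [])))) (.node (.node (.node (.leaf [5, 952, 13320]) (.leaf [6, 72426, 76520])) (.node (.leaf [6, 42426, 45240]) (.leaf [8, 2, 2263098, 5, 9, 7, 7864, 928086602, 3, 2152, 929139402, 4, 3, 3, 4, 0, 5, 4344, 925465418, 4, 3]))) (.node (.node (.leaf [6, 27242, 28824]) (.leaf [6, 92057, 54250])) (.node (.leaf [6, 55578, 60120]) (.leaf [])))))) (.node (.node (.node (.node (.node (.leaf [5, 744, 2744]) (.leaf [5, 65736, 14152])) (.node (.leaf [8, 5, 1333760, 4, 6, 9, 821946, 1, 2, 33851482, 2, 200, 821626, 1, 2, 1, 2]) (.leaf [6, 97385, 47578, 97384]))) (.node (.node (.leaf [5, 19464]) (.leaf [6, 51738, 79016])) (.node (.leaf [8, 5, 346094, 5, 3, 3, 833722, 3, 4, 3, 4, 0, 5, 16264, 3193018, 3, 0, 5, 3460058, 3, 4]) (.leaf [])))) (.node (.node (.node (.leaf [5, 8568, 2744]) (.leaf [6, 23354, 76520])) (.node (.leaf [5,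 44041]) (.leaf [3, 6848]))) (.node (.node (.leaf [3, 1728]) (.leaf [6, 92057, 85354])) (.node (.leaf [6, 39450, 60120]) (.leaf []))))) (.node (.node (.node (.node (.leaf [5, 4120, 472]) (.leaf [6, 71881, 59834])) (.node (.leaf [6, 39769, 38154]) (.leaf [3, 6592]))) (.node (.node (.leaf [6, 21450, 23208]) (.leaf [6, 87993, 61114])) (.node (.leaf [5, 56152, 2056]) (.leaf [])))) (.node (.node (.node (.leaf [8, 1, 609168, 4, 9, 9, 1114, 2, 1048, 3146858, 1, 2, 15354, 2, 1, 2, 1]) (.leaf [6, 58682, 79016])) (.node (.leaf [6, 47737, 24810]) (.leaf [3, 7104]))) (.node (.node (.leaf [2]) (.leaf [6, 96249, 94586])) (.node (.leaf [5, 63320, 62664]) (.leaf [])))))))) (.node (.node (.node (.node (.node (.node (.node (.leaf [5, 296, 472]) (.leaf [5, 64136, 14152])) (.node (.leaf [3, 2080]) (.leaf [6, 80282, 97384]))) (.node (.node (.leaf [5, 16392, 2152]) (.leaf [6, 49258, 79016])) (.node (.leaf [6, 29146, 47736]) (.leaf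 [3, 7200])))) (.node (.node (.node (.leaf [5, 5640, 296]) (.leaf [6, 43722, 73832])) (.node (.leaf [6, 41369, 34810]) (.leaf [3, 6688]))) (.node (.node (.leaf [8, 1, 758856, 4, 3, 3, 807370, 2, 1, 2, 1, 0, 5, 200, 33834426, 2, 0, 5, 3432810, 2, 1]) (.leaf [6, 87993, 74266])) (.node (.leaf [6, 57193, 21738]) (.leaf []))))) (.node (.node (.node (.node (.leaf [5, 3016, 264]) (.leaf [5, 66936, 14152])) (.node (.leaf [3, 2336]) (.leaf [8, 5, 4993480, 5, 9, 6, 3247498, 3, 56792, 927295850, 4, 3, 3, 4, 0, 5, 889322, 4, 3]))) (.node (.node (.leaf [6, 18442, 20920]) (.leaf [6, 79017, 62010])) (.node (.leaf [3, 3360]) (.leaf [])))) (.node (.node (.node (.leaf [5, 11144, 472]) (.leaf [6, 50026, 76520])) (.node (.leaf [6, 45241, 41578]) (.leaf [3, 6944]))) (.node (.node (.leaf [6, 26682, 28824]) (.leaf [6, 52234, 92056])) (.node (.leaf [6, 54698, 60120]) (.leaf [])))))) (.node (.node (.node (.node (.node (.leaf [8, 1,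 988194, 5, 9, 9, 90, 3, 296, 122, 4, 3, 2522, 3, 4, 3, 4]) (.leaf [5, 65400, 62664])) (.node (.leaf [3, 2208]) (.leaf [6, 89386, 97384]))) (.node (.node (.leaf [3, 1184]) (.leaf [6, 79017, 51322])) (.node (.leaf [6, 31626, 47736]) (.leaf [3, 7328])))) (.node (.node (.node (.leaf [5, 7752, 472]) (.leaf [6, 72458, 74408])) (.node (.leaf [6, 43449, 33962]) (.leaf [8, 5, 1953690, 4, 6, 7, 16648, 919423050, 1, 2, 5448, 933067626, 2, 1, 2, 0, 5, 16280, 926248362, 2, 1]))) (.node (.node (.leaf [8, 23, 921984, 3, 3, 13, 21082, 1, 2, 3, 15336, 33838762, 1, 2, 3, 3172522, 1, 2, 3, 3, 2, 1, 0, 5, 33576010, 3, 2, 1]) (.leaf [6, 92057, 72266, 92056])) (.node (.leaf [6, 57193, 33370]) (.leaf []))))) (.node (.node (.node (.node (.leaf [5, 3736, 264]) (.leaf [6, 71881, 32266])) (.node (.leaf [6, 34218, 39288]) (.leaf [8, 2, 2967024, 3, 3, 15, 4072, 929397450, 1, 2, 3, 16376, 932002042, 1, 2, 3, 56344, 929660138, 1, 2, 3,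 3, 2, 1, 0, 5, 2824, 34173898, 3, 2, 1]))) (.node (.node (.leaf [8, 28, 1120232, 4, 0, 6, 22154, 1, 2, 19722, 2, 1, 2, 0, 5, 23018, 2, 1]) (.leaf [6, 87993, 60666])) (.node (.leaf [8, 42, 2041712, 3, 3, 17, 3198538, 1, 2, 3, 3196746, 1, 2, 3, 14376, 33837370, 1, 2, 3, 34101066, 1, 2, 3, 3, 2, 1]) (.leaf [])))) (.node (.node (.node (.leaf [3, 928]) (.leaf [6, 58170, 79016])) (.node (.leaf [6, 46585, 44922, 46584]) (.leaf [8, 5, 2439736, 3, 3, 19, 927829402, 1, 2, 3, 56136, 927301498, 1, 2, 3, 56216, 919178730, 1, 2, 3, 56392, 919957146, 1, 2, 3, 3, 2, 1]))) (.node (.node (.leaf [8, 1, 2577636, 4, 6, 5, 3159322, 1, 2, 33838426, 2, 1, 2, 0, 5, 817658, 2, 1]) (.leaf [6, 94042, 96248])) (.node (.leaf [5, 63096, 62664]) (.leaf []))))))) (.node (.node (.node (.node (.node (.node (.leaf [3, 96]) (.leaf [5, 64792, 14152])) (.node (.leaf [8, 1, 593720, 5, 6, 6, 14010, 4, 3, 2072, 33588698, 3, 4, 3, 0, 5, 216, 33850426,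 3, 4]) (.leaf [6, 82970, 97384]))) (.node (.node (.leaf [3, 1120]) (.leaf [6, 79017, 75946])) (.node (.leaf [6, 30186, 47736]) (.leaf [3, 7264])))) (.node (.node (.node (.leaf [5, 6696, 2744]) (.leaf [6, 74409, 22106])) (.node (.leaf [6, 42009, 39674]) (.leaf [8, 5, 5887702, 4, 3, 8, 16376, 927562458, 2, 1, 6440, 921798666, 1, 2, 2, 1, 0, 5, 16504, 921525626, 2]))) (.node (.node (.leaf [8, 29, 987840, 4, 3, 10, 23354, 2, 1, 15336, 33578410, 1, 2, 2088, 812458, 2, 2, 1]) (.leaf [6, 73674, 87992])) (.node (.leaf [6, 48938, 57192]) (.leaf []))))) (.node (.node (.node (.node (.leaf [5, 3224, 136]) (.leaf [5, 68200, 14344])) (.node (.leaf [3, 2400]) (.leaf [3, 6496]))) (.node (.node (.leaf [3, 1376]) (.leaf [6, 73514, 87032])) (.node (.leaf [8, 42, 3885862, 3, 3, 18, 839066, 1, 2, 3, 19480, 34373322, 1, 2, 3, 3177866, 1, 2, 3, 14392, 808058, 1, 2, 3, 3, 2, 1]) (.leaf [])))) (.node (.node (.node (.leaf [8, 1, 593388,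 4, 9, 10, 3148186, 2, 2184, 3421626, 1, 2, 536, 3146138, 2, 1, 2, 1]) (.leaf [6, 57338, 79016])) (.node (.leaf [6, 46585, 14810]) (.leaf [8, 5, 6282060, 1, 7, 4, 919178650, 3, 2, 3, 5, 0, 3, 0, 5, 16488, 925459962, 5, 0, 2, 0, 5, 56360, 930457130, 3]))) (.node (.node (.leaf [6, 27818, 28824]) (.leaf [6, 95721, 88138])) (.node (.leaf [5, 62712, 14152]) (.leaf [])))))) (.node (.node (.node (.node (.node (.leaf [5, 2808, 296]) (.leaf [5, 66056, 14344])) (.node (.leaf [7, 22, 741222, 1, 3181754, 34377226]) (.leaf [6, 94954, 97384]))) (.node (.node (.leaf [3, 1248]) (.leaf [6, 73194, 79016])) (.node (.leaf [8, 4, 3434102, 4, 9, 7, 1704, 33866154, 2, 19608, 34387130, 1, 2, 2, 1, 0, 5, 2328, 3177466, 1, 2]) (.leaf [])))) (.node (.node (.node (.leaf [5, 9176, 136]) (.leaf [6, 23722, 76520])) (.node (.leaf [3, 2784]) (.leaf [3, 6880]))) (.node (.node (.leaf [8, 33, 395490, 3, 3, 4, 3170138, 1, 2, 3, 3, 2, 1, 0, 5,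 24746, 3, 2, 1, 0, 5, 18344, 26746, 3, 2, 1, 0, 5, 33581338, 3, 2, 1]) (.leaf [6, 85626, 92056])) (.node (.leaf [6, 60121, 45658, 60120]) (.leaf []))))) (.node (.node (.node (.node (.leaf [5, 4616, 296]) (.leaf [6, 71881, 59946])) (.node (.leaf [3, 2528]) (.leaf [3, 6624]))) (.node (.node (.leaf [3, 1504]) (.leaf [6, 61194, 87992])) (.node (.leaf [5, 56712, 2056]) (.leaf [])))) (.node (.node (.node (.leaf [2]) (.leaf [6, 79017, 77914])) (.node (.leaf [6, 47737, 25354]) (.leaf [8, 1, 1012162, 5, 3, 10, 3509690, 3, 4, 16856, 921526602, 4, 3, 2232, 932034426, 3, 3, 4]))) (.node (.node (.leaf [3, 2016]) (.leaf [6, 97385, 46714])) (.node (.leaf [5, 63576, 14344]) (.leaf []))))))))) (.node (.node (.node (.node (.node (.node (.node (.node (.leaf [5, 136, 264]) (.leaf [5, 63992, 14632])) (.node (.leaf [8, 12, 592710, 3, 3, 13, 807466, 1, 2, 3, 15336, 34363802, 1, 2, 3, 3431258, 1, 2, 3, 3, 2, 1, 0, 5, 15336, 34373514,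 3, 2, 1]) (.leaf [6, 97385, 77146]))) (.node (.node (.leaf [5, 16312, 1992]) (.leaf [6, 79017, 49002])) (.node (.leaf [6, 28890, 47736]) (.leaf [8, 1, 7474198, 3, 3, 14, 927829434, 1, 2, 3, 17144, 923645210, 1, 2, 3, 56216, 924688458, 1, 2, 3, 3, 2, 1, 0, 5, 56616, 933085034, 3, 2, 1])))) (.node (.node (.node (.leaf [5, 5320, 296]) (.leaf [6, 73833, 60986])) (.node (.leaf [3, 2576]) (.leaf [3, 6672]))) (.node (.node (.leaf [8, 1, 1342170, 4, 0, 6, 3160858, 1, 2, 3170458, 2, 1, 2, 0, 5, 200, 3161290, 2, 1]) (.leaf [6, 87993, 61450, 87992])) (.node (.leaf [6, 20362, 57192]) (.leaf []))))) (.node (.node (.node (.node (.leaf [5, 2968, 136]) (.leaf [5, 66712, 62664])) (.node (.leaf [3, 2320]) (.leaf [6, 92714, 102200]))) (.node (.node (.leaf [3, 1296]) (.leaf [6, 53786, 79016])) (.node (.leaf [3, 3344]) (.leaf [])))) (.node (.node (.node (.leaf [5, 10760, 472]) (.leaf [6, 26202, 76520])) (.node (.leaf [6, 45241,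 34570]) (.leaf [3, 6928]))) (.node (.node (.leaf [6, 26426, 28824]) (.leaf [6, 90762, 92056])) (.node (.leaf [6, 45146, 60120]) (.leaf [])))))) (.node (.node (.node (.node (.node (.leaf [5, 1512, 2248]) (.leaf [5, 65224, 14344])) (.node (.leaf [3, 2192]) (.leaf [6, 92858, 97384]))) (.node (.node (.leaf [3, 1168]) (.leaf [6, 51066, 79016])) (.node (.leaf [6, 30730, 47736]) (.leaf [8, 1, 4126792, 3, 3, 20, 56952, 920742362, 1, 2, 3, 56504, 928612586, 1, 2, 3, 56504, 927058074, 1, 2, 3, 56264, 923879178, 1, 2, 3, 3, 2, 1])))) (.node (.node (.node (.leaf [5, 7448, 2744]) (.leaf [6, 50538, 74408])) (.node (.leaf [3, 2704]) (.leaf [3, 6800]))) (.node (.node (.leaf [3, 1680]) (.leaf [6, 72010, 92056])) (.node (.leaf [6, 51674, 57192]) (.leaf []))))) (.node (.node (.node (.node (.leaf [5, 3576, 472]) (.leaf [6, 71881, 31866])) (.node (.leaf [6, 36138, 39080]) (.leaf [8, 5, 6879988, 3, 3, 14, 924421514, 1, 2, 3, 56440,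 928880778, 1, 2, 3, 56168, 921540602, 1, 2, 3, 3, 2, 1, 0, 5, 16584, 924942234, 3, 2, 1]))) (.node (.node (.leaf [8, 29, 222264, 4, 9, 5, 3429802, 2, 3430666, 1, 2, 2, 1, 0, 5, 19480, 3427562, 1, 2]) (.leaf [6, 87993, 60410, 87992])) (.node (.leaf [3, 3472]) (.leaf [])))) (.node (.node (.node (.leaf [7, 5, 922340, 2, 2168, 14570, 34355466]) (.leaf [6, 77306, 79016])) (.node (.leaf [6, 46585, 44602]) (.leaf [8, 5, 1693236, 4, 0, 3, 923372954, 1, 2, 2, 0, 5, 16984, 928341050, 2, 1, 0, 5, 16488, 928358746, 1, 2]))) (.node (.node (.leaf [8, 30, 987840, 1, 3, 9, 19946, 3, 0, 5, 15528, 3429962, 3, 2, 3, 5, 0, 2, 0, 5, 33847466, 3]) (.leaf [6, 96249, 31082])) (.node (.leaf [5, 63000, 14344]) (.leaf []))))))) (.node (.node (.node (.node (.node (.node (.leaf [5, 984, 1288]) (.leaf [5, 64600, 62664])) (.node (.leaf [2]) (.leaf [6, 87338, 97384]))) (.node (.node (.leaf [3, 1104]) (.leaf [6, 79017, 78362])) (.node (.leaf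 [6, 47737, 29914]) (.leaf [8, 5, 7256354, 3, 3, 9, 927556474, 1, 2, 3, 16280, 932558170, 1, 2, 3, 3, 2, 1, 0, 5, 1992, 933312426, 3, 2, 1, 0, 5, 56920, 921715626, 3, 2, 1])))) (.node (.node (.node (.leaf [5, 6456, 2744]) (.leaf [6, 23594, 74408])) (.node (.leaf [6, 42009, 36634]) (.leaf [8, 5, 6167000, 4, 3, 8, 16376, 3242714, 2, 1, 11096, 923116570, 1, 2, 2, 1, 0, 5, 17000, 921796746, 2]))) (.node (.node (.leaf [3, 1616]) (.leaf [6, 86554, 87992])) (.node (.leaf [6, 57193, 23034]) (.leaf []))))) (.node (.node (.node (.node (.leaf [5, 3160, 2744]) (.leaf [5, 67800, 14632])) (.node (.leaf [8, 4, 601944, 4, 9, 5, 3182762, 2, 33854058, 1, 2, 2, 1, 0, 5, 2312, 823754, 1, 2]) (.leaf [8, 5, 235668, 4, 3, 10, 920227210, 2, 1, 56888, 926509034, 1, 2, 56984, 928874506, 2, 2, 1]))) (.node (.node (.leaf [3, 1360]) (.leaf [6, 87033, 81418])) (.node (.leaf [3, 3408]) (.leaf [])))) (.node (.node (.node (.leaf [6, 13146,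 13512]) (.leaf [6, 19674, 79016])) (.node (.leaf [6, 45241, 42906]) (.leaf [8, 2, 7475950, 3, 3, 5, 7864, 930970186, 1, 2, 3, 3, 2, 1, 0, 5, 7912, 892522, 3, 2, 1, 0, 5, 56744, 928620234, 3, 2, 1, 0, 5, 7384, 927824810, 3, 2, 1]))) (.node (.node (.leaf [6, 27562, 28824]) (.leaf [6, 91610, 92056])) (.node (.leaf [5, 14392, 62664]) (.leaf [])))))) (.node (.node (.node (.node (.node (.leaf [5, 2760, 264]) (.leaf [5, 65864, 14632])) (.node (.leaf [8, 8, 469732, 4, 0, 10, 822186, 1, 2, 33588250, 2, 1, 2104, 17722, 1, 2, 2]) (.leaf [6, 97385, 94858]))) (.node (.node (.leaf [8, 1, 930570, 4, 0, 7, 18522, 1, 2, 15752, 18634, 2, 1, 2, 0, 5, 216, 33835962, 2, 1]) (.leaf [6, 72634, 79016])) (.node (.leaf [5, 52488]) (.leaf [])))) (.node (.node (.node (.leaf [5, 8952, 296]) (.leaf [6, 76521, 75114])) (.node (.leaf [6, 44057, 43082]) (.leaf [3, 6864]))) (.node (.node (.leaf [8, 12, 1590456, 3, 3, 12, 23450, 1, 2, 3, 34363258,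 1, 2, 3, 3420890, 1, 2, 3, 3, 2, 1, 0, 5, 34367578, 3, 2, 1]) (.leaf [6, 76410, 92056])) (.node (.leaf [6, 60121, 45402, 60120]) (.leaf []))))) (.node (.node (.node (.node (.leaf [5, 4376, 296]) (.leaf [6, 51962, 71880])) (.node (.leaf [3, 2512]) (.leaf [3, 6608]))) (.node (.node (.leaf [6, 22698, 23208]) (.leaf [6, 46890, 87992])) (.node (.leaf [5, 56456, 200]) (.leaf [])))) (.node (.node (.node (.leaf [5, 15528, 15624]) (.leaf [6, 77818, 79016])) (.node (.leaf [6, 47737, 25066]) (.leaf [3, 7120]))) (.node (.node (.leaf [3, 2000]) (.leaf [6, 97385, 13914])) (.node (.leaf [5, 63432, 62664]) (.leaf [])))))))) (.node (.node (.node (.node (.node (.node (.node (.leaf [5, 488, 648]) (.leaf [5, 64280, 62664])) (.node (.leaf [8, 12, 988852, 3, 3, 12, 3429082, 1, 2, 3, 818970, 1, 2, 3, 33586810, 1, 2, 3, 3, 2, 1, 0, 5, 15336, 818938, 3, 2, 1]) (.leaf [6, 80698, 97384]))) (.node (.node (.leaf [5, 16952, 16232]) (.leaf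 [6, 49514, 79016])) (.node (.leaf [6, 47737, 29402]) (.leaf [3, 7216])))) (.node (.node (.node (.leaf [5, 5912, 2744]) (.leaf [6, 74409, 17898])) (.node (.leaf [6, 38794, 41368]) (.leaf [8, 5, 5903654, 4, 3, 11, 16376, 34175706, 2, 1, 5448, 925192346, 1, 2, 16376, 931766842, 2, 2, 1]))) (.node (.node (.leaf [8, 1, 4160018, 4, 0, 7, 56, 3166666, 1, 2, 25258, 2, 1, 2, 0, 5, 2104, 34358714, 2, 1]) (.leaf [6, 87993, 85802])) (.node (.leaf [6, 22266, 57192]) (.leaf []))))) (.node (.node (.node (.node (.leaf [5, 3064, 296]) (.leaf [5, 67160, 14344])) (.node (.leaf [8, 9, 527202, 4, 3, 4, 36968, 33591194, 2, 1, 2, 1, 0, 5, 36968, 823514, 2, 0, 5, 823866, 2, 1]) (.leaf [3, 6448]))) (.node (.node (.leaf [5, 21257]) (.leaf [6, 55338, 79016])) (.node (.leaf [8, 17, 2181488, 4, 6, 8, 838634, 1, 2, 833514, 2, 33608186, 1, 2, 1, 2]) (.leaf [])))) (.node (.node (.node (.leaf [2]) (.leaf [6, 76521, 30954])) (.node (.leaf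 [6, 36906, 45240]) (.leaf [3, 6960]))) (.node (.node (.leaf [6, 28825, 26970]) (.leaf [6, 92057, 53322])) (.node (.leaf [6, 60121, 55066]) (.leaf [])))))) (.node (.node (.node (.node (.node (.leaf [5, 328, 2744]) (.leaf [5, 65560, 62664])) (.node (.leaf [3, 2224]) (.leaf [6, 97385, 47306]))) (.node (.node (.leaf [3, 1200]) (.leaf [6, 79017, 51578])) (.node (.leaf [6, 47737, 33290]) (.leaf [8, 1, 274824, 5, 6, 6, 920489498, 4, 3, 56360, 921029002, 3, 4, 3, 0, 5, 56296, 923901642, 3, 4])))) (.node (.node (.node (.leaf [5, 8136, 472]) (.leaf [6, 76521, 21034, 76520])) (.node (.leaf [3, 2736]) (.leaf [3, 6832]))) (.node (.node (.leaf [3, 1712]) (.leaf [6, 92057, 85242])) (.node (.leaf [6, 43514, 60120]) (.leaf []))))) (.node (.node (.node (.node (.leaf [5, 3880, 296]) (.leaf [6, 71881, 59754])) (.node (.leaf [3, 2480]) (.leaf [3, 6576]))) (.node (.node (.leaf [6, 23209, 19274, 23208]) (.leaf [6, 87993, 60922,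 87992])) (.node (.leaf [7, 22, 82662, 1, 34358634, 34396938]) (.leaf [])))) (.node (.node (.node (.leaf [3, 944]) (.leaf [6, 77594, 79016])) (.node (.leaf [6, 47737, 24554]) (.leaf [8, 1, 3457672, 5, 3, 7, 919178666, 3, 4, 2200, 926235866, 4, 3, 3, 4, 0, 5, 56504, 925200138, 3]))) (.node (.node (.leaf [8, 1, 90552, 3, 3, 13, 3426442, 1, 2, 3, 15736, 33841450, 1, 2, 3, 811354, 1, 2, 3, 3, 2, 1, 0, 5, 2104, 34372090, 3, 2, 1]) (.leaf [6, 74090, 96248])) (.node (.leaf [5, 63208, 14632]) (.leaf []))))))) (.node (.node (.node (.node (.node (.node (.leaf [3, 112]) (.leaf [5, 64936, 62664])) (.node (.leaf [8, 1, 922492, 5, 6, 6, 3159578, 4, 3, 2072, 33588442, 3, 4, 3, 0, 5, 200, 820986, 3, 4]) (.leaf [6, 97385, 84170]))) (.node (.node (.leaf [3, 1136]) (.leaf [6, 79017, 76058])) (.node (.leaf [6, 30442, 47736]) (.leaf [3, 7280])))) (.node (.node (.node (.leaf [5, 6936, 472]) (.leaf [6, 48026, 74408])) (.node (.leaf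 [6, 42009, 41946]) (.leaf [8, 5, 5923808, 3, 3, 5, 16648, 922568778, 1, 2, 3, 3, 2, 1, 0, 5, 16392, 920230362, 3, 2, 1, 0, 5, 4600, 928600218, 3, 2, 1, 0, 5, 17128, 919963114, 3, 2, 1]))) (.node (.node (.leaf [3, 1648]) (.leaf [6, 86938, 87992])) (.node (.leaf [6, 57193, 49706]) (.leaf []))))) (.node (.node (.node (.node (.leaf [5, 3288, 2744]) (.leaf [5, 68648, 62664])) (.node (.leaf [6, 38521, 35018]) (.leaf [3, 6512]))) (.node (.node (.leaf [8, 30, 724762, 4, 0, 7, 808170, 1, 2, 216, 3426490, 2, 1, 2, 0, 5, 3430042, 2, 1]) (.leaf [6, 81626, 87816])) (.node (.leaf [3, 3440]) (.leaf [])))) (.node (.node (.node (.leaf [2]) (.leaf [6, 79017, 57594, 79016])) (.node (.leaf [6, 44170, 46584]) (.leaf [8, 5, 7038940, 4, 3, 10, 919965082, 2, 1, 56280, 921962234, 1, 2, 17000, 924692394, 2, 2, 1]))) (.node (.node (.leaf [6, 28825, 28090]) (.leaf [6, 35930, 95720])) (.node (.leaf [5, 62792, 14344]) (.leaf []))))))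 (.node (.node (.node (.node (.node (.leaf [5, 2856, 472]) (.leaf [5, 66296, 62664])) (.node (.leaf [8, 46, 1382984, 4, 6, 5, 36090, 1, 2, 36602, 2, 1, 2, 0, 5, 3442154, 2, 1]) (.leaf [6, 86794, 97384]))) (.node (.node (.leaf [3, 1264]) (.leaf [6, 79017, 52618])) (.node (.leaf [8, 29, 362220, 4, 0, 8, 19640, 33866170, 1, 2, 1400, 34107514, 2, 1, 2, 0, 5, 34124986, 2, 1]) (.leaf [])))) (.node (.node (.node (.leaf [5, 9560, 136]) (.leaf [6, 76521, 58426])) (.node (.leaf [8, 9, 3045842, 1, 3, 8, 3190106, 3, 0, 5, 3452682, 3, 2, 3, 5, 0, 2, 0, 5, 3190170, 3]) (.leaf [3, 6896]))) (.node (.node (.leaf [8, 33, 593208, 5, 0, 7, 24650, 4, 3, 24184, 33843450, 3, 4, 3, 0, 5, 3170618, 3, 4]) (.leaf [6, 73546, 92056])) (.node (.leaf [6, 60121, 46090]) (.leaf []))))) (.node (.node (.node (.node (.leaf [5, 4840, 296]) (.leaf [6, 33658, 71880])) (.node (.leaf [3, 2544]) (.leaf [3, 6640]))) (.node (.node (.leaf [8, 1, 1408176,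 5, 0, 7, 3422666, 4, 3, 14904, 3160554, 3, 4, 3, 0, 5, 3432202, 3, 4]) (.leaf [6, 87993, 61258])) (.node (.leaf [7, 1, 7218176, 2, 56600, 927234138, 933529050]) (.leaf [])))) (.node (.node (.node (.leaf [8, 4, 1407672, 4, 9, 6, 3159370, 2, 2056, 802330, 1, 2, 2, 1, 0, 5, 1480, 14058, 1, 2]) (.leaf [6, 79017, 48490, 79016])) (.node (.leaf [6, 47737, 25610]) (.leaf [8, 1, 604544, 4, 0, 7, 919965114, 1, 2, 16328, 921542154, 2, 1, 2, 0, 5, 56616, 922586554, 2, 1]))) (.node (.node (.leaf [8, 1, 116610, 4, 0, 3, 34096586, 1, 2, 2, 0, 5, 2056, 34096586, 2, 1, 0, 5, 33586922, 1, 2]) (.leaf [6, 76698, 97384])) (.node (.leaf [5, 63704, 62664]) (.leaf []))))))))))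

/-- their proofs, part 2 -/
def proofTab2 : WTab :=
  (.node (.node (.node (.node (.node (.node (.node (.node (.node (.leaf [8, 1, 0, 0, 7, 12, 26, 0, 6, 5, 6, 0, 6, 5, 6, 7, 0, 5]) (.leaf [5, 63864, 14344])) (.node (.leaf [3, 2049]) (.leaf [6, 79530, 97384]))) (.node (.node (.leaf [5, 16232, 1992]) (.leaf [6, 79017, 58794, 79016])) (.node (.leaf [6, 47737, 25930]) (.leaf [3, 7169])))) (.node (.node (.node (.leaf [5, 5048, 2744]) (.leaf [6, 71881, 55802])) (.node (.leaf [3, 2561]) (.leaf [8, 2, 1871902, 4, 3, 8, 4072, 922319562, 2, 1, 16872, 928355530, 1, 2, 2, 1, 0, 5, 8712, 920746058, 2]))) (.node (.node (.leaf [3, 1537]) (.leaf [6, 87993, 61370, 87992])) (.node (.leaf [6, 20090, 57192]) (.leaf []))))) (.node (.node (.node (.node (.leaf [5, 2920, 136]) (.leaf [5, 66520, 62664])) (.node (.leaf [3, 2305]) (.leaf [6, 102201, 100522]))) (.node (.node (.leaf [8, 30, 659570, 1, 7, 6, 806730, 3, 2, 3, 3166218,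 3, 5, 0, 3, 0, 5, 33574922, 5, 0, 2]) (.leaf [6, 53450, 79016])) (.node (.leaf [3, 3329]) (.leaf [])))) (.node (.node (.node (.leaf [5, 10024, 136]) (.leaf [6, 48122, 76520])) (.node (.leaf [8, 17, 3427052, 5, 6, 9, 830202, 4, 3, 41770, 3, 1896, 826042, 4, 3, 4, 3]) (.leaf [8, 5, 6031206, 5, 3, 8, 16616, 927562330, 3, 4, 6104, 924426010, 4, 3, 3, 4, 0, 5, 16696, 922564154, 3]))) (.node (.node (.leaf [3, 1793]) (.leaf [6, 89642, 92056])) (.node (.leaf [6, 60121, 46362]) (.leaf [])))))) (.node (.node (.node (.node (.node (.leaf [5, 200, 2056]) (.leaf [5, 65112, 14152])) (.node (.leaf [3, 2177]) (.leaf [6, 97385, 96554]))) (.node (.node (.leaf [3, 1153]) (.leaf [6, 50810, 79016])) (.node (.leaf [6, 28346, 47736]) (.leaf [3, 7297])))) (.node (.node (.node (.leaf [5, 7208, 2744]) (.leaf [6, 74409, 49994])) (.node (.leaf [3, 2689]) (.leaf [8, 5, 5469382, 1, 3, 13, 16648, 924665930, 3, 0, 5, 264, 932029530, 3, 2,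 3, 17032, 929139290, 3, 5, 0, 2]))) (.node (.node (.leaf [8, 16, 592880, 4, 6, 5, 3426458, 1, 2, 3172042, 2, 1, 2, 0, 5, 15816, 33574394, 2, 1]) (.leaf [6, 40554, 92056])) (.node (.leaf [6, 51146, 57192]) (.leaf []))))) (.node (.node (.node (.node (.leaf [5, 3432, 472]) (.leaf [5, 69272, 62664])) (.node (.leaf [8, 1, 1128800, 4, 6, 9, 823610, 1, 2, 38922, 2, 2056, 33588746, 1, 2, 1, 2]) (.leaf [3, 6529]))) (.node (.node (.leaf [3, 1409]) (.leaf [6, 87993, 60170])) (.node (.leaf [3, 3457]) (.leaf [])))) (.node (.node (.node (.leaf [5, 14344, 14344]) (.leaf [6, 79017, 57834])) (.node (.leaf [6, 46585, 44346]) (.leaf [8, 5, 5765834, 5, 9, 10, 920489370, 3, 56568, 924155258, 4, 3, 6408, 922857306, 3, 4, 3, 4]))) (.node (.node (.leaf [6, 28618, 28824]) (.leaf [6, 96249, 84874])) (.node (.leaf [5, 62888, 62664]) (.leaf []))))))) (.node (.node (.node (.node (.node (.node (.leaf [5, 984, 1048]) (.leaf [5, 64472,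 14152])) (.node (.leaf [3, 2113]) (.leaf [6, 81194, 97384]))) (.node (.node (.leaf [6, 17241, 16154]) (.leaf [6, 78218, 79016])) (.node (.leaf [6, 29674, 47736]) (.leaf [8, 5, 110408, 4, 3, 3, 920216442, 2, 1, 2, 1, 0, 5, 16696, 928622314, 2, 0, 5, 56760, 920235722, 2, 1])))) (.node (.node (.node (.leaf [5, 6200, 472]) (.leaf [6, 18874, 74408])) (.node (.leaf [6, 35146, 42008]) (.leaf [3, 6721]))) (.node (.node (.leaf [3, 1601]) (.leaf [6, 87993, 53930])) (.node (.leaf [6, 57193, 22666]) (.leaf []))))) (.node (.node (.node (.node (.leaf [5, 3112, 2744]) (.leaf [5, 67496, 14344])) (.node (.leaf [3, 2369]) (.leaf [3, 6465]))) (.node (.node (.leaf [6, 20586, 21272]) (.leaf [6, 19818, 87032])) (.node (.leaf [3, 3393]) (.leaf [])))) (.node (.node (.node (.leaf [5, 1304, 13320]) (.leaf [6, 72538, 76520])) (.node (.leaf [6, 44250, 45240]) (.leaf [3, 6977]))) (.node (.node (.leaf [6, 28825, 27258]) (.leaf [6, 54266,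 92056])) (.node (.leaf [6, 60121, 55594]) (.leaf [])))))) (.node (.node (.node (.node (.node (.leaf [5, 760, 2744]) (.leaf [5, 65736, 14344])) (.node (.leaf [3, 2241]) (.leaf [6, 47610, 97384]))) (.node (.node (.leaf [5, 19480, 19480]) (.leaf [6, 79017, 51754])) (.node (.leaf [3, 3265]) (.leaf [])))) (.node (.node (.node (.leaf [5, 8584, 136]) (.leaf [6, 76521, 23370])) (.node (.leaf [6, 44057, 24266]) (.leaf [8, 2, 3688452, 4, 9, 7, 6648, 930433114, 2, 16520, 932283082, 1, 2, 2, 1, 0, 5, 6648, 33662970, 1, 2]))) (.node (.node (.leaf [8, 1, 296692, 4, 0, 3, 809658, 1, 2, 2, 0, 5, 3165722, 2, 1, 0, 5, 3173098, 1, 2]) (.leaf [6, 85370, 92056])) (.node (.leaf [6, 60121, 34234]) (.leaf []))))) (.node (.node (.node (.node (.leaf [5, 4136, 296]) (.leaf [6, 32858, 71880])) (.node (.leaf [8, 31, 1843976, 4, 0, 9, 39946, 1, 2, 33851338, 2, 1, 825178, 1, 2, 2]) (.leaf [8, 2, 5160294, 1, 7, 7, 4072, 927300298, 3, 2,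 3, 3251082, 3, 5, 0, 3, 0, 5, 12536, 930970602, 5, 0, 2]))) (.node (.node (.leaf [6, 23209, 21466]) (.leaf [6, 61130, 87992])) (.node (.leaf [5, 56232, 56104]) (.leaf [])))) (.node (.node (.node (.leaf [3, 961]) (.leaf [6, 79017, 58698])) (.node (.leaf [6, 24826, 47736]) (.leaf [8, 1, 2889654, 4, 6, 6, 921013674, 1, 2, 17000, 928605818, 2, 1, 2, 0, 5, 56632, 925990474, 2, 1]))) (.node (.node (.leaf [3, 1985]) (.leaf [6, 96249, 86250])) (.node (.leaf [5, 63336, 14344]) (.leaf [])))))))) (.node (.node (.node (.node (.node (.node (.node (.leaf [5, 312, 472]) (.leaf [5, 64136, 14344])) (.node (.leaf [8, 8, 115264, 4, 0, 6, 3164634, 1, 2, 34104618, 2, 1, 2, 0, 5, 14376, 34372698, 2, 1]) (.leaf [6, 97385, 80298]))) (.node (.node (.leaf [5, 16392, 16232]) (.leaf [6, 79017, 49274])) (.node (.leaf [6, 29162, 47736]) (.leaf [8, 5, 4664794, 5, 6, 6, 919702986, 4, 3, 2088, 932551098, 3, 4, 3, 0, 5, 1992, 930987770, 3,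 4])))) (.node (.node (.node (.leaf [5, 5640, 472]) (.leaf [6, 73833, 43738])) (.node (.leaf [6, 41369, 34826]) (.leaf [8, 5, 7020022, 4, 3, 8, 16376, 922057434, 2, 1, 12472, 3240906, 1, 2, 2, 1, 0, 5, 16376, 925715098, 2]))) (.node (.node (.leaf [3, 1569]) (.leaf [6, 74282, 87992])) (.node (.leaf [6, 21754, 57192]) (.leaf []))))) (.node (.node (.node (.node (.leaf [5, 3016, 296]) (.leaf [5, 66936, 14344])) (.node (.leaf [8, 47, 75098, 5, 6, 3, 36810, 4, 3, 4, 3, 0, 5, 823786, 3, 4, 0, 5, 16264, 37370, 3]) (.leaf [8, 5, 4272830, 4, 0, 7, 3509642, 1, 2, 56200, 929660666, 2, 1, 2, 0, 5, 933051258, 2, 1]))) (.node (.node (.leaf [6, 20921, 18698, 20920]) (.leaf [6, 62026, 79016])) (.node (.leaf [8, 17, 4704336, 3, 3, 4, 3190730, 1, 2, 3, 3, 2, 1, 0, 5, 33868794, 3, 2, 1, 0, 5, 2280, 833594, 3, 2, 1, 0, 5, 1496, 832458, 3, 2, 1]) (.leaf [])))) (.node (.node (.node (.leaf [5, 11176, 136]) (.leaf [6, 76521, 50042]))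 (.node (.leaf [6, 41594, 45240]) (.leaf [8, 5, 6605982, 3, 3, 10, 16616, 931494490, 1, 2, 3, 9784, 933075706, 1, 2, 3, 3, 2, 1, 0, 5, 17144, 920214538, 3, 2, 1, 0, 5, 17000, 925992682, 3, 2, 1]))) (.node (.node (.leaf [6, 28825, 26698]) (.leaf [6, 52250, 92056])) (.node (.leaf [6, 60121, 54714]) (.leaf [])))))) (.node (.node (.node (.node (.node (.leaf [3, 161]) (.leaf [5, 65416, 14152])) (.node (.leaf [8, 45, 922336, 4, 0, 3, 35274, 1, 2, 2, 0, 5, 34112810, 2, 1, 0, 5, 2072, 14794, 1, 2]) (.leaf [6, 97385, 89498]))) (.node (.node (.leaf [8, 15, 1518, 4, 0, 7, 3426298, 1, 2, 1400, 3164602, 2, 1, 2, 0, 5, 34097434, 2, 1]) (.leaf [6, 79017, 78474])) (.node (.leaf [6, 47737, 31642]) (.leaf [8, 1, 4192248, 5, 9, 6, 921013722, 3, 56536, 922598650, 4, 3, 3, 4, 0, 5, 56488, 919445546, 4, 3])))) (.node (.node (.node (.leaf [5, 7768, 2744]) (.leaf [6, 72570, 74408])) (.node (.leaf [6, 43449, 33978]) (.leaf [3, 6817])))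 (.node (.node (.leaf [3, 1697]) (.leaf [6, 92057, 72282])) (.node (.leaf [6, 33386, 57192]) (.leaf []))))) (.node (.node (.node (.node (.leaf [5, 3736, 296]) (.leaf [6, 32282, 71880])) (.node (.leaf [6, 39289, 34394]) (.leaf [3, 6561]))) (.node (.node (.leaf [3, 1441]) (.leaf [6, 87993, 60682, 87992])) (.node (.leaf [8, 42, 1589292, 4, 3, 9, 3198554, 2, 1, 3458618, 1, 2, 19656, 33838282, 2, 2, 1]) (.leaf [])))) (.node (.node (.node (.leaf [7, 1, 1186086, 2, 2072, 14794, 34355738]) (.leaf [6, 79017, 58186])) (.node (.leaf [6, 45066, 46584]) (.leaf [3, 7073]))) (.node (.node (.leaf [3, 1953]) (.leaf [6, 96249, 73850])) (.node (.leaf [5, 63112, 14344]) (.leaf []))))))) (.node (.node (.node (.node (.node (.node (.leaf [7, 1, 460998, 2, 216, 1354, 3409434]) (.leaf [5, 64792, 14344])) (.node (.leaf [3, 2145]) (.leaf [6, 97385, 82986]))) (.node (.node (.leaf [8, 4, 2765952, 4, 0, 6, 3158778, 1, 2, 17930, 2, 1, 2,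 0, 5, 1528, 3158778, 2, 1]) (.leaf [6, 75962, 79016])) (.node (.leaf [6, 47737, 30202]) (.leaf [8, 5, 3343118, 3, 3, 4, 928342922, 1, 2, 3, 3, 2, 1, 0, 5, 16968, 927818986, 3, 2, 1, 0, 5, 17160, 933346634, 3, 2, 1, 0, 5, 56152, 922579946, 3, 2, 1])))) (.node (.node (.node (.leaf [5, 6712, 2744]) (.leaf [6, 22234, 74408])) (.node (.leaf [6, 42009, 39690]) (.leaf [3, 6753]))) (.node (.node (.leaf [3, 1633]) (.leaf [6, 87993, 86618])) (.node (.leaf [6, 57193, 48954]) (.leaf []))))) (.node (.node (.node (.node (.leaf [5, 3224, 264]) (.leaf [5, 68264, 62664])) (.node (.leaf [8, 50, 358, 5, 6, 9, 37146, 4, 3, 37194, 3, 2232, 33591674, 4, 3, 4, 3]) (.leaf [8, 5, 6025896, 5, 9, 5, 920751498, 3, 34181930, 4, 3, 3, 4, 0, 5, 2216, 928616938, 4, 3]))) (.node (.node (.leaf [8, 30, 66534, 4, 3, 3, 3428650, 2, 1, 2, 1, 0, 5, 806490, 2, 0, 5, 2056, 20042, 2, 1]) (.leaf [6, 62442, 87032])) (.node (.leaf [3, 3425]) (.leaf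 [])))) (.node (.node (.node (.leaf [8, 1, 198588, 4, 3, 7, 2490, 2, 1, 1992, 3159530, 1, 2, 2, 1, 0, 5, 3421658, 2]) (.leaf [6, 79017, 57354])) (.node (.leaf [6, 46585, 14826]) (.leaf [3, 7009]))) (.node (.node (.leaf [6, 27834, 28824]) (.leaf [6, 88154, 95720])) (.node (.leaf [5, 62712, 14344]) (.leaf [])))))) (.node (.node (.node (.node (.node (.leaf [5, 2808, 472]) (.leaf [5, 66072, 14344])) (.node (.leaf [5, 36376]) (.leaf [6, 97385, 94970]))) (.node (.node (.leaf [8, 8, 82674, 3, 3, 9, 17274, 1, 2, 3, 200, 34098106, 1, 2, 3, 3, 2, 1, 0, 5, 14392, 17354, 3, 2, 1, 0, 5, 3427786, 3, 2, 1]) (.leaf [6, 73210, 79016])) (.node (.leaf [3, 3297]) (.leaf [])))) (.node (.node (.node (.leaf [5, 9176, 264]) (.leaf [6, 76521, 23738])) (.node (.leaf [8, 29, 205976, 4, 3, 6, 829594, 2, 1, 33856842, 1, 2, 2, 1, 0, 5, 19656, 44506, 2]) (.leaf [8, 2, 5036858, 3, 3, 20, 6648, 925714522, 1, 2, 3, 16808, 920743306, 1, 2,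 3, 56424, 928356698, 1, 2, 3, 16392, 922828746, 1, 2, 3, 3, 2, 1]))) (.node (.node (.leaf [8, 33, 724924, 5, 0, 7, 810874, 4, 3, 24184, 33843498, 3, 4, 3, 0, 5, 24810, 3, 4]) (.leaf [6, 92057, 85642])) (.node (.leaf [6, 60121, 45674, 60120]) (.leaf []))))) (.node (.node (.node (.node (.leaf [5, 4616, 472]) (.leaf [6, 59962, 71880])) (.node (.leaf [8, 22, 724418, 5, 0, 3, 824122, 4, 3, 3, 0, 5, 34119066, 3, 4, 0, 5, 1992, 3159530, 4, 3]) (.leaf [8, 2, 1854410, 5, 6, 7, 4072, 933329610, 4, 3, 16888, 928077418, 3, 4, 3, 0, 5, 12264, 925465098, 3, 4]))) (.node (.node (.leaf [8, 12, 1789200, 5, 3, 7, 810378, 3, 4, 216, 33840650, 4, 3, 3, 4, 0, 5, 33840666, 3]) (.leaf [6, 87993, 37530])) (.node (.leaf [5, 56744, 56104]) (.leaf [])))) (.node (.node (.node (.leaf [3, 993]) (.leaf [6, 77930, 79016])) (.node (.leaf [6, 47737, 25370]) (.leaf [3, 7137]))) (.node (.node (.leaf [8, 8, 477812, 4, 6, 5, 3425210, 1, 2, 32042,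 2, 1, 2, 0, 5, 33586266, 2, 1]) (.leaf [6, 46730, 97384])) (.node (.leaf [5, 63576, 14632]) (.leaf []))))))))) (.node (.node (.node (.node (.node (.node (.node (.node (.leaf [5, 232]) (.leaf [5, 63992, 62664])) (.node (.leaf [3, 2065]) (.leaf [6, 77162, 97384]))) (.node (.node (.leaf [5, 16312, 2152]) (.leaf [6, 49018, 79016])) (.node (.leaf [6, 47737, 28906]) (.leaf [3, 7185])))) (.node (.node (.node (.leaf [5, 5320, 472]) (.leaf [6, 61002, 73832])) (.node (.leaf [8, 5, 140116, 5, 3, 3, 825322, 3, 4, 3, 4, 0, 5, 2168, 33857210, 3, 0, 5, 17528, 33591978, 3, 4]) (.leaf [8, 2, 3937598, 3, 3, 5, 4072, 920746698, 1, 2, 3, 3, 2, 1, 0, 5, 792, 933578842, 3, 2, 1, 0, 5, 16408, 79146, 3, 2, 1, 0, 5, 56696, 927820522, 3, 2, 1]))) (.node (.node (.leaf [3, 1553]) (.leaf [6, 87993, 61466, 87992])) (.node (.leaf [6, 57193, 20378]) (.leaf []))))) (.node (.node (.node (.node (.leaf [5, 2968, 264]) (.leaf [5, 66728, 62664]))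 (.node (.leaf [8, 1, 420510, 5, 3, 3, 36650, 3, 4, 3, 4, 0, 5, 2104, 3421754, 3, 0, 5, 1880, 800362, 3, 4]) (.leaf [6, 102201, 92730]))) (.node (.node (.leaf [8, 26, 988196, 4, 3, 3, 20506, 2, 1, 2, 1, 0, 5, 807034, 2, 0, 5, 34099434, 2, 1]) (.leaf [6, 79017, 54010])) (.node (.leaf [8, 29, 2437024, 5, 0, 6, 33603978, 4, 3, 33607930, 3, 4, 3, 0, 5, 33867418, 3, 4]) (.leaf [])))) (.node (.node (.node (.leaf [5, 10792, 136]) (.leaf [6, 76521, 26218])) (.node (.leaf [6, 34586, 45240]) (.leaf [8, 5, 851910, 5, 3, 8, 16616, 921533018, 3, 4, 10280, 919697930, 4, 3, 3, 4, 0, 5, 16616, 929928826, 3]))) (.node (.node (.leaf [6, 26442, 28824]) (.leaf [6, 92057, 44938])) (.node (.leaf [6, 60121, 52634]) (.leaf [])))))) (.node (.node (.node (.node (.node (.leaf [5, 1592, 2248]) (.leaf [5, 65240, 14344])) (.node (.leaf [8, 42, 16806, 5, 9, 6, 3179546, 3, 200, 3442714, 4, 3, 3, 4, 0, 5, 34375098, 4, 3]) (.leaf [6, 92970,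 97384]))) (.node (.node (.leaf [8, 1, 288294, 4, 0, 6, 33831930, 1, 2, 33835274, 2, 1, 2, 0, 5, 2088, 804282, 2, 1]) (.leaf [6, 51082, 79016])) (.node (.leaf [6, 47737, 30746]) (.leaf [3, 7313])))) (.node (.node (.node (.leaf [5, 7480, 136]) (.leaf [6, 74409, 50778])) (.node (.leaf [8, 47, 990530, 4, 6, 5, 826858, 1, 2, 34121386, 2, 1, 2, 0, 5, 41466, 2, 1]) (.leaf [8, 5, 6729550, 4, 0, 8, 16648, 924403786, 1, 2, 4840, 928084938, 2, 1, 2, 0, 5, 34187322, 2, 1]))) (.node (.node (.leaf [8, 12, 329456, 3, 3, 4, 21050, 1, 2, 3, 3, 2, 1, 0, 5, 33841786, 3, 2, 1, 0, 5, 3170474, 3, 2, 1, 0, 5, 18376, 34367610, 3, 2, 1]) (.leaf [6, 76202, 92056])) (.node (.leaf [6, 30874, 57192]) (.leaf []))))) (.node (.node (.node (.node (.leaf [5, 3576, 2744]) (.leaf [6, 31882, 71880])) (.node (.leaf [6, 36442, 39080]) (.leaf [3, 6545]))) (.node (.node (.leaf [3, 1425]) (.leaf [6, 87993, 60426])) (.node (.leaf [8, 29, 1523940,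 1, 3, 4, 52794, 3, 0, 5, 5, 0, 2, 0, 5, 836458, 3, 0, 5, 33602986, 3, 2, 3]) (.leaf [])))) (.node (.node (.node (.leaf [5, 14616]) (.leaf [6, 79017, 77322])) (.node (.leaf [6, 46585, 44618]) (.leaf [3, 7057]))) (.node (.node (.leaf [3, 1937]) (.leaf [6, 78666, 96248])) (.node (.leaf [5, 63000, 14632]) (.leaf []))))))) (.node (.node (.node (.node (.node (.node (.leaf [5, 1064, 1288]) (.leaf [5, 64616, 62664])) (.node (.leaf [3, 2129]) (.leaf [6, 97385, 87354]))) (.node (.node (.leaf [8, 1, 593388, 5, 9, 9, 3148186, 3, 1992, 3410378, 4, 3, 17674, 3, 4, 3, 4]) (.leaf [6, 78378, 79016])) (.node (.leaf [6, 29930, 47736]) (.leaf [3, 7249])))) (.node (.node (.node (.leaf [5, 6488, 136]) (.leaf [6, 57690, 74408])) (.node (.leaf [6, 36650, 42008]) (.leaf [3, 6737]))) (.node (.node (.leaf [8, 12, 922492, 3, 3, 4, 3429034, 1, 2, 3, 3, 2, 1, 0, 5, 15336, 33578330, 3, 2, 1, 0, 5, 34101962, 3, 2, 1, 0, 5, 2056, 811386,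 3, 2, 1]) (.leaf [6, 87993, 86570])) (.node (.leaf [6, 23050, 57192]) (.leaf []))))) (.node (.node (.node (.node (.leaf [5, 3176, 136]) (.leaf [5, 67816, 62664])) (.node (.leaf [3, 2385]) (.leaf [3, 6481]))) (.node (.node (.leaf [8, 23, 132228, 3, 3, 4, 34359962, 1, 2, 3, 3, 2, 1, 0, 5, 34100234, 3, 2, 1, 0, 5, 19592, 34100426, 3, 2, 1, 0, 5, 33575818, 3, 2, 1]) (.leaf [6, 87033, 78010])) (.node (.leaf [8, 8, 880824, 4, 6, 9, 3460426, 1, 2, 3176, 33869178, 2, 33608122, 1, 2, 1, 2]) (.leaf [])))) (.node (.node (.node (.leaf [6, 13513, 13162]) (.leaf [6, 79017, 19690])) (.node (.leaf [6, 42922, 45240]) (.leaf [3, 6993]))) (.node (.node (.leaf [6, 28825, 27578]) (.leaf [6, 91658, 92056])) (.node (.leaf [5, 14632, 62664]) (.leaf [])))))) (.node (.node (.node (.node (.node (.leaf [5, 2760, 296]) (.leaf [5, 65864, 62664])) (.node (.leaf [3, 2257]) (.leaf [6, 94874, 97384]))) (.node (.node (.leaf [3, 1233]) (.leaf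 [6, 72650, 79016])) (.node (.leaf [5, 39016, 52504]) (.leaf [])))) (.node (.node (.node (.leaf [5, 8984, 136]) (.leaf [6, 75130, 76520])) (.node (.leaf [6, 43130, 44056]) (.leaf [8, 2, 5146354, 5, 9, 7, 6648, 928335962, 3, 16520, 34180506, 4, 3, 3, 4, 0, 5, 6648, 894938, 4, 3]))) (.node (.node (.leaf [3, 1745]) (.leaf [6, 92057, 73050])) (.node (.leaf [6, 60121, 45418, 60120]) (.leaf []))))) (.node (.node (.node (.node (.leaf [5, 4376, 2744]) (.leaf [6, 71881, 51978])) (.node (.leaf [8, 8, 1852554, 4, 0, 6, 823882, 1, 2, 33856666, 2, 1, 2, 0, 5, 33856682, 2, 1]) (.leaf [8, 2, 2376052, 5, 0, 4, 4072, 933591754, 4, 3, 3, 0, 5, 4072, 933592042, 3, 4, 0, 5, 16440, 920480682, 4, 3]))) (.node (.node (.leaf [6, 22714, 23208]) (.leaf [6, 87993, 46906])) (.node (.leaf [5, 56488, 56104]) (.leaf [])))) (.node (.node (.node (.leaf [5, 15624, 15624]) (.leaf [6, 79017, 77834])) (.node (.leaf [6, 47737, 25082]) (.leaf [8,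 1, 7339274, 3, 3, 4, 924421546, 1, 2, 3, 3, 2, 1, 0, 5, 56296, 925996362, 3, 2, 1, 0, 5, 56, 922066314, 3, 2, 1, 0, 5, 16456, 33649066, 3, 2, 1]))) (.node (.node (.leaf [8, 1, 1712424, 4, 9, 6, 17258, 2, 14376, 3425210, 1, 2, 2, 1, 0, 5, 2072, 34110490, 1, 2]) (.leaf [6, 97385, 13962])) (.node (.leaf [5, 63448, 62664]) (.leaf [])))))))) (.node (.node (.node (.node (.node (.node (.node (.leaf [5, 504, 648]) (.leaf [5, 64296, 14632])) (.node (.leaf [3, 2097]) (.leaf [6, 97385, 80714]))) (.node (.node (.leaf [8, 5, 1383328, 5, 3, 7, 3159626, 3, 4, 2360, 33570538, 4, 3, 3, 4, 0, 5, 16552, 13754, 3]) (.leaf [6, 79017, 49530])) (.node (.leaf [6, 29418, 47736]) (.leaf [8, 5, 3295190, 3, 3, 4, 928353738, 1, 2, 3, 3, 2, 1, 0, 5, 17032, 926517706, 3, 2, 1, 0, 5, 56360, 922315242, 3, 2, 1, 0, 5, 56408, 931761850, 3, 2, 1])))) (.node (.node (.node (.leaf [5, 5928, 472]) (.leaf [6, 17914, 74408])) (.node (.leaf [6, 41369,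 35322]) (.leaf [3, 6705]))) (.node (.node (.leaf [3, 1585]) (.leaf [6, 85818, 87992])) (.node (.leaf [6, 57193, 22282]) (.leaf []))))) (.node (.node (.node (.node (.leaf [5, 3064, 472]) (.leaf [5, 67192, 62664])) (.node (.leaf [3, 2353]) (.leaf [8, 5, 4529034, 1, 3, 4, 919440778, 3, 0, 5, 5, 0, 2, 0, 5, 889594, 3, 0, 5, 56840, 928612970, 3, 2, 3]))) (.node (.node (.leaf [6, 17930, 21272]) (.leaf [6, 79017, 74394])) (.node (.leaf [3, 3377]) (.leaf [])))) (.node (.node (.node (.leaf [3, 817]) (.leaf [6, 30970, 76520])) (.node (.leaf [6, 37082, 45240]) (.leaf [8, 2, 638100, 4, 0, 8, 7864, 921270858, 1, 2, 16376, 922326650, 2, 1, 2, 0, 5, 7912, 932805434, 2, 1]))) (.node (.node (.leaf [6, 28825, 26986]) (.leaf [6, 92057, 91066])) (.node (.leaf [6, 60121, 55082]) (.leaf [])))))) (.node (.node (.node (.node (.node (.leaf [5, 344, 2744]) (.leaf [5, 65576, 14344])) (.node (.leaf [8, 5, 1646402, 5, 3, 3, 3443242,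 3, 4, 3, 4, 0, 5, 2184, 3159482, 3, 0, 5, 3422298, 3, 4]) (.leaf [6, 47322, 97384]))) (.node (.node (.leaf [7, 1, 5139468, 2, 2088, 805546, 34360090]) (.leaf [6, 79017, 78570])) (.node (.leaf [6, 33306, 47736]) (.leaf [3, 7345])))) (.node (.node (.node (.leaf [5, 8152, 2744]) (.leaf [6, 76521, 21050, 76520])) (.node (.leaf [8, 42, 2453138, 4, 3, 6, 829386, 2, 1, 33597066, 1, 2, 2, 1, 0, 5, 33860282, 2]) (.leaf [8, 5, 1608388, 3, 3, 5, 16648, 923355210, 1, 2, 3, 3, 2, 1, 0, 5, 16712, 923097850, 3, 2, 1, 0, 5, 56296, 919969130, 3, 2, 1, 0, 5, 64664, 924948858, 3, 2, 1]))) (.node (.node (.leaf [8, 23, 461000, 4, 0, 3, 805482, 1, 2, 2, 0, 5, 808986, 2, 1, 0, 5, 3434442, 1, 2]) (.leaf [6, 92057, 78890])) (.node (.leaf [6, 43530, 60120]) (.leaf []))))) (.node (.node (.node (.node (.leaf [5, 3880, 472]) (.leaf [6, 59770, 71880])) (.node (.leaf [8, 5, 1128140, 4, 9, 9, 823674, 2, 38586, 1, 2, 2072, 33578666, 2, 1,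 2, 1]) (.leaf [8, 2, 5017332, 4, 3, 8, 4072, 929135306, 2, 1, 16472, 920740026, 1, 2, 2, 1, 0, 5, 33659498, 2]))) (.node (.node (.leaf [6, 23209, 19290, 23208]) (.leaf [6, 87993, 60938, 87992])) (.node (.leaf [5, 56088]) (.leaf [])))) (.node (.node (.node (.leaf [8, 1, 741234, 1, 7, 12, 1082, 3, 2, 3, 1048, 3408970, 3, 2072, 3160778, 2, 0, 5, 5, 0, 3]) (.leaf [6, 79017, 77610])) (.node (.leaf [6, 47737, 24570]) (.leaf [3, 7089]))) (.node (.node (.leaf [3, 1969]) (.leaf [6, 89338, 96248])) (.node (.leaf [5, 63208, 62664]) (.leaf []))))))) (.node (.node (.node (.node (.node (.node (.leaf [8, 1, 988194, 4, 9, 10, 90, 2, 472, 122, 1, 2, 56, 1818, 2, 1, 2, 1]) (.leaf [5, 64952, 14344])) (.node (.leaf [3, 2161]) (.leaf [6, 84186, 97384]))) (.node (.node (.leaf [8, 4, 2305314, 5, 3, 3, 3421546, 3, 4, 3, 4, 0, 5, 3421562, 3, 0, 5, 34358922, 3, 4]) (.leaf [6, 79017, 50554, 79016])) (.node (.leaf [6, 47737, 30458])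 (.leaf [8, 5, 3927450, 4, 6, 10, 923624346, 1, 2, 16536, 927315994, 2, 200, 925448330, 1, 2, 1, 2])))) (.node (.node (.node (.leaf [5, 6936, 2744]) (.leaf [6, 48042, 74408])) (.node (.leaf [6, 42009, 41962]) (.leaf [3, 6769]))) (.node (.node (.leaf [8, 1, 1712424, 3, 3, 14, 17258, 1, 2, 3, 14392, 34096154, 1, 2, 3, 2104, 3434266, 1, 2, 3, 3, 2, 1, 0, 5, 2072, 33835194, 3, 2, 1]) (.leaf [6, 87993, 62538])) (.node (.leaf [6, 49722, 57192]) (.leaf []))))) (.node (.node (.node (.node (.leaf [5, 3320, 296]) (.leaf [5, 68664, 62664])) (.node (.leaf [6, 35034, 38520]) (.leaf [8, 5, 232258, 5, 3, 3, 923372938, 3, 4, 3, 4, 0, 5, 16424, 924677994, 3, 0, 5, 1896, 880154, 3, 4]))) (.node (.node (.leaf [3, 1393]) (.leaf [6, 87817, 81642])) (.node (.leaf [8, 29, 2634590, 3, 3, 4, 52650, 1, 2, 3, 3, 2, 1, 0, 5, 19608, 3456474, 3, 2, 1, 0, 5, 3197530, 3, 2, 1, 0, 5, 3440058, 3, 2, 1]) (.leaf [])))) (.node (.node (.node (.leaf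 [7, 1, 263780, 2, 2072, 3159834, 34354970]) (.leaf [6, 79017, 57610, 79016])) (.node (.leaf [6, 46585, 44186]) (.leaf [3, 7025]))) (.node (.node (.leaf [6, 28106, 28824]) (.leaf [6, 95721, 35946])) (.node (.leaf [5, 62792, 14632]) (.leaf [])))))) (.node (.node (.node (.node (.node (.leaf [5, 2856, 2744]) (.leaf [5, 66328, 14152])) (.node (.leaf [3, 2289]) (.leaf [6, 97385, 86810]))) (.node (.node (.leaf [8, 16, 1341830, 4, 9, 5, 3164890, 2, 34097994, 1, 2, 2, 1, 0, 5, 15752, 3165690, 1, 2]) (.leaf [6, 61738, 79016])) (.node (.leaf [3, 3313]) (.leaf [])))) (.node (.node (.node (.leaf [5, 9560, 296]) (.leaf [6, 58442, 76520])) (.node (.leaf [3, 2801]) (.leaf [8, 2, 5618810, 4, 0, 8, 6648, 931219546, 1, 2, 16552, 925461930, 2, 1, 2, 0, 5, 11896, 919445098, 2, 1]))) (.node (.node (.leaf [3, 1777]) (.leaf [6, 73562, 92056])) (.node (.leaf [6, 46106, 60120]) (.leaf []))))) (.node (.node (.node (.node (.leaf [5,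 4840, 472]) (.leaf [6, 71881, 33674])) (.node (.leaf [8, 47, 1121064, 5, 0, 3, 824234, 4, 3, 3, 0, 5, 3183866, 3, 4, 0, 5, 2216, 3147498, 4, 3]) (.leaf [8, 2, 3190374, 4, 6, 7, 4072, 927038154, 1, 2, 16968, 930452250, 2, 1, 2, 0, 5, 12744, 932551434, 2, 1]))) (.node (.node (.leaf [3, 1521]) (.leaf [6, 87993, 61274, 87992])) (.node (.leaf [7, 1, 4919072, 2, 56632, 923566234, 933549114]) (.leaf [])))) (.node (.node (.node (.leaf [3, 1009]) (.leaf [6, 79017, 48506, 79016])) (.node (.leaf [6, 47737, 25626]) (.leaf [3, 7153]))) (.node (.node (.leaf [3, 2033]) (.leaf [6, 97385, 76714])) (.node (.leaf [5, 63720, 62664]) (.leaf []))))))))))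

/-- their proofs, part 3 -/
def proofTab3 : WTab :=
  (.node (.node (.node (.node (.node (.node (.node (.node (.node (.leaf [5, 40]) (.leaf [5, 63864, 14632])) (.node (.leaf [8, 1, 1424478, 4, 3, 6, 34100010, 2, 1, 21498, 1, 2, 2, 1, 0, 5, 33587242, 2]) (.leaf [6, 97385, 79546]))) (.node (.node (.leaf [5, 16232, 2152]) (.leaf [6, 79017, 58810, 79016])) (.node (.leaf [6, 25946, 47736]) (.leaf [8, 1, 4556126, 5, 0, 7, 923897274, 4, 3, 16600, 889770, 3, 4, 3, 0, 5, 56616, 928087850, 3, 4])))) (.node (.node (.node (.leaf [5, 5080, 296]) (.leaf [6, 55818, 71880])) (.node (.leaf [8, 47, 923496, 4, 0, 6, 33854762, 1, 2, 33857578, 2, 1, 2, 0, 5, 33854794, 2, 1]) (.leaf [3, 6658]))) (.node (.node (.leaf [8, 4, 2107392, 4, 6, 5, 3159418, 1, 2, 20986, 2, 1, 2, 0, 5, 1608, 3432474, 2, 1]) (.leaf [6, 87993, 41018])) (.node (.leaf [6, 57193, 20106]) (.leaf []))))) (.node (.node (.node (.node (.leaf [5, 2920, 264]) (.leaf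 [5, 66536, 14344])) (.node (.leaf [8, 22, 922336, 1, 7, 11, 36314, 3, 2, 3, 472, 36330, 3, 33853354, 2, 0, 5, 5, 0, 3]) (.leaf [6, 100538, 102200]))) (.node (.node (.leaf [3, 1282]) (.leaf [6, 79017, 53466])) (.node (.leaf [8, 4, 3437232, 5, 0, 7, 3455210, 4, 3, 2008, 3454698, 3, 4, 3, 0, 5, 3198842, 3, 4]) (.leaf [])))) (.node (.node (.node (.leaf [5, 10040, 136]) (.leaf [6, 76521, 48138])) (.node (.leaf [3, 2818]) (.leaf [3, 6914]))) (.node (.node (.leaf [8, 33, 922488, 5, 0, 7, 25194, 4, 3, 22920, 33844010, 3, 4, 3, 0, 5, 3433706, 3, 4]) (.leaf [6, 92057, 89658])) (.node (.leaf [6, 46378, 60120]) (.leaf [])))))) (.node (.node (.node (.node (.node (.leaf [5, 216, 2056]) (.leaf [5, 65112, 14344])) (.node (.leaf [8, 1, 1317804, 5, 6, 5, 3159498, 4, 3, 34074, 3, 4, 3, 0, 5, 2072, 33851418, 3, 4]) (.leaf [6, 96570, 97384]))) (.node (.node (.leaf [7, 1, 1909840, 1, 15482, 34359338]) (.leaf [6, 79017, 50826]))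 (.node (.leaf [6, 47737, 28362]) (.leaf [8, 1, 3686060, 3, 3, 15, 56968, 922315210, 1, 2, 3, 56856, 927579482, 1, 2, 3, 16600, 927036746, 1, 2, 3, 3, 2, 1, 0, 5, 2104, 925745530, 3, 2, 1])))) (.node (.node (.node (.leaf [5, 7240, 136]) (.leaf [6, 50010, 74408])) (.node (.leaf [8, 1, 1910508, 4, 9, 6, 34314, 2, 39000, 42986, 1, 2, 2, 1, 0, 5, 216, 826218, 1, 2]) (.leaf [3, 6786]))) (.node (.node (.leaf [3, 1666]) (.leaf [6, 92057, 40570])) (.node (.leaf [6, 57193, 51162]) (.leaf []))))) (.node (.node (.node (.node (.leaf [5, 3448, 2744]) (.leaf [5, 69336, 14344])) (.node (.leaf [3, 2434]) (.leaf [8, 5, 34690, 4, 9, 10, 923897226, 2, 56120, 933072410, 1, 2, 216, 925990938, 2, 1, 2, 1]))) (.node (.node (.leaf [8, 16, 263438, 4, 6, 3, 21866, 1, 2, 1, 2, 0, 5, 15624, 34359514, 2, 1, 0, 5, 808890, 2]) (.leaf [6, 60186, 87992])) (.node (.leaf [8, 4, 854742, 4, 3, 3, 3198394, 2, 1, 2, 1, 0, 5, 1592, 33863498, 2,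 0, 5, 3443898, 2, 1]) (.leaf [])))) (.node (.node (.node (.leaf [5, 14360, 14344]) (.leaf [6, 79017, 77210])) (.node (.leaf [6, 44362, 46584]) (.leaf [3, 7042]))) (.node (.node (.leaf [6, 28825, 28730]) (.leaf [6, 84890, 96248])) (.node (.leaf [5, 62904, 14344]) (.leaf []))))))) (.node (.node (.node (.node (.node (.node (.leaf [8, 1, 0, 5, 0, 8, 26, 4, 6, 3, 6, 7, 3, 4, 3, 0, 5, 56, 906, 3, 4]) (.leaf [5, 64472, 14344])) (.node (.leaf [2]) (.leaf [6, 97385, 81306]))) (.node (.node (.leaf [6, 16170, 17240]) (.leaf [6, 79017, 49802])) (.node (.leaf [6, 47737, 29690]) (.leaf [3, 7234])))) (.node (.node (.node (.leaf [5, 6200, 2744]) (.leaf [6, 74409, 18890])) (.node (.leaf [6, 42009, 35162]) (.leaf [8, 5, 6299288, 5, 0, 8, 16376, 96986, 4, 3, 6328, 927549482, 3, 4, 3, 0, 5, 17128, 922829146, 3, 4]))) (.node (.node (.leaf [8, 8, 156408, 4, 0, 3, 17450, 1, 2, 2, 0, 5, 14376, 33571930, 2, 1, 0, 5, 33578970, 1,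 2]) (.leaf [6, 54154, 87992])) (.node (.leaf [6, 23818, 57192]) (.leaf []))))) (.node (.node (.node (.node (.leaf [5, 3128, 136]) (.leaf [5, 67512, 14344])) (.node (.leaf [8, 2, 997592, 5, 9, 5, 3182730, 3, 37594, 4, 3, 3, 4, 0, 5, 536, 3146138, 4, 3]) (.leaf [8, 5, 849262, 5, 9, 2, 919702922, 3, 3, 4, 0, 5, 17032, 919437354, 4, 3, 0, 5, 56328, 923365818, 3, 4]))) (.node (.node (.leaf [6, 21273, 20602]) (.leaf [6, 87033, 19834])) (.node (.leaf [8, 2, 1978536, 3, 3, 8, 3198058, 1, 2, 3, 3462122, 1, 2, 3, 3, 2, 1, 0, 5, 872, 33607402, 3, 2, 1, 0, 5, 840474, 3, 2, 1]) (.leaf [])))) (.node (.node (.node (.leaf [5, 1320, 13320]) (.leaf [6, 76521, 72554])) (.node (.leaf [6, 40170, 45240]) (.leaf [8, 2, 2263356, 5, 9, 6, 7864, 883274, 3, 33650234, 4, 3, 3, 4, 0, 5, 536, 33658586, 4, 3]))) (.node (.node (.leaf [6, 27274, 28824]) (.leaf [6, 92057, 54282])) (.node (.leaf [6, 55610, 60120]) (.leaf [])))))) (.node (.node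 (.node (.node (.node (.leaf [5, 776, 2744]) (.leaf [5, 65736, 14632])) (.node (.leaf [8, 32, 469224, 4, 9, 2, 35610, 2, 2, 1, 0, 5, 24314, 1, 2, 0, 5, 200, 820746, 2, 1]) (.leaf [6, 97385, 47626]))) (.node (.node (.leaf [8, 8, 1382984, 5, 0, 3, 14202, 4, 3, 3, 0, 5, 14648, 800634, 3, 4, 0, 5, 2072, 33835962, 4, 3]) (.leaf [6, 51770, 79016])) (.node (.leaf [8, 5, 346094, 5, 9, 5, 833722, 3, 52186, 4, 3, 3, 4, 0, 5, 16264, 3193018, 4, 3]) (.leaf [])))) (.node (.node (.node (.leaf [5, 8632, 2744]) (.leaf [6, 57434, 76520])) (.node (.leaf [6, 44057, 24282]) (.leaf [3, 6850]))) (.node (.node (.leaf [8, 1, 139958, 3, 3, 18, 3431098, 1, 2, 3, 15336, 3169706, 1, 2, 3, 200, 3163530, 1, 2, 3, 34368138, 1, 2, 3, 3, 2, 1]) (.leaf [6, 72810, 92056])) (.node (.leaf [6, 34250, 60120]) (.leaf []))))) (.node (.node (.node (.node (.leaf [5, 4136, 2744]) (.leaf [6, 71881, 32874])) (.node (.leaf [3, 2498]) (.leaf [3, 6594])))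 (.node (.node (.leaf [6, 23209, 21546]) (.leaf [6, 87993, 61146, 87992])) (.node (.leaf [5, 56248, 56104]) (.leaf [])))) (.node (.node (.node (.leaf [8, 1, 1654806, 4, 9, 9, 800058, 2, 2280, 3159418, 1, 2, 15402, 2, 1, 2, 1]) (.leaf [6, 47754, 79016])) (.node (.leaf [6, 47737, 24842]) (.leaf [3, 7106]))) (.node (.node (.leaf [8, 4, 864368, 3, 3, 18, 800106, 1, 2, 3, 2088, 33574202, 1, 2, 3, 19624, 3165482, 1, 2, 3, 31770, 1, 2, 3, 3, 2, 1]) (.leaf [6, 86266, 96248])) (.node (.leaf [5, 63336, 14632]) (.leaf [])))))))) (.node (.node (.node (.node (.node (.node (.node (.leaf [5, 328, 472]) (.leaf [5, 64136, 14632])) (.node (.leaf [3, 2082]) (.leaf [6, 97385, 80314]))) (.node (.node (.leaf [5, 16408, 1992]) (.leaf [6, 78042, 79016])) (.node (.leaf [6, 47737, 29178]) (.leaf [3, 7202])))) (.node (.node (.node (.leaf [5, 5656, 296]) (.leaf [6, 73833, 43786])) (.node (.leaf [6, 38538, 41368]) (.leaf [3, 6690])))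 (.node (.node (.leaf [8, 1, 256368, 4, 9, 5, 3166666, 2, 3170186, 1, 2, 2, 1, 0, 5, 56, 3170266, 1, 2]) (.leaf [6, 87993, 61610])) (.node (.leaf [6, 57193, 21770]) (.leaf []))))) (.node (.node (.node (.node (.leaf [5, 3016, 472]) (.leaf [5, 66952, 14344])) (.node (.leaf [3, 2338]) (.leaf [3, 6434]))) (.node (.node (.leaf [6, 20921, 18714, 20920]) (.leaf [6, 79017, 62138])) (.node (.leaf [3, 3362]) (.leaf [])))) (.node (.node (.node (.leaf [5, 11192, 136]) (.leaf [6, 76521, 50970])) (.node (.leaf [6, 45241, 41610]) (.leaf [3, 6946]))) (.node (.node (.leaf [6, 26714, 28824]) (.leaf [6, 92057, 52266])) (.node (.leaf [6, 54778, 60120]) (.leaf [])))))) (.node (.node (.node (.node (.node (.leaf [8, 1, 741234, 1, 3, 11, 1082, 3, 0, 5, 1130, 3, 2, 3, 200, 788954, 3, 5, 0, 2]) (.leaf [5, 65416, 14344])) (.node (.leaf [3, 2210]) (.leaf [6, 89514, 97384]))) (.node (.node (.leaf [3, 1186]) (.leaf [6, 78490, 79016]))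 (.node (.leaf [6, 31658, 47736]) (.leaf [3, 7330])))) (.node (.node (.node (.leaf [5, 7800, 2744]) (.leaf [6, 74409, 72586])) (.node (.leaf [6, 33994, 43448]) (.leaf [8, 5, 2496658, 4, 6, 7, 16648, 920733770, 1, 2, 6712, 924688154, 2, 1, 2, 0, 5, 1896, 930174954, 2, 1]))) (.node (.node (.leaf [8, 12, 462506, 4, 9, 5, 3166842, 2, 3425770, 1, 2, 2, 1, 0, 5, 3172618, 1, 2]) (.leaf [6, 72298, 92056])) (.node (.leaf [6, 57193, 33402]) (.leaf []))))) (.node (.node (.node (.node (.leaf [5, 3736, 472]) (.leaf [6, 71881, 32298, 71880])) (.node (.leaf [6, 34410, 39288]) (.leaf [8, 2, 2967024, 4, 9, 7, 4072, 929397450, 2, 16376, 933331674, 1, 2, 2, 1, 0, 5, 5496, 3503050, 1, 2]))) (.node (.node (.leaf [8, 30, 396654, 4, 0, 7, 22170, 1, 2, 15336, 34101706, 2, 1, 2, 0, 5, 3167466, 2, 1]) (.leaf [6, 87993, 60698, 87992])) (.node (.leaf [3, 3490]) (.leaf [])))) (.node (.node (.node (.leaf [5, 14888]) (.leaf [6, 79017, 58202]))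 (.node (.leaf [6, 46585, 45082]) (.leaf [8, 5, 2455192, 3, 3, 14, 928091546, 1, 2, 3, 56792, 924694154, 1, 2, 3, 56, 928361770, 1, 2, 3, 3, 2, 1, 0, 5, 2232, 931481482, 3, 2, 1]))) (.node (.node (.leaf [8, 4, 1391216, 4, 0, 6, 3421482, 1, 2, 31226, 2, 1, 2, 0, 5, 2376, 34354538, 2, 1]) (.leaf [6, 73866, 96248])) (.node (.leaf [5, 63112, 14632]) (.leaf []))))))) (.node (.node (.node (.node (.node (.node (.leaf [5, 1576]) (.leaf [5, 64792, 14632])) (.node (.leaf [8, 1, 922164, 5, 6, 6, 3159738, 4, 3, 2072, 33588282, 3, 4, 3, 0, 5, 2088, 820698, 3, 4]) (.leaf [6, 97385, 83034]))) (.node (.node (.leaf [3, 1122]) (.leaf [6, 79017, 59322, 79016])) (.node (.leaf [6, 47737, 30218]) (.leaf [3, 7266])))) (.node (.node (.node (.leaf [5, 6744, 2744]) (.leaf [6, 74409, 22250])) (.node (.leaf [6, 39706, 42008]) (.leaf [8, 5, 5887702, 4, 6, 7, 16376, 927562458, 1, 2, 4072, 921528602, 2, 1, 2, 0, 5, 16344, 924676234, 2,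 1]))) (.node (.node (.leaf [8, 30, 395492, 4, 3, 3, 809914, 2, 1, 2, 1, 0, 5, 25402, 2, 0, 5, 33579290, 2, 1]) (.leaf [6, 86634, 87992])) (.node (.leaf [6, 49034, 57192]) (.leaf []))))) (.node (.node (.node (.node (.leaf [5, 3224, 296]) (.leaf [5, 68280, 14344])) (.node (.leaf [3, 2402]) (.leaf [3, 6498]))) (.node (.node (.leaf [3, 1378]) (.leaf [6, 87033, 62458])) (.node (.leaf [8, 42, 3885862, 4, 6, 9, 839066, 1, 2, 19656, 33607834, 2, 3462602, 1, 2, 1, 2]) (.leaf [])))) (.node (.node (.node (.leaf [3, 866]) (.leaf [6, 79017, 57370, 79016])) (.node (.leaf [6, 14842, 46584]) (.leaf [8, 5, 6282060, 3, 3, 19, 919178650, 1, 2, 3, 56264, 3253754, 1, 2, 3, 16584, 921712234, 1, 2, 3, 56648, 927569802, 1, 2, 3, 3, 2, 1]))) (.node (.node (.leaf [6, 28825, 27850]) (.leaf [6, 88170, 95720])) (.node (.leaf [5, 62712, 14632]) (.leaf [])))))) (.node (.node (.node (.node (.node (.leaf [5, 2808, 2744]) (.leaf [5, 66072,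 62664])) (.node (.leaf [8, 22, 214386, 4, 0, 6, 36026, 1, 2, 3180250, 2, 1, 2, 0, 5, 34377146, 2, 1]) (.leaf [6, 97385, 94986]))) (.node (.node (.leaf [3, 1250]) (.leaf [6, 79017, 73226])) (.node (.leaf [8, 4, 3557090, 4, 3, 4, 1704, 33604010, 2, 1, 2, 1, 0, 5, 2280, 34390426, 2, 0, 5, 19624, 34125002, 2, 1]) (.leaf [])))) (.node (.node (.node (.leaf [5, 9192, 2744]) (.leaf [6, 58106, 76520])) (.node (.leaf [3, 2786]) (.leaf [3, 6882]))) (.node (.node (.leaf [8, 33, 724924, 5, 6, 9, 810874, 4, 3, 24184, 33843498, 3, 33843274, 4, 3, 4, 3]) (.leaf [6, 85658, 92056])) (.node (.leaf [6, 45690, 60120]) (.leaf []))))) (.node (.node (.node (.node (.leaf [5, 4632, 296]) (.leaf [6, 71881, 52058])) (.node (.leaf [3, 2530]) (.leaf [3, 6626]))) (.node (.node (.leaf [3, 1506]) (.leaf [6, 37546, 87992])) (.node (.leaf [5, 56760, 56104]) (.leaf [])))) (.node (.node (.node (.leaf [8, 1, 1383144, 5, 9, 9, 3147466, 3, 1992,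 788186, 4, 3, 15898, 3, 4, 3, 4]) (.leaf [6, 79017, 75594])) (.node (.leaf [6, 25386, 47736]) (.leaf [8, 1, 2947670, 1, 7, 4, 919178682, 3, 2, 3, 5, 0, 3, 0, 5, 56616, 922849754, 5, 0, 2, 0, 5, 16600, 932288074, 3]))) (.node (.node (.leaf [3, 2018]) (.leaf [6, 17386, 97384])) (.node (.leaf [5, 63592, 14632]) (.leaf []))))))))) (.node (.node (.node (.node (.node (.node (.node (.node (.leaf [5, 136, 296]) (.leaf [5, 64008, 62664])) (.node (.leaf [8, 12, 592706, 3, 3, 4, 3428986, 1, 2, 3, 3, 2, 1, 0, 5, 15336, 34101658, 3, 2, 1, 0, 5, 34098650, 3, 2, 1, 0, 5, 33587242, 3, 2, 1]) (.leaf [6, 97385, 79834]))) (.node (.node (.leaf [5, 16312, 16232]) (.leaf [6, 79017, 58938, 79016])) (.node (.leaf [6, 28922, 47736]) (.leaf [8, 1, 3768382, 3, 3, 9, 929402298, 1, 2, 3, 17000, 932295770, 1, 2, 3, 3, 2, 1, 0, 5, 200, 932528058, 3, 2, 1, 0, 5, 17112, 919711354, 3, 2, 1])))) (.node (.node (.node (.leaf [5, 5336, 296])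 (.leaf [6, 36026, 73832])) (.node (.leaf [3, 2578]) (.leaf [3, 6674]))) (.node (.node (.leaf [8, 1, 1342170, 4, 3, 7, 3160858, 2, 1, 18296, 33841306, 1, 2, 2, 1, 0, 5, 34364858, 2]) (.leaf [6, 87993, 61482, 87992])) (.node (.leaf [6, 20458, 57192]) (.leaf []))))) (.node (.node (.node (.node (.leaf [5, 2968, 296]) (.leaf [5, 66744, 14152])) (.node (.leaf [3, 2322]) (.leaf [6, 102201, 93802]))) (.node (.node (.leaf [3, 1298]) (.leaf [6, 54026, 79016])) (.node (.leaf [8, 29, 2437024, 5, 6, 5, 33603978, 4, 3, 33607930, 3, 4, 3, 0, 5, 19624, 19786, 3, 4]) (.leaf [])))) (.node (.node (.node (.leaf [5, 10808, 136]) (.leaf [6, 76521, 26282])) (.node (.leaf [6, 45241, 34602]) (.leaf [3, 6930]))) (.node (.node (.leaf [6, 28825, 26458]) (.leaf [6, 44954, 92056])) (.node (.leaf [6, 52650, 60120]) (.leaf [])))))) (.node (.node (.node (.node (.node (.leaf [5, 1608, 2248]) (.leaf [5, 65240, 14632])) (.node (.leaf [3, 2194])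 (.leaf [6, 97385, 92986]))) (.node (.node (.leaf [3, 1170]) (.leaf [6, 79017, 51098])) (.node (.leaf [6, 30762, 47736]) (.leaf [8, 1, 3380526, 3, 3, 20, 56952, 919431642, 1, 2, 3, 56456, 933587338, 1, 2, 3, 2072, 931755274, 1, 2, 3, 16776, 924956602, 1, 2, 3, 3, 2, 1])))) (.node (.node (.node (.leaf [5, 7480, 264]) (.leaf [6, 50794, 74408])) (.node (.leaf [3, 2706]) (.leaf [3, 6802]))) (.node (.node (.leaf [3, 1682]) (.leaf [6, 92057, 76218])) (.node (.leaf [6, 57193, 30890]) (.leaf []))))) (.node (.node (.node (.node (.leaf [5, 3592, 296]) (.leaf [6, 71881, 31898])) (.node (.leaf [6, 39081, 36458]) (.leaf [8, 5, 6919392, 5, 0, 6, 924683658, 4, 3, 932550538, 3, 4, 3, 0, 5, 932288282, 3, 4]))) (.node (.node (.leaf [8, 12, 149696, 4, 0, 7, 21946, 1, 2, 19480, 34360586, 2, 1, 2, 0, 5, 22794, 2, 1]) (.leaf [6, 60442, 87992])) (.node (.leaf [3, 3474]) (.leaf [])))) (.node (.node (.node (.leaf [5, 14152, 14632])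 (.leaf [6, 58042, 79016])) (.node (.leaf [6, 44634, 46584]) (.leaf [8, 5, 1693236, 4, 6, 5, 923372954, 1, 2, 112922, 2, 1, 2, 0, 5, 16504, 931215914, 2, 1]))) (.node (.node (.leaf [8, 30, 987844, 4, 3, 6, 3169114, 2, 1, 34109674, 1, 2, 2, 1, 0, 5, 34366458, 2]) (.leaf [6, 96249, 78682])) (.node (.leaf [5, 63000, 62664]) (.leaf []))))))) (.node (.node (.node (.node (.node (.node (.leaf [5, 1224, 1288]) (.leaf [5, 64632, 14632])) (.node (.leaf [8, 1, 1317804, 5, 0, 6, 3159498, 4, 3, 34074, 3, 4, 3, 0, 5, 56, 800282, 3, 4]) (.leaf [6, 97385, 82490]))) (.node (.node (.leaf [3, 1106]) (.leaf [6, 75850, 79016])) (.node (.leaf [6, 47737, 29946]) (.leaf [8, 5, 6036216, 3, 3, 9, 928605050, 1, 2, 3, 16984, 3240778, 1, 2, 3, 3, 2, 1, 0, 5, 16696, 926002954, 3, 2, 1, 0, 5, 66616, 924677594, 3, 2, 1])))) (.node (.node (.node (.leaf [5, 6488, 264]) (.leaf [6, 74409, 57706])) (.node (.leaf [6, 42009, 37098]) (.leaf [8,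 5, 6299302, 4, 3, 8, 16376, 927824602, 2, 1, 10648, 920484282, 1, 2, 2, 1, 0, 5, 2152, 927569098, 2]))) (.node (.node (.leaf [3, 1618]) (.leaf [6, 76426, 87992])) (.node (.leaf [6, 23066, 57192]) (.leaf []))))) (.node (.node (.node (.node (.leaf [5, 3176, 264]) (.leaf [5, 67864, 14344])) (.node (.leaf [8, 47, 168, 4, 9, 9, 3182778, 2, 2280, 823754, 1, 2, 38186, 2, 1, 2, 1]) (.leaf [8, 5, 235668, 4, 9, 5, 920227210, 2, 33657754, 1, 2, 2, 1, 0, 5, 890154, 1, 2]))) (.node (.node (.leaf [3, 1362]) (.leaf [6, 78026, 87032])) (.node (.leaf [3, 3410]) (.leaf [])))) (.node (.node (.node (.leaf [6, 13178, 13512]) (.leaf [6, 19706, 79016])) (.node (.leaf [6, 43306, 45240]) (.leaf [8, 2, 7236668, 3, 3, 5, 7864, 931232330, 1, 2, 3, 3, 2, 1, 0, 5, 8136, 932813418, 3, 2, 1, 0, 5, 56952, 927309066, 3, 2, 1, 0, 5, 5896, 928086954, 3, 2, 1]))) (.node (.node (.leaf [6, 28825, 27594]) (.leaf [6, 92057, 91674])) (.node (.leaf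 [5, 14648, 62664]) (.leaf [])))))) (.node (.node (.node (.node (.node (.leaf [5, 2760, 472]) (.leaf [5, 65880, 14344])) (.node (.leaf [8, 8, 675528, 4, 6, 9, 35818, 1, 2, 34375722, 2, 2072, 35146, 1, 2, 1, 2]) (.leaf [6, 97385, 85834]))) (.node (.node (.leaf [8, 1, 798512, 4, 0, 7, 805002, 1, 2, 15752, 3426458, 2, 1, 2, 0, 5, 216, 3165242, 2, 1]) (.leaf [6, 79017, 72666])) (.node (.leaf [8, 8, 2115978, 5, 6, 9, 34388122, 4, 3, 2328, 34390426, 3, 34391706, 4, 3, 4, 3]) (.leaf [])))) (.node (.node (.node (.leaf [5, 8984, 296]) (.leaf [6, 76521, 23658, 76520])) (.node (.leaf [6, 44057, 43146]) (.leaf [3, 6866]))) (.node (.node (.leaf [8, 30, 922998, 3, 3, 9, 3431338, 1, 2, 3, 15336, 33843114, 1, 2, 3, 3, 2, 1, 0, 5, 33838922, 3, 2, 1, 0, 5, 200, 3158746, 3, 2, 1]) (.leaf [6, 73066, 92056])) (.node (.leaf [6, 60121, 45434, 60120]) (.leaf []))))) (.node (.node (.node (.node (.leaf [5, 4408, 2744]) (.leaf [6, 71881,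 33162])) (.node (.leaf [8, 47, 1071170, 5, 6, 9, 823898, 4, 3, 803722, 3, 2072, 19402, 4, 3, 4, 3]) (.leaf [3, 6610]))) (.node (.node (.leaf [6, 23209, 22730]) (.leaf [6, 87993, 36314])) (.node (.leaf [5, 56504, 56104]) (.leaf [])))) (.node (.node (.node (.leaf [5, 15640, 15624]) (.leaf [6, 75530, 79016])) (.node (.leaf [6, 25098, 47736]) (.leaf [3, 7122]))) (.node (.node (.leaf [3, 2002]) (.leaf [6, 13978, 97384])) (.node (.leaf [5, 63464, 14152]) (.leaf [])))))))) (.node (.node (.node (.node (.node (.node (.node (.leaf [5, 520, 648]) (.leaf [5, 64312, 14344])) (.node (.leaf [8, 23, 1318140, 3, 3, 9, 807674, 1, 2, 3, 15336, 3440522, 1, 2, 3, 3, 2, 1, 0, 5, 34111434, 3, 2, 1, 0, 5, 34111146, 3, 2, 1]) (.leaf [6, 97385, 80826]))) (.node (.node (.leaf [3, 1074]) (.leaf [6, 79017, 49546])) (.node (.leaf [6, 47737, 29434]) (.leaf [3, 7218])))) (.node (.node (.node (.leaf [5, 5928, 2744]) (.leaf [6, 21290, 74408]))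 (.node (.leaf [6, 35338, 41368]) (.leaf [8, 5, 5903654, 4, 6, 7, 16376, 34175706, 1, 2, 3512, 929839194, 2, 1, 2, 0, 5, 16424, 932548762, 2, 1]))) (.node (.node (.leaf [8, 16, 131718, 4, 3, 6, 3161274, 2, 1, 34363274, 1, 2, 2, 1, 0, 5, 15528, 33579306, 2]) (.leaf [6, 85898, 87992])) (.node (.leaf [6, 22330, 57192]) (.leaf []))))) (.node (.node (.node (.node (.leaf [5, 3064, 2744]) (.leaf [5, 67208, 14152])) (.node (.leaf [8, 9, 856482, 4, 0, 4, 36968, 36762, 1, 2, 2, 0, 5, 823194, 2, 1, 0, 5, 33592090, 1, 2]) (.leaf [3, 6450]))) (.node (.node (.leaf [6, 21273, 17946]) (.leaf [6, 79017, 55386])) (.node (.leaf [8, 17, 1193648, 4, 6, 8, 3197930, 1, 2, 34125770, 2, 3191882, 1, 2, 1, 2]) (.leaf [])))) (.node (.node (.node (.leaf [8, 1, 724590, 1, 7, 10, 362, 3, 2, 3, 3146138, 3, 13082, 2, 0, 5, 5, 0, 3]) (.leaf [6, 76521, 30986])) (.node (.leaf [6, 37370, 45240]) (.leaf [3, 6962]))) (.node (.node (.leaf [6, 27002,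 28824]) (.leaf [6, 91082, 92056])) (.node (.leaf [6, 55098, 60120]) (.leaf [])))))) (.node (.node (.node (.node (.node (.leaf [5, 472, 2744]) (.leaf [5, 65576, 14632])) (.node (.leaf [8, 9, 921984, 4, 3, 3, 35386, 2, 1, 2, 1, 0, 5, 801242, 2, 0, 5, 2056, 3423706, 2, 1]) (.leaf [6, 97385, 47338]))) (.node (.node (.leaf [5, 19240]) (.leaf [6, 78586, 79016])) (.node (.leaf [6, 47737, 33322]) (.leaf [8, 1, 6900262, 3, 3, 14, 928353818, 1, 2, 3, 56216, 919455978, 1, 2, 3, 56856, 933327002, 1, 2, 3, 3, 2, 1, 0, 5, 56616, 930448170, 3, 2, 1])))) (.node (.node (.node (.leaf [5, 8184, 2744]) (.leaf [6, 76521, 74682])) (.node (.leaf [3, 2738]) (.leaf [3, 6834]))) (.node (.node (.leaf [3, 1714]) (.leaf [6, 78906, 92056])) (.node (.leaf [6, 60121, 43546]) (.leaf []))))) (.node (.node (.node (.node (.leaf [5, 3896, 296]) (.leaf [6, 51866, 71880])) (.node (.leaf [3, 2482]) (.leaf [3, 6578]))) (.node (.node (.leaf [6, 19338,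 23208]) (.leaf [6, 87993, 60954, 87992])) (.node (.leaf [5, 56, 56104]) (.leaf [])))) (.node (.node (.node (.leaf [3, 946]) (.leaf [6, 79017, 77626])) (.node (.leaf [6, 24586, 47736]) (.leaf [8, 1, 3457672, 5, 6, 6, 919178666, 4, 3, 16536, 925974762, 3, 4, 3, 0, 5, 56680, 34189642, 3, 4]))) (.node (.node (.leaf [8, 12, 593718, 4, 6, 9, 3428874, 1, 2, 1400, 3164602, 2, 34110234, 1, 2, 1, 2]) (.leaf [6, 96249, 89354])) (.node (.leaf [5, 63224, 62664]) (.leaf []))))))) (.node (.node (.node (.node (.node (.node (.leaf [3, 114]) (.leaf [5, 64952, 14632])) (.node (.leaf [8, 1, 931228, 5, 3, 3, 33834, 3, 4, 3, 4, 0, 5, 820442, 3, 0, 5, 33589018, 3, 4]) (.leaf [6, 97385, 78426, 97384]))) (.node (.node (.leaf [3, 1138]) (.leaf [6, 79017, 50570, 79016])) (.node (.leaf [6, 47737, 30474]) (.leaf [8, 5, 4939348, 3, 3, 14, 919430058, 1, 2, 3, 16648, 927302426, 1, 2, 3, 56296, 919445706, 1, 2, 3, 3, 2, 1, 0, 5, 930701498,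 3, 2, 1])))) (.node (.node (.node (.leaf [5, 6968, 2744]) (.leaf [6, 74409, 48058])) (.node (.leaf [6, 41978, 42008]) (.leaf [8, 5, 5923808, 4, 0, 8, 16648, 922568778, 1, 2, 7720, 932289642, 2, 1, 2, 0, 5, 933331658, 2, 1]))) (.node (.node (.leaf [3, 1650]) (.leaf [6, 62554, 87992])) (.node (.leaf [6, 49738, 57192]) (.leaf []))))) (.node (.node (.node (.node (.leaf [5, 3320, 472]) (.leaf [5, 68680, 14344])) (.node (.leaf [6, 35050, 38520]) (.leaf [3, 6514]))) (.node (.node (.leaf [8, 30, 199086, 4, 9, 9, 3167466, 2, 2056, 21754, 1, 2, 34362826, 2, 1, 2, 1]) (.leaf [6, 87817, 83914])) (.node (.leaf [3, 3442]) (.leaf [])))) (.node (.node (.node (.leaf [3, 881]) (.leaf [6, 79017, 57626, 79016])) (.node (.leaf [6, 44202, 46584]) (.leaf [8, 5, 7038940, 4, 6, 10, 919965082, 1, 2, 56616, 930971818, 2, 56632, 34182266, 1, 2, 1, 2]))) (.node (.node (.leaf [6, 28825, 28122]) (.leaf [6, 95721, 89210])) (.node (.leaf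 [5, 62808, 14152]) (.leaf [])))))) (.node (.node (.node (.node (.node (.leaf [5, 2872, 136]) (.leaf [5, 66328, 14344])) (.node (.leaf [8, 8, 1336614, 4, 6, 9, 3444042, 1, 2, 36618, 2, 14152, 821978, 1, 2, 1, 2]) (.leaf [5, 87896]))) (.node (.node (.leaf [3, 1266]) (.leaf [6, 79017, 61754])) (.node (.leaf [8, 29, 750124, 4, 0, 7, 19640, 33604026, 1, 2, 34390426, 2, 1, 2, 0, 5, 34387130, 2, 1]) (.leaf [])))) (.node (.node (.node (.leaf [5, 9576, 2744]) (.leaf [6, 58458, 76520])) (.node (.leaf [8, 9, 551900, 5, 0, 8, 36968, 830810, 4, 3, 2376, 44810, 3, 4, 3, 0, 5, 36968, 3452554, 3, 4]) (.leaf [3, 6898]))) (.node (.node (.leaf [8, 33, 593208, 5, 6, 9, 24650, 4, 3, 24184, 33843450, 3, 33580986, 4, 3, 4, 3]) (.leaf [6, 92057, 73578])) (.node (.leaf [6, 39626, 60120]) (.leaf []))))) (.node (.node (.node (.node (.leaf [5, 4856, 296]) (.leaf [6, 71881, 33690])) (.node (.leaf [3, 2546]) (.leaf [3, 6642]))) (.node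 (.node (.leaf [2]) (.leaf [6, 87993, 61290, 87992])) (.node (.leaf [7, 1, 3418606, 2, 56664, 927783386, 933550554]) (.leaf [])))) (.node (.node (.node (.leaf [8, 4, 938806, 4, 3, 3, 3421514, 2, 1, 2, 1, 0, 5, 2312, 800122, 2, 0, 5, 34356826, 2, 1]) (.leaf [6, 75658, 79016])) (.node (.leaf [6, 25642, 47736]) (.leaf [8, 1, 1005752, 4, 3, 7, 920227258, 2, 1, 16232, 931244186, 1, 2, 2, 1, 0, 5, 56280, 924421290, 2]))) (.node (.node (.leaf [8, 1, 116610, 4, 6, 5, 34096586, 1, 2, 32538, 2, 1, 2, 0, 5, 200, 3429658, 2, 1]) (.leaf [6, 97385, 76730])) (.node (.leaf [5, 63736, 14632]) (.leaf []))))))))))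

/-- their proofs, part 4 -/
def proofTab4 : WTab :=
  (.node (.node (.node (.node (.node (.node (.node (.node (.node (.leaf [0]) (.leaf [5, 63880, 14632])) (.node (.leaf [3, 2051]) (.leaf [6, 79562, 97384]))) (.node (.node (.leaf [5, 16232, 16232]) (.leaf [6, 79017, 58826, 79016])) (.node (.leaf [6, 25962, 47736]) (.leaf [3, 7171])))) (.node (.node (.node (.leaf [5, 5080, 472]) (.leaf [6, 71881, 55930])) (.node (.leaf [3, 2563]) (.leaf [8, 2, 1871902, 4, 6, 10, 4072, 922319562, 1, 2, 17096, 919422602, 2, 930706234, 1, 2, 1, 2]))) (.node (.node (.leaf [3, 1539]) (.leaf [6, 41034, 87992])) (.node (.leaf [6, 20122, 57192]) (.leaf []))))) (.node (.node (.node (.node (.leaf [5, 2920, 296]) (.leaf [5, 66536, 62664])) (.node (.leaf [3, 2307]) (.leaf [6, 102201, 100554]))) (.node (.node (.leaf [8, 30, 988350, 4, 9, 5, 3428170, 2, 3166218, 1, 2, 2, 1, 0, 5, 20026, 1, 2]) (.leaf [6, 79017, 53482])) (.node (.leaf [3,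 3331]) (.leaf [])))) (.node (.node (.node (.leaf [5, 10040, 264]) (.leaf [6, 48154, 76520])) (.node (.leaf [8, 17, 4818920, 5, 6, 9, 830250, 4, 3, 34120602, 3, 2200, 3445082, 4, 3, 4, 3]) (.leaf [8, 5, 5985636, 1, 7, 8, 16616, 928348762, 3, 2, 3, 12488, 931494650, 3, 5, 0, 3, 0, 5, 17000, 34451482, 5, 0, 2]))) (.node (.node (.leaf [3, 1795]) (.leaf [6, 89994, 92056])) (.node (.leaf [6, 43098, 60120]) (.leaf [])))))) (.node (.node (.node (.node (.node (.leaf [7, 1, 658734, 2, 2104, 1354, 34342426]) (.leaf [5, 65112, 14632])) (.node (.leaf [3, 2179]) (.leaf [6, 96586, 97384]))) (.node (.node (.leaf [5, 18489]) (.leaf [6, 79017, 50842])) (.node (.leaf [6, 47737, 30618]) (.leaf [3, 7299])))) (.node (.node (.node (.leaf [5, 7240, 264]) (.leaf [6, 74409, 50058])) (.node (.leaf [3, 2691]) (.leaf [8, 5, 5469382, 3, 3, 10, 16648, 924665930, 1, 2, 3, 4216, 929659642, 1, 2, 3, 3, 2, 1, 0, 5, 16568, 923535082, 3, 2,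 1, 0, 5, 56792, 926512234, 3, 2, 1]))) (.node (.node (.leaf [8, 1, 1852368, 4, 3, 7, 18602, 2, 1, 15656, 26426, 1, 2, 2, 1, 0, 5, 2088, 34101946, 2]) (.leaf [6, 92057, 40586])) (.node (.leaf [6, 57193, 51178]) (.leaf []))))) (.node (.node (.node (.node (.leaf [5, 3480, 296]) (.leaf [5, 69448, 62664])) (.node (.leaf [7, 1, 2456172, 1, 34113034, 34379834]) (.leaf [3, 6531]))) (.node (.node (.leaf [3, 1411]) (.leaf [6, 60202, 87992])) (.node (.leaf [8, 29, 3230448, 4, 3, 9, 52698, 2, 1, 1528, 33601418, 1, 2, 831770, 2, 2, 1]) (.leaf [])))) (.node (.node (.node (.leaf [8, 2, 198246, 4, 6, 10, 3408250, 1, 2, 216, 13850, 2, 2088, 14266, 1, 2, 1, 2]) (.leaf [6, 77226, 79016])) (.node (.leaf [6, 46585, 44394]) (.leaf [8, 5, 5903388, 3, 3, 19, 920751514, 1, 2, 3, 56568, 924937818, 1, 2, 3, 17080, 930168506, 1, 2, 3, 16600, 920226218, 1, 2, 3, 3, 2, 1]))) (.node (.node (.leaf [6, 28746, 28824]) (.leaf [6, 96249, 84906]))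 (.node (.leaf [5, 62904, 14632]) (.leaf []))))))) (.node (.node (.node (.node (.node (.node (.leaf [3, 67]) (.leaf [5, 64472, 14632])) (.node (.leaf [3, 2115]) (.leaf [6, 81322, 97384]))) (.node (.node (.leaf [6, 16186, 17240]) (.leaf [6, 49818, 79016])) (.node (.leaf [6, 47737, 29706]) (.leaf [8, 5, 176264, 4, 3, 10, 920478586, 2, 1, 16888, 930963034, 1, 2, 17032, 929144234, 2, 2, 1])))) (.node (.node (.node (.leaf [5, 6216, 472]) (.leaf [6, 18906, 74408])) (.node (.leaf [6, 42009, 35178]) (.leaf [3, 6723]))) (.node (.node (.leaf [3, 1603]) (.leaf [6, 87993, 54170])) (.node (.leaf [6, 57193, 23834]) (.leaf []))))) (.node (.node (.node (.node (.leaf [5, 3128, 264]) (.leaf [5, 67544, 62664])) (.node (.leaf [3, 2371]) (.leaf [3, 6467]))) (.node (.node (.leaf [6, 21273, 20618]) (.leaf [6, 19882, 87032])) (.node (.leaf [8, 17, 1070518, 4, 6, 9, 52346, 1, 2, 1528, 33601450, 2, 832666, 1, 2, 1, 2]) (.leaf []))))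 (.node (.node (.node (.leaf [5, 13336, 1048]) (.leaf [6, 76521, 72906])) (.node (.leaf [6, 45241, 40186]) (.leaf [3, 6979]))) (.node (.node (.leaf [6, 27290, 28824]) (.leaf [6, 92057, 54346, 92056])) (.node (.leaf [6, 60121, 55626]) (.leaf [])))))) (.node (.node (.node (.node (.node (.leaf [5, 792, 2744]) (.leaf [5, 65752, 62664])) (.node (.leaf [3, 2243]) (.leaf [6, 97385, 47642, 97384]))) (.node (.node (.leaf [8, 1, 1909840, 4, 6, 10, 15482, 1, 2, 15752, 3164282, 2, 216, 19514, 1, 2, 1, 2]) (.leaf [6, 79017, 31674])) (.node (.leaf [3, 3267]) (.leaf [])))) (.node (.node (.node (.leaf [5, 8648, 136]) (.leaf [6, 76521, 57450])) (.node (.leaf [6, 44057, 39802]) (.leaf [8, 2, 5013962, 4, 0, 4, 6648, 927549530, 1, 2, 2, 0, 5, 7736, 923105322, 2, 1, 0, 5, 17144, 924153834, 1, 2]))) (.node (.node (.leaf [3, 1731]) (.leaf [6, 92057, 72826])) (.node (.leaf [6, 43626, 60120]) (.leaf []))))) (.node (.node (.node (.node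 (.leaf [5, 4168, 2744]) (.leaf [6, 71881, 59850])) (.node (.leaf [8, 4, 1334592, 5, 3, 3, 37322, 3, 4, 3, 4, 0, 5, 800122, 3, 0, 5, 33572954, 3, 4]) (.leaf [8, 2, 5160294, 4, 9, 6, 4072, 927300298, 2, 891786, 1, 2, 2, 1, 0, 5, 7448, 929134810, 1, 2]))) (.node (.node (.leaf [6, 21562, 23208]) (.leaf [6, 87993, 61162, 87992])) (.node (.leaf [5, 56264, 56104]) (.leaf [])))) (.node (.node (.node (.leaf [3, 963]) (.leaf [6, 79017, 47770])) (.node (.leaf [6, 47737, 24858]) (.leaf [8, 1, 2889654, 5, 0, 6, 921013674, 4, 3, 933345402, 3, 4, 3, 0, 5, 56952, 929674778, 3, 4]))) (.node (.node (.leaf [3, 1987]) (.leaf [6, 96249, 91978])) (.node (.leaf [5, 63336, 62664]) (.leaf [])))))))) (.node (.node (.node (.node (.node (.node (.node (.leaf [5, 344, 472]) (.leaf [5, 64152, 14632])) (.node (.leaf [8, 8, 181120, 4, 9, 5, 3426778, 2, 3439994, 1, 2, 2, 1, 0, 5, 14344, 33576458, 1, 2]) (.leaf [6, 80330, 97384]))) (.node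 (.node (.leaf [5, 16408, 2152]) (.leaf [6, 79017, 78058])) (.node (.leaf [6, 47737, 29194]) (.leaf [8, 5, 3742810, 4, 9, 6, 920227274, 2, 56904, 924167370, 1, 2, 2, 1, 0, 5, 16632, 928618666, 1, 2])))) (.node (.node (.node (.leaf [5, 5688, 2744]) (.leaf [6, 43802, 73832])) (.node (.leaf [6, 41369, 38554]) (.leaf [8, 5, 5526308, 4, 0, 8, 16376, 920746714, 1, 2, 9272, 923892762, 2, 1, 2, 0, 5, 932020954, 2, 1]))) (.node (.node (.leaf [3, 1571]) (.leaf [6, 61626, 87992])) (.node (.leaf [6, 21786, 57192]) (.leaf []))))) (.node (.node (.node (.node (.leaf [5, 3016, 2744]) (.leaf [5, 66952, 62664])) (.node (.leaf [8, 47, 75098, 5, 9, 8, 36810, 3, 802282, 4, 3, 17306, 3, 4, 3, 4]) (.leaf [8, 5, 4272830, 4, 6, 6, 3509642, 1, 2, 56200, 929660666, 2, 1, 2, 0, 5, 16776, 921782682, 2, 1]))) (.node (.node (.leaf [6, 20921, 18730]) (.leaf [6, 62154, 79016])) (.node (.leaf [7, 42, 65868, 1, 34384522, 34394682]) (.leaf []))))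 (.node (.node (.node (.leaf [5, 11192, 264]) (.leaf [6, 50986, 76520])) (.node (.leaf [6, 41626, 45240]) (.leaf [8, 5, 1135524, 3, 3, 20, 16616, 924940890, 1, 2, 3, 8168, 932001130, 1, 2, 3, 2200, 34157866, 1, 2, 3, 2072, 3488778, 1, 2, 3, 3, 2, 1]))) (.node (.node (.leaf [6, 28825, 26730]) (.leaf [6, 92057, 52282])) (.node (.leaf [6, 60121, 54794]) (.leaf [])))))) (.node (.node (.node (.node (.node (.leaf [3, 163]) (.leaf [5, 65416, 14632])) (.node (.leaf [8, 5, 1589460, 5, 3, 3, 35290, 3, 4, 3, 4, 0, 5, 800298, 3, 0, 5, 2056, 800698, 3, 4]) (.leaf [6, 97385, 89530]))) (.node (.node (.leaf [8, 4, 189684, 4, 9, 5, 3164170, 2, 34359578, 1, 2, 2, 1, 0, 5, 2424, 3164602, 1, 2]) (.leaf [6, 78506, 79016])) (.node (.leaf [6, 47737, 31962]) (.leaf [8, 1, 4826192, 3, 3, 4, 923635162, 1, 2, 3, 3, 2, 1, 0, 5, 56488, 930185674, 3, 2, 1, 0, 5, 2024, 926777434, 3, 2, 1, 0, 5, 56392, 925217306, 3, 2, 1])))) (.node (.node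 (.node (.leaf [5, 7848, 136]) (.leaf [6, 72602, 74408])) (.node (.leaf [6, 43449, 34042]) (.leaf [3, 6819]))) (.node (.node (.leaf [3, 1699]) (.leaf [6, 85098, 92056])) (.node (.leaf [6, 57193, 33498]) (.leaf []))))) (.node (.node (.node (.node (.leaf [5, 3736, 2744]) (.leaf [6, 71881, 32314, 71880])) (.node (.leaf [6, 39289, 34650]) (.leaf [3, 6563]))) (.node (.node (.leaf [3, 1443]) (.leaf [6, 87993, 60714, 87992])) (.node (.leaf [8, 42, 1581420, 4, 3, 8, 3460698, 2, 1, 33606346, 1, 2, 32746, 2, 2, 1]) (.leaf [])))) (.node (.node (.node (.leaf [2]) (.leaf [6, 58218, 79016])) (.node (.leaf [6, 46585, 46490, 46584]) (.leaf [3, 7075]))) (.node (.node (.leaf [3, 1955]) (.leaf [6, 96249, 88426])) (.node (.leaf [5, 63112, 62664]) (.leaf []))))))) (.node (.node (.node (.node (.node (.node (.leaf [5, 1384, 1592]) (.leaf [5, 64808, 14152])) (.node (.leaf [3, 2147]) (.leaf [6, 83050, 97384]))) (.node (.node (.leaf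 [8, 1, 485698, 4, 0, 7, 3160954, 1, 2, 15336, 3423130, 2, 1, 2, 0, 5, 2056, 34358842, 2, 1]) (.leaf [6, 79017, 59338, 79016])) (.node (.leaf [6, 30234, 47736]) (.leaf [8, 5, 5115338, 3, 3, 9, 919167898, 1, 2, 3, 16472, 919190762, 1, 2, 3, 3, 2, 1, 0, 5, 16872, 928880026, 3, 2, 1, 0, 5, 64504, 897546, 3, 2, 1])))) (.node (.node (.node (.leaf [5, 6776, 136]) (.leaf [6, 74409, 22362])) (.node (.leaf [6, 42009, 40282, 42008]) (.leaf [3, 6755]))) (.node (.node (.leaf [3, 1635]) (.leaf [6, 87993, 86730])) (.node (.leaf [6, 57193, 49050]) (.leaf []))))) (.node (.node (.node (.node (.leaf [5, 3224, 472]) (.leaf [5, 68280, 14632])) (.node (.leaf [8, 50, 403370, 1, 7, 11, 37162, 3, 2, 3, 216, 34375594, 3, 34375850, 2, 0, 5, 5, 0, 3]) (.leaf [8, 5, 5988150, 3, 3, 9, 921013642, 1, 2, 3, 56, 919946762, 1, 2, 3, 3, 2, 1, 0, 5, 1896, 924672314, 3, 2, 1, 0, 5, 16504, 932012970, 3, 2, 1]))) (.node (.node (.leaf [8, 12, 923504,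 3, 3, 12, 33575498, 1, 2, 3, 807882, 1, 2, 3, 3427018, 1, 2, 3, 3, 2, 1, 0, 5, 3429098, 3, 2, 1]) (.leaf [5, 57033])) (.node (.leaf [3, 3427]) (.leaf [])))) (.node (.node (.node (.leaf [8, 1, 198588, 4, 9, 2, 2490, 2, 2, 1, 0, 5, 3421658, 1, 2, 0, 5, 56, 3421402, 2, 1]) (.leaf [6, 79017, 57386, 79016])) (.node (.leaf [6, 14874, 46584]) (.leaf [3, 7011]))) (.node (.node (.leaf [6, 27866, 28824]) (.leaf [6, 95721, 88186])) (.node (.leaf [5, 62728, 14152]) (.leaf [])))))) (.node (.node (.node (.node (.node (.leaf [5, 2824, 136]) (.leaf [5, 66120, 62664])) (.node (.leaf [3, 2275]) (.leaf [6, 95002, 97384]))) (.node (.node (.leaf [8, 8, 1992480, 3, 3, 4, 3163018, 1, 2, 3, 3, 2, 1, 0, 5, 14344, 33833914, 3, 2, 1, 0, 5, 33836314, 3, 2, 1, 0, 5, 34098730, 3, 2, 1]) (.leaf [6, 73242, 79016])) (.node (.leaf [3, 3299]) (.leaf [])))) (.node (.node (.node (.leaf [5, 9208, 2744]) (.leaf [6, 76521, 58122])) (.node (.leaf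 [8, 4, 272164, 5, 3, 3, 830794, 3, 4, 3, 4, 0, 5, 1656, 3165610, 3, 0, 5, 15816, 806266, 3, 4]) (.leaf [8, 2, 5036858, 4, 3, 8, 6648, 925714522, 2, 1, 16392, 932807450, 1, 2, 2, 1, 0, 5, 3544, 923106282, 2]))) (.node (.node (.leaf [3, 1763]) (.leaf [6, 85674, 92056])) (.node (.leaf [6, 60121, 45706]) (.leaf []))))) (.node (.node (.node (.node (.leaf [5, 4648, 2744]) (.leaf [6, 52074, 71880])) (.node (.leaf [7, 5, 2181660, 1, 34376314, 34381370]) (.leaf [8, 2, 3009270, 3, 3, 20, 4072, 926776010, 1, 2, 3, 16696, 882506, 1, 2, 3, 16504, 922574618, 1, 2, 3, 64520, 925724570, 1, 2, 3, 3, 2, 1]))) (.node (.node (.leaf [8, 12, 1789200, 5, 9, 6, 810378, 3, 216, 20938, 4, 3, 3, 4, 0, 5, 33840666, 4, 3]) (.leaf [6, 87993, 37562])) (.node (.leaf [5, 56776, 56104]) (.leaf [])))) (.node (.node (.node (.leaf [3, 995]) (.leaf [6, 75610, 79016])) (.node (.leaf [6, 25402, 47736]) (.leaf [3, 7139]))) (.node (.node (.leaf [8,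 8, 90552, 4, 6, 6, 803882, 1, 2, 760, 33848490, 2, 1, 2, 0, 5, 14392, 3439258, 2, 1]) (.leaf [6, 97385, 17402])) (.node (.leaf [5, 63592, 62664]) (.leaf []))))))))) (.node (.node (.node (.node (.node (.node (.node (.node (.leaf [5, 264, 296]) (.leaf [5, 64024, 14152])) (.node (.leaf [8, 12, 592706, 4, 3, 6, 3428986, 2, 1, 816298, 1, 2, 2, 1, 0, 5, 819082, 2]) (.leaf [6, 79850, 97384]))) (.node (.node (.leaf [5, 16328, 1992]) (.leaf [6, 79017, 58954, 79016])) (.node (.leaf [6, 47737, 28938]) (.leaf [3, 7187])))) (.node (.node (.node (.leaf [5, 5368, 2744]) (.leaf [6, 73833, 36042])) (.node (.leaf [8, 50, 271658, 5, 6, 9, 38906, 4, 3, 1992, 3421690, 3, 3422362, 4, 3, 4, 3]) (.leaf [8, 2, 3937598, 4, 0, 8, 4072, 920746698, 1, 2, 16680, 921541930, 2, 1, 2, 0, 5, 12536, 921795274, 2, 1]))) (.node (.node (.leaf [3, 1555]) (.leaf [6, 87993, 61498, 87992])) (.node (.leaf [6, 57193, 20474]) (.leaf []))))) (.node (.node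 (.node (.node (.leaf [5, 2968, 472]) (.leaf [5, 66760, 14152])) (.node (.leaf [8, 1, 420510, 5, 9, 5, 36650, 3, 37146, 4, 3, 3, 4, 0, 5, 2104, 3421754, 4, 3]) (.leaf [6, 93818, 102200]))) (.node (.node (.leaf [8, 26, 1317132, 4, 0, 6, 806938, 1, 2, 20762, 2, 1, 2, 0, 5, 33837114, 2, 1]) (.leaf [6, 79017, 54042])) (.node (.leaf [3, 3347]) (.leaf [])))) (.node (.node (.node (.leaf [5, 10808, 264]) (.leaf [6, 26298, 76520])) (.node (.leaf [6, 34618, 45240]) (.leaf [8, 5, 7117396, 3, 3, 20, 16616, 883290, 1, 2, 3, 5880, 97034, 1, 2, 3, 63896, 921272298, 1, 2, 3, 56392, 925728634, 1, 2, 3, 3, 2, 1]))) (.node (.node (.leaf [6, 28825, 26474]) (.leaf [6, 92057, 44970])) (.node (.leaf [6, 52794, 60120]) (.leaf [])))))) (.node (.node (.node (.node (.node (.leaf [5, 1624, 2248]) (.leaf [5, 65240, 62664])) (.node (.leaf [2]) (.leaf [6, 93306, 97384]))) (.node (.node (.leaf [8, 15, 0, 4, 6, 5, 15370, 1, 2, 17914, 2, 1,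 2, 0, 5, 805130, 2, 1]) (.leaf [6, 78442, 79016])) (.node (.leaf [6, 28634, 47736]) (.leaf [8, 1, 2941206, 3, 3, 15, 56952, 921004506, 1, 2, 3, 56952, 930987082, 1, 2, 3, 56712, 923648234, 1, 2, 3, 3, 2, 1, 0, 5, 56872, 924171962, 3, 2, 1])))) (.node (.node (.node (.leaf [5, 7480, 2744]) (.leaf [6, 74409, 50938])) (.node (.leaf [8, 22, 1267728, 4, 0, 9, 40442, 1, 2, 827898, 2, 1, 33594362, 1, 2, 2]) (.leaf [8, 5, 6729550, 4, 9, 11, 16648, 924403786, 2, 12264, 919160874, 1, 2, 2200, 919420250, 2, 1, 2, 1]))) (.node (.node (.leaf [8, 12, 198244, 4, 6, 5, 3166778, 1, 2, 33837802, 2, 1, 2, 0, 5, 813322, 2, 1]) (.leaf [6, 72058, 92056])) (.node (.leaf [6, 57193, 31258]) (.leaf []))))) (.node (.node (.node (.node (.leaf [5, 3592, 472]) (.leaf [6, 31914, 71880])) (.node (.leaf [8, 42, 1382976, 4, 0, 7, 823626, 1, 2, 2232, 34114202, 2, 1, 2, 0, 5, 34374666, 2, 1]) (.leaf [3, 6547]))) (.node (.node (.leaf [3, 1427])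 (.leaf [6, 87993, 60458])) (.node (.leaf [8, 29, 1712430, 4, 3, 3, 839226, 2, 1, 2, 1, 0, 5, 3457978, 2, 0, 5, 807754, 2, 1]) (.leaf [])))) (.node (.node (.node (.leaf [5, 14344, 14632]) (.leaf [6, 79017, 58058])) (.node (.leaf [6, 46585, 44650, 46584]) (.leaf [3, 7059]))) (.node (.node (.leaf [3, 1939]) (.leaf [6, 96249, 78698])) (.node (.leaf [5, 63016, 14344]) (.leaf []))))))) (.node (.node (.node (.node (.node (.node (.leaf [2]) (.leaf [5, 64648, 14344])) (.node (.leaf [3, 2131]) (.leaf [6, 82506, 97384]))) (.node (.node (.leaf [2]) (.leaf [6, 79017, 75866])) (.node (.leaf [6, 29962, 47736]) (.leaf [3, 7251])))) (.node (.node (.node (.leaf [5, 6488, 472]) (.leaf [6, 74409, 21514])) (.node (.leaf [6, 42009, 37146]) (.leaf [3, 6739]))) (.node (.node (.leaf [8, 8, 4618154, 4, 9, 5, 18954, 2, 34366586, 1, 2, 2, 1, 0, 5, 3429898, 1, 2]) (.leaf [6, 87993, 76442])) (.node (.leaf [6, 57193, 23082]) (.leaf [])))))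 (.node (.node (.node (.node (.leaf [5, 3176, 296]) (.leaf [5, 67928, 62664])) (.node (.leaf [3, 2387]) (.leaf [8, 5, 235668, 5, 0, 3, 920227210, 4, 3, 3, 0, 5, 2168, 925713994, 3, 4, 0, 5, 33642522, 4, 3]))) (.node (.node (.leaf [8, 4, 99142, 4, 9, 9, 20650, 2, 19256, 33837258, 1, 2, 21690, 2, 1, 2, 1]) (.leaf [6, 82682, 87032])) (.node (.leaf [8, 42, 1128142, 4, 6, 9, 839002, 1, 2, 34127194, 2, 15336, 3194186, 1, 2, 1, 2]) (.leaf [])))) (.node (.node (.node (.leaf [6, 13513, 13194]) (.leaf [6, 79017, 19722])) (.node (.leaf [6, 45241, 43322]) (.leaf [3, 6995]))) (.node (.node (.leaf [6, 27610, 28824]) (.leaf [6, 86650, 92056])) (.node (.leaf [5, 14664, 62664]) (.leaf [])))))) (.node (.node (.node (.node (.node (.leaf [5, 2760, 2744]) (.leaf [5, 65912, 62664])) (.node (.leaf [3, 2259]) (.leaf [6, 85850, 97384]))) (.node (.node (.leaf [8, 1, 997754, 1, 7, 4, 19738, 3, 2, 3, 5, 0, 3, 0, 5, 2072, 33834058, 5,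 0, 2, 0, 5, 14360, 17450, 3]) (.leaf [6, 79017, 72714])) (.node (.leaf [3, 3283]) (.leaf [])))) (.node (.node (.node (.leaf [5, 9000, 2744]) (.leaf [6, 76521, 23674, 76520])) (.node (.leaf [6, 43178, 44056]) (.leaf [8, 2, 1189336, 3, 3, 10, 6648, 931743834, 1, 2, 3, 16648, 920476746, 1, 2, 3, 3, 2, 1, 0, 5, 11432, 928357850, 3, 2, 1, 0, 5, 16744, 930438970, 3, 2, 1]))) (.node (.node (.leaf [3, 1747]) (.leaf [6, 73082, 92056])) (.node (.leaf [6, 60121, 45450]) (.leaf []))))) (.node (.node (.node (.node (.leaf [5, 4440, 296]) (.leaf [6, 33178, 71880])) (.node (.leaf [3, 2515]) (.leaf [8, 2, 2376052, 5, 3, 8, 4072, 933591754, 3, 4, 16616, 930709642, 4, 3, 3, 4, 0, 5, 9208, 926240922, 3]))) (.node (.node (.leaf [6, 23209, 22970]) (.leaf [6, 36330, 87992])) (.node (.leaf [5, 56520, 56104]) (.leaf [])))) (.node (.node (.node (.leaf [8, 1, 996078, 1, 7, 11, 13018, 3, 2, 3, 1528, 13034, 3, 801994, 2, 0, 5, 5, 0,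 3]) (.leaf [6, 79017, 75546])) (.node (.leaf [6, 25114, 47736]) (.leaf [8, 1, 6487768, 3, 3, 9, 924683690, 1, 2, 3, 2184, 919696954, 1, 2, 3, 3, 2, 1, 0, 5, 56312, 928084410, 3, 2, 1, 0, 5, 16600, 920238202, 3, 2, 1]))) (.node (.node (.leaf [8, 1, 1523930, 4, 9, 6, 803690, 2, 14376, 3163066, 1, 2, 2, 1, 0, 5, 56, 818474, 1, 2]) (.leaf [6, 97385, 13994, 97384])) (.node (.leaf [5, 63464, 14344]) (.leaf [])))))))) (.node (.node (.node (.node (.node (.node (.node (.leaf [5, 536, 648]) (.leaf [5, 64328, 14632])) (.node (.leaf [3, 2099]) (.leaf [6, 80842, 97384]))) (.node (.node (.leaf [7, 2, 264944, 2, 664, 3422298, 34358074]) (.leaf [6, 49562, 79016])) (.node (.leaf [6, 29450, 47736]) (.leaf [8, 5, 5334142, 3, 3, 14, 931761610, 1, 2, 3, 56184, 924416858, 1, 2, 3, 6744, 919964714, 1, 2, 3, 3, 2, 1, 0, 5, 16632, 924431946, 3, 2, 1])))) (.node (.node (.node (.leaf [5, 5976, 2744]) (.leaf [6, 74409, 21306])) (.node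 (.leaf [6, 41369, 35354]) (.leaf [3, 6707]))) (.node (.node (.leaf [3, 1587]) (.leaf [6, 87993, 85914])) (.node (.leaf [6, 57193, 22346]) (.leaf []))))) (.node (.node (.node (.node (.leaf [5, 3080, 136]) (.leaf [5, 67224, 62664])) (.node (.leaf [3, 2355]) (.leaf [8, 5, 4529034, 4, 6, 3, 919440778, 1, 2, 1, 2, 0, 5, 16552, 920481242, 2, 1, 0, 5, 56200, 921272714, 2]))) (.node (.node (.leaf [6, 21273, 17962]) (.leaf [6, 79017, 55402])) (.node (.leaf [3, 3379]) (.leaf [])))) (.node (.node (.node (.leaf [3, 819]) (.leaf [6, 76521, 31098])) (.node (.leaf [6, 37402, 45240]) (.leaf [8, 2, 638100, 5, 3, 8, 7864, 921270858, 3, 4, 16504, 924159834, 4, 3, 3, 4, 0, 5, 11912, 932814442, 3]))) (.node (.node (.leaf [6, 27018, 28824]) (.leaf [6, 91130, 92056])) (.node (.leaf [6, 60121, 60042]) (.leaf [])))))) (.node (.node (.node (.node (.node (.leaf [5, 488, 2744]) (.leaf [5, 65576, 62664])) (.node (.leaf [3, 2227]) (.leaf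 [6, 90778, 97384]))) (.node (.node (.leaf [8, 1, 156408, 4, 6, 6, 3164298, 1, 2, 15672, 33835738, 2, 1, 2, 0, 5, 2056, 33573626, 2, 1]) (.leaf [6, 79017, 59626, 79016])) (.node (.leaf [6, 33338, 47736]) (.leaf [3, 7347])))) (.node (.node (.node (.leaf [5, 8232, 136]) (.leaf [6, 74698, 76520])) (.node (.leaf [8, 8, 1466808, 5, 0, 7, 829402, 4, 3, 36392, 3188954, 3, 4, 3, 0, 5, 43018, 3, 4]) (.leaf [8, 5, 1629892, 3, 3, 5, 16648, 923879498, 1, 2, 3, 3, 2, 1, 0, 5, 16600, 933585162, 3, 2, 1, 0, 5, 14376, 931936698, 3, 2, 1, 0, 5, 68200, 926514746, 3, 2, 1]))) (.node (.node (.leaf [8, 23, 461000, 4, 6, 5, 805482, 1, 2, 27434, 2, 1, 2, 0, 5, 808042, 2, 1]) (.leaf [6, 92057, 76330])) (.node (.leaf [6, 60121, 43562]) (.leaf []))))) (.node (.node (.node (.node (.leaf [5, 3896, 2744]) (.leaf [6, 71881, 51882])) (.node (.leaf [7, 5, 1648754, 2, 1880, 34114314, 34380602]) (.leaf [8, 2, 5034342, 4, 0, 12, 4072, 926513866,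 1, 2, 16760, 928872042, 2, 1, 56840, 927040170, 1, 2, 2]))) (.node (.node (.leaf [6, 23209, 19354]) (.leaf [6, 87993, 60970, 87992])) (.node (.leaf [5, 200, 56104]) (.leaf [])))) (.node (.node (.node (.leaf [7, 1, 337528, 2, 56, 3422922, 34356026]) (.leaf [6, 77642, 79016])) (.node (.leaf [6, 24602, 47736]) (.leaf [3, 7091]))) (.node (.node (.leaf [3, 1971]) (.leaf [6, 96249, 94122])) (.node (.leaf [5, 63240, 14344]) (.leaf []))))))) (.node (.node (.node (.node (.node (.node (.leaf [7, 1, 791788, 1, 3409658, 3409722]) (.leaf [5, 64952, 62664])) (.node (.leaf [3, 2163]) (.leaf [6, 97385, 84298]))) (.node (.node (.leaf [8, 1, 1448850, 4, 3, 3, 3160778, 2, 1, 2, 1, 0, 5, 2088, 804570, 2, 0, 5, 3163818, 2, 1]) (.leaf [6, 79017, 50586])) (.node (.leaf [6, 47737, 30490]) (.leaf [3, 7283])))) (.node (.node (.node (.leaf [5, 7000, 136]) (.leaf [6, 48266, 74408])) (.node (.leaf [6, 41274, 42008]) (.leaf [3, 6771])))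 (.node (.node (.leaf [8, 8, 1399796, 3, 3, 9, 17338, 1, 2, 3, 2056, 3426394, 1, 2, 3, 3, 2, 1, 0, 5, 14392, 803866, 3, 2, 1, 0, 5, 3434186, 3, 2, 1]) (.leaf [6, 62570, 87992])) (.node (.leaf [6, 57193, 49754]) (.leaf []))))) (.node (.node (.node (.node (.leaf [5, 3336, 264]) (.leaf [5, 68728, 14632])) (.node (.leaf [6, 38521, 35066]) (.leaf [8, 5, 232258, 5, 9, 6, 923372938, 3, 56776, 931228618, 4, 3, 3, 4, 0, 5, 16424, 924677994, 4, 3]))) (.node (.node (.leaf [3, 1395]) (.leaf [6, 83930, 87816])) (.node (.leaf [8, 29, 2634590, 4, 0, 6, 52650, 1, 2, 54858, 2, 1, 2, 0, 5, 19480, 34098730, 2, 1]) (.leaf [])))) (.node (.node (.node (.leaf [5, 14120]) (.leaf [6, 79017, 57642, 79016])) (.node (.leaf [6, 46585, 44218]) (.leaf [3, 7027]))) (.node (.node (.leaf [6, 28138, 28824]) (.leaf [6, 89226, 95720])) (.node (.leaf [5, 62808, 14344]) (.leaf [])))))) (.node (.node (.node (.node (.node (.leaf [5, 2872, 264]) (.leaf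 [5, 66328, 14632])) (.node (.leaf [3, 2291]) (.leaf [6, 31226, 102200]))) (.node (.node (.leaf [8, 1, 115264, 4, 0, 6, 3164922, 1, 2, 3165978, 2, 1, 2, 0, 5, 806346, 2, 1]) (.leaf [6, 52666, 79016])) (.node (.leaf [3, 3315]) (.leaf [])))) (.node (.node (.node (.leaf [5, 9592, 136]) (.leaf [6, 76521, 58474])) (.node (.leaf [8, 9, 551900, 5, 6, 7, 36968, 830810, 4, 3, 2376, 44810, 3, 4, 3, 0, 5, 36968, 831082, 3, 4]) (.leaf [8, 2, 5618810, 4, 9, 11, 6648, 931219546, 2, 16888, 924952474, 1, 2, 16536, 927283674, 2, 1, 2, 1]))) (.node (.node (.leaf [3, 1779]) (.leaf [6, 73594, 92056])) (.node (.leaf [6, 60121, 39642]) (.leaf []))))) (.node (.node (.node (.node (.leaf [5, 4856, 472]) (.leaf [6, 33706, 71880])) (.node (.leaf [7, 1, 743238, 1, 34358410, 34381626]) (.leaf [8, 2, 3190374, 4, 9, 6, 4072, 927038154, 2, 34446218, 1, 2, 2, 1, 0, 5, 892698, 1, 2]))) (.node (.node (.leaf [3, 1523]) (.leaf [6, 87993, 61306,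 87992])) (.node (.leaf [7, 1, 7183720, 2, 56120, 919094650, 933550618]) (.leaf [])))) (.node (.node (.node (.leaf [3, 1011]) (.leaf [6, 79017, 75674])) (.node (.leaf [6, 25658, 47736]) (.leaf [3, 7155]))) (.node (.node (.leaf [3, 2035]) (.leaf [6, 76746, 97384])) (.node (.leaf [5, 63752, 14152]) (.leaf []))))))))))

/-- their proofs, part 5 -/
def proofTab5 : WTab :=
  (.node (.node (.node (.node (.node (.node (.node (.node (.node (.leaf [2]) (.leaf [5, 63880, 62664])) (.node (.leaf [8, 23, 725094, 4, 0, 3, 3167050, 1, 2, 2, 0, 5, 815978, 2, 1, 0, 5, 34111322, 1, 2]) (.leaf [6, 79578, 97384]))) (.node (.node (.leaf [5, 16248, 1992]) (.leaf [6, 79017, 58842, 79016])) (.node (.leaf [6, 47737, 25978]) (.leaf [8, 1, 4556126, 5, 9, 10, 923897274, 3, 17000, 922850890, 4, 3, 17080, 929127642, 3, 4, 3, 4])))) (.node (.node (.node (.leaf [5, 5096, 296]) (.leaf [6, 55946, 71880])) (.node (.leaf [8, 8, 1449186, 5, 3,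 3, 38202, 3, 4, 3, 4, 0, 5, 14392, 17498, 3, 0, 5, 2072, 33836314, 3, 4]) (.leaf [3, 6660]))) (.node (.node (.leaf [8, 1, 931578, 4, 3, 7, 800138, 2, 1, 1608, 33835450, 1, 2, 2, 1, 0, 5, 2056, 3432250, 2]) (.leaf [6, 87993, 42666, 87992])) (.node (.leaf [6, 57193, 23386]) (.leaf []))))) (.node (.node (.node (.node (.leaf [5, 2920, 472]) (.leaf [5, 66552, 62664])) (.node (.leaf [7, 22, 592878, 1, 3182506, 34377802]) (.leaf [6, 100570, 102200]))) (.node (.node (.leaf [3, 1284]) (.leaf [6, 53498, 79016])) (.node (.leaf [8, 22, 930234, 4, 6, 9, 47354, 1, 2, 2408, 34125754, 2, 33600650, 1, 2, 1, 2]) (.leaf [])))) (.node (.node (.node (.leaf [5, 10120, 136]) (.leaf [6, 48234, 76520])) (.node (.leaf [3, 2820]) (.leaf [3, 6916]))) (.node (.node (.leaf [8, 33, 922488, 5, 6, 9, 25194, 4, 3, 22920, 33844010, 3, 3435418, 4, 3, 4, 3]) (.leaf [6, 92057, 90010])) (.node (.leaf [6, 60121, 43114]) (.leaf [])))))) (.node (.node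 (.node (.node (.node (.leaf [7, 1, 659580, 2, 2056, 3409610, 3409834]) (.leaf [5, 65128, 62664])) (.node (.leaf [8, 1, 198084, 5, 0, 6, 3159514, 4, 3, 34842, 3, 4, 3, 0, 5, 2104, 14010, 3, 4]) (.leaf [6, 97385, 96602]))) (.node (.node (.leaf [6, 18058, 18504]) (.leaf [6, 50858, 79016])) (.node (.leaf [6, 30634, 47736]) (.leaf [8, 1, 4735848, 5, 0, 4, 56968, 922839498, 4, 3, 3, 0, 5, 56840, 34192586, 3, 4, 0, 5, 56968, 921269674, 4, 3])))) (.node (.node (.node (.leaf [5, 7240, 2744]) (.leaf [6, 50074, 74408])) (.node (.leaf [8, 42, 1317120, 4, 0, 3, 42506, 1, 2, 2, 0, 5, 33857962, 2, 1, 0, 5, 33595994, 1, 2]) (.leaf [3, 6788]))) (.node (.node (.leaf [3, 1668]) (.leaf [6, 40602, 92056])) (.node (.leaf [6, 51194, 57192]) (.leaf []))))) (.node (.node (.node (.node (.leaf [5, 3480, 472]) (.leaf [5, 69480, 62664])) (.node (.leaf [5, 38984]) (.leaf [8, 5, 34690, 5, 3, 10, 923897226, 3, 4, 56456, 923109962, 4, 3,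 16248, 926767146, 3, 3, 4]))) (.node (.node (.leaf [8, 16, 329294, 4, 0, 6, 33838442, 1, 2, 33839162, 2, 1, 2, 0, 5, 15528, 34100586, 2, 1]) (.leaf [6, 87993, 60218])) (.node (.leaf [3, 3460]) (.leaf [])))) (.node (.node (.node (.leaf [3, 900]) (.leaf [6, 79017, 75210])) (.node (.leaf [6, 44410, 46584]) (.leaf [3, 7044]))) (.node (.node (.leaf [2]) (.leaf [6, 84922, 96248])) (.node (.leaf [5, 62904, 62664]) (.leaf []))))))) (.node (.node (.node (.node (.node (.node (.leaf [8, 1, 0, 5, 3, 8, 26, 3, 6, 4, 6, 7, 4, 3, 3, 4, 0, 5, 787514, 3]) (.leaf [5, 64488, 14632])) (.node (.leaf [8, 1, 395316, 5, 9, 9, 13770, 3, 2104, 3421882, 4, 3, 33850, 3, 4, 3, 4]) (.leaf [6, 97385, 81338]))) (.node (.node (.leaf [6, 17241, 16202]) (.leaf [6, 78234, 79016])) (.node (.leaf [6, 29722, 47736]) (.leaf [3, 7236])))) (.node (.node (.node (.leaf [5, 6216, 2744]) (.leaf [6, 18954, 74408])) (.node (.leaf [6, 35194, 42008]) (.leaf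 [8, 5, 6299288, 5, 3, 11, 16376, 96986, 3, 4, 3976, 933338554, 4, 3, 2168, 927830410, 3, 3, 4]))) (.node (.node (.leaf [8, 2, 1583232, 4, 9, 10, 3163194, 2, 14376, 34358362, 1, 2, 2072, 34365242, 2, 1, 2, 1]) (.leaf [6, 86394, 87992])) (.node (.leaf [6, 57193, 23850]) (.leaf []))))) (.node (.node (.node (.node (.leaf [5, 3128, 296]) (.leaf [5, 67560, 14152])) (.node (.leaf [7, 1, 91560, 2, 2072, 3422794, 34378826]) (.leaf [8, 5, 316660, 3, 3, 4, 919965066, 1, 2, 3, 3, 2, 1, 0, 5, 16344, 931487882, 3, 2, 1, 0, 5, 16456, 926767802, 3, 2, 1, 0, 5, 16360, 921529082, 3, 2, 1]))) (.node (.node (.leaf [6, 20634, 21272]) (.leaf [6, 87033, 19898])) (.node (.leaf [3, 3396]) (.leaf [])))) (.node (.node (.node (.leaf [5, 13352, 1192]) (.leaf [6, 72922, 76520])) (.node (.leaf [6, 40234, 45240]) (.leaf [8, 2, 2917212, 4, 0, 8, 7864, 34437706, 1, 2, 16776, 933577194, 2, 1, 2, 0, 5, 3000, 34175914, 2, 1]))) (.node (.node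 (.leaf [6, 28825, 27306]) (.leaf [6, 92057, 54362, 92056])) (.node (.leaf [6, 55642, 60120]) (.leaf [])))))) (.node (.node (.node (.node (.node (.leaf [5, 808, 2744]) (.leaf [5, 65768, 14344])) (.node (.leaf [8, 9, 8240, 4, 9, 2, 35626, 2, 2, 1, 0, 5, 801258, 1, 2, 0, 5, 2072, 33588346, 2, 1]) (.leaf [6, 90810, 97384]))) (.node (.node (.leaf [3, 1220]) (.leaf [6, 31690, 79016])) (.node (.leaf [8, 5, 24702, 5, 6, 5, 3193018, 4, 3, 52298, 3, 4, 3, 0, 5, 16552, 3421626, 3, 4]) (.leaf [])))) (.node (.node (.node (.leaf [5, 8696, 2744]) (.leaf [6, 76521, 57466])) (.node (.leaf [6, 39818, 44056]) (.leaf [3, 6852]))) (.node (.node (.leaf [8, 12, 2700104, 4, 0, 7, 3169018, 1, 2, 2056, 34366682, 2, 1, 2, 0, 5, 34105258, 2, 1]) (.leaf [6, 92057, 72842])) (.node (.leaf [6, 60121, 43642]) (.leaf []))))) (.node (.node (.node (.node (.leaf [5, 4200, 296]) (.leaf [6, 59866, 71880])) (.node (.leaf [8, 4, 1334592, 5, 6, 3,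 37322, 4, 3, 4, 3, 0, 5, 13546, 3, 4, 0, 5, 2072, 33840810, 3]) (.leaf [3, 6596]))) (.node (.node (.leaf [6, 23209, 20666]) (.leaf [6, 87993, 42170])) (.node (.leaf [5, 56280, 56104]) (.leaf [])))) (.node (.node (.node (.leaf [7, 1, 3625110, 2, 56, 34356218, 34356298]) (.leaf [6, 79017, 47786])) (.node (.leaf [6, 24874, 47736]) (.leaf [3, 7108]))) (.node (.node (.leaf [8, 4, 1911186, 4, 9, 5, 800122, 2, 34096042, 1, 2, 2, 1, 0, 5, 1608, 818250, 1, 2]) (.leaf [6, 91994, 96248])) (.node (.leaf [5, 63352, 14344]) (.leaf [])))))))) (.node (.node (.node (.node (.node (.node (.node (.leaf [8, 1, 0, 4, 9, 9, 26, 2, 6, 7, 1, 2, 394, 2, 1, 2, 1]) (.leaf [5, 64152, 62664])) (.node (.leaf [3, 2084]) (.leaf [6, 87242, 97384]))) (.node (.node (.leaf [5, 16408, 16232]) (.leaf [6, 79017, 78074])) (.node (.leaf [6, 29210, 47736]) (.leaf [3, 7204])))) (.node (.node (.node (.leaf [5, 5720, 296]) (.leaf [6, 45002, 73832]))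 (.node (.leaf [6, 41369, 39530]) (.leaf [3, 6692]))) (.node (.node (.leaf [8, 12, 330798, 4, 0, 6, 20954, 1, 2, 17914, 2, 1, 2, 0, 5, 24458, 2, 1]) (.leaf [6, 74298, 87992])) (.node (.leaf [6, 57193, 21834]) (.leaf []))))) (.node (.node (.node (.node (.leaf [5, 3032, 136]) (.leaf [5, 67000, 62664])) (.node (.leaf [3, 2340]) (.leaf [3, 6436]))) (.node (.node (.leaf [6, 18746, 20920]) (.leaf [6, 62282, 79016])) (.node (.leaf [5, 53832]) (.leaf [])))) (.node (.node (.node (.leaf [5, 11224, 136]) (.leaf [6, 28186, 76520])) (.node (.leaf [6, 45241, 41642, 45240]) (.leaf [3, 6948]))) (.node (.node (.leaf [6, 26746, 28824]) (.leaf [6, 52298, 92056])) (.node (.leaf [6, 54810, 60120]) (.leaf [])))))) (.node (.node (.node (.node (.node (.leaf [7, 1, 477798, 2, 2056, 3148330, 34343498]) (.leaf [5, 65432, 14152])) (.node (.leaf [3, 2212]) (.leaf [6, 89546, 97384]))) (.node (.node (.leaf [3, 1188]) (.leaf [6, 79017, 78522]))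 (.node (.leaf [6, 47737, 32362]) (.leaf [3, 7332])))) (.node (.node (.node (.leaf [5, 7848, 472]) (.leaf [6, 74409, 72938])) (.node (.leaf [6, 34058, 43448]) (.leaf [8, 5, 2496658, 5, 6, 7, 16648, 920733770, 4, 3, 8200, 928359322, 3, 4, 3, 0, 5, 16792, 919171178, 3, 4]))) (.node (.node (.leaf [8, 23, 790624, 3, 3, 18, 21194, 1, 2, 3, 15336, 810106, 1, 2, 3, 15336, 812506, 1, 2, 3, 33581530, 1, 2, 3, 3, 2, 1]) (.leaf [6, 92057, 85114])) (.node (.leaf [6, 33514, 57192]) (.leaf []))))) (.node (.node (.node (.node (.leaf [5, 3752, 296]) (.leaf [6, 71881, 32330])) (.node (.leaf [6, 34666, 39288]) (.leaf [8, 2, 4613424, 4, 9, 11, 4072, 930708170, 2, 16376, 932283098, 1, 2, 56360, 931489802, 2, 1, 2, 1]))) (.node (.node (.leaf [8, 16, 938796, 4, 9, 5, 3168026, 2, 809418, 1, 2, 2, 1, 0, 5, 15528, 3426410, 1, 2]) (.leaf [6, 87993, 60730, 87992])) (.node (.leaf [8, 42, 1581420, 5, 3, 7, 3460698, 3, 4, 19496, 33603882,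 4, 3, 3, 4, 0, 5, 841306, 3]) (.leaf [])))) (.node (.node (.node (.leaf [3, 932]) (.leaf [6, 79017, 58234])) (.node (.leaf [6, 46585, 46506, 46584]) (.leaf [8, 5, 1695082, 3, 3, 19, 929140122, 1, 2, 3, 56824, 34436314, 1, 2, 3, 16232, 921811482, 1, 2, 3, 16568, 925988122, 1, 2, 3, 3, 2, 1]))) (.node (.node (.leaf [7, 1, 2708348, 2, 200, 31226, 34372170]) (.leaf [6, 88442, 96248])) (.node (.leaf [5, 63128, 62664]) (.leaf []))))))) (.node (.node (.node (.node (.node (.node (.leaf [5, 1400, 1592]) (.leaf [5, 64808, 14344])) (.node (.leaf [8, 1, 1583236, 5, 0, 6, 820442, 4, 3, 34218, 3, 4, 3, 0, 5, 2104, 33588746, 3, 4]) (.leaf [6, 83098, 97384]))) (.node (.node (.leaf [3, 1124]) (.leaf [6, 79017, 59354, 79016])) (.node (.leaf [6, 30250, 47736]) (.leaf [3, 7268])))) (.node (.node (.node (.leaf [5, 6776, 264]) (.leaf [6, 22378, 74408])) (.node (.leaf [6, 42009, 40298, 42008]) (.leaf [8, 5, 5887702, 4, 9, 7, 16376,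 927562458, 2, 648, 933329386, 1, 2, 2, 1, 0, 5, 16504, 921525626, 1, 2]))) (.node (.node (.leaf [8, 12, 2373176, 4, 6, 8, 810186, 1, 2, 34103194, 2, 3170138, 1, 2, 1, 2]) (.leaf [6, 86746, 87992])) (.node (.leaf [6, 57193, 49066]) (.leaf []))))) (.node (.node (.node (.node (.leaf [5, 3224, 2744]) (.leaf [5, 68296, 14632])) (.node (.leaf [3, 2404]) (.leaf [3, 6500]))) (.node (.node (.leaf [3, 1380]) (.leaf [6, 87625, 81274])) (.node (.leaf [8, 42, 3885862, 5, 0, 7, 839066, 4, 3, 19608, 3198570, 3, 4, 3, 0, 5, 3462554, 3, 4]) (.leaf [])))) (.node (.node (.node (.leaf [3, 868]) (.leaf [6, 79017, 57402])) (.node (.leaf [6, 38010, 46584]) (.leaf [8, 5, 6303442, 3, 3, 9, 919440794, 1, 2, 3, 56264, 933073226, 1, 2, 3, 3, 2, 1, 0, 5, 16584, 923548042, 3, 2, 1, 0, 5, 65640, 920180874, 3, 2, 1]))) (.node (.node (.leaf [6, 28825, 27882]) (.leaf [6, 34010, 95720])) (.node (.leaf [5, 62728, 14344]) (.leaf [])))))) (.node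 (.node (.node (.node (.node (.leaf [5, 2824, 264]) (.leaf [5, 66152, 14152])) (.node (.leaf [8, 22, 214386, 5, 0, 3, 36026, 4, 3, 3, 0, 5, 33572202, 3, 4, 0, 5, 2072, 804106, 4, 3]) (.leaf [6, 97385, 86058]))) (.node (.node (.leaf [3, 1252]) (.leaf [6, 79017, 73258])) (.node (.leaf [8, 4, 3557090, 4, 9, 7, 1704, 33604010, 2, 19608, 34124986, 1, 2, 2, 1, 0, 5, 2280, 34390426, 1, 2]) (.leaf [])))) (.node (.node (.node (.leaf [5, 9224, 472]) (.leaf [6, 76521, 22202])) (.node (.leaf [3, 2788]) (.leaf [3, 6884]))) (.node (.node (.leaf [8, 33, 264432, 5, 0, 7, 24490, 4, 3, 22920, 3173722, 3, 4, 3, 0, 5, 25498, 3, 4]) (.leaf [6, 92057, 85690])) (.node (.leaf [6, 60121, 45722]) (.leaf []))))) (.node (.node (.node (.node (.leaf [5, 4680, 296]) (.leaf [6, 71881, 52090])) (.node (.leaf [5, 40520]) (.leaf [3, 6628]))) (.node (.node (.leaf [3, 1508]) (.leaf [6, 37578, 87992])) (.node (.leaf [5, 56792, 56104]) (.leaf []))))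 (.node (.node (.node (.leaf [8, 1, 996078, 4, 6, 6, 13018, 1, 2, 1400, 34354554, 2, 1, 2, 0, 5, 200, 34356762, 2, 1]) (.leaf [6, 48298, 79016])) (.node (.leaf [6, 47737, 25418]) (.leaf [8, 1, 2947670, 4, 3, 3, 919178682, 2, 1, 2, 1, 0, 5, 56936, 919944090, 2, 0, 5, 16408, 919177674, 2, 1]))) (.node (.node (.leaf [3, 2020]) (.leaf [6, 97385, 76538, 97384])) (.node (.leaf [5, 63608, 62664]) (.leaf []))))))))) (.node (.node (.node (.node (.node (.node (.node (.node (.leaf [5, 280, 296]) (.leaf [5, 64024, 14344])) (.node (.leaf [3, 2068]) (.leaf [6, 79930, 97384]))) (.node (.node (.leaf [5, 16328, 2152]) (.leaf [6, 79017, 58970, 79016])) (.node (.leaf [6, 28954, 47736]) (.leaf [8, 5, 1527370, 5, 3, 7, 888266, 3, 4, 56104, 925477322, 4, 3, 3, 4, 0, 5, 16984, 927041210, 3])))) (.node (.node (.node (.leaf [5, 5400, 296]) (.leaf [6, 73833, 36090])) (.node (.leaf [3, 2580]) (.leaf [3, 6676]))) (.node (.node (.leaf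 [8, 12, 197568, 3, 3, 13, 801674, 1, 2, 3, 2056, 33839882, 1, 2, 3, 3432634, 1, 2, 3, 3, 2, 1, 0, 5, 15336, 3166954, 3, 2, 1]) (.leaf [6, 87993, 61514, 87992])) (.node (.leaf [6, 57193, 21482]) (.leaf []))))) (.node (.node (.node (.node (.leaf [5, 2968, 2744]) (.leaf [5, 66760, 14344])) (.node (.leaf [3, 2324]) (.leaf [6, 102201, 91098]))) (.node (.node (.leaf [3, 1300]) (.leaf [6, 54058, 79016])) (.node (.leaf [8, 4, 3886010, 5, 0, 8, 2264, 835994, 4, 3, 19624, 33836362, 3, 4, 3, 0, 5, 2264, 48890, 3, 4]) (.leaf [])))) (.node (.node (.node (.leaf [5, 10824, 472]) (.leaf [6, 76521, 49610])) (.node (.leaf [6, 45241, 34634]) (.leaf [3, 6932]))) (.node (.node (.leaf [6, 26490, 28824]) (.leaf [6, 44986, 92056])) (.node (.leaf [6, 60121, 52810]) (.leaf [])))))) (.node (.node (.node (.node (.node (.leaf [5, 1640, 2248]) (.leaf [5, 65256, 14344])) (.node (.leaf [3, 2196]) (.leaf [6, 97385, 93322]))) (.node (.node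 (.leaf [3, 1172]) (.leaf [6, 79017, 78458])) (.node (.leaf [6, 47737, 28650]) (.leaf [3, 7316])))) (.node (.node (.node (.leaf [5, 7496, 472]) (.leaf [6, 50954, 74408])) (.node (.leaf [3, 2708]) (.leaf [3, 6804]))) (.node (.node (.leaf [3, 1684]) (.leaf [6, 92057, 72074])) (.node (.leaf [6, 31274, 57192]) (.leaf []))))) (.node (.node (.node (.node (.leaf [5, 3608, 2744]) (.leaf [6, 32010, 71880])) (.node (.leaf [3, 2452]) (.leaf [8, 5, 6607742, 5, 3, 7, 924945802, 3, 4, 56904, 919174474, 4, 3, 3, 4, 0, 5, 931764298, 3]))) (.node (.node (.leaf [8, 30, 263428, 5, 9, 5, 808394, 3, 33572298, 4, 3, 3, 4, 0, 5, 22762, 4, 3]) (.leaf [6, 60474, 87992])) (.node (.leaf [3, 3476]) (.leaf [])))) (.node (.node (.node (.leaf [5, 14360, 14632]) (.leaf [6, 58074, 79016])) (.node (.leaf [6, 46585, 44666, 46584]) (.leaf [8, 5, 1693236, 5, 6, 10, 923372954, 4, 3, 200, 923112506, 3, 16584, 929661018, 4, 3, 4, 3]))) (.node (.node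 (.leaf [8, 29, 593384, 4, 0, 6, 20362, 1, 2, 33576170, 2, 1, 2, 0, 5, 3438730, 2, 1]) (.leaf [6, 78714, 96248])) (.node (.leaf [5, 63016, 14632]) (.leaf []))))))) (.node (.node (.node (.node (.node (.node (.leaf [7, 1, 460998, 2, 216, 1354, 3409226]) (.leaf [5, 64664, 14632])) (.node (.leaf [8, 1, 594224, 5, 3, 7, 13850, 3, 4, 2072, 33588554, 4, 3, 3, 4, 0, 5, 2104, 33850410, 3]) (.leaf [6, 82522, 97384]))) (.node (.node (.leaf [3, 1108]) (.leaf [6, 75882, 79016])) (.node (.leaf [6, 29978, 47736]) (.leaf [8, 5, 5580922, 5, 6, 6, 919430026, 4, 3, 2232, 925973498, 3, 4, 3, 0, 5, 1880, 931755562, 3, 4])))) (.node (.node (.node (.leaf [5, 6488, 2744]) (.leaf [6, 21530, 74408])) (.node (.leaf [6, 37514, 42008]) (.leaf [8, 5, 5903644, 3, 3, 5, 16376, 928348890, 1, 2, 3, 3, 2, 1, 0, 5, 16376, 927827114, 3, 2, 1, 0, 5, 56680, 926515482, 3, 2, 1, 0, 5, 66872, 923634298, 3, 2, 1]))) (.node (.node (.leaf [3, 1620])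 (.leaf [6, 87993, 62074, 87992])) (.node (.leaf [6, 57193, 48394]) (.leaf []))))) (.node (.node (.node (.node (.leaf [5, 3176, 472]) (.leaf [5, 67944, 14344])) (.node (.leaf [8, 47, 197736, 4, 0, 7, 3444922, 1, 2, 2312, 36730, 2, 1, 2, 0, 5, 33854058, 2, 1]) (.leaf [3, 6484]))) (.node (.node (.leaf [3, 1364]) (.leaf [6, 87033, 82698])) (.node (.leaf [3, 3412]) (.leaf [])))) (.node (.node (.node (.leaf [6, 13210, 13512]) (.leaf [6, 79017, 19786])) (.node (.leaf [6, 45241, 43754]) (.leaf [8, 2, 6100834, 3, 3, 5, 7864, 930708042, 1, 2, 3, 3, 2, 1, 0, 5, 5576, 924416074, 3, 2, 1, 0, 5, 16504, 102106, 3, 2, 1, 0, 5, 56328, 930187882, 3, 2, 1]))) (.node (.node (.leaf [6, 28825, 27626]) (.leaf [6, 92057, 86666])) (.node (.leaf [5, 14680, 62664]) (.leaf [])))))) (.node (.node (.node (.node (.node (.leaf [5, 2776, 136]) (.leaf [5, 65944, 14152])) (.node (.leaf [8, 46, 930224, 5, 0, 11, 35914, 4, 3, 2024, 3410378,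 3, 4, 2072, 33572218, 4, 3, 3]) (.leaf [6, 85866, 97384]))) (.node (.node (.leaf [3, 1236]) (.leaf [6, 72730, 79016])) (.node (.leaf [8, 4, 3359164, 1, 7, 8, 1704, 34128298, 3, 2, 3, 19608, 34387130, 3, 5, 0, 3, 0, 5, 1704, 34389706, 5, 0, 2]) (.leaf [])))) (.node (.node (.node (.leaf [5, 9016, 136]) (.leaf [6, 76521, 23690])) (.node (.leaf [6, 44057, 43194]) (.leaf [8, 2, 3192890, 3, 3, 20, 6648, 925452378, 1, 2, 3, 16344, 930437322, 1, 2, 3, 216, 922328426, 1, 2, 3, 67544, 924427066, 1, 2, 3, 3, 2, 1]))) (.node (.node (.leaf [8, 30, 395492, 3, 3, 9, 809914, 1, 2, 3, 15336, 33578186, 1, 2, 3, 3, 2, 1, 0, 5, 33575914, 3, 2, 1, 0, 5, 33843818, 3, 2, 1]) (.leaf [6, 92057, 73098])) (.node (.leaf [6, 45466, 60120]) (.leaf []))))) (.node (.node (.node (.node (.leaf [5, 4440, 472]) (.leaf [6, 71881, 33194])) (.node (.leaf [8, 50, 3046194, 5, 3, 9, 3445370, 3, 4, 3183290, 4, 3, 1992, 3184618, 3, 3, 4]) (.leaf [3,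 6612]))) (.node (.node (.leaf [6, 22986, 23208]) (.leaf [6, 42234, 87992])) (.node (.leaf [5, 56536, 56104]) (.leaf [])))) (.node (.node (.node (.leaf [3, 980]) (.leaf [6, 79017, 75562])) (.node (.leaf [6, 47737, 25130]) (.leaf [3, 7124]))) (.node (.node (.leaf [3, 2004]) (.leaf [6, 97385, 14026, 97384])) (.node (.leaf [5, 63464, 14632]) (.leaf [])))))))) (.node (.node (.node (.node (.node (.node (.node (.leaf [5, 552, 648]) (.leaf [5, 64328, 62664])) (.node (.leaf [8, 1, 296692, 4, 6, 8, 809658, 1, 2, 30106, 2, 33434, 1, 2, 1, 2]) (.leaf [6, 97385, 77690, 97384]))) (.node (.node (.leaf [5, 17225]) (.leaf [6, 49578, 79016])) (.node (.leaf [6, 47737, 29466]) (.leaf [3, 7220])))) (.node (.node (.node (.leaf [5, 5992, 2744]) (.leaf [6, 74409, 21322])) (.node (.leaf [6, 41369, 38826]) (.leaf [8, 5, 5903654, 5, 6, 7, 16376, 34175706, 4, 3, 3976, 933338394, 3, 4, 3, 0, 5, 16728, 929380122, 3, 4]))) (.node (.node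 (.leaf [8, 16, 131718, 4, 6, 6, 3161274, 1, 2, 216, 34101050, 2, 1, 2, 0, 5, 811258, 2, 1]) (.leaf [6, 78954, 87992])) (.node (.leaf [6, 57193, 22394]) (.leaf []))))) (.node (.node (.node (.node (.leaf [5, 3080, 264]) (.leaf [5, 67240, 14344])) (.node (.leaf [8, 22, 1317120, 4, 0, 10, 33853354, 1, 2, 36968, 37610, 2, 1, 821002, 1, 2, 2]) (.leaf [3, 6452]))) (.node (.node (.leaf [6, 17978, 21272]) (.leaf [6, 55418, 79016])) (.node (.leaf [8, 17, 1136016, 5, 6, 9, 3460090, 4, 3, 1416, 33870106, 3, 33870122, 4, 3, 4, 3]) (.leaf [])))) (.node (.node (.node (.leaf [8, 1, 724590, 5, 0, 7, 362, 4, 3, 5704, 378, 3, 4, 3, 0, 5, 13130, 3, 4]) (.leaf [6, 31114, 76520])) (.node (.leaf [6, 37610, 45240]) (.leaf [3, 6964]))) (.node (.node (.leaf [6, 28825, 27034]) (.leaf [6, 92057, 91146])) (.node (.leaf [6, 60058, 60120]) (.leaf [])))))) (.node (.node (.node (.node (.node (.leaf [5, 504, 2744]) (.leaf [5, 65592, 62664]))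 (.node (.leaf [8, 9, 921984, 4, 9, 2, 35386, 2, 2, 1, 0, 5, 801242, 1, 2, 0, 5, 2072, 34374874, 2, 1]) (.leaf [6, 97385, 90794]))) (.node (.node (.leaf [3, 1204]) (.leaf [6, 79017, 59642, 79016])) (.node (.leaf [6, 33418, 47736]) (.leaf [8, 1, 753258, 3, 3, 4, 919178794, 1, 2, 3, 3, 2, 1, 0, 5, 56216, 925999338, 3, 2, 1, 0, 5, 16344, 927043274, 3, 2, 1, 0, 5, 56472, 3518778, 3, 2, 1])))) (.node (.node (.node (.leaf [5, 8232, 472]) (.leaf [6, 74714, 76520])) (.node (.leaf [3, 2740]) (.leaf [3, 6836]))) (.node (.node (.leaf [3, 1716]) (.leaf [6, 76346, 92056])) (.node (.leaf [6, 43578, 60120]) (.leaf []))))) (.node (.node (.node (.node (.leaf [5, 3928, 2744]) (.leaf [6, 71881, 32634])) (.node (.leaf [5, 39752]) (.leaf [3, 6580]))) (.node (.node (.leaf [6, 20138, 23208]) (.leaf [6, 74010, 87992])) (.node (.leaf [5, 216, 56104]) (.leaf [])))) (.node (.node (.node (.leaf [5, 15176]) (.leaf [6, 58490, 79016]))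 (.node (.leaf [6, 47737, 24618]) (.leaf [8, 1, 7467656, 5, 0, 6, 919702954, 4, 3, 933345098, 3, 4, 3, 0, 5, 56312, 3520186, 3, 4]))) (.node (.node (.leaf [8, 12, 593718, 4, 9, 9, 3428874, 2, 2344, 3166746, 1, 2, 31562, 2, 1, 2, 1]) (.leaf [6, 94138, 96248])) (.node (.leaf [5, 63240, 14632]) (.leaf []))))))) (.node (.node (.node (.node (.node (.node (.leaf [5, 1864]) (.leaf [5, 64968, 62664])) (.node (.leaf [8, 1, 634728, 5, 9, 5, 3441706, 3, 34375018, 4, 3, 3, 4, 0, 5, 2072, 34375418, 4, 3]) (.leaf [6, 84314, 97384]))) (.node (.node (.leaf [3, 1140]) (.leaf [6, 50602, 79016])) (.node (.leaf [6, 30506, 47736]) (.leaf [8, 5, 6903618, 4, 9, 6, 919954346, 2, 16280, 924432298, 1, 2, 2, 1, 0, 5, 16888, 927050778, 1, 2])))) (.node (.node (.node (.leaf [5, 7000, 264]) (.leaf [6, 74409, 48282])) (.node (.leaf [6, 41290, 42008]) (.leaf [8, 5, 5923808, 4, 6, 11, 16648, 922568778, 1, 2, 7720, 932289642, 2, 56456, 922839066,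 1, 2, 1, 2]))) (.node (.node (.leaf [3, 1652]) (.leaf [6, 87993, 62586])) (.node (.leaf [6, 57193, 49866]) (.leaf []))))) (.node (.node (.node (.node (.leaf [5, 3336, 296]) (.leaf [5, 68760, 14152])) (.node (.leaf [6, 38521, 35082]) (.leaf [3, 6516]))) (.node (.node (.leaf [8, 1, 798524, 4, 3, 9, 21754, 2, 1, 33836954, 1, 2, 19656, 34100250, 2, 2, 1]) (.leaf [7, 4, 2410190, 2, 87800, 925185018, 933581162])) (.node (.leaf [3, 3444]) (.leaf [])))) (.node (.node (.node (.leaf [8, 2, 0, 3, 3, 8, 122, 1, 2, 3, 14106, 1, 2, 3, 3, 2, 1, 0, 5, 296, 786810, 3, 2, 1, 0, 5, 216, 799962, 3, 2, 1]) (.leaf [6, 57658, 79016])) (.node (.leaf [6, 46585, 36762]) (.leaf [8, 5, 5788384, 4, 6, 3, 920227226, 1, 2, 1, 2, 0, 5, 34449578, 2, 1, 0, 5, 56424, 929130890, 2]))) (.node (.node (.leaf [6, 28825, 28250]) (.leaf [6, 89274, 95720])) (.node (.leaf [5, 62808, 14632]) (.leaf [])))))) (.node (.node (.node (.node (.node (.leaf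 [5, 2872, 296]) (.leaf [5, 66344, 62664])) (.node (.leaf [8, 22, 1992498, 4, 0, 6, 36186, 1, 2, 3180234, 2, 1, 2, 0, 5, 36234, 2, 1]) (.leaf [6, 102201, 31242]))) (.node (.node (.leaf [3, 1268]) (.leaf [6, 79017, 52682])) (.node (.leaf [8, 29, 750124, 4, 6, 10, 19640, 33604026, 1, 2, 34390426, 2, 19624, 34387146, 1, 2, 1, 2]) (.leaf [])))) (.node (.node (.node (.leaf [5, 9624, 2744]) (.leaf [6, 76521, 58586])) (.node (.leaf [8, 9, 2585204, 5, 3, 8, 36968, 3452250, 3, 4, 1656, 3159786, 4, 3, 3, 4, 0, 5, 36968, 3452730, 3]) (.leaf [3, 6900]))) (.node (.node (.leaf [8, 33, 132216, 5, 0, 7, 811130, 4, 3, 22920, 3435946, 3, 4, 3, 0, 5, 3171146, 3, 4]) (.leaf [6, 92057, 73610])) (.node (.leaf [6, 60121, 42506]) (.leaf []))))) (.node (.node (.node (.node (.leaf [5, 4872, 296]) (.leaf [6, 33722, 71880])) (.node (.leaf [5, 40776]) (.leaf [3, 6644]))) (.node (.node (.leaf [8, 4, 469232, 3, 3, 17, 800042, 1, 2, 3, 33835978,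 1, 2, 3, 19592, 34098474, 1, 2, 3, 24378, 1, 2, 3, 3, 2, 1]) (.leaf [6, 87993, 61322, 87992])) (.node (.leaf [7, 1, 7284026, 2, 56904, 34101546, 933550826]) (.leaf [])))) (.node (.node (.node (.leaf [8, 5, 592710, 5, 6, 14, 13754, 4, 3, 472, 3424042, 3, 16072, 33570522, 4, 3, 2392, 3159642, 3, 4]) (.leaf [6, 77978, 79016])) (.node (.leaf [6, 47737, 25674]) (.leaf [8, 1, 1005752, 5, 3, 10, 920227258, 3, 4, 16632, 922065066, 4, 3, 16232, 920995866, 3, 3, 4]))) (.node (.node (.leaf [8, 23, 395644, 4, 3, 6, 3425754, 2, 1, 816106, 1, 2, 2, 1, 0, 5, 818922, 2]) (.leaf [6, 97385, 87050])) (.node (.leaf [5, 63752, 14344]) (.leaf []))))))))))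

/-- their proofs, part 6 -/
def proofTab6 : WTab :=
  (.node (.node (.node (.node (.node (.node (.node (.node (.node (.leaf [7, 1, 1317126, 2, 56, 90, 786522]) (.leaf [5, 63896, 62664])) (.node (.leaf [3, 2053]) (.leaf [6, 97385, 79594]))) (.node (.node (.leaf [5, 16248, 2152]) (.leaf [6, 79017, 58858, 79016])) (.node (.leaf [6, 26042, 47736]) (.leaf [3, 7173])))) (.node (.node (.node (.leaf [5, 5096, 472]) (.leaf [5, 57113])) (.node (.leaf [3, 2565]) (.leaf [8, 2, 1823182, 4, 9, 7, 4072, 923105994, 2, 16840, 929121690, 1, 2, 2, 1, 0, 5, 11768, 921274378, 1, 2]))) (.node (.node (.leaf [3, 1541]) (.leaf [6, 87993, 42682, 87992])) (.node (.leaf [6, 23402, 57192]) (.leaf []))))) (.node (.node (.node (.node (.leaf [5, 2920, 2744]) (.leaf [5, 66568, 14152])) (.node (.leaf [5, 36952]) (.leaf [6, 85002, 102200]))) (.node (.node (.leaf [8, 30, 168, 4, 0, 6, 806746, 1, 2, 3428106, 2, 1, 2, 0, 5, 20490, 2, 1]) (.leaf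 [6, 79017, 53514])) (.node (.leaf [3, 3333]) (.leaf [])))) (.node (.node (.node (.leaf [5, 10120, 264]) (.leaf [6, 76521, 48250])) (.node (.leaf [8, 5, 1251610, 5, 6, 5, 830282, 4, 3, 44986, 3, 4, 3, 0, 5, 2152, 800298, 3, 4]) (.leaf [8, 5, 5985636, 4, 0, 8, 16616, 928348762, 1, 2, 4488, 922069770, 2, 1, 2, 0, 5, 16744, 921537226, 2, 1]))) (.node (.node (.leaf [3, 1797]) (.leaf [6, 90090, 92056])) (.node (.leaf [6, 46394, 60120]) (.leaf [])))))) (.node (.node (.node (.node (.node (.leaf [5, 2136]) (.leaf [5, 65144, 14344])) (.node (.leaf [3, 2181]) (.leaf [6, 78730, 97384]))) (.node (.node (.leaf [6, 18505, 18074]) (.leaf [6, 50874, 79016])) (.node (.leaf [6, 28410, 47736]) (.leaf [3, 7301])))) (.node (.node (.node (.leaf [5, 7256, 472]) (.leaf [6, 74409, 50090])) (.node (.leaf [3, 2693]) (.leaf [8, 5, 5469382, 4, 6, 11, 16648, 924665930, 1, 2, 12040, 922331146, 2, 5544, 924072026, 1, 2, 1, 2]))) (.node (.node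 (.leaf [8, 11, 1382984, 4, 9, 10, 18408, 15082, 2, 3423354, 1, 2, 15672, 33843002, 2, 1, 2, 1]) (.leaf [6, 39098, 92056])) (.node (.leaf [6, 51402, 57192]) (.leaf []))))) (.node (.node (.node (.node (.leaf [5, 3496, 264]) (.leaf [5, 69656, 62664])) (.node (.leaf [5, 36392, 39000]) (.leaf [3, 6533]))) (.node (.node (.leaf [3, 1413]) (.leaf [6, 87993, 60234])) (.node (.leaf [8, 29, 4358772, 4, 9, 6, 839130, 2, 2264, 3461370, 1, 2, 2, 1, 0, 5, 33608474, 1, 2]) (.leaf [])))) (.node (.node (.node (.leaf [8, 2, 659580, 3, 3, 8, 3408282, 1, 2, 3, 14250, 1, 2, 3, 3, 2, 1, 0, 5, 680, 378, 3, 2, 1, 0, 5, 200, 3159978, 3, 2, 1]) (.leaf [6, 75226, 79016])) (.node (.leaf [6, 43882, 46584]) (.leaf [8, 5, 5903388, 4, 6, 10, 920751514, 1, 2, 56424, 929637066, 2, 56328, 927053786, 1, 2, 1, 2]))) (.node (.node (.leaf [3, 1925]) (.leaf [6, 96249, 30906])) (.node (.leaf [5, 62920, 14344]) (.leaf []))))))) (.node (.node (.node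 (.node (.node (.node (.leaf [3, 69]) (.leaf [5, 64488, 62664])) (.node (.leaf [3, 2117]) (.leaf [6, 81354, 97384]))) (.node (.node (.leaf [8, 17, 197568, 5, 6, 12, 802282, 4, 3, 17306, 3, 14152, 803706, 4, 3, 15882, 3, 4]) (.leaf [6, 79017, 78250])) (.node (.leaf [6, 47737, 29738]) (.leaf [8, 5, 3048470, 5, 0, 3, 920740730, 4, 3, 3, 0, 5, 2232, 923903050, 3, 4, 0, 5, 16376, 931499786, 4, 3])))) (.node (.node (.node (.leaf [5, 6264, 2744]) (.leaf [6, 74409, 18970])) (.node (.leaf [6, 42009, 39578]) (.leaf [3, 6725]))) (.node (.node (.leaf [3, 1605]) (.leaf [6, 86410, 87992])) (.node (.leaf [6, 23866, 57192]) (.leaf []))))) (.node (.node (.node (.node (.leaf [5, 3128, 472]) (.leaf [5, 67576, 62664])) (.node (.leaf [5, 37976]) (.leaf [3, 6469]))) (.node (.node (.leaf [6, 21273, 20842]) (.leaf [6, 79290, 87032])) (.node (.leaf [8, 4, 4771778, 4, 0, 6, 838794, 1, 2, 54362, 2, 1, 2, 0, 5, 1528, 34131978, 2, 1])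 (.leaf [])))) (.node (.node (.node (.leaf [5, 13368, 952]) (.leaf [6, 76521, 61802])) (.node (.leaf [6, 45241, 40394]) (.leaf [3, 6981]))) (.node (.node (.leaf [6, 27322, 28824]) (.leaf [6, 92057, 54378, 92056])) (.node (.leaf [6, 55738, 60120]) (.leaf [])))))) (.node (.node (.node (.node (.node (.leaf [5, 824, 2744]) (.leaf [5, 65768, 62664])) (.node (.leaf [3, 2245]) (.leaf [6, 97385, 90826]))) (.node (.node (.leaf [7, 1, 1654634, 2, 200, 19402, 34360410]) (.leaf [6, 79017, 72314])) (.node (.leaf [3, 3269]) (.leaf [])))) (.node (.node (.node (.leaf [5, 8712, 136]) (.leaf [6, 57482, 76520])) (.node (.leaf [6, 44057, 39834]) (.leaf [8, 2, 5013962, 4, 6, 6, 6648, 927549530, 1, 2, 109642, 2, 1, 2, 0, 5, 10216, 932027498, 2, 1]))) (.node (.node (.leaf [3, 1733]) (.leaf [6, 72858, 92056])) (.node (.leaf [6, 60121, 39466]) (.leaf []))))) (.node (.node (.node (.node (.leaf [5, 4200, 472]) (.leaf [6, 32922, 71880]))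 (.node (.leaf [8, 4, 931736, 5, 0, 6, 33591754, 4, 3, 33594458, 3, 4, 3, 0, 5, 2376, 33592538, 3, 4]) (.leaf [8, 2, 5160294, 5, 6, 7, 4072, 927300298, 4, 3, 16744, 926240538, 3, 4, 3, 0, 5, 2760, 925989418, 3, 4]))) (.node (.node (.leaf [6, 23209, 20682]) (.leaf [6, 42186, 87992])) (.node (.leaf [5, 56296, 56104]) (.leaf [])))) (.node (.node (.node (.leaf [5, 15448]) (.leaf [6, 47802, 79016])) (.node (.leaf [6, 47737, 24890]) (.leaf [8, 1, 2889654, 5, 3, 7, 921013674, 3, 4, 2216, 923110026, 4, 3, 3, 4, 0, 5, 56264, 924665562, 3]))) (.node (.node (.leaf [3, 1989]) (.leaf [5, 87912])) (.node (.leaf [5, 63352, 14632]) (.leaf [])))))))) (.node (.node (.node (.node (.node (.node (.node (.leaf [3, 37]) (.leaf [5, 64168, 62664])) (.node (.leaf [8, 8, 617402, 1, 7, 6, 18922, 3, 2, 3, 3440074, 3, 5, 0, 3, 0, 5, 14392, 3428666, 5, 0, 2]) (.leaf [6, 97385, 87258]))) (.node (.node (.leaf [5, 16424, 16232]) (.leaf [6,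 78090, 79016])) (.node (.leaf [6, 47737, 29226]) (.leaf [8, 5, 3742810, 5, 6, 6, 920227274, 4, 3, 56712, 933339402, 3, 4, 3, 0, 5, 16904, 921012650, 3, 4])))) (.node (.node (.node (.leaf [5, 5720, 472]) (.leaf [6, 73833, 45018])) (.node (.leaf [6, 41369, 38586]) (.leaf [8, 5, 5526308, 4, 3, 8, 16376, 920746714, 2, 1, 12568, 922502202, 1, 2, 2, 1, 0, 5, 16536, 921788602, 2]))) (.node (.node (.leaf [3, 1573]) (.leaf [6, 87993, 74314])) (.node (.leaf [6, 21850, 57192]) (.leaf []))))) (.node (.node (.node (.node (.leaf [5, 3032, 264]) (.leaf [5, 67032, 14152])) (.node (.leaf [8, 47, 206810, 5, 3, 7, 33591242, 3, 4, 17528, 33853978, 4, 3, 3, 4, 0, 5, 33854042, 3]) (.leaf [8, 5, 4272830, 5, 3, 6, 3509642, 3, 4, 922582746, 4, 3, 3, 4, 0, 5, 16952, 924156794, 3]))) (.node (.node (.leaf [6, 18762, 20920]) (.leaf [6, 79017, 62298])) (.node (.leaf [5, 39000, 53848]) (.leaf [])))) (.node (.node (.node (.leaf [5, 11224,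 264]) (.leaf [6, 76521, 51114])) (.node (.leaf [6, 45241, 41658, 45240]) (.leaf [8, 5, 2773346, 3, 3, 10, 16616, 925203034, 1, 2, 3, 4072, 923895818, 1, 2, 3, 3, 2, 1, 0, 5, 870794, 3, 2, 1, 0, 5, 16440, 927286186, 3, 2, 1]))) (.node (.node (.leaf [6, 26762, 28824]) (.leaf [6, 92057, 52346])) (.node (.leaf [6, 60121, 54826]) (.leaf [])))))) (.node (.node (.node (.node (.node (.leaf [5, 2648]) (.leaf [5, 65432, 14344])) (.node (.leaf [8, 5, 2436852, 4, 9, 9, 3181018, 2, 33588522, 1, 2, 2072, 3425482, 2, 1, 2, 1]) (.leaf [6, 97385, 47098]))) (.node (.node (.leaf [8, 15, 790274, 4, 0, 3, 3426602, 1, 2, 2, 0, 5, 33835386, 2, 1, 0, 5, 14344, 3164650, 1, 2]) (.leaf [6, 79017, 59498, 79016])) (.node (.leaf [6, 32378, 47736]) (.leaf [8, 1, 4653532, 3, 3, 19, 929402330, 1, 2, 3, 56696, 921517114, 1, 2, 3, 16584, 928105882, 1, 2, 3, 56600, 922861098, 1, 2, 3, 3, 2, 1])))) (.node (.node (.node (.leaf [5, 7864, 2744])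 (.leaf [6, 73018, 74408])) (.node (.leaf [6, 34330, 43448]) (.leaf [8, 5, 1947592, 4, 6, 7, 16648, 919160906, 1, 2, 7160, 920484778, 2, 1, 2, 0, 5, 16600, 34421754, 2, 1]))) (.node (.node (.leaf [3, 1701]) (.leaf [6, 92057, 85130])) (.node (.leaf [6, 57193, 54954]) (.leaf []))))) (.node (.node (.node (.node (.leaf [5, 3752, 472]) (.leaf [6, 32346, 71880])) (.node (.leaf [6, 38570, 39288]) (.leaf [3, 6565]))) (.node (.node (.leaf [3, 1445]) (.leaf [6, 87993, 60746])) (.node (.leaf [3, 3493]) (.leaf [])))) (.node (.node (.node (.leaf [8, 1, 921984, 5, 9, 9, 394, 3, 264, 3408282, 4, 3, 14922, 3, 4, 3, 4]) (.leaf [6, 58250, 79016])) (.node (.leaf [7, 4, 3622946, 2, 2264, 34369882, 34388250]) (.leaf [3, 7077]))) (.node (.node (.leaf [5, 31320]) (.leaf [6, 88458, 96248])) (.node (.leaf [5, 63144, 14344]) (.leaf []))))))) (.node (.node (.node (.node (.node (.node (.leaf [5, 1416, 1592]) (.leaf [5, 64824, 14344]))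 (.node (.leaf [3, 2149]) (.leaf [6, 97385, 83114]))) (.node (.node (.leaf [8, 1, 485698, 4, 6, 10, 3160954, 1, 2, 15336, 3423130, 2, 2056, 34358794, 1, 2, 1, 2]) (.leaf [6, 79017, 59370, 79016])) (.node (.leaf [6, 47737, 30266]) (.leaf [8, 5, 4613448, 4, 9, 10, 920478618, 2, 16824, 919454954, 1, 2, 56888, 111130, 2, 1, 2, 1])))) (.node (.node (.node (.leaf [5, 6776, 472]) (.leaf [6, 23754, 74408])) (.node (.leaf [6, 42009, 40314]) (.leaf [3, 6757]))) (.node (.node (.leaf [3, 1637]) (.leaf [6, 87993, 86762])) (.node (.leaf [6, 49082, 57192]) (.leaf []))))) (.node (.node (.node (.node (.leaf [5, 3240, 136]) (.leaf [5, 68312, 62664])) (.node (.leaf [7, 50, 1325354, 1, 34117178, 34379354]) (.leaf [8, 5, 5988150, 5, 0, 3, 921013642, 4, 3, 3, 0, 5, 34443994, 3, 4, 0, 5, 16664, 928867610, 4, 3]))) (.node (.node (.leaf [8, 23, 461668, 3, 3, 8, 3429482, 1, 2, 3, 34097674, 1, 2, 3, 3, 2, 1, 0, 5, 3429370, 3, 2, 1,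 0, 5, 33836602, 3, 2, 1]) (.leaf [6, 81290, 87624])) (.node (.leaf [8, 42, 3885862, 5, 6, 9, 839066, 4, 3, 19608, 3198570, 3, 54618, 4, 3, 4, 3]) (.leaf [])))) (.node (.node (.node (.leaf [8, 1, 329956, 4, 6, 6, 3410362, 1, 2, 1992, 3159562, 2, 1, 2, 0, 5, 200, 800218, 2, 1]) (.leaf [6, 57418, 79016])) (.node (.leaf [6, 46585, 38026]) (.leaf [3, 7013]))) (.node (.node (.leaf [6, 28825, 27898]) (.leaf [6, 95721, 34026])) (.node (.leaf [5, 62728, 14632]) (.leaf [])))))) (.node (.node (.node (.node (.node (.leaf [5, 2824, 296]) (.leaf [5, 66152, 14344])) (.node (.leaf [3, 2277]) (.leaf [6, 86074, 97384]))) (.node (.node (.leaf [8, 8, 1975698, 3, 3, 9, 3425162, 1, 2, 3, 2104, 3427866, 1, 2, 3, 3, 2, 1, 0, 5, 14152, 33571770, 3, 2, 1, 0, 5, 2088, 34098026, 3, 2, 1]) (.leaf [6, 73274, 79016])) (.node (.leaf [3, 3301]) (.leaf [])))) (.node (.node (.node (.leaf [5, 9288, 2744]) (.leaf [6, 22218, 76520])) (.node (.leaf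 [8, 4, 272164, 5, 6, 3, 830794, 4, 3, 4, 3, 0, 5, 1608, 13994, 3, 4, 0, 5, 2312, 830858, 3]) (.leaf [8, 2, 5036858, 4, 9, 7, 6648, 925714522, 2, 17096, 922576378, 1, 2, 2, 1, 0, 5, 3544, 923106282, 1, 2]))) (.node (.node (.leaf [3, 1765]) (.leaf [6, 73370, 92056])) (.node (.leaf [6, 45738, 60120]) (.leaf []))))) (.node (.node (.node (.node (.leaf [5, 4680, 472]) (.leaf [6, 52106, 71880])) (.node (.leaf [6, 17610, 40536]) (.leaf [8, 2, 3009270, 4, 0, 8, 4072, 926776010, 1, 2, 16696, 33651498, 2, 1, 2, 0, 5, 34446170, 2, 1]))) (.node (.node (.leaf [7, 1, 387078, 2, 216, 801658, 34365018]) (.leaf [6, 87993, 42346, 87992])) (.node (.leaf [5, 56808, 56104]) (.leaf [])))) (.node (.node (.node (.leaf [3, 997]) (.leaf [6, 79017, 48314])) (.node (.leaf [6, 25434, 47736]) (.leaf [3, 7141]))) (.node (.node (.leaf [8, 1, 1029336, 4, 9, 5, 3163530, 2, 34365882, 1, 2, 2, 1, 0, 5, 2104, 3177802, 1, 2]) (.leaf [6, 97385,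 76554, 97384])) (.node (.leaf [5, 63624, 14632]) (.leaf []))))))))) (.node (.node (.node (.node (.node (.node (.node (.node (.leaf [8, 1, 0, 4, 0, 8, 26, 1, 6, 2, 6, 7, 2, 1, 2, 0, 5, 200, 90, 2, 1]) (.leaf [5, 64024, 14632])) (.node (.leaf [8, 12, 66372, 4, 3, 6, 807578, 2, 1, 30506, 1, 2, 2, 1, 0, 5, 15336, 34373370, 2]) (.leaf [6, 97385, 79946]))) (.node (.node (.leaf [5, 16328, 16232]) (.leaf [6, 79017, 58986, 79016])) (.node (.leaf [6, 28970, 47736]) (.leaf [3, 7189])))) (.node (.node (.node (.leaf [5, 5400, 472]) (.leaf [6, 36106, 73832])) (.node (.leaf [8, 50, 1333942, 1, 7, 11, 38922, 3, 2, 3, 2056, 34375178, 3, 34375370, 2, 0, 5, 5, 0, 3]) (.leaf [8, 2, 3937598, 4, 6, 7, 4072, 920746698, 1, 2, 16680, 921541930, 2, 1, 2, 0, 5, 12648, 930699050, 2, 1]))) (.node (.node (.leaf [3, 1557]) (.leaf [6, 87993, 61530, 87992])) (.node (.leaf [6, 21498, 57192]) (.leaf []))))) (.node (.node (.node (.node (.leaf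 [5, 2984, 136]) (.leaf [5, 66776, 14344])) (.node (.leaf [8, 8, 148856, 5, 3, 3, 3182410, 3, 4, 3, 4, 0, 5, 14360, 3422410, 3, 0, 5, 56, 13946, 3, 4]) (.leaf [6, 91114, 102200]))) (.node (.node (.leaf [8, 26, 790284, 4, 0, 3, 806970, 1, 2, 2, 0, 5, 33837082, 2, 1, 0, 5, 33575210, 1, 2]) (.leaf [6, 54138, 79016])) (.node (.leaf [3, 3349]) (.leaf [])))) (.node (.node (.node (.leaf [5, 10856, 136]) (.leaf [6, 49626, 76520])) (.node (.leaf [6, 39498, 45240]) (.leaf [8, 5, 7117396, 4, 6, 7, 16616, 883290, 1, 2, 11288, 929933242, 2, 1, 2, 0, 5, 17144, 933052074, 2, 1]))) (.node (.node (.leaf [6, 26506, 28824]) (.leaf [6, 92057, 74330])) (.node (.leaf [6, 53018, 60120]) (.leaf [])))))) (.node (.node (.node (.node (.node (.leaf [5, 1672, 2248]) (.leaf [5, 65288, 62664])) (.node (.leaf [8, 5, 1383660, 5, 0, 6, 13866, 4, 3, 35146, 3, 4, 3, 0, 5, 1880, 3421802, 3, 4]) (.leaf [6, 97385, 93338]))) (.node (.node (.leaf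 [8, 15, 197568, 3, 3, 19, 801802, 1, 2, 3, 2056, 33835194, 1, 2, 3, 15624, 15514, 1, 2, 3, 216, 3425178, 1, 2, 3, 3, 2, 1]) (.leaf [6, 79017, 59434, 79016])) (.node (.leaf [6, 28666, 47736]) (.leaf [8, 1, 3589108, 3, 3, 20, 56136, 929130874, 1, 2, 3, 56616, 926004874, 1, 2, 3, 56792, 927839018, 1, 2, 3, 2232, 930192618, 1, 2, 3, 3, 2, 1])))) (.node (.node (.node (.leaf [5, 7528, 2744]) (.leaf [6, 74409, 31002])) (.node (.leaf [8, 22, 132070, 4, 0, 9, 40458, 1, 2, 824714, 2, 1, 828042, 1, 2, 2]) (.leaf [8, 5, 6729550, 5, 3, 8, 16648, 924403786, 3, 4, 8392, 928349162, 4, 3, 3, 4, 0, 5, 16232, 922584394, 3]))) (.node (.node (.leaf [8, 12, 198244, 4, 9, 10, 3166778, 2, 15336, 34099754, 1, 2, 15336, 26922, 2, 1, 2, 1]) (.leaf [6, 72090, 92056])) (.node (.leaf [6, 32570, 57192]) (.leaf []))))) (.node (.node (.node (.node (.leaf [5, 3640, 296]) (.leaf [6, 71881, 32026])) (.node (.leaf [7, 1, 2453312, 2, 200, 3441946,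 34380122]) (.leaf [3, 6549]))) (.node (.node (.leaf [3, 1429]) (.leaf [6, 73882, 87992])) (.node (.leaf [8, 29, 1712430, 5, 3, 3, 839226, 3, 4, 3, 4, 0, 5, 19576, 33869978, 3, 0, 5, 33871514, 3, 4]) (.leaf [])))) (.node (.node (.node (.leaf [5, 14376, 14632]) (.leaf [6, 79017, 58090])) (.node (.leaf [6, 46585, 44682, 46584]) (.leaf [3, 7061]))) (.node (.node (.leaf [3, 1941]) (.leaf [6, 96249, 87738])) (.node (.leaf [5, 63016, 62664]) (.leaf []))))))) (.node (.node (.node (.node (.node (.node (.leaf [5, 1368]) (.leaf [5, 64664, 62664])) (.node (.leaf [3, 2133]) (.leaf [6, 97385, 82538]))) (.node (.node (.leaf [8, 5, 988850, 5, 0, 6, 3148202, 4, 3, 17738, 3, 4, 3, 0, 5, 1992, 3148234, 3, 4]) (.leaf [6, 79017, 75898])) (.node (.leaf [6, 47737, 29994]) (.leaf [3, 7253])))) (.node (.node (.node (.leaf [5, 6504, 472]) (.leaf [6, 23610, 74408])) (.node (.leaf [6, 42009, 38330, 42008]) (.leaf [3, 6741]))) (.node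 (.node (.leaf [8, 23, 1317804, 4, 0, 7, 18970, 1, 2, 14360, 22026, 2, 1, 2, 0, 5, 34104442, 2, 1]) (.leaf [6, 87993, 62090, 87992])) (.node (.leaf [6, 48410, 57192]) (.leaf []))))) (.node (.node (.node (.node (.leaf [5, 3176, 2744]) (.leaf [5, 67944, 14632])) (.node (.leaf [3, 2389]) (.leaf [8, 5, 235668, 5, 6, 9, 920227210, 4, 3, 103754, 3, 2072, 103770, 4, 3, 4, 3]))) (.node (.node (.leaf [8, 4, 164998, 5, 9, 5, 807082, 3, 19146, 4, 3, 3, 4, 0, 5, 1608, 33837594, 4, 3]) (.leaf [6, 87033, 82714])) (.node (.leaf [8, 42, 2313550, 4, 3, 8, 3198298, 2, 1, 34127386, 1, 2, 34127418, 2, 2, 1]) (.leaf [])))) (.node (.node (.node (.leaf [6, 13513, 13226]) (.leaf [6, 19802, 79016])) (.node (.leaf [6, 43770, 45240]) (.leaf [3, 6997]))) (.node (.node (.leaf [6, 27642, 28824]) (.leaf [6, 86698, 92056])) (.node (.leaf [5, 14696, 62664]) (.leaf [])))))) (.node (.node (.node (.node (.node (.leaf [5, 2776, 264]) (.leaf [5,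 65944, 14344])) (.node (.leaf [3, 2261]) (.leaf [6, 97385, 85882]))) (.node (.node (.leaf [8, 1, 1335096, 4, 9, 5, 806170, 2, 3427658, 1, 2, 2, 1, 0, 5, 2056, 804954, 1, 2]) (.leaf [6, 72778, 79016])) (.node (.leaf [3, 3285]) (.leaf [])))) (.node (.node (.node (.leaf [5, 9032, 136]) (.leaf [6, 23706, 76520])) (.node (.leaf [6, 44057, 43338]) (.leaf [3, 6869]))) (.node (.node (.leaf [3, 1749]) (.leaf [6, 85450, 92056])) (.node (.leaf [6, 60121, 45482, 60120]) (.leaf []))))) (.node (.node (.node (.node (.leaf [5, 4456, 296]) (.leaf [6, 33210, 71880])) (.node (.leaf [3, 2517]) (.leaf [8, 2, 2376052, 5, 6, 6, 4072, 933591754, 4, 3, 105770, 3, 4, 3, 0, 5, 5736, 919877722, 3, 4]))) (.node (.node (.leaf [6, 23002, 23208]) (.leaf [6, 87993, 42250])) (.node (.leaf [5, 56552, 56104]) (.leaf [])))) (.node (.node (.node (.leaf [7, 1, 700056, 2, 2056, 3161290, 34356570]) (.leaf [6, 75578, 79016])) (.node (.leaf [6, 47737,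 25146, 47736]) (.leaf [8, 1, 6385202, 3, 3, 9, 925207978, 1, 2, 3, 16920, 920499482, 1, 2, 3, 3, 2, 1, 0, 5, 56424, 933328826, 3, 2, 1, 0, 5, 16376, 932790234, 3, 2, 1]))) (.node (.node (.leaf [8, 8, 82674, 4, 3, 7, 17274, 2, 1, 56, 32042, 1, 2, 2, 1, 0, 5, 805338, 2]) (.leaf [6, 97385, 14042, 97384])) (.node (.leaf [5, 63480, 14632]) (.leaf [])))))))) (.node (.node (.node (.node (.node (.node (.node (.leaf [5, 568, 648]) (.leaf [5, 64344, 62664])) (.node (.leaf [3, 2101]) (.leaf [6, 97385, 77706, 97384]))) (.node (.node (.leaf [6, 15898, 17240]) (.leaf [6, 79017, 49594])) (.node (.leaf [6, 47737, 29482]) (.leaf [8, 5, 6429356, 5, 3, 3, 91002, 3, 4, 3, 4, 0, 5, 2216, 923641018, 3, 0, 5, 56392, 921787002, 3, 4])))) (.node (.node (.node (.leaf [5, 6024, 2744]) (.leaf [6, 21338, 74408])) (.node (.leaf [6, 38842, 41368]) (.leaf [3, 6709]))) (.node (.node (.leaf [3, 1589]) (.leaf [6, 87993, 78970])) (.node (.leaf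 [6, 22410, 57192]) (.leaf []))))) (.node (.node (.node (.node (.leaf [5, 3080, 296]) (.leaf [5, 67240, 14632])) (.node (.leaf [3, 2357]) (.leaf [8, 5, 4529034, 4, 9, 10, 919440778, 2, 56664, 923090570, 1, 2, 17048, 929391786, 2, 1, 2, 1]))) (.node (.node (.leaf [6, 17994, 21272]) (.leaf [6, 79017, 62378])) (.node (.leaf [3, 3381]) (.leaf [])))) (.node (.node (.node (.leaf [3, 821]) (.leaf [6, 31130, 76520])) (.node (.leaf [6, 37626, 45240]) (.leaf [8, 2, 638100, 5, 9, 7, 7864, 921270858, 3, 17128, 933595594, 4, 3, 3, 4, 0, 5, 11912, 932814442, 4, 3]))) (.node (.node (.leaf [6, 27066, 28824]) (.leaf [6, 92057, 91162])) (.node (.leaf [6, 60121, 55226]) (.leaf [])))))) (.node (.node (.node (.node (.node (.leaf [5, 520, 2744]) (.leaf [5, 65608, 62664])) (.node (.leaf [3, 2229]) (.leaf [6, 97385, 47402]))) (.node (.node (.leaf [2]) (.leaf [6, 79017, 59658, 79016])) (.node (.leaf [6, 47737, 33434]) (.leaf [3, 7349]))))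 (.node (.node (.node (.leaf [5, 8248, 2744]) (.leaf [6, 76521, 74730])) (.node (.leaf [8, 44, 1712256, 4, 0, 3, 829434, 1, 2, 2, 0, 5, 34374890, 2, 1, 0, 5, 2072, 801226, 1, 2]) (.leaf [8, 5, 5915386, 4, 3, 8, 16648, 933578826, 2, 1, 9416, 922069834, 1, 2, 2, 1, 0, 5, 16552, 929905242, 2]))) (.node (.node (.leaf [8, 23, 922334, 4, 3, 6, 3164778, 2, 1, 3168090, 1, 2, 2, 1, 0, 5, 27242, 2]) (.leaf [6, 92057, 76362])) (.node (.leaf [6, 60121, 43594, 60120]) (.leaf []))))) (.node (.node (.node (.node (.leaf [5, 3960, 296]) (.leaf [6, 32650, 71880])) (.node (.leaf [6, 24330, 39768]) (.leaf [8, 2, 5034342, 4, 6, 11, 4072, 926513866, 1, 2, 16760, 928872042, 2, 200, 920490666, 1, 2, 1, 2]))) (.node (.node (.leaf [6, 23209, 20154]) (.leaf [6, 87993, 74026])) (.node (.leaf [5, 2056, 56104]) (.leaf [])))) (.node (.node (.node (.leaf [5, 15096, 15192]) (.leaf [6, 79017, 58506])) (.node (.leaf [6, 24634, 47736]) (.leaf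 [3, 7093]))) (.node (.node (.leaf [3, 1973]) (.leaf [6, 96249, 94154])) (.node (.leaf [5, 63240, 62664]) (.leaf []))))))) (.node (.node (.node (.node (.node (.node (.leaf [5, 1880, 1880]) (.leaf [5, 64984, 62664])) (.node (.leaf [3, 2165]) (.leaf [6, 84522, 97384]))) (.node (.node (.leaf [7, 1, 741222, 2, 56, 3160778, 34359130]) (.leaf [6, 79017, 50618, 79016])) (.node (.leaf [6, 47737, 30522]) (.leaf [3, 7285])))) (.node (.node (.node (.leaf [5, 7000, 2744]) (.leaf [6, 74409, 48362])) (.node (.leaf [6, 42009, 41306]) (.leaf [3, 6773]))) (.node (.node (.leaf [8, 8, 930226, 3, 3, 14, 803770, 1, 2, 3, 2088, 3161290, 1, 2, 3, 15656, 3434298, 1, 2, 3, 3, 2, 1, 0, 5, 14392, 803818, 3, 2, 1]) (.leaf [6, 76490, 87992])) (.node (.leaf [6, 49882, 57192]) (.leaf []))))) (.node (.node (.node (.node (.leaf [5, 3336, 472]) (.leaf [5, 68808, 62664])) (.node (.leaf [6, 35098, 38520]) (.leaf [8, 5, 316930, 1, 3, 9, 923635082,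 3, 0, 5, 56776, 931490762, 3, 2, 3, 5, 0, 2, 0, 5, 34445082, 3]))) (.node (.node (.leaf [3, 1397]) (.leaf [7, 5, 1349210, 2, 16840, 920733914, 933581466])) (.node (.leaf [8, 29, 2634590, 5, 0, 6, 52650, 4, 3, 54906, 3, 4, 3, 0, 5, 19608, 33586842, 3, 4]) (.leaf [])))) (.node (.node (.node (.leaf [3, 885]) (.leaf [6, 79017, 57674])) (.node (.leaf [6, 36778, 46584]) (.leaf [3, 7029]))) (.node (.node (.leaf [6, 28266, 28824]) (.leaf [6, 95721, 89290])) (.node (.leaf [5, 62824, 14152]) (.leaf [])))))) (.node (.node (.node (.node (.node (.leaf [5, 2872, 472]) (.leaf [5, 66360, 14344])) (.node (.leaf [3, 2293]) (.leaf [6, 84970, 102200]))) (.node (.node (.leaf [8, 28, 791796, 4, 9, 6, 19256, 33573562, 2, 34360858, 1, 2, 2, 1, 0, 5, 19256, 34361130, 1, 2]) (.leaf [6, 79017, 52698])) (.node (.leaf [3, 3317]) (.leaf [])))) (.node (.node (.node (.leaf [5, 9656, 472]) (.leaf [6, 58602, 76520])) (.node (.leaf [3, 2805])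 (.leaf [8, 2, 1231090, 5, 3, 8, 6648, 921520218, 3, 4, 16264, 927561066, 4, 3, 3, 4, 0, 5, 6696, 921546586, 3]))) (.node (.node (.leaf [3, 1781]) (.leaf [6, 92057, 40618])) (.node (.leaf [6, 42522, 60120]) (.leaf []))))) (.node (.node (.node (.node (.leaf [5, 4888, 2744]) (.leaf [6, 71881, 33738])) (.node (.leaf [6, 17546, 40792]) (.leaf [8, 2, 3190374, 5, 3, 8, 4072, 927038154, 3, 4, 17080, 922044186, 4, 3, 3, 4, 0, 5, 3160, 919698330, 3]))) (.node (.node (.leaf [3, 1525]) (.leaf [6, 87993, 42570, 87992])) (.node (.leaf [5, 57176]) (.leaf [])))) (.node (.node (.node (.leaf [5, 16216]) (.leaf [6, 79017, 77994])) (.node (.leaf [6, 47737, 25690]) (.leaf [3, 7157]))) (.node (.node (.leaf [3, 2037]) (.leaf [6, 87066, 97384])) (.node (.leaf [5, 63752, 14632]) (.leaf []))))))))))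

/-- their proofs, part 7 -/
def proofTab7 : WTab :=
  (.node (.node (.node (.node (.node (.node (.node (.node (.node (.leaf [3, 5]) (.leaf [5, 63912, 14152])) (.node (.leaf [8, 23, 725094, 4, 6, 5, 3167050, 1, 2, 32858, 2, 1, 2, 0, 5, 808010, 2, 1]) (.leaf [6, 97385, 79610]))) (.node (.node (.leaf [5, 16248, 16232]) (.leaf [6, 48842, 79016])) (.node (.leaf [6, 47737, 26058]) (.leaf [8, 1, 3955774, 4, 0, 7, 924159418, 1, 2, 16904, 920473866, 2, 1, 2, 0, 5, 56568, 931495962, 2, 1])))) (.node (.node (.node (.leaf [5, 5112, 296]) (.leaf [6, 73833, 34298])) (.node (.leaf [8, 50, 280244, 4, 0, 3, 824778, 1, 2, 2, 0, 5, 3446330, 2, 1, 0, 5, 3180986, 1, 2]) (.leaf [3, 6662]))) (.node (.node (.leaf [8, 1, 477456, 4, 6, 6, 3421578, 1, 2, 1608, 3170330, 2, 1, 2, 0, 5, 2056, 33834442, 2, 1]) (.leaf [6, 87993, 42698, 87992])) (.node (.leaf [6, 23418, 57192]) (.leaf []))))) (.node (.node (.node (.node (.leaf [5, 2936,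 136]) (.leaf [5, 66584, 14152])) (.node (.leaf [5, 14904, 36968]) (.leaf [6, 102201, 85018]))) (.node (.node (.leaf [3, 1286]) (.leaf [6, 53530, 79016])) (.node (.leaf [8, 4, 4754734, 4, 0, 6, 833802, 1, 2, 53354, 2, 1, 2, 0, 5, 1528, 33602106, 2, 1]) (.leaf [])))) (.node (.node (.node (.leaf [5, 10360, 136]) (.leaf [6, 76521, 48458])) (.node (.leaf [3, 2822]) (.leaf [3, 6918]))) (.node (.node (.leaf [8, 4, 848252, 1, 7, 7, 26202, 3, 2, 3, 15336, 3171962, 3, 5, 0, 3, 0, 5, 28186, 5, 0, 2]) (.leaf [6, 92057, 90106])) (.node (.leaf [6, 60121, 46410]) (.leaf [])))))) (.node (.node (.node (.node (.node (.leaf [5, 1880, 2152]) (.leaf [5, 65144, 62664])) (.node (.leaf [8, 1, 198084, 5, 6, 5, 3159514, 4, 3, 34842, 3, 4, 3, 0, 5, 820506, 3, 4]) (.leaf [6, 97385, 78746]))) (.node (.node (.leaf [6, 18505, 18090]) (.leaf [6, 79017, 50890])) (.node (.leaf [6, 47737, 28426]) (.leaf [8, 1, 927922, 5, 3, 8, 56952, 922577370,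 3, 4, 56680, 931512634, 4, 3, 3, 4, 0, 5, 56376, 928346602, 3])))) (.node (.node (.node (.leaf [5, 7288, 2744]) (.leaf [6, 50106, 74408])) (.node (.leaf [8, 31, 1786702, 4, 3, 8, 826426, 2, 1, 828154, 1, 2, 34119658, 2, 2, 1]) (.leaf [3, 6790]))) (.node (.node (.leaf [3, 1670]) (.leaf [6, 92057, 39114])) (.node (.leaf [6, 57193, 51418]) (.leaf []))))) (.node (.node (.node (.node (.leaf [5, 3496, 296]) (.leaf [5, 69688, 62664])) (.node (.leaf [8, 42, 922336, 4, 0, 7, 37194, 1, 2, 2232, 34376506, 2, 1, 2, 0, 5, 34112522, 2, 1]) (.leaf [8, 5, 34690, 5, 9, 6, 923897226, 3, 56776, 930966474, 4, 3, 3, 4, 0, 5, 890986, 4, 3]))) (.node (.node (.leaf [8, 12, 699896, 4, 3, 7, 3429754, 2, 1, 15640, 3426538, 1, 2, 2, 1, 0, 5, 33577066, 2]) (.leaf [6, 60250, 87992])) (.node (.leaf [3, 3462]) (.leaf [])))) (.node (.node (.node (.leaf [8, 2, 659580, 4, 3, 6, 3408282, 2, 1, 13786, 1, 2, 2, 1, 0, 5, 472, 3160154, 2]) (.leaf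 [6, 79017, 57882])) (.node (.leaf [6, 46585, 43898]) (.leaf [3, 7046]))) (.node (.node (.leaf [8, 4, 1391216, 3, 3, 8, 3421482, 1, 2, 3, 30810, 1, 2, 3, 3, 2, 1, 0, 5, 800490, 3, 2, 1, 0, 5, 776, 3165530, 3, 2, 1]) (.leaf [6, 30922, 96248])) (.node (.leaf [5, 62920, 14632]) (.leaf []))))))) (.node (.node (.node (.node (.node (.node (.leaf [8, 1, 0, 5, 6, 10, 26, 4, 6, 3, 6, 7, 3, 906, 4, 3, 4, 3]) (.leaf [5, 64504, 62664])) (.node (.leaf [2]) (.leaf [6, 81434, 97384]))) (.node (.node (.leaf [5, 17512]) (.leaf [6, 79017, 59226, 79016])) (.node (.leaf [6, 29754, 47736]) (.leaf [3, 7238])))) (.node (.node (.node (.leaf [5, 6280, 2744]) (.leaf [6, 74409, 21194])) (.node (.leaf [6, 42009, 41786]) (.leaf [8, 5, 6299288, 5, 9, 7, 16376, 96986, 3, 2760, 927038282, 4, 3, 3, 4, 0, 5, 894058, 4, 3]))) (.node (.node (.leaf [8, 1, 2454648, 4, 6, 6, 3425354, 1, 2, 14392, 34359818, 2, 1, 2, 0, 5, 2072, 3432250, 2, 1]) (.leaf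 [6, 87993, 86426])) (.node (.leaf [6, 22746, 57192]) (.leaf []))))) (.node (.node (.node (.node (.leaf [5, 3128, 2744]) (.leaf [5, 67592, 14344])) (.node (.leaf [6, 14922, 37992]) (.leaf [8, 5, 316660, 4, 3, 3, 919965066, 2, 1, 2, 1, 0, 5, 16264, 927555514, 2, 0, 5, 16328, 927037418, 2, 1]))) (.node (.node (.leaf [6, 20858, 21272]) (.leaf [6, 87033, 79306])) (.node (.leaf [3, 3398]) (.leaf [])))) (.node (.node (.node (.leaf [5, 13384, 952]) (.leaf [6, 61818, 76520])) (.node (.leaf [6, 40410, 45240]) (.leaf [8, 2, 2917212, 5, 0, 8, 7864, 34437706, 4, 3, 16808, 925462762, 3, 4, 3, 0, 5, 7864, 925464602, 3, 4]))) (.node (.node (.leaf [6, 28825, 27338]) (.leaf [6, 92057, 54394, 92056])) (.node (.leaf [6, 60121, 55754]) (.leaf [])))))) (.node (.node (.node (.node (.node (.leaf [5, 840, 2744]) (.leaf [5, 65784, 14344])) (.node (.leaf [8, 5, 1927298, 5, 9, 2, 822106, 3, 3, 4, 0, 5, 3410346, 4, 3, 0, 5, 2072, 33834314,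 3, 4]) (.leaf [6, 97385, 47690, 97384]))) (.node (.node (.leaf [5, 19560]) (.leaf [6, 72330, 79016])) (.node (.leaf [8, 5, 24702, 5, 9, 5, 3193018, 3, 3197914, 4, 3, 3, 4, 0, 5, 16920, 34125514, 4, 3]) (.leaf [])))) (.node (.node (.node (.leaf [5, 8760, 2744]) (.leaf [6, 76521, 57498])) (.node (.leaf [6, 44057, 39850]) (.leaf [3, 6854]))) (.node (.node (.leaf [8, 12, 1062100, 3, 3, 12, 23322, 1, 2, 3, 34102698, 1, 2, 3, 3408986, 1, 2, 3, 3, 2, 1, 0, 5, 3434410, 3, 2, 1]) (.leaf [6, 92057, 72874])) (.node (.leaf [6, 39482, 60120]) (.leaf []))))) (.node (.node (.node (.node (.leaf [5, 4216, 296]) (.leaf [6, 71881, 32938])) (.node (.leaf [8, 47, 67368, 4, 0, 10, 823770, 1, 2, 2296, 3182762, 2, 1, 38218, 1, 2, 2]) (.leaf [3, 6598]))) (.node (.node (.leaf [6, 20698, 23208]) (.leaf [6, 35962, 87992])) (.node (.leaf [5, 56312, 56104]) (.leaf [])))) (.node (.node (.node (.leaf [2]) (.leaf [6, 79017, 77786])) (.node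 (.leaf [6, 24906, 47736]) (.leaf [3, 7110]))) (.node (.node (.leaf [8, 1, 1399440, 4, 3, 7, 13706, 2, 1, 1608, 31818, 1, 2, 2, 1, 0, 5, 33585930, 2]) (.leaf [6, 1354, 97384])) (.node (.leaf [5, 63352, 62664]) (.leaf [])))))))) (.node (.node (.node (.node (.node (.node (.node (.leaf [7, 1, 198246, 1, 3408234, 3408490]) (.leaf [5, 64184, 14632])) (.node (.leaf [3, 2086]) (.leaf [6, 97385, 77466]))) (.node (.node (.leaf [5, 16472, 16232]) (.leaf [6, 79017, 49354, 79016])) (.node (.leaf [6, 29242, 47736]) (.leaf [3, 7206])))) (.node (.node (.node (.leaf [5, 5736, 296]) (.leaf [6, 73833, 53706])) (.node (.leaf [6, 38602, 41368]) (.leaf [3, 6694]))) (.node (.node (.leaf [8, 12, 198080, 4, 0, 6, 3166682, 1, 2, 3166714, 2, 1, 2, 0, 5, 3432330, 2, 1]) (.leaf [6, 61642, 87992])) (.node (.leaf [6, 57193, 21962]) (.leaf []))))) (.node (.node (.node (.node (.leaf [5, 3032, 296]) (.leaf [5, 67032, 14344])) (.node (.leaf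 [8, 22, 2766306, 5, 9, 9, 3444698, 3, 3181386, 4, 3, 2152, 34376746, 3, 4, 3, 4]) (.leaf [3, 6438]))) (.node (.node (.leaf [6, 20921, 18778]) (.leaf [6, 79017, 73690])) (.node (.leaf [8, 17, 4704336, 4, 6, 9, 3190730, 1, 2, 53848, 45322, 2, 33600778, 1, 2, 1, 2]) (.leaf [])))) (.node (.node (.node (.leaf [5, 11320, 136]) (.leaf [6, 51130, 76520])) (.node (.leaf [6, 41690, 45240]) (.leaf [3, 6950]))) (.node (.node (.leaf [6, 28825, 26778]) (.leaf [6, 52362, 92056])) (.node (.leaf [6, 60121, 54842, 60120]) (.leaf [])))))) (.node (.node (.node (.node (.node (.leaf [5, 2568, 2664]) (.leaf [5, 65448, 14344])) (.node (.leaf [3, 2214]) (.leaf [6, 47114, 97384]))) (.node (.node (.leaf [3, 1190]) (.leaf [6, 79017, 59514, 79016])) (.node (.leaf [6, 32426, 47736]) (.leaf [3, 7334])))) (.node (.node (.node (.leaf [5, 7896, 2744]) (.leaf [6, 74409, 73034])) (.node (.leaf [6, 43449, 34346]) (.leaf [3, 6822]))) (.node (.node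 (.leaf [8, 23, 790624, 4, 0, 9, 21194, 1, 2, 34361898, 2, 1, 33843578, 1, 2, 2]) (.leaf [6, 85146, 92056])) (.node (.leaf [6, 54970, 57192]) (.leaf []))))) (.node (.node (.node (.node (.leaf [5, 3768, 2744]) (.leaf [6, 51802, 71880])) (.node (.leaf [6, 38618, 39288]) (.leaf [8, 2, 4613424, 5, 3, 8, 4072, 930708170, 3, 4, 16280, 926775178, 4, 3, 3, 4, 0, 5, 8888, 927291194, 3]))) (.node (.node (.leaf [8, 30, 600948, 1, 3, 11, 22426, 3, 0, 5, 216, 33576890, 3, 2, 3, 34101322, 3, 5, 0, 2]) (.leaf [6, 60762, 87992])) (.node (.leaf [8, 42, 1581420, 5, 9, 5, 3460698, 3, 34392938, 4, 3, 3, 4, 0, 5, 841306, 4, 3]) (.leaf [])))) (.node (.node (.node (.leaf [3, 934]) (.leaf [6, 58266, 79016])) (.node (.leaf [5, 47720]) (.leaf [8, 5, 2123240, 3, 3, 4, 932285850, 1, 2, 3, 3, 2, 1, 0, 5, 80810, 3, 2, 1, 0, 5, 56952, 933324890, 3, 2, 1, 0, 5, 56664, 933072122, 3, 2, 1]))) (.node (.node (.leaf [5, 31336, 31336]) (.leaf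 [6, 96249, 88474])) (.node (.leaf [5, 63144, 14632]) (.leaf []))))))) (.node (.node (.node (.node (.node (.node (.leaf [5, 1480, 1592]) (.leaf [5, 64824, 14632])) (.node (.leaf [8, 1, 2453814, 5, 0, 6, 3441882, 4, 3, 34250, 3, 4, 3, 0, 5, 2104, 34375178, 3, 4]) (.leaf [6, 97385, 83130]))) (.node (.node (.leaf [3, 1126]) (.leaf [6, 79017, 59386, 79016])) (.node (.leaf [6, 30282, 47736]) (.leaf [3, 7270])))) (.node (.node (.node (.leaf [5, 6776, 2744]) (.leaf [6, 74409, 23770])) (.node (.leaf [6, 40330, 42008]) (.leaf [8, 5, 1673238, 3, 3, 10, 16376, 932281050, 1, 2, 3, 11144, 928087434, 1, 2, 3, 3, 2, 1, 0, 5, 16456, 919702314, 3, 2, 1, 0, 5, 56376, 931500874, 3, 2, 1]))) (.node (.node (.leaf [8, 33, 395490, 4, 6, 5, 3170138, 1, 2, 26202, 2, 1, 2, 0, 5, 811994, 2, 1]) (.leaf [6, 86778, 87992])) (.node (.leaf [6, 49098, 57192]) (.leaf []))))) (.node (.node (.node (.node (.leaf [5, 3240, 264]) (.leaf [5, 68328,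 62664])) (.node (.leaf [5, 38505]) (.leaf [3, 6502]))) (.node (.node (.leaf [8, 8, 1119888, 5, 0, 6, 34361994, 4, 3, 33576378, 3, 4, 3, 0, 5, 34361594, 3, 4]) (.leaf [6, 83002, 87624])) (.node (.leaf [3, 3430]) (.leaf [])))) (.node (.node (.node (.leaf [3, 870]) (.leaf [6, 79017, 76858])) (.node (.leaf [6, 46585, 38042]) (.leaf [8, 5, 6303442, 4, 3, 3, 919440794, 2, 1, 2, 1, 0, 5, 2024, 919420122, 2, 0, 5, 56696, 921533786, 2, 1]))) (.node (.node (.leaf [6, 27914, 28824]) (.leaf [6, 88362, 95720])) (.node (.leaf [5, 62744, 14152]) (.leaf [])))))) (.node (.node (.node (.node (.node (.leaf [5, 2824, 472]) (.leaf [5, 66152, 14632])) (.node (.leaf [8, 22, 741222, 5, 0, 3, 3181754, 4, 3, 3, 0, 5, 34358634, 3, 4, 0, 5, 2072, 3425482, 4, 3]) (.leaf [6, 86090, 97384]))) (.node (.node (.leaf [3, 1254]) (.leaf [6, 79017, 73290])) (.node (.leaf [8, 4, 2700604, 5, 3, 8, 1704, 3195306, 3, 4, 19576, 33836426, 4, 3, 3,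 4, 0, 5, 1704, 33869242, 3]) (.leaf [])))) (.node (.node (.node (.leaf [5, 9304, 136]) (.leaf [6, 22298, 76520])) (.node (.leaf [3, 2790]) (.leaf [3, 6886]))) (.node (.node (.leaf [8, 33, 264432, 5, 6, 9, 24490, 4, 3, 22920, 3173722, 3, 33581082, 4, 3, 4, 3]) (.leaf [6, 92057, 73386])) (.node (.leaf [6, 60121, 39594]) (.leaf []))))) (.node (.node (.node (.node (.leaf [5, 4696, 296]) (.leaf [6, 59978, 71880])) (.node (.leaf [6, 40537, 17626]) (.leaf [3, 6630]))) (.node (.node (.leaf [5, 24168]) (.leaf [6, 87993, 42362, 87992])) (.node (.leaf [5, 56824, 56104]) (.leaf [])))) (.node (.node (.node (.leaf [8, 4, 1259850, 4, 0, 7, 13050, 1, 2, 2088, 15946, 2, 1, 2, 0, 5, 1528, 799482, 2, 1]) (.leaf [6, 79017, 48330])) (.node (.leaf [6, 47737, 25450]) (.leaf [8, 1, 2947670, 5, 0, 7, 919178682, 4, 3, 2232, 34182682, 3, 4, 3, 0, 5, 56616, 922325466, 3, 4]))) (.node (.node (.leaf [3, 2022]) (.leaf [6, 97385, 76570,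 97384])) (.node (.leaf [5, 63640, 14152]) (.leaf []))))))))) (.node (.node (.node (.node (.node (.node (.node (.node (.leaf [3, 22]) (.leaf [5, 64040, 14632])) (.node (.leaf [3, 2070]) (.leaf [6, 80058, 97384]))) (.node (.node (.leaf [5, 16344, 1992]) (.leaf [6, 79017, 59002, 79016])) (.node (.leaf [6, 47737, 28986]) (.leaf [8, 5, 1527370, 5, 9, 5, 888266, 3, 33655050, 4, 3, 3, 4, 0, 5, 16984, 927041210, 4, 3])))) (.node (.node (.node (.leaf [5, 5416, 296]) (.leaf [6, 36186, 73832])) (.node (.leaf [3, 2582]) (.leaf [3, 6678]))) (.node (.node (.leaf [8, 12, 329632, 4, 3, 3, 3160970, 2, 1, 2, 1, 0, 5, 15336, 33575578, 2, 0, 5, 14392, 3432378, 2, 1]) (.leaf [6, 87993, 47130])) (.node (.leaf [6, 21578, 57192]) (.leaf []))))) (.node (.node (.node (.node (.leaf [5, 2984, 264]) (.leaf [5, 66776, 62664])) (.node (.leaf [3, 2326]) (.leaf [8, 5, 5985148, 3, 3, 19, 101770, 1, 2, 3, 56616, 3509146, 1, 2, 3, 56, 34180842,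 1, 2, 3, 16536, 931232858, 1, 2, 3, 3, 2, 1]))) (.node (.node (.leaf [3, 1302]) (.leaf [6, 79017, 61930])) (.node (.leaf [8, 4, 4158518, 5, 3, 8, 2264, 3195290, 3, 4, 19640, 34360714, 4, 3, 3, 4, 0, 5, 2264, 839882, 3]) (.leaf [])))) (.node (.node (.node (.leaf [5, 10872, 136]) (.leaf [6, 49770, 76520])) (.node (.leaf [6, 45241, 39514]) (.leaf [3, 6934]))) (.node (.node (.leaf [6, 28825, 26522]) (.leaf [6, 74346, 92056])) (.node (.leaf [6, 60121, 53034]) (.leaf [])))))) (.node (.node (.node (.node (.node (.leaf [5, 1688, 2248]) (.leaf [5, 65320, 14152])) (.node (.leaf [3, 2198]) (.leaf [6, 93354, 97384]))) (.node (.node (.leaf [3, 1174]) (.leaf [6, 79017, 59450, 79016])) (.node (.leaf [6, 47737, 28682]) (.leaf [3, 7318])))) (.node (.node (.node (.leaf [5, 7560, 136]) (.leaf [6, 31018, 74408])) (.node (.leaf [3, 2710]) (.leaf [3, 6806]))) (.node (.node (.leaf [3, 1686]) (.leaf [6, 92057, 72106])) (.node (.leaf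 [6, 57193, 32586]) (.leaf []))))) (.node (.node (.node (.node (.leaf [5, 3640, 472]) (.leaf [6, 32042, 71880])) (.node (.leaf [5, 39272]) (.leaf [8, 5, 3036772, 4, 3, 7, 928615818, 2, 1, 56296, 922297402, 1, 2, 2, 1, 0, 5, 933074618, 2]))) (.node (.node (.leaf [7, 1, 4544418, 2, 56, 34362218, 34363754]) (.leaf [6, 87993, 73898])) (.node (.leaf [8, 29, 2379216, 4, 0, 3, 3198522, 1, 2, 2, 0, 5, 3457898, 2, 1, 0, 5, 15336, 3166474, 1, 2]) (.leaf [])))) (.node (.node (.node (.leaf [5, 14392, 14632]) (.leaf [6, 79017, 77338])) (.node (.leaf [6, 46585, 44698, 46584]) (.leaf [8, 5, 1693236, 5, 9, 6, 923372954, 3, 56824, 895850, 4, 3, 3, 4, 0, 5, 16328, 925733018, 4, 3]))) (.node (.node (.leaf [8, 1, 280226, 4, 9, 5, 808186, 2, 3430042, 1, 2, 2, 1, 0, 5, 33585498, 1, 2]) (.leaf [6, 87754, 96248])) (.node (.leaf [5, 63032, 62664]) (.leaf []))))))) (.node (.node (.node (.node (.node (.node (.leaf [5, 1384, 1384]) (.leaf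 [5, 64680, 62664])) (.node (.leaf [8, 1, 922492, 5, 3, 7, 3159578, 3, 4, 2072, 33588266, 4, 3, 3, 4, 0, 5, 200, 820554, 3]) (.leaf [6, 97385, 78106, 97384]))) (.node (.node (.leaf [3, 1110]) (.leaf [6, 79017, 50122, 79016])) (.node (.leaf [6, 47737, 30010, 47736]) (.leaf [8, 5, 5334360, 4, 0, 7, 919954314, 1, 2, 16392, 926529594, 2, 1, 2, 0, 5, 16968, 922060298, 2, 1])))) (.node (.node (.node (.leaf [5, 6504, 2744]) (.leaf [6, 74409, 23626])) (.node (.leaf [6, 42009, 38346, 42008]) (.leaf [8, 5, 5903644, 4, 3, 11, 16376, 928348890, 2, 1, 504, 921794602, 1, 2, 2200, 924161882, 2, 2, 1]))) (.node (.node (.leaf [3, 1622]) (.leaf [6, 62106, 87992])) (.node (.leaf [6, 57193, 48714]) (.leaf []))))) (.node (.node (.node (.node (.leaf [5, 3192, 136]) (.leaf [5, 67960, 14632])) (.node (.leaf [8, 9, 1054050, 4, 3, 3, 37082, 2, 1, 2, 1, 0, 5, 36968, 824042, 2, 0, 5, 37802, 2, 1]) (.leaf [3, 6486]))) (.node (.node (.leaf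 [3, 1366]) (.leaf [6, 82730, 87032])) (.node (.leaf [3, 3414]) (.leaf [])))) (.node (.node (.node (.leaf [6, 13513, 13242]) (.leaf [6, 79017, 19850])) (.node (.leaf [6, 43818, 45240]) (.leaf [8, 5, 6768134, 3, 3, 14, 101786, 1, 2, 3, 56984, 102058, 1, 2, 3, 16840, 930711338, 1, 2, 3, 3, 2, 1, 0, 5, 16280, 928870570, 3, 2, 1]))) (.node (.node (.leaf [6, 28825, 27658, 28824]) (.leaf [6, 92057, 86714])) (.node (.leaf [5, 14712, 62664]) (.leaf [])))))) (.node (.node (.node (.node (.node (.leaf [5, 2776, 296]) (.leaf [5, 65944, 14632])) (.node (.leaf [8, 46, 1399780, 1, 7, 6, 822346, 3, 2, 3, 3181322, 3, 5, 0, 3, 0, 5, 822634, 5, 0, 2]) (.leaf [6, 97385, 85930]))) (.node (.node (.leaf [3, 1238]) (.leaf [6, 79017, 72794])) (.node (.leaf [8, 4, 3359164, 5, 0, 8, 1704, 34128298, 4, 3, 19608, 3427658, 3, 4, 3, 0, 5, 1704, 34127562, 3, 4]) (.leaf [])))) (.node (.node (.node (.leaf [5, 9032, 264]) (.leaf [6, 76521,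 57754])) (.node (.leaf [6, 43354, 44056]) (.leaf [8, 2, 3192890, 4, 9, 7, 6648, 925452378, 2, 17096, 922838522, 1, 2, 2, 1, 0, 5, 8568, 924163802, 1, 2]))) (.node (.node (.leaf [8, 30, 987842, 3, 3, 12, 3169210, 1, 2, 3, 26122, 1, 2, 3, 33841018, 1, 2, 3, 3, 2, 1, 0, 5, 3434490, 3, 2, 1]) (.leaf [6, 92057, 85466])) (.node (.leaf [6, 60121, 45498, 60120]) (.leaf []))))) (.node (.node (.node (.node (.leaf [5, 4456, 2744]) (.leaf [6, 33226, 71880])) (.node (.leaf [8, 22, 199088, 5, 0, 7, 3183290, 4, 3, 1992, 3184618, 3, 4, 3, 0, 5, 3183386, 3, 4]) (.leaf [3, 6614]))) (.node (.node (.leaf [6, 23209, 23018]) (.leaf [6, 87993, 42266])) (.node (.leaf [5, 56568, 56104]) (.leaf [])))) (.node (.node (.node (.leaf [5, 15720]) (.leaf [6, 48074, 79016])) (.node (.leaf [6, 47737, 25162, 47736]) (.leaf [3, 7126]))) (.node (.node (.leaf [3, 2006]) (.leaf [6, 97385, 14058])) (.node (.leaf [5, 63480, 62664]) (.leaf []))))))))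 (.node (.node (.node (.node (.node (.node (.node (.leaf [5, 584, 648]) (.leaf [5, 64360, 14152])) (.node (.leaf [8, 12, 2110420, 4, 0, 3, 3168986, 1, 2, 2, 0, 5, 34102042, 2, 1, 0, 5, 3440842, 1, 2]) (.leaf [6, 80858, 97384]))) (.node (.node (.leaf [6, 17241, 15914]) (.leaf [6, 78170, 79016])) (.node (.leaf [6, 29498, 47736]) (.leaf [8, 5, 7151224, 5, 6, 10, 3498874, 4, 3, 17128, 925721674, 3, 69080, 922331242, 4, 3, 4, 3])))) (.node (.node (.node (.leaf [5, 6056, 136]) (.leaf [6, 21354, 74408])) (.node (.leaf [6, 38858, 41368]) (.leaf [8, 5, 5903654, 5, 9, 7, 16376, 34175706, 3, 2760, 926513994, 4, 3, 3, 4, 0, 5, 16376, 34174682, 4, 3]))) (.node (.node (.leaf [8, 1, 477792, 4, 3, 6, 3161290, 2, 1, 24874, 1, 2, 2, 1, 0, 5, 34101130, 2]) (.leaf [6, 85994, 87992])) (.node (.leaf [6, 57193, 22426]) (.leaf []))))) (.node (.node (.node (.node (.leaf [5, 3080, 472]) (.leaf [5, 67272, 14632])) (.node (.leaf [7,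 22, 65862, 1, 3443930, 34378602]) (.leaf [8, 5, 4529034, 5, 9, 5, 919440778, 3, 889642, 4, 3, 3, 4, 0, 5, 16696, 923091866, 4, 3]))) (.node (.node (.leaf [6, 21273, 18010]) (.leaf [6, 62394, 79016])) (.node (.leaf [8, 4, 83840, 5, 0, 6, 838666, 4, 3, 52426, 3, 4, 3, 0, 5, 1416, 3199354, 3, 4]) (.leaf [])))) (.node (.node (.node (.leaf [8, 1, 724590, 5, 3, 7, 362, 3, 4, 4968, 378, 4, 3, 3, 4, 0, 5, 2072, 33829722, 3]) (.leaf [6, 76521, 31146])) (.node (.leaf [6, 45241, 37802]) (.leaf [3, 6966]))) (.node (.node (.leaf [6, 28825, 27082]) (.leaf [6, 91178, 92056])) (.node (.leaf [6, 55242, 60120]) (.leaf [])))))) (.node (.node (.node (.node (.node (.leaf [5, 536, 2744]) (.leaf [5, 65624, 14152])) (.node (.leaf [8, 9, 592712, 5, 3, 7, 3443258, 3, 4, 2232, 822026, 4, 3, 3, 4, 0, 5, 822058, 3]) (.leaf [6, 47418, 97384]))) (.node (.node (.leaf [3, 1206]) (.leaf [6, 79017, 59674, 79016])) (.node (.leaf [6, 33450,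 47736]) (.leaf [8, 1, 6452814, 3, 3, 14, 929140266, 1, 2, 3, 56104, 929155434, 1, 2, 3, 216, 929657850, 1, 2, 3, 3, 2, 1, 0, 5, 56152, 929401162, 3, 2, 1])))) (.node (.node (.node (.leaf [5, 8280, 2744]) (.leaf [6, 76521, 74746])) (.node (.leaf [3, 2742]) (.leaf [3, 6838]))) (.node (.node (.leaf [3, 1718]) (.leaf [6, 85258, 92056])) (.node (.leaf [6, 60121, 43610, 60120]) (.leaf []))))) (.node (.node (.node (.node (.leaf [5, 3960, 472]) (.leaf [6, 71881, 32666])) (.node (.leaf [6, 39769, 24362]) (.leaf [3, 6582]))) (.node (.node (.leaf [6, 23209, 20170]) (.leaf [6, 87993, 61018])) (.node (.leaf [5, 2072, 56104]) (.leaf [])))) (.node (.node (.node (.leaf [2]) (.leaf [6, 79017, 58522])) (.node (.leaf [6, 47737, 24650]) (.leaf [8, 1, 7196976, 3, 3, 18, 919965098, 1, 2, 3, 924676106, 1, 2, 3, 56472, 927577130, 1, 2, 3, 56648, 927838058, 1, 2, 3, 3, 2, 1]))) (.node (.node (.leaf [8, 12, 462506, 4, 6, 5, 3166842,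 1, 2, 33846826, 2, 1, 2, 0, 5, 15336, 3439466, 2, 1]) (.leaf [6, 94170, 96248])) (.node (.leaf [5, 63256, 14344]) (.leaf []))))))) (.node (.node (.node (.node (.node (.node (.leaf [8, 2, 0, 4, 6, 6, 122, 1, 2, 56, 1818, 2, 1, 2, 0, 5, 472, 410, 2, 1]) (.leaf [5, 65000, 14152])) (.node (.leaf [2]) (.leaf [6, 97385, 84538]))) (.node (.node (.leaf [5, 18280]) (.leaf [6, 79017, 50634, 79016])) (.node (.leaf [6, 30538, 47736]) (.leaf [8, 5, 4481918, 4, 3, 7, 923886506, 2, 1, 16760, 919428602, 1, 2, 2, 1, 0, 5, 16888, 928364362, 2])))) (.node (.node (.node (.leaf [5, 7016, 472]) (.leaf [6, 48378, 74408])) (.node (.leaf [8, 1, 527024, 5, 3, 3, 42490, 3, 4, 3, 4, 0, 5, 2104, 828714, 3, 0, 5, 42314, 3, 4]) (.leaf [8, 5, 5923808, 5, 3, 8, 16648, 922568778, 3, 4, 9208, 924930202, 4, 3, 3, 4, 0, 5, 17016, 922321962, 3]))) (.node (.node (.leaf [3, 1654]) (.leaf [6, 87993, 76506])) (.node (.leaf [6, 57193, 50154]) (.leaf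 []))))) (.node (.node (.node (.node (.leaf [5, 3336, 2744]) (.leaf [5, 68920, 62664])) (.node (.leaf [6, 38521, 35114]) (.leaf [3, 6518]))) (.node (.node (.leaf [8, 1, 798524, 4, 6, 9, 21754, 1, 2, 34362826, 2, 2056, 33838554, 1, 2, 1, 2]) (.leaf [7, 5, 1547124, 2, 2024, 921518346, 933581610])) (.node (.leaf [3, 3446]) (.leaf [])))) (.node (.node (.node (.leaf [8, 1, 658728, 3, 3, 20, 200, 90, 1, 2, 3, 536, 3146138, 1, 2, 3, 200, 3159306, 1, 2, 3, 1528, 3422058, 1, 2, 3, 3, 2, 1]) (.leaf [6, 79017, 75050])) (.node (.leaf [6, 46585, 45850]) (.leaf [8, 5, 5788384, 5, 0, 7, 920227226, 4, 3, 56936, 924665146, 3, 4, 3, 0, 5, 16648, 920487354, 3, 4]))) (.node (.node (.leaf [6, 28825, 28314]) (.leaf [6, 94186, 95720])) (.node (.leaf [5, 62824, 14344]) (.leaf [])))))) (.node (.node (.node (.node (.node (.leaf [5, 2872, 2744]) (.leaf [5, 66360, 62664])) (.node (.leaf [8, 22, 1580886, 5, 9, 9, 3181962, 3, 822042, 4,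 3, 2024, 13898, 3, 4, 3, 4]) (.leaf [6, 102201, 84986]))) (.node (.node (.leaf [3, 1270]) (.leaf [6, 52714, 79016])) (.node (.leaf [8, 5, 1589128, 1, 3, 4, 47322, 3, 0, 5, 5, 0, 2, 0, 5, 1880, 33600362, 3, 0, 5, 34124794, 3, 2, 3]) (.leaf [])))) (.node (.node (.node (.leaf [5, 9704, 136]) (.leaf [6, 76521, 23882, 76520])) (.node (.leaf [8, 9, 2585204, 5, 9, 6, 36968, 3452250, 3, 3452682, 4, 3, 3, 4, 0, 5, 36968, 3452730, 4, 3]) (.leaf [3, 6902]))) (.node (.node (.leaf [8, 33, 132216, 5, 6, 9, 811130, 4, 3, 22920, 3435946, 3, 33843178, 4, 3, 4, 3]) (.leaf [6, 40634, 92056])) (.node (.leaf [6, 42538, 60120]) (.leaf []))))) (.node (.node (.node (.node (.leaf [5, 4920, 296]) (.leaf [6, 33754, 71880])) (.node (.leaf [6, 40793, 17562]) (.leaf [3, 6646]))) (.node (.node (.leaf [8, 1, 1654806, 4, 3, 6, 800058, 2, 1, 33841002, 1, 2, 2, 1, 0, 5, 56, 807370, 2]) (.leaf [6, 87993, 42586, 87992])) (.node (.leaf [6, 19914,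 57192]) (.leaf [])))) (.node (.node (.node (.leaf [5, 1880, 16232]) (.leaf [6, 79017, 48586, 79016])) (.node (.leaf [6, 25706, 47736]) (.leaf [8, 1, 1005752, 5, 6, 10, 920227258, 4, 3, 2232, 927317642, 3, 216, 3259738, 4, 3, 4, 3]))) (.node (.node (.leaf [8, 23, 790628, 4, 0, 7, 3163626, 1, 2, 2056, 34372906, 2, 1, 2, 0, 5, 3428970, 2, 1]) (.leaf [6, 97385, 76794, 97384])) (.node (.leaf [5, 63768, 14632]) (.leaf []))))))))))

/-- their proofs, part 8 -/
def proofTab8 : WTab :=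
  (.node (.node (.node (.node (.node (.node (.node (.node (.node (.leaf [5, 104]) (.leaf [5, 63912, 14344])) (.node (.leaf [3, 2055]) (.leaf [6, 79626, 97384]))) (.node (.node (.leaf [5, 16264, 1992]) (.leaf [6, 79017, 48858])) (.node (.leaf [6, 26074, 47736]) (.leaf [3, 7175])))) (.node (.node (.node (.leaf [5, 5128, 2744]) (.leaf [6, 34314, 73832])) (.node (.leaf [8, 50, 90560, 5, 0, 3, 3184074, 4, 3, 3, 0, 5, 3444970, 3, 4, 0, 5, 1992, 34119098, 4, 3]) (.leaf [8, 2, 5595940, 3, 3, 15, 4072, 33913546, 1, 2, 3, 16488, 921253466, 1, 2, 3, 56856, 921275274, 1, 2, 3, 3, 2, 1, 0, 5, 11160, 925989802, 3, 2, 1]))) (.node (.node (.leaf [3, 1543]) (.leaf [6, 87993, 42714, 87992])) (.node (.leaf [6, 57193, 23434]) (.leaf []))))) (.node (.node (.node (.node (.leaf [5, 2936, 264]) (.leaf [5, 66584, 14344])) (.node (.leaf [8, 22, 1382976, 4, 0, 3, 822746, 1, 2, 2, 0, 5, 34358618, 2, 1, 0, 5, 33851130, 1, 2]) (.leaf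 [6, 85034, 102200]))) (.node (.node (.leaf [8, 30, 1317292, 4, 0, 9, 20330, 1, 2, 34099194, 2, 1, 3425850, 1, 2, 2]) (.leaf [6, 79017, 53562])) (.node (.leaf [3, 3335]) (.leaf [])))) (.node (.node (.node (.leaf [5, 10360, 264]) (.leaf [6, 48474, 76520])) (.node (.leaf [8, 9, 199080, 4, 9, 5, 43898, 2, 34118938, 1, 2, 2, 1, 0, 5, 14810, 1, 2]) (.leaf [8, 5, 5985636, 4, 9, 7, 16616, 928348762, 2, 12488, 928611066, 1, 2, 2, 1, 0, 5, 16344, 927547754, 1, 2]))) (.node (.node (.leaf [8, 34, 1251768, 1, 7, 14, 28202, 3, 2, 3, 34364954, 3, 3431994, 2, 0, 5, 28218, 3, 0, 5]) (.leaf [6, 90122, 92056])) (.node (.leaf [6, 60121, 43370]) (.leaf [])))))) (.node (.node (.node (.node (.node (.leaf [5, 1896, 2152]) (.leaf [5, 65160, 14344])) (.node (.leaf [3, 2183]) (.leaf [6, 97385, 78762]))) (.node (.node (.leaf [6, 18106, 18504]) (.leaf [6, 79017, 50906])) (.node (.leaf [6, 47737, 30650]) (.leaf [3, 7303])))) (.node (.node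 (.node (.leaf [5, 7320, 136]) (.leaf [6, 50250, 74408])) (.node (.leaf [3, 2695]) (.leaf [8, 5, 5481646, 3, 3, 15, 16648, 925190218, 1, 2, 3, 6568, 892106, 1, 2, 3, 11624, 919178218, 1, 2, 3, 3, 2, 1, 0, 5, 17016, 926262218, 3, 2, 1]))) (.node (.node (.leaf [8, 11, 922334, 4, 3, 8, 18408, 801514, 2, 1, 2072, 23306, 1, 2, 2, 1, 0, 5, 18392, 33581178, 2]) (.leaf [6, 92057, 39130])) (.node (.leaf [6, 57193, 51434]) (.leaf []))))) (.node (.node (.node (.node (.leaf [5, 3496, 472]) (.leaf [5, 69864, 62664])) (.node (.leaf [3, 2439]) (.leaf [3, 6535]))) (.node (.node (.leaf [3, 1415]) (.leaf [6, 87993, 60266, 87992])) (.node (.leaf [8, 2, 4217652, 4, 3, 3, 839162, 2, 1, 2, 1, 0, 5, 8008, 840026, 2, 0, 5, 53658, 2, 1]) (.leaf [])))) (.node (.node (.node (.leaf [3, 903]) (.leaf [6, 57898, 79016])) (.node (.leaf [6, 46585, 43914]) (.leaf [8, 5, 5903388, 5, 3, 3, 920751514, 3, 4, 3, 4, 0, 5, 16904, 923113482, 3, 0,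 5, 56776, 928888442, 3, 4]))) (.node (.node (.leaf [3, 1927]) (.leaf [6, 96249, 78602])) (.node (.leaf [5, 62920, 62664]) (.leaf []))))))) (.node (.node (.node (.node (.node (.node (.leaf [3, 71]) (.leaf [5, 64520, 14632])) (.node (.leaf [3, 2119]) (.leaf [6, 97385, 81450]))) (.node (.node (.leaf [2]) (.leaf [6, 79017, 59242, 79016])) (.node (.leaf [6, 29770, 47736]) (.leaf [8, 5, 1163764, 1, 3, 12, 923362170, 3, 0, 5, 16968, 928859274, 3, 2, 3, 16728, 922049562, 3, 5, 0, 2])))) (.node (.node (.node (.leaf [5, 6312, 2744]) (.leaf [6, 21210, 74408])) (.node (.leaf [6, 41802, 42008]) (.leaf [3, 6727]))) (.node (.node (.leaf [8, 1, 1366518, 4, 9, 5, 3425674, 2, 34103738, 1, 2, 2, 1, 0, 5, 808218, 1, 2]) (.leaf [6, 87993, 54410])) (.node (.leaf [6, 57193, 22762]) (.leaf []))))) (.node (.node (.node (.node (.leaf [5, 3144, 136]) (.leaf [5, 67592, 14632])) (.node (.leaf [6, 37993, 14938]) (.leaf [3, 6471]))) (.node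 (.node (.leaf [8, 23, 987840, 4, 9, 5, 3429434, 2, 33837290, 1, 2, 2, 1, 0, 5, 33576010, 1, 2]) (.leaf [6, 87033, 77242])) (.node (.leaf [8, 17, 2963520, 3, 3, 18, 52378, 1, 2, 3, 16376, 832314, 1, 2, 3, 3191802, 1, 2, 3, 17528, 34116394, 1, 2, 3, 3, 2, 1]) (.leaf [])))) (.node (.node (.node (.leaf [5, 13416, 1048]) (.leaf [6, 76521, 61978])) (.node (.leaf [6, 45241, 40890]) (.leaf [3, 6983]))) (.node (.node (.leaf [6, 28825, 27354]) (.leaf [6, 91274, 92056])) (.node (.leaf [6, 55850, 60120]) (.leaf [])))))) (.node (.node (.node (.node (.node (.leaf [5, 856, 2744]) (.leaf [5, 65784, 14632])) (.node (.leaf [3, 2247]) (.leaf [6, 97385, 47706, 97384]))) (.node (.node (.leaf [5, 19480, 19576]) (.leaf [6, 72346, 79016])) (.node (.leaf [3, 3271]) (.leaf [])))) (.node (.node (.node (.leaf [5, 8776, 136]) (.leaf [6, 57514, 76520])) (.node (.leaf [6, 39866, 44056]) (.leaf [8, 2, 5013962, 5, 3, 8, 6648, 927549530,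 3, 4, 16872, 927037082, 4, 3, 3, 4, 0, 5, 11016, 924405914, 3]))) (.node (.node (.leaf [3, 1735]) (.leaf [6, 72890, 92056])) (.node (.leaf [6, 60121, 34426]) (.leaf []))))) (.node (.node (.node (.node (.leaf [5, 4216, 2744]) (.leaf [6, 71881, 32986])) (.node (.leaf [3, 2503]) (.leaf [8, 2, 1791632, 1, 3, 9, 4072, 932805322, 3, 0, 5, 933585354, 3, 2, 3, 5, 0, 2, 0, 5, 4136, 924154698, 3]))) (.node (.node (.leaf [6, 23209, 20714]) (.leaf [6, 87993, 35978])) (.node (.leaf [5, 56328, 56104]) (.leaf [])))) (.node (.node (.node (.leaf [7, 1, 2436672, 2, 2056, 3423354, 34356346]) (.leaf [6, 77802, 79016])) (.node (.leaf [6, 47737, 24922]) (.leaf [8, 1, 6491478, 5, 3, 7, 922324394, 3, 4, 16344, 924955322, 4, 3, 3, 4, 0, 5, 33930218, 3]))) (.node (.node (.leaf [3, 1991]) (.leaf [6, 13018, 97384])) (.node (.leaf [5, 63368, 62664]) (.leaf [])))))))) (.node (.node (.node (.node (.node (.node (.node (.leaf [5, 632]) (.leaf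 [5, 64200, 14344])) (.node (.leaf [8, 8, 1424492, 4, 9, 5, 3426794, 2, 3177930, 1, 2, 2, 1, 0, 5, 14152, 34109226, 1, 2]) (.leaf [6, 77482, 97384]))) (.node (.node (.leaf [5, 16520, 16232]) (.leaf [6, 79017, 49370, 79016])) (.node (.leaf [6, 47737, 29258]) (.leaf [8, 5, 5258000, 4, 0, 7, 920751562, 1, 2, 56184, 933603802, 2, 1, 2, 0, 5, 17096, 927814906, 2, 1])))) (.node (.node (.node (.leaf [5, 5768, 2744]) (.leaf [6, 53722, 73832])) (.node (.leaf [6, 41369, 39546]) (.leaf [8, 5, 5517076, 4, 0, 8, 16376, 921008858, 1, 2, 12312, 922590826, 2, 1, 2, 0, 5, 932283098, 2, 1]))) (.node (.node (.leaf [3, 1575]) (.leaf [6, 87993, 61658])) (.node (.leaf [6, 21978, 57192]) (.leaf []))))) (.node (.node (.node (.node (.leaf [5, 3032, 472]) (.leaf [5, 67032, 14632])) (.node (.leaf [3, 2343]) (.leaf [8, 5, 4272830, 5, 6, 6, 3509642, 4, 3, 56264, 929390330, 3, 4, 3, 0, 5, 16552, 927558618, 3, 4]))) (.node (.node (.leaf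 [6, 18794, 20920]) (.leaf [6, 73706, 79016])) (.node (.leaf [3, 3367]) (.leaf [])))) (.node (.node (.node (.leaf [5, 11320, 264]) (.leaf [6, 51338, 76520])) (.node (.leaf [6, 45241, 41706]) (.leaf [8, 5, 2584356, 3, 3, 10, 16616, 924678746, 1, 2, 3, 5096, 931503834, 1, 2, 3, 3, 2, 1, 0, 5, 34421626, 3, 2, 1, 0, 5, 216, 33897066, 3, 2, 1]))) (.node (.node (.leaf [6, 26794, 28824]) (.leaf [6, 52410, 92056])) (.node (.leaf [6, 60121, 54858, 60120]) (.leaf [])))))) (.node (.node (.node (.node (.node (.leaf [8, 1, 996078, 5, 9, 9, 2522, 3, 2680, 2586, 4, 3, 90, 3, 4, 3, 4]) (.leaf [5, 65448, 14632])) (.node (.leaf [8, 5, 2453306, 4, 9, 9, 3443162, 2, 33850666, 1, 2, 216, 34112506, 2, 1, 2, 1]) (.leaf [6, 90490, 97384]))) (.node (.node (.leaf [8, 23, 462512, 4, 9, 9, 3164474, 2, 33573242, 1, 2, 14152, 34359770, 2, 1, 2, 1]) (.leaf [6, 79017, 59530, 79016])) (.node (.leaf [6, 47737, 32442]) (.leaf [8, 1, 4335926,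 1, 7, 4, 919178746, 3, 2, 3, 5, 0, 3, 0, 5, 216, 929915290, 5, 0, 2, 0, 5, 16328, 922318826, 3])))) (.node (.node (.node (.leaf [5, 7944, 136]) (.leaf [6, 74409, 62042])) (.node (.leaf [6, 43449, 34362]) (.leaf [8, 5, 1947592, 5, 3, 11, 16648, 919160906, 3, 4, 8120, 925194026, 4, 3, 16248, 932535370, 3, 3, 4]))) (.node (.node (.leaf [3, 1703]) (.leaf [6, 85162, 92056])) (.node (.leaf [6, 55114, 57192]) (.leaf []))))) (.node (.node (.node (.node (.leaf [5, 3800, 296]) (.leaf [6, 71881, 51818])) (.node (.leaf [6, 39289, 38634]) (.leaf [3, 6567]))) (.node (.node (.leaf [3, 1447]) (.leaf [6, 87993, 60778, 87992])) (.node (.leaf [3, 3495]) (.leaf [])))) (.node (.node (.node (.leaf [8, 1, 1251622, 5, 9, 9, 13658, 3, 1608, 13690, 4, 3, 14970, 3, 4, 3, 4]) (.leaf [6, 79017, 58282])) (.node (.leaf [6, 24378, 47736]) (.leaf [3, 7079]))) (.node (.node (.leaf [5, 31352, 31336]) (.leaf [6, 88490, 96248])) (.node (.leaf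 [5, 63144, 62664]) (.leaf []))))))) (.node (.node (.node (.node (.node (.node (.leaf [5, 1496, 1592]) (.leaf [5, 64824, 62664])) (.node (.leaf [3, 2151]) (.leaf [6, 83146, 97384]))) (.node (.node (.leaf [2]) (.leaf [6, 79017, 59402, 79016])) (.node (.leaf [6, 47737, 30298]) (.leaf [8, 5, 4613448, 5, 3, 7, 920478618, 3, 4, 16856, 33662842, 4, 3, 3, 4, 0, 5, 17112, 929408186, 3])))) (.node (.node (.node (.leaf [5, 6792, 472]) (.leaf [6, 74409, 23786])) (.node (.leaf [6, 42009, 40714]) (.leaf [3, 6759]))) (.node (.node (.leaf [8, 33, 592712, 4, 6, 5, 24842, 1, 2, 33580618, 2, 1, 2, 0, 5, 34104410, 2, 1]) (.leaf [6, 86890, 87992])) (.node (.leaf [6, 57193, 49114]) (.leaf []))))) (.node (.node (.node (.node (.leaf [5, 3240, 296]) (.leaf [5, 68344, 14344])) (.node (.leaf [6, 34842, 38520]) (.leaf [8, 5, 4274590, 4, 0, 6, 921537930, 1, 2, 33919818, 2, 1, 2, 0, 5, 33919738, 2, 1]))) (.node (.node (.leaf [3, 1383])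 (.leaf [6, 87625, 83018])) (.node (.leaf [8, 42, 4159180, 3, 3, 17, 3198362, 1, 2, 3, 19480, 808698, 1, 2, 3, 34112090, 1, 2, 3, 33586570, 1, 2, 3, 3, 2, 1]) (.leaf [])))) (.node (.node (.node (.leaf [8, 1, 329956, 4, 9, 5, 3410362, 2, 3159626, 1, 2, 2, 1, 0, 5, 200, 3408266, 1, 2]) (.leaf [6, 76874, 79016])) (.node (.leaf [6, 38058, 46584]) (.leaf [3, 7015]))) (.node (.node (.leaf [6, 27930, 28824]) (.leaf [6, 95721, 88378])) (.node (.leaf [5, 62744, 14344]) (.leaf [])))))) (.node (.node (.node (.node (.node (.leaf [5, 2824, 2744]) (.leaf [5, 66168, 62664])) (.node (.leaf [3, 2279]) (.leaf [6, 97385, 86106]))) (.node (.node (.leaf [8, 1, 139944, 3, 3, 19, 803802, 1, 2, 3, 14152, 803706, 1, 2, 3, 2072, 34098458, 1, 2, 3, 19656, 34098810, 1, 2, 3, 3, 2, 1]) (.leaf [6, 73306, 79016])) (.node (.leaf [3, 3303]) (.leaf [])))) (.node (.node (.node (.leaf [5, 9320, 136]) (.leaf [6, 76521, 22314])) (.node (.leaf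 [8, 4, 85010, 1, 3, 4, 3190090, 3, 0, 5, 5, 0, 2, 0, 5, 3190154, 3, 0, 5, 3452538, 3, 2, 3]) (.leaf [8, 2, 5036858, 5, 9, 7, 6648, 925714522, 3, 16520, 932816954, 4, 3, 3, 4, 0, 5, 3320, 931500410, 4, 3]))) (.node (.node (.leaf [3, 1767]) (.leaf [6, 85706, 92056])) (.node (.leaf [6, 39610, 60120]) (.leaf []))))) (.node (.node (.node (.node (.leaf [5, 4696, 472]) (.leaf [6, 71881, 59994])) (.node (.leaf [6, 40537, 17642]) (.leaf [8, 2, 3009270, 5, 0, 4, 4072, 926776010, 4, 3, 3, 0, 5, 12536, 930708458, 3, 4, 0, 5, 16760, 925211946, 4, 3]))) (.node (.node (.leaf [2]) (.leaf [6, 87993, 42378, 87992])) (.node (.leaf [5, 56840, 56104]) (.leaf [])))) (.node (.node (.node (.leaf [3, 999]) (.leaf [6, 48346, 79016])) (.node (.leaf [6, 47737, 25466]) (.leaf [3, 7143]))) (.node (.node (.leaf [8, 23, 724422, 4, 3, 7, 3425690, 2, 1, 2104, 3439946, 1, 2, 2, 1, 0, 5, 3167450, 2]) (.leaf [6, 97385, 76586, 97384])) (.node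 (.leaf [5, 63640, 14344]) (.leaf []))))))))) (.node (.node (.node (.node (.node (.node (.node (.node (.leaf [8, 1, 0, 4, 3, 8, 26, 2, 6, 1, 6, 7, 1, 2, 2, 1, 0, 5, 786794, 2]) (.leaf [5, 64040, 62664])) (.node (.leaf [8, 23, 725426, 3, 3, 16, 807610, 1, 2, 3, 34101658, 1, 2, 3, 34098698, 1, 2, 3, 34111578, 1, 2, 3, 3, 2, 1]) (.leaf [6, 97385, 80074]))) (.node (.node (.leaf [5, 16344, 2152]) (.leaf [6, 79017, 59018, 79016])) (.node (.leaf [6, 47737, 29002]) (.leaf [3, 7191])))) (.node (.node (.node (.leaf [5, 5448, 2744]) (.leaf [6, 73833, 36202])) (.node (.leaf [7, 50, 411958, 1, 33857786, 34382202]) (.leaf [8, 2, 3937598, 5, 6, 7, 4072, 920746698, 4, 3, 16824, 925447770, 3, 4, 3, 0, 5, 12808, 927571562, 3, 4]))) (.node (.node (.leaf [3, 1559]) (.leaf [6, 47146, 87992])) (.node (.leaf [6, 57193, 21594]) (.leaf []))))) (.node (.node (.node (.node (.leaf [5, 2984, 296]) (.leaf [5, 66824, 62664])) (.node (.leaf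 [8, 32, 82674, 5, 0, 3, 36714, 4, 3, 3, 0, 5, 24314, 3, 4, 0, 5, 810730, 4, 3]) (.leaf [3, 6423]))) (.node (.node (.leaf [8, 28, 176, 1, 3, 8, 20586, 3, 0, 5, 33575258, 3, 2, 3, 5, 0, 2, 0, 5, 34361578, 3]) (.leaf [6, 79017, 54298])) (.node (.leaf [3, 3351]) (.leaf [])))) (.node (.node (.node (.leaf [5, 10872, 264]) (.leaf [6, 76521, 49786])) (.node (.leaf [6, 45241, 41402]) (.leaf [8, 5, 7117396, 5, 9, 6, 16616, 883290, 3, 925988890, 4, 3, 3, 4, 0, 5, 16536, 922836954, 4, 3]))) (.node (.node (.leaf [6, 26538, 28824]) (.leaf [6, 92057, 45034])) (.node (.leaf [6, 53050, 60120]) (.leaf [])))))) (.node (.node (.node (.node (.node (.leaf [5, 1704, 2248]) (.leaf [5, 65320, 14344])) (.node (.leaf [8, 1, 1926458, 1, 3, 8, 34842, 3, 0, 5, 821370, 3, 2, 3, 5, 0, 2, 0, 5, 2072, 34113866, 3]) (.leaf [6, 97385, 93994]))) (.node (.node (.leaf [8, 1, 502152, 4, 3, 6, 801834, 2, 1, 18698, 1, 2, 2, 1, 0, 5, 804298, 2]) (.leaf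 [6, 79017, 59466, 79016])) (.node (.leaf [6, 47737, 28698]) (.leaf [8, 1, 397812, 3, 3, 5, 56152, 922839402, 1, 2, 3, 3, 2, 1, 0, 5, 56792, 932300122, 3, 2, 1, 0, 5, 16648, 927310458, 3, 2, 1, 0, 5, 65080, 929577066, 3, 2, 1])))) (.node (.node (.node (.leaf [5, 7560, 264]) (.leaf [6, 74409, 31514])) (.node (.leaf [8, 22, 2181482, 1, 7, 10, 42794, 3, 2, 3, 34375402, 3, 34113098, 2, 0, 5, 5, 0, 3]) (.leaf [8, 5, 6729550, 5, 6, 11, 16648, 924403786, 4, 3, 7960, 926434362, 3, 64936, 922302490, 4, 3, 4, 3]))) (.node (.node (.leaf [8, 12, 676, 4, 3, 6, 3428922, 2, 1, 33837786, 1, 2, 2, 1, 0, 5, 15336, 34105594, 2]) (.leaf [6, 92057, 72122, 92056])) (.node (.leaf [6, 57193, 32730]) (.leaf []))))) (.node (.node (.node (.node (.leaf [5, 3656, 264]) (.leaf [6, 71881, 32058])) (.node (.leaf [6, 34074, 39288]) (.leaf [3, 6551]))) (.node (.node (.leaf [5, 22904]) (.leaf [6, 87993, 73914])) (.node (.leaf [3, 3479]) (.leaf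 [])))) (.node (.node (.node (.leaf [8, 1, 922494, 4, 3, 6, 3409610, 2, 1, 13818, 1, 2, 2, 1, 0, 5, 200, 3422394, 2]) (.leaf [6, 77354, 79016])) (.node (.leaf [6, 46585, 44714]) (.leaf [3, 7063]))) (.node (.node (.leaf [3, 1943]) (.leaf [6, 31194, 96248])) (.node (.leaf [5, 63048, 14344]) (.leaf []))))))) (.node (.node (.node (.node (.node (.node (.leaf [5, 1400, 1384]) (.leaf [5, 64696, 14152])) (.node (.leaf [3, 2135]) (.leaf [6, 97385, 78122, 97384]))) (.node (.node (.leaf [2]) (.leaf [6, 79017, 50138, 79016])) (.node (.leaf [6, 47737, 30026, 47736]) (.leaf [8, 5, 5334360, 4, 3, 10, 919954314, 2, 1, 16664, 924927418, 1, 2, 16808, 920483210, 2, 2, 1])))) (.node (.node (.node (.leaf [5, 6552, 2744]) (.leaf [6, 74409, 57722])) (.node (.leaf [6, 42009, 38378, 42008]) (.leaf [3, 6743]))) (.node (.node (.leaf [8, 12, 1317470, 3, 3, 17, 3166938, 1, 2, 3, 34100522, 1, 2, 3, 2056, 34365866, 1, 2, 3, 24842, 1, 2,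 3, 3, 2, 1]) (.leaf [6, 87993, 62122])) (.node (.leaf [6, 48730, 57192]) (.leaf []))))) (.node (.node (.node (.node (.leaf [5, 3192, 264]) (.leaf [5, 67976, 62664])) (.node (.leaf [3, 2391]) (.leaf [8, 5, 235668, 5, 9, 9, 920227210, 3, 34444346, 4, 3, 16472, 926244202, 3, 4, 3, 4]))) (.node (.node (.leaf [8, 28, 921984, 5, 9, 8, 807098, 3, 33837594, 4, 3, 21882, 3, 4, 3, 4]) (.leaf [6, 84234, 87032])) (.node (.leaf [8, 42, 2313550, 4, 6, 8, 3198298, 1, 2, 34127642, 2, 34100794, 1, 2, 1, 2]) (.leaf [])))) (.node (.node (.node (.leaf [6, 13258, 13512]) (.leaf [6, 19866, 79016])) (.node (.leaf [6, 45241, 43834]) (.leaf [8, 5, 5792020, 3, 3, 4, 3247514, 1, 2, 3, 3, 2, 1, 0, 5, 16408, 924670554, 3, 2, 1, 0, 5, 16872, 931232650, 3, 2, 1, 0, 5, 7784, 924678666, 3, 2, 1]))) (.node (.node (.leaf [6, 28825, 27674, 28824]) (.leaf [6, 86858, 92056])) (.node (.leaf [5, 62664, 14152]) (.leaf [])))))) (.node (.node (.node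 (.node (.node (.leaf [5, 2776, 472]) (.leaf [5, 65960, 62664])) (.node (.leaf [3, 2263]) (.leaf [6, 85946, 97384]))) (.node (.node (.leaf [8, 1, 1976700, 1, 7, 4, 19770, 3, 2, 3, 5, 0, 3, 0, 5, 17418, 5, 0, 2, 0, 5, 14376, 33833962, 3]) (.leaf [6, 79017, 72954])) (.node (.leaf [3, 3287]) (.leaf [])))) (.node (.node (.node (.leaf [5, 9048, 2744]) (.leaf [6, 57770, 76520])) (.node (.leaf [6, 43946, 44056]) (.leaf [3, 6871]))) (.node (.node (.leaf [3, 1751]) (.leaf [6, 85482, 92056])) (.node (.leaf [6, 60121, 45514, 60120]) (.leaf []))))) (.node (.node (.node (.node (.leaf [5, 4488, 2744]) (.leaf [6, 71881, 33242])) (.node (.leaf [3, 2519]) (.leaf [8, 2, 1188962, 4, 6, 7, 4072, 933067466, 1, 2, 16680, 921537354, 2, 1, 2, 0, 5, 8216, 922568746, 2, 1]))) (.node (.node (.leaf [6, 23209, 23098]) (.leaf [6, 42282, 87992])) (.node (.leaf [5, 56584, 56104]) (.leaf [])))) (.node (.node (.node (.leaf [5, 15528, 15736])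 (.leaf [6, 79017, 48090])) (.node (.leaf [6, 25178, 47736]) (.leaf [8, 1, 1349558, 3, 3, 4, 927567274, 1, 2, 3, 3, 2, 1, 0, 5, 56792, 929131242, 3, 2, 1, 0, 5, 2152, 921542634, 3, 2, 1, 0, 5, 56392, 921811658, 3, 2, 1]))) (.node (.node (.leaf [8, 8, 148530, 4, 9, 10, 803706, 2, 2056, 3159354, 1, 2, 2392, 33848522, 2, 1, 2, 1]) (.leaf [6, 14074, 97384])) (.node (.leaf [5, 63496, 62664]) (.leaf [])))))))) (.node (.node (.node (.node (.node (.node (.node (.leaf [2]) (.leaf [5, 64360, 14344])) (.node (.leaf [3, 2103]) (.leaf [6, 97385, 80874]))) (.node (.node (.leaf [6, 17241, 15930]) (.leaf [6, 79017, 78186])) (.node (.leaf [6, 29514, 47736]) (.leaf [3, 7223])))) (.node (.node (.node (.leaf [5, 6056, 264]) (.leaf [6, 74409, 21370])) (.node (.leaf [6, 41369, 38874]) (.leaf [3, 6711]))) (.node (.node (.leaf [3, 1591]) (.leaf [6, 87993, 86010])) (.node (.leaf [6, 22442, 57192]) (.leaf []))))) (.node (.node (.node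 (.node (.leaf [5, 3080, 2744]) (.leaf [5, 67288, 62664])) (.node (.leaf [5, 37752]) (.leaf [3, 6455]))) (.node (.node (.leaf [6, 21273, 18026]) (.leaf [6, 62506, 79016])) (.node (.leaf [8, 17, 987840, 3, 3, 9, 3197994, 1, 2, 3, 1400, 33601658, 1, 2, 3, 3, 2, 1, 0, 5, 802282, 3, 2, 1, 0, 5, 200, 33859066, 3, 2, 1]) (.leaf [])))) (.node (.node (.node (.leaf [3, 823]) (.leaf [6, 31418, 76520])) (.node (.leaf [6, 37850, 45240]) (.leaf [8, 2, 4114794, 4, 3, 8, 7864, 928348746, 2, 1, 16296, 927544890, 1, 2, 2, 1, 0, 5, 11672, 922328346, 2]))) (.node (.node (.leaf [6, 27098, 28824]) (.leaf [6, 86346, 92056])) (.node (.leaf [6, 60121, 55258]) (.leaf [])))))) (.node (.node (.node (.node (.node (.leaf [5, 552, 2744]) (.leaf [5, 65624, 14344])) (.node (.leaf [3, 2231]) (.leaf [6, 97385, 47434, 97384]))) (.node (.node (.leaf [8, 4, 486042, 3, 3, 8, 13034, 1, 2, 3, 19306, 1, 2, 3, 3, 2, 1, 0, 5, 2328, 13610, 3, 2, 1,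 0, 5, 2088, 34097834, 3, 2, 1]) (.leaf [6, 30842, 79016])) (.node (.leaf [6, 47737, 33466]) (.leaf [8, 1, 5798600, 4, 0, 7, 923635274, 1, 2, 2072, 920232154, 2, 1, 2, 0, 5, 56168, 926509018, 2, 1])))) (.node (.node (.node (.leaf [5, 8328, 136]) (.leaf [6, 74762, 76520])) (.node (.leaf [8, 44, 1712256, 4, 6, 5, 829434, 1, 2, 43882, 2, 1, 2, 0, 5, 37784, 34121722, 2, 1]) (.leaf [8, 5, 6319850, 3, 3, 10, 16648, 933316682, 1, 2, 3, 8952, 927309242, 1, 2, 3, 3, 2, 1, 0, 5, 16552, 922836042, 3, 2, 1, 0, 5, 16856, 920993754, 3, 2, 1]))) (.node (.node (.leaf [8, 23, 922334, 4, 9, 5, 3164778, 2, 34362362, 1, 2, 2, 1, 0, 5, 27242, 1, 2]) (.leaf [6, 92057, 85274])) (.node (.leaf [6, 39306, 60120]) (.leaf []))))) (.node (.node (.node (.node (.leaf [5, 3976, 296]) (.leaf [6, 32682, 71880])) (.node (.leaf [6, 35594, 39768]) (.leaf [8, 2, 5034342, 4, 9, 3, 4072, 926513866, 2, 2, 1, 0, 5, 11080, 919090602, 1, 2, 0, 5, 16968,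 932026538, 2, 1]))) (.node (.node (.leaf [6, 20186, 23208]) (.leaf [6, 61034, 87992])) (.node (.leaf [5, 2088, 56104]) (.leaf [])))) (.node (.node (.node (.leaf [3, 951]) (.leaf [6, 58538, 79016])) (.node (.leaf [6, 24666, 47736]) (.leaf [3, 7095]))) (.node (.node (.leaf [3, 1975]) (.leaf [6, 74202, 96248])) (.node (.leaf [5, 63256, 14632]) (.leaf []))))))) (.node (.node (.node (.node (.node (.node (.leaf [3, 119]) (.leaf [5, 65000, 14344])) (.node (.leaf [8, 1, 395316, 5, 6, 5, 13770, 4, 3, 33786, 3, 4, 3, 0, 5, 2072, 33851258, 3, 4]) (.leaf [6, 97385, 84554]))) (.node (.node (.leaf [5, 15096, 18296]) (.leaf [6, 79017, 50650])) (.node (.leaf [6, 28154, 47736]) (.leaf [3, 7287])))) (.node (.node (.node (.leaf [5, 7048, 2744]) (.leaf [6, 74409, 48522])) (.node (.leaf [3, 2679]) (.leaf [3, 6775]))) (.node (.node (.leaf [8, 8, 2774192, 3, 3, 4, 3425258, 1, 2, 3, 3, 2, 1, 0, 5, 14152, 33833850, 3, 2, 1, 0, 5,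 216, 801994, 3, 2, 1, 0, 5, 15816, 34105162, 3, 2, 1]) (.leaf [6, 86970, 87992])) (.node (.leaf [6, 50170, 57192]) (.leaf []))))) (.node (.node (.node (.node (.leaf [5, 3352, 296]) (.leaf [5, 68936, 14344])) (.node (.leaf [6, 35130, 38520]) (.leaf [8, 5, 316930, 4, 6, 3, 923635082, 1, 2, 1, 2, 0, 5, 1992, 921794154, 2, 1, 0, 5, 56424, 929660634, 2]))) (.node (.node (.leaf [3, 1399]) (.leaf [7, 5, 1459092, 2, 16552, 920471162, 933581626])) (.node (.leaf [8, 29, 2634590, 5, 6, 5, 52650, 4, 3, 54906, 3, 4, 3, 0, 5, 19592, 50490, 3, 4]) (.leaf [])))) (.node (.node (.node (.leaf [3, 887]) (.leaf [6, 75066, 79016])) (.node (.leaf [6, 46585, 45866]) (.leaf [3, 7031]))) (.node (.node (.leaf [6, 28330, 28824]) (.leaf [6, 95721, 94202])) (.node (.leaf [5, 62824, 14632]) (.leaf [])))))) (.node (.node (.node (.node (.node (.leaf [5, 2888, 136]) (.leaf [5, 66376, 62664])) (.node (.leaf [3, 2295]) (.leaf [6, 31386, 102200])))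 (.node (.node (.leaf [8, 1, 412468, 3, 3, 4, 3165466, 1, 2, 3, 3, 2, 1, 0, 5, 2056, 33830282, 3, 2, 1, 0, 5, 1640, 800042, 3, 2, 1, 0, 5, 2072, 34098762, 3, 2, 1]) (.leaf [6, 79017, 61770])) (.node (.leaf [3, 3319]) (.leaf [])))) (.node (.node (.node (.leaf [5, 9704, 296]) (.leaf [6, 76521, 23898, 76520])) (.node (.leaf [8, 5, 732660, 5, 9, 5, 3188938, 3, 33859818, 4, 3, 3, 4, 0, 5, 1992, 3421802, 4, 3]) (.leaf [8, 2, 3664566, 3, 3, 20, 6648, 927287386, 1, 2, 3, 16504, 928338058, 1, 2, 3, 3768, 919697642, 1, 2, 3, 16328, 931487034, 1, 2, 3, 3, 2, 1]))) (.node (.node (.leaf [3, 1783]) (.leaf [6, 92057, 39178])) (.node (.leaf [6, 60121, 42554]) (.leaf []))))) (.node (.node (.node (.node (.leaf [5, 4920, 472]) (.leaf [6, 71881, 33770])) (.node (.leaf [6, 40793, 17578]) (.leaf [8, 2, 3190374, 5, 6, 11, 4072, 927038154, 4, 3, 2184, 928078410, 3, 16344, 919441770, 4, 3, 4, 3]))) (.node (.node (.leaf [3, 1527])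 (.leaf [6, 87993, 42602])) (.node (.leaf [6, 57193, 19930]) (.leaf [])))) (.node (.node (.node (.leaf [5, 1896, 16232]) (.leaf [6, 79017, 48602, 79016])) (.node (.leaf [6, 47737, 25738]) (.leaf [3, 7159]))) (.node (.node (.leaf [3, 2039]) (.leaf [6, 97385, 76810, 97384])) (.node (.leaf [5, 63768, 62664]) (.leaf []))))))))))

/-- their proofs, part 9 -/
def proofTab9 : WTab :=
  (.node (.node (.node (.node (.node (.node (.node (.node (.node (.leaf [8, 1, 0, 1, 3, 13, 26, 3, 6, 0, 6, 5, 6, 7, 3, 2, 3, 90, 3, 5, 0, 2]) (.leaf [5, 63912, 14632])) (.node (.leaf [8, 23, 1317628, 4, 3, 3, 21370, 2, 1, 2, 1, 0, 5, 34097610, 2, 0, 5, 14376, 3439706, 2, 1]) (.leaf [6, 97385, 77018]))) (.node (.node (.leaf [5, 16264, 2152]) (.leaf [6, 79017, 48874])) (.node (.leaf [6, 47737, 26090]) (.leaf [8, 1, 3955774, 5, 3, 7, 924159418, 3, 4, 16360, 921780570, 4, 3, 3, 4, 0, 5, 56584, 922567930, 3])))) (.node (.node (.node (.leaf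 [5, 5160, 296]) (.leaf [6, 73833, 60490])) (.node (.leaf [3, 2568]) (.leaf [3, 6664]))) (.node (.node (.leaf [8, 1, 1448850, 3, 3, 4, 3160778, 1, 2, 3, 3, 2, 1, 0, 5, 2072, 801706, 3, 2, 1, 0, 5, 15336, 33575466, 3, 2, 1, 0, 5, 34103354, 3, 2, 1]) (.leaf [6, 87993, 42730])) (.node (.leaf [6, 23450, 57192]) (.leaf []))))) (.node (.node (.node (.node (.leaf [5, 2936, 296]) (.leaf [5, 66600, 14344])) (.node (.leaf [3, 2312]) (.leaf [6, 102201, 85050]))) (.node (.node (.leaf [3, 1288]) (.leaf [6, 53578, 79016])) (.node (.leaf [8, 29, 2107398, 4, 0, 6, 49546, 1, 2, 33574298, 2, 1, 2, 0, 5, 19624, 832714, 2, 1]) (.leaf [])))) (.node (.node (.node (.leaf [5, 10440, 136]) (.leaf [6, 76521, 48554])) (.node (.leaf [3, 2824]) (.leaf [3, 6920]))) (.node (.node (.leaf [5, 28809]) (.leaf [6, 92057, 90138])) (.node (.leaf [6, 43386, 60120]) (.leaf [])))))) (.node (.node (.node (.node (.node (.leaf [5, 1992, 2152]) (.leaf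 [5, 65160, 14632])) (.node (.leaf [8, 1, 593720, 5, 3, 6, 14010, 3, 4, 34922, 4, 3, 3, 4, 0, 5, 2088, 821162, 3]) (.leaf [6, 78778, 97384]))) (.node (.node (.leaf [6, 18505, 18122]) (.leaf [6, 50922, 79016])) (.node (.leaf [6, 30666, 47736]) (.leaf [8, 1, 927922, 5, 9, 7, 56952, 922577370, 3, 56536, 930179066, 4, 3, 3, 4, 0, 5, 56376, 928346602, 4, 3])))) (.node (.node (.node (.leaf [5, 7320, 264]) (.leaf [6, 74409, 50266])) (.node (.leaf [8, 47, 807746, 4, 0, 10, 826442, 1, 2, 15752, 3445178, 2, 1, 41050, 1, 2, 2]) (.leaf [3, 6792]))) (.node (.node (.leaf [3, 1672]) (.leaf [6, 39146, 92056])) (.node (.leaf [6, 51450, 57192]) (.leaf []))))) (.node (.node (.node (.node (.leaf [5, 3496, 2744]) (.leaf [5, 69896, 62664])) (.node (.leaf [7, 1, 2437030, 2, 2088, 34096394, 34379914]) (.leaf [8, 5, 851264, 4, 0, 7, 924159370, 1, 2, 56920, 929655578, 2, 1, 2, 0, 5, 34445082, 2, 1]))) (.node (.node (.leaf [8, 16, 1127794,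 4, 6, 3, 808330, 1, 2, 1, 2, 0, 5, 33835226, 2, 1, 0, 5, 2104, 33576874, 2]) (.leaf [6, 87993, 60282, 87992])) (.node (.leaf [3, 3464]) (.leaf [])))) (.node (.node (.node (.leaf [8, 2, 659580, 4, 9, 6, 3408282, 2, 216, 3409658, 1, 2, 2, 1, 0, 5, 472, 3160154, 1, 2]) (.leaf [6, 79017, 57914])) (.node (.leaf [6, 43930, 46584]) (.leaf [3, 7048]))) (.node (.node (.leaf [8, 16, 131720, 4, 3, 7, 18554, 2, 1, 2104, 34371674, 1, 2, 2, 1, 0, 5, 15656, 33574394, 2]) (.leaf [6, 78618, 96248])) (.node (.leaf [5, 62936, 62664]) (.leaf []))))))) (.node (.node (.node (.node (.node (.node (.leaf [7, 1, 1408026, 1, 3408986, 3409034]) (.leaf [5, 64536, 14344])) (.node (.leaf [8, 1, 395316, 5, 3, 6, 13770, 3, 4, 33914, 4, 3, 3, 4, 0, 5, 820330, 3]) (.leaf [6, 97385, 81658]))) (.node (.node (.leaf [3, 1096]) (.leaf [6, 79017, 78266])) (.node (.leaf [6, 47737, 29786]) (.leaf [3, 7240])))) (.node (.node (.node (.leaf [5, 6344,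 136]) (.leaf [6, 21226, 74408])) (.node (.leaf [6, 42009, 41850]) (.leaf [8, 5, 7020008, 3, 3, 10, 16376, 923892442, 1, 2, 3, 10056, 922592282, 1, 2, 3, 3, 2, 1, 0, 5, 17016, 924411546, 3, 2, 1, 0, 5, 17048, 922565834, 3, 2, 1]))) (.node (.node (.leaf [3, 1608]) (.leaf [6, 54426, 87992])) (.node (.leaf [6, 57193, 22810]) (.leaf []))))) (.node (.node (.node (.node (.leaf [5, 3144, 264]) (.leaf [5, 67624, 14632])) (.node (.leaf [6, 37993, 14954]) (.leaf [8, 5, 316660, 5, 0, 3, 919965066, 4, 3, 3, 0, 5, 2168, 926238282, 3, 4, 0, 5, 2168, 927828538, 4, 3]))) (.node (.node (.leaf [3, 1352]) (.leaf [6, 77258, 87032])) (.node (.leaf [3, 3400]) (.leaf [])))) (.node (.node (.node (.leaf [8, 1, 263778, 4, 6, 9, 906, 1, 2, 13352, 938, 2, 1354, 1, 2, 1, 2]) (.leaf [6, 61994, 76520])) (.node (.leaf [6, 45241, 40906]) (.leaf [8, 2, 2917212, 5, 6, 7, 7864, 34437706, 4, 3, 16808, 925462762, 3, 4, 3, 0, 5, 7864, 897482, 3,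 4]))) (.node (.node (.leaf [6, 27370, 28824]) (.leaf [6, 92057, 91290])) (.node (.leaf [6, 60121, 55866]) (.leaf [])))))) (.node (.node (.node (.node (.node (.leaf [5, 872, 2744]) (.leaf [5, 65784, 62664])) (.node (.leaf [8, 5, 2115980, 1, 3, 8, 3181402, 3, 0, 5, 3443834, 3, 2, 3, 5, 0, 2, 0, 5, 3181098, 3]) (.leaf [6, 94730, 97384]))) (.node (.node (.leaf [5, 19496, 19576]) (.leaf [6, 79017, 72362])) (.node (.leaf [8, 5, 222270, 4, 6, 9, 3455162, 1, 2, 33601146, 2, 2088, 40858, 1, 2, 1, 2]) (.leaf [])))) (.node (.node (.node (.leaf [5, 8824, 2744]) (.leaf [6, 57530, 76520])) (.node (.leaf [6, 44057, 39882]) (.leaf [3, 6856]))) (.node (.node (.leaf [8, 29, 658918, 3, 3, 18, 3431226, 1, 2, 3, 15336, 33840218, 1, 2, 3, 2376, 811034, 1, 2, 3, 33582042, 1, 2, 3, 3, 2, 1]) (.leaf [6, 78922, 92056])) (.node (.leaf [6, 34442, 60120]) (.leaf []))))) (.node (.node (.node (.node (.leaf [5, 4248, 2744]) (.leaf [6, 33002,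 71880])) (.node (.leaf [8, 47, 790628, 1, 3, 9, 3183066, 3, 0, 5, 2376, 3183834, 3, 2, 3, 5, 0, 2, 0, 5, 3185802, 3]) (.leaf [3, 6600]))) (.node (.node (.leaf [6, 20730, 23208]) (.leaf [6, 87993, 74042])) (.node (.leaf [5, 56344, 56104]) (.leaf [])))) (.node (.node (.node (.leaf [3, 967]) (.leaf [6, 75466, 79016])) (.node (.leaf [6, 24938, 47736]) (.leaf [3, 7112]))) (.node (.node (.leaf [8, 4, 1342492, 3, 3, 9, 3159754, 1, 2, 3, 2440, 3439690, 1, 2, 3, 3, 2, 1, 0, 5, 2408, 33836442, 3, 2, 1, 0, 5, 19624, 3165514, 3, 2, 1]) (.leaf [6, 97385, 13034])) (.node (.leaf [5, 63384, 14344]) (.leaf [])))))))) (.node (.node (.node (.node (.node (.node (.node (.leaf [5, 136, 648]) (.leaf [5, 64216, 14632])) (.node (.leaf [3, 2088]) (.leaf [6, 77498, 97384]))) (.node (.node (.leaf [5, 16568, 16232]) (.leaf [6, 49386, 79016])) (.node (.leaf [6, 29274, 47736]) (.leaf [3, 7208])))) (.node (.node (.node (.leaf [5, 5800,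 296]) (.leaf [6, 55354, 73832])) (.node (.leaf [6, 39562, 41368]) (.leaf [8, 5, 5517076, 4, 3, 8, 16376, 921008858, 2, 1, 3976, 105066, 1, 2, 2, 1, 0, 5, 16888, 926762730, 2]))) (.node (.node (.leaf [8, 12, 198080, 4, 6, 8, 3166682, 1, 2, 3166714, 2, 3432506, 1, 2, 1, 2]) (.leaf [6, 87993, 47354])) (.node (.leaf [6, 21994, 57192]) (.leaf []))))) (.node (.node (.node (.node (.leaf [5, 3032, 2744]) (.leaf [5, 67048, 62664])) (.node (.leaf [8, 17, 1317122, 4, 6, 9, 823274, 1, 2, 35994, 2, 36968, 36010, 1, 2, 1, 2]) (.leaf [3, 6440]))) (.node (.node (.leaf [6, 20921, 18810]) (.leaf [6, 79017, 55178])) (.node (.leaf [8, 46, 1646738, 4, 3, 3, 3190746, 2, 1, 2, 1, 0, 5, 53864, 34386186, 2, 0, 5, 3454218, 2, 1]) (.leaf [])))) (.node (.node (.node (.leaf [5, 11352, 136]) (.leaf [6, 76521, 51354])) (.node (.leaf [6, 45241, 41738]) (.leaf [3, 6952]))) (.node (.node (.leaf [6, 28825, 26810]) (.leaf [6, 92057, 52426]))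 (.node (.leaf [6, 54922, 60120]) (.leaf [])))))) (.node (.node (.node (.node (.node (.leaf [3, 168]) (.leaf [5, 65448, 62664])) (.node (.leaf [3, 2216]) (.leaf [6, 97385, 90506]))) (.node (.node (.leaf [3, 1192]) (.leaf [6, 79017, 59546, 79016])) (.node (.leaf [6, 47737, 32602]) (.leaf [8, 1, 4335926, 4, 3, 3, 919178746, 2, 1, 2, 1, 0, 5, 56840, 924162682, 2, 0, 5, 17000, 933607482, 2, 1])))) (.node (.node (.node (.leaf [5, 7944, 472]) (.leaf [6, 62058, 74408])) (.node (.leaf [6, 43449, 41482]) (.leaf [3, 6824]))) (.node (.node (.leaf [8, 23, 263430, 1, 3, 9, 807626, 3, 0, 5, 15336, 20746, 3, 2, 3, 5, 0, 2, 0, 5, 813706, 3]) (.leaf [6, 92057, 85178])) (.node (.leaf [6, 57193, 55130]) (.leaf []))))) (.node (.node (.node (.node (.leaf [5, 3800, 472]) (.leaf [6, 71881, 51834])) (.node (.leaf [6, 35226, 39288]) (.leaf [8, 2, 5337952, 3, 3, 15, 4072, 931494602, 1, 2, 3, 16824, 932026426, 1, 2, 3, 16392, 924683610,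 1, 2, 3, 3, 2, 1, 0, 5, 8008, 33659498, 3, 2, 1]))) (.node (.node (.leaf [7, 30, 362560, 1, 3430570, 34364042]) (.leaf [6, 87993, 60794, 87992])) (.node (.leaf [8, 29, 1468320, 3, 3, 17, 839274, 1, 2, 3, 54714, 1, 2, 3, 15336, 34102218, 1, 2, 3, 3463562, 1, 2, 3, 3, 2, 1]) (.leaf [])))) (.node (.node (.node (.leaf [3, 936]) (.leaf [6, 75434, 79016])) (.node (.leaf [6, 47737, 24394]) (.leaf [8, 1, 4875252, 3, 3, 8, 3247530, 1, 2, 3, 34187114, 1, 2, 3, 3, 2, 1, 0, 5, 56952, 33656458, 3, 2, 1, 0, 5, 932001194, 3, 2, 1]))) (.node (.node (.leaf [8, 1, 378674, 4, 6, 5, 3429226, 1, 2, 18970, 2, 1, 2, 0, 5, 216, 3176954, 2, 1]) (.leaf [6, 96249, 88506])) (.node (.leaf [5, 63160, 14344]) (.leaf []))))))) (.node (.node (.node (.node (.node (.node (.leaf [5, 1512, 1592]) (.leaf [5, 64840, 14344])) (.node (.leaf [2]) (.leaf [6, 97385, 83162]))) (.node (.node (.leaf [3, 1128]) (.leaf [6, 75978, 79016])) (.node (.leaf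 [6, 47737, 30314]) (.leaf [3, 7272])))) (.node (.node (.node (.leaf [5, 6792, 2744]) (.leaf [6, 23802, 74408])) (.node (.leaf [6, 40730, 42008]) (.leaf [8, 5, 1102710, 3, 3, 10, 16376, 931756762, 1, 2, 3, 3464, 921009178, 1, 2, 3, 3, 2, 1, 0, 5, 16376, 933060266, 3, 2, 1, 0, 5, 17176, 930457066, 3, 2, 1]))) (.node (.node (.leaf [3, 1640]) (.leaf [6, 87993, 86906])) (.node (.leaf [6, 49194, 57192]) (.leaf []))))) (.node (.node (.node (.node (.leaf [5, 3240, 472]) (.leaf [5, 68392, 14632])) (.node (.leaf [6, 38521, 34858]) (.leaf [3, 6504]))) (.node (.node (.leaf [8, 12, 658730, 3, 3, 12, 3429562, 1, 2, 3, 3428106, 1, 2, 3, 33574586, 1, 2, 3, 3, 2, 1, 0, 5, 15336, 3166762, 3, 2, 1]) (.leaf [6, 87625, 84746])) (.node (.leaf [3, 3432]) (.leaf [])))) (.node (.node (.node (.leaf [3, 872]) (.leaf [6, 76890, 79016])) (.node (.leaf [6, 46585, 44074]) (.leaf [8, 5, 6303442, 5, 0, 7, 919440794, 4, 3, 56264, 921275626,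 3, 4, 3, 0, 5, 16488, 925459962, 3, 4]))) (.node (.node (.leaf [6, 28825, 27946]) (.leaf [6, 88394, 95720])) (.node (.leaf [5, 62744, 14632]) (.leaf [])))))) (.node (.node (.node (.node (.node (.leaf [5, 2840, 136]) (.leaf [5, 66184, 14344])) (.node (.leaf [8, 22, 263778, 1, 7, 4, 36058, 3, 2, 3, 5, 0, 3, 0, 5, 17754, 5, 0, 2, 0, 5, 56, 34358602, 3]) (.leaf [6, 86122, 97384]))) (.node (.node (.leaf [3, 1256]) (.leaf [6, 79017, 73322])) (.node (.leaf [8, 4, 2700604, 5, 9, 6, 1704, 3195306, 3, 3458698, 4, 3, 3, 4, 0, 5, 1704, 33869242, 4, 3]) (.leaf [])))) (.node (.node (.node (.leaf [5, 9320, 264]) (.leaf [6, 76521, 75370])) (.node (.leaf [3, 2792]) (.leaf [3, 6888]))) (.node (.node (.leaf [8, 33, 725094, 5, 0, 7, 24522, 4, 3, 14680, 3435354, 3, 4, 3, 0, 5, 33841850, 3, 4]) (.leaf [6, 92057, 85722])) (.node (.leaf [6, 45754, 60120]) (.leaf []))))) (.node (.node (.node (.node (.leaf [5, 4712, 296]) (.leaf [6,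 33530, 71880])) (.node (.leaf [6, 17658, 40536]) (.leaf [3, 6632]))) (.node (.node (.leaf [8, 1, 395490, 5, 9, 9, 13530, 3, 1608, 3421418, 4, 3, 24202, 3, 4, 3, 4]) (.leaf [6, 87993, 42394, 87992])) (.node (.leaf [5, 56856, 56104]) (.leaf [])))) (.node (.node (.node (.leaf [8, 1, 527022, 1, 3, 11, 13594, 3, 0, 5, 33568074, 3, 2, 3, 2056, 33832474, 3, 5, 0, 2]) (.leaf [6, 75626, 79016])) (.node (.leaf [6, 25482, 47736]) (.leaf [8, 1, 2947670, 5, 3, 7, 919178682, 3, 4, 16584, 929934218, 4, 3, 3, 4, 0, 5, 56408, 933336682, 3]))) (.node (.node (.leaf [3, 2024]) (.leaf [6, 97385, 76602])) (.node (.leaf [5, 63640, 14632]) (.leaf []))))))))) (.node (.node (.node (.node (.node (.node (.node (.node (.leaf [3, 24]) (.leaf [5, 64056, 62664])) (.node (.leaf [3, 2072]) (.leaf [6, 87178, 97384]))) (.node (.node (.leaf [5, 16344, 16232]) (.leaf [6, 79017, 75754])) (.node (.leaf [6, 29018, 47736]) (.leaf [8, 5, 2385372,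 5, 6, 6, 3509706, 4, 3, 56328, 927297594, 3, 4, 3, 0, 5, 2168, 921541130, 3, 4])))) (.node (.node (.node (.leaf [5, 5480, 296]) (.leaf [6, 73833, 39210])) (.node (.leaf [5, 41352]) (.leaf [3, 6680]))) (.node (.node (.leaf [8, 1, 49392, 4, 6, 9, 3161002, 1, 2, 33837722, 2, 14392, 3432378, 1, 2, 1, 2]) (.leaf [6, 43274, 87992])) (.node (.leaf [6, 20746, 57192]) (.leaf []))))) (.node (.node (.node (.node (.leaf [5, 2984, 472]) (.leaf [5, 66856, 14152])) (.node (.leaf [3, 2328]) (.leaf [8, 5, 4993480, 4, 3, 10, 3247498, 2, 1, 56504, 34179690, 1, 2, 70696, 930436154, 2, 2, 1]))) (.node (.node (.leaf [3, 1304]) (.leaf [6, 54314, 79016])) (.node (.leaf [8, 4, 2199456, 4, 6, 6, 47402, 1, 2, 760, 53594, 2, 1, 2, 0, 5, 1528, 33863354, 2, 1]) (.leaf [])))) (.node (.node (.node (.leaf [5, 10888, 472]) (.leaf [6, 76521, 49834])) (.node (.leaf [6, 41418, 45240]) (.leaf [3, 6936]))) (.node (.node (.leaf [6, 28825, 26554])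 (.leaf [6, 45050, 92056])) (.node (.leaf [6, 60121, 53066]) (.leaf [])))))) (.node (.node (.node (.node (.node (.leaf [8, 2, 724590, 4, 3, 3, 378, 2, 1, 2, 1, 0, 5, 472, 410, 2, 0, 5, 216, 1786, 2, 1]) (.leaf [5, 65320, 14632])) (.node (.leaf [3, 2200]) (.leaf [6, 94010, 97384]))) (.node (.node (.leaf [3, 1176]) (.leaf [6, 79017, 59482, 79016])) (.node (.leaf [6, 28714, 47736]) (.leaf [3, 7320])))) (.node (.node (.node (.leaf [5, 7560, 2744]) (.leaf [6, 31530, 74408])) (.node (.leaf [3, 2712]) (.leaf [3, 6808]))) (.node (.node (.leaf [3, 1688]) (.leaf [6, 92057, 72138, 92056])) (.node (.leaf [6, 32746, 57192]) (.leaf []))))) (.node (.node (.node (.node (.leaf [5, 3656, 296]) (.leaf [6, 32074, 71880])) (.node (.leaf [6, 39289, 34090]) (.leaf [8, 5, 2319746, 3, 3, 9, 932023690, 1, 2, 3, 56280, 931492874, 1, 2, 3, 3, 2, 1, 0, 5, 34159370, 3, 2, 1, 0, 5, 2056, 33897498, 3, 2, 1]))) (.node (.node (.leaf [8, 1,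 386904, 4, 9, 5, 3167706, 2, 808442, 1, 2, 2, 1, 0, 5, 33576762, 1, 2]) (.leaf [6, 73930, 87992])) (.node (.leaf [8, 42, 1845488, 5, 9, 5, 52810, 3, 3197722, 4, 3, 3, 4, 0, 5, 841738, 4, 3]) (.leaf [])))) (.node (.node (.node (.leaf [3, 920]) (.leaf [6, 79017, 77370])) (.node (.leaf [6, 44730, 46584]) (.leaf [8, 5, 1082076, 4, 0, 3, 923635098, 1, 2, 2, 0, 5, 16984, 927816762, 2, 1, 0, 5, 16824, 928335450, 1, 2]))) (.node (.node (.leaf [8, 30, 133236, 4, 0, 7, 3429834, 1, 2, 2088, 34109786, 2, 1, 2, 0, 5, 22010, 2, 1]) (.leaf [6, 96249, 31210])) (.node (.leaf [5, 63048, 14632]) (.leaf []))))))) (.node (.node (.node (.node (.node (.node (.leaf [8, 1, 988194, 1, 7, 11, 90, 3, 2, 3, 584, 122, 3, 1354, 2, 0, 5, 5, 0, 3]) (.leaf [5, 64696, 14344])) (.node (.leaf [8, 1, 931228, 5, 9, 5, 33834, 3, 33850730, 4, 3, 3, 4, 0, 5, 820442, 4, 3]) (.leaf [6, 97385, 78138]))) (.node (.node (.leaf [3, 1112]) (.leaf [6, 79017,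 59258, 79016])) (.node (.leaf [6, 47737, 30042]) (.leaf [3, 7256])))) (.node (.node (.node (.leaf [5, 6568, 2744]) (.leaf [6, 57738, 74408])) (.node (.leaf [6, 42009, 38394, 42008]) (.leaf [8, 5, 5903644, 4, 6, 7, 16376, 928348890, 1, 2, 680, 928610826, 2, 1, 2, 0, 5, 16232, 922828490, 2, 1]))) (.node (.node (.leaf [3, 1624]) (.leaf [6, 86586, 87992])) (.node (.leaf [6, 57193, 48746]) (.leaf []))))) (.node (.node (.node (.node (.leaf [5, 3192, 296]) (.leaf [5, 67992, 62664])) (.node (.leaf [8, 9, 1054050, 4, 9, 5, 37082, 2, 823866, 1, 2, 2, 1, 0, 5, 36968, 824042, 1, 2]) (.leaf [3, 6488]))) (.node (.node (.leaf [3, 1368]) (.leaf [6, 87033, 84250])) (.node (.leaf [3, 3416]) (.leaf [])))) (.node (.node (.node (.leaf [8, 1, 790272, 3, 3, 15, 56, 906, 1, 2, 3, 13400, 938, 1, 2, 3, 56, 3408266, 1, 2, 3, 3, 2, 1, 0, 5, 56, 786794, 3, 2, 1]) (.leaf [6, 57210, 79016])) (.node (.leaf [8, 4, 930724, 5, 0, 6, 44426,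 4, 3, 3190426, 3, 4, 3, 0, 5, 3190570, 3, 4]) (.leaf [3, 7000]))) (.node (.node (.leaf [6, 27690, 28824]) (.leaf [6, 92057, 86874])) (.node (.leaf [5, 62664, 14344]) (.leaf [])))))) (.node (.node (.node (.node (.node (.leaf [5, 2776, 2744]) (.leaf [5, 65976, 14344])) (.node (.leaf [8, 22, 1054050, 4, 0, 6, 35978, 1, 2, 821018, 2, 1, 2, 0, 5, 822426, 2, 1]) (.leaf [6, 85962, 97384]))) (.node (.node (.leaf [3, 1240]) (.leaf [6, 72970, 79016])) (.node (.leaf [8, 4, 2247842, 4, 9, 7, 1704, 34390442, 2, 19608, 33862842, 1, 2, 2, 1, 0, 5, 1704, 3427738, 1, 2]) (.leaf [])))) (.node (.node (.node (.leaf [5, 9064, 2744]) (.leaf [6, 57850, 76520])) (.node (.leaf [6, 44057, 43962]) (.leaf [8, 2, 3011786, 4, 6, 7, 6648, 926238810, 1, 2, 1896, 931749946, 2, 1, 2, 0, 5, 3432, 923639514, 2, 1]))) (.node (.node (.leaf [8, 12, 529536, 3, 3, 12, 3169242, 1, 2, 3, 3429466, 1, 2, 3, 33581818, 1, 2, 3, 3, 2, 1, 0, 5, 15336, 34102522,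 3, 2, 1]) (.leaf [6, 92057, 85498])) (.node (.leaf [6, 60121, 45530, 60120]) (.leaf []))))) (.node (.node (.node (.node (.leaf [5, 4520, 296]) (.leaf [6, 59882, 71880])) (.node (.leaf [8, 5, 930236, 4, 6, 9, 824010, 1, 2, 3182042, 2, 472, 36330, 1, 2, 1, 2]) (.leaf [3, 6616]))) (.node (.node (.leaf [6, 23114, 23208]) (.leaf [6, 36730, 87992])) (.node (.leaf [5, 56600, 56104]) (.leaf [])))) (.node (.node (.node (.leaf [5, 15624, 15736]) (.leaf [6, 77850, 79016])) (.node (.leaf [6, 47737, 25194]) (.leaf [3, 7128]))) (.node (.node (.leaf [3, 2008]) (.leaf [6, 14170, 97384])) (.node (.leaf [5, 63512, 14632]) (.leaf [])))))))) (.node (.node (.node (.node (.node (.node (.node (.leaf [7, 1, 65862, 2, 200, 906, 3408778]) (.leaf [5, 64360, 14632])) (.node (.leaf [8, 12, 2110420, 4, 6, 5, 3168986, 1, 2, 33658, 2, 1, 2, 0, 5, 3169706, 2, 1]) (.leaf [6, 97385, 77754, 97384]))) (.node (.node (.leaf [6, 15946, 17240])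 (.leaf [6, 79017, 59098, 79016])) (.node (.leaf [6, 47737, 29530]) (.leaf [8, 5, 1294876, 4, 6, 9, 919430010, 1, 2, 1880, 33912362, 2, 3241930, 1, 2, 1, 2])))) (.node (.node (.node (.leaf [5, 6056, 472]) (.leaf [6, 74409, 21386])) (.node (.leaf [6, 41369, 37226]) (.leaf [8, 5, 5887688, 4, 6, 7, 16376, 34437850, 1, 2, 3128, 924949242, 2, 1, 2, 0, 5, 16376, 933076266, 2, 1]))) (.node (.node (.leaf [8, 1, 477792, 4, 6, 6, 3161290, 1, 2, 15528, 33841402, 2, 1, 2, 0, 5, 216, 34363194, 2, 1]) (.leaf [6, 87993, 86026])) (.node (.leaf [6, 22458, 57192]) (.leaf []))))) (.node (.node (.node (.node (.leaf [5, 3096, 136]) (.leaf [5, 67304, 62664])) (.node (.leaf [5, 36552, 37768]) (.leaf [8, 5, 849262, 1, 7, 4, 919702922, 3, 2, 3, 5, 0, 3, 0, 5, 2168, 926238282, 5, 0, 2, 0, 5, 17064, 920731866, 3]))) (.node (.node (.leaf [6, 18042, 21272]) (.leaf [6, 79017, 62522])) (.node (.leaf [3, 3384]) (.leaf [])))) (.node (.node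 (.node (.leaf [8, 1, 921984, 5, 0, 7, 394, 4, 3, 8216, 3408282, 3, 4, 3, 0, 5, 3158810, 3, 4]) (.leaf [6, 76521, 31434])) (.node (.leaf [6, 37866, 45240]) (.leaf [3, 6968]))) (.node (.node (.leaf [6, 28825, 27114]) (.leaf [6, 92057, 86362])) (.node (.leaf [6, 55274, 60120]) (.leaf [])))))) (.node (.node (.node (.node (.node (.leaf [5, 568, 2744]) (.leaf [5, 65624, 14632])) (.node (.leaf [8, 8, 602456, 4, 9, 9, 35418, 2, 33850682, 1, 2, 200, 33850410, 2, 1, 2, 1]) (.leaf [6, 97385, 47450, 97384]))) (.node (.node (.leaf [3, 1208]) (.leaf [6, 79017, 30858])) (.node (.leaf [6, 47737, 33562]) (.leaf [3, 7352])))) (.node (.node (.node (.leaf [5, 8328, 472]) (.leaf [6, 74874, 76520])) (.node (.leaf [3, 2744]) (.leaf [3, 6840]))) (.node (.node (.leaf [3, 1720]) (.leaf [6, 92057, 85290])) (.node (.leaf [6, 60121, 39322]) (.leaf []))))) (.node (.node (.node (.node (.leaf [5, 3976, 2744]) (.leaf [6, 71881, 32698]))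 (.node (.leaf [6, 39769, 35610]) (.leaf [3, 6584]))) (.node (.node (.leaf [6, 23209, 20202]) (.leaf [6, 42026, 87992])) (.node (.leaf [5, 2104, 56104]) (.leaf [])))) (.node (.node (.node (.leaf [8, 1, 16806, 4, 9, 9, 3146810, 2, 1048, 3408970, 1, 2, 15226, 2, 1, 2, 1]) (.leaf [6, 58554, 79016])) (.node (.leaf [6, 47737, 24682]) (.leaf [8, 1, 7196976, 4, 6, 6, 919965098, 1, 2, 2152, 921801738, 2, 1, 2, 0, 5, 56232, 924941562, 2, 1]))) (.node (.node (.leaf [8, 8, 304938, 4, 3, 6, 805338, 2, 1, 24666, 1, 2, 2, 1, 0, 5, 14392, 3177114, 2]) (.leaf [6, 96249, 74218])) (.node (.leaf [5, 63256, 62664]) (.leaf []))))))) (.node (.node (.node (.node (.node (.node (.leaf [8, 1, 724590, 1, 3, 12, 362, 3, 0, 5, 264, 786810, 3, 2, 3, 216, 3409690, 3, 5, 0, 2]) (.leaf [5, 65000, 14632])) (.node (.leaf [8, 1, 330800, 5, 0, 6, 13786, 4, 3, 34682, 3, 4, 3, 0, 5, 2104, 3159738, 3, 4]) (.leaf [6, 84570, 97384]))) (.node (.node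 (.leaf [5, 15192, 18296]) (.leaf [6, 50666, 79016])) (.node (.leaf [6, 47737, 28170]) (.leaf [8, 5, 5998038, 4, 9, 5, 924148650, 2, 34457338, 1, 2, 2, 1, 0, 5, 16680, 929649626, 1, 2])))) (.node (.node (.node (.leaf [5, 7080, 136]) (.leaf [6, 48538, 74408])) (.node (.leaf [8, 1, 527024, 5, 9, 5, 42490, 3, 3450650, 4, 3, 3, 4, 0, 5, 2104, 828714, 4, 3]) (.leaf [8, 5, 5918508, 3, 3, 15, 16648, 923093066, 1, 2, 3, 3560, 931765354, 1, 2, 3, 56216, 34183914, 1, 2, 3, 3, 2, 1, 0, 5, 2200, 924139882, 3, 2, 1]))) (.node (.node (.leaf [3, 1656]) (.leaf [5, 87961])) (.node (.leaf [6, 50186, 57192]) (.leaf []))))) (.node (.node (.node (.node (.leaf [5, 3352, 472]) (.leaf [5, 68936, 14632])) (.node (.leaf [6, 38521, 35498]) (.leaf [3, 6520]))) (.node (.node (.leaf [8, 1, 798524, 5, 3, 3, 21754, 3, 4, 3, 4, 0, 5, 216, 3165770, 3, 0, 5, 808170, 3, 4]) (.leaf [7, 5, 1718810, 2, 16888, 925452010, 933581738])) (.node (.leaf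 [8, 29, 3902318, 5, 0, 6, 839082, 4, 3, 54794, 3, 4, 3, 0, 5, 19608, 33848986, 3, 4]) (.leaf [])))) (.node (.node (.node (.leaf [8, 2, 724590, 3, 3, 9, 378, 1, 2, 3, 2088, 800538, 1, 2, 3, 3, 2, 1, 0, 5, 504, 410, 3, 2, 1, 0, 5, 56, 3421642, 3, 2, 1]) (.leaf [6, 75082, 79016])) (.node (.leaf [6, 46585, 45914]) (.leaf [8, 5, 5788384, 5, 3, 3, 920227226, 3, 4, 3, 4, 0, 5, 16280, 923360922, 3, 0, 5, 16840, 931218042, 3, 4]))) (.node (.node (.leaf [6, 28825, 28378]) (.leaf [6, 43850, 95720])) (.node (.leaf [5, 62840, 14152]) (.leaf [])))))) (.node (.node (.node (.node (.node (.leaf [5, 2888, 264]) (.leaf [5, 66392, 14152])) (.node (.leaf [8, 22, 1588782, 5, 9, 9, 3444106, 3, 35610, 4, 3, 2200, 3181098, 3, 4, 3, 4]) (.leaf [6, 102201, 31402]))) (.node (.node (.leaf [3, 1272]) (.leaf [6, 61786, 79016])) (.node (.leaf [8, 5, 1589128, 5, 9, 5, 47322, 3, 839546, 4, 3, 3, 4, 0, 5, 3421770, 4, 3]) (.leaf [])))) (.node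 (.node (.node (.leaf [5, 9720, 2744]) (.leaf [6, 58618, 76520])) (.node (.leaf [3, 2808]) (.leaf [8, 2, 4213830, 3, 3, 15, 6648, 922306650, 1, 2, 3, 16424, 921778858, 1, 2, 3, 56872, 931472234, 1, 2, 3, 3, 2, 1, 0, 5, 5048, 919967962, 3, 2, 1]))) (.node (.node (.leaf [8, 12, 5145358, 5, 9, 9, 3432634, 3, 25130, 4, 3, 24184, 28026, 3, 4, 3, 4]) (.leaf [6, 39194, 92056])) (.node (.leaf [6, 60121, 46186]) (.leaf []))))) (.node (.node (.node (.node (.leaf [5, 4936, 296]) (.leaf [6, 71881, 62186])) (.node (.leaf [6, 17594, 40792]) (.leaf [3, 6648]))) (.node (.node (.leaf [8, 4, 609522, 4, 3, 7, 800074, 2, 1, 2072, 33572346, 1, 2, 2, 1, 0, 5, 33578858, 2]) (.leaf [6, 42618, 87992])) (.node (.leaf [6, 57193, 19946]) (.leaf [])))) (.node (.node (.node (.leaf [5, 1992, 16232]) (.leaf [6, 79017, 48618, 79016])) (.node (.leaf [6, 25754, 47736]) (.leaf [8, 1, 1345424, 3, 3, 19, 920489402, 1, 2, 3, 17112, 921809050, 1,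 2, 3, 2168, 922041674, 1, 2, 3, 56232, 931761322, 1, 2, 3, 3, 2, 1]))) (.node (.node (.leaf [8, 23, 790628, 4, 6, 9, 3163626, 1, 2, 2056, 34372906, 2, 34111018, 1, 2, 1, 2]) (.leaf [6, 79066, 97384])) (.node (.leaf [5, 63784, 62664]) (.leaf []))))))))))

/-- their proofs, part 10 -/
def proofTab10 : WTab :=
  (.node (.node (.node (.node (.node (.node (.node (.node (.node (.leaf [3, 9]) (.leaf [5, 63928, 14632])) (.node (.leaf [3, 2057]) (.leaf [6, 77034, 97384]))) (.node (.node (.leaf [5, 16264, 16232]) (.leaf [6, 48890, 79016])) (.node (.leaf [6, 47737, 26106]) (.leaf [8, 1, 3416822, 3, 3, 9, 924421562, 1, 2, 3, 2008, 924413818, 1, 2, 3, 3, 2, 1, 0, 5, 56200, 924947018, 3, 2, 1, 0, 5, 16408, 932010458, 3, 2, 1])))) (.node (.node (.node (.leaf [5, 5160, 472]) (.leaf [6, 60506, 73832])) (.node (.leaf [8, 5, 8588, 5, 9, 5, 38362, 3, 33854970, 4, 3, 3, 4, 0, 5, 1992, 33594810, 4, 3]) (.leaf [8, 2, 5265976, 3,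 3, 20, 4072, 3504842, 1, 2, 3, 16488, 932024218, 1, 2, 3, 64472, 919952730, 1, 2, 3, 17160, 928069082, 1, 2, 3, 3, 2, 1]))) (.node (.node (.leaf [3, 1545]) (.leaf [6, 42746, 87992])) (.node (.leaf [6, 57193, 23466]) (.leaf []))))) (.node (.node (.node (.node (.leaf [5, 2936, 472]) (.leaf [5, 66600, 62664])) (.node (.leaf [8, 47, 132384, 5, 0, 10, 3444282, 4, 3, 34365226, 3, 4, 2072, 3421498, 4, 3, 3]) (.leaf [6, 85066, 102200]))) (.node (.node (.leaf [8, 28, 330792, 4, 9, 9, 3166122, 2, 3163754, 1, 2, 2104, 34354458, 2, 1, 2, 1]) (.leaf [6, 53594, 79016])) (.node (.leaf [8, 29, 1911184, 4, 0, 6, 3195274, 1, 2, 31738, 2, 1, 2, 0, 5, 19624, 3192010, 2, 1]) (.leaf [])))) (.node (.node (.node (.leaf [5, 10440, 264]) (.leaf [6, 48570, 76520])) (.node (.leaf [7, 1, 675540, 2, 2072, 825738, 34386074]) (.leaf [8, 5, 4799334, 3, 3, 10, 16616, 927824474, 1, 2, 3, 3784, 929917210, 1, 2, 3, 3, 2, 1, 0, 5, 16808, 933602122,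 3, 2, 1, 0, 5, 67864, 928880010, 3, 2, 1]))) (.node (.node (.leaf [6, 26314, 28824]) (.leaf [6, 90266, 92056])) (.node (.leaf [6, 60121, 46426]) (.leaf [])))))) (.node (.node (.node (.node (.node (.leaf [5, 2008, 2152]) (.leaf [5, 65160, 62664])) (.node (.leaf [3, 2185]) (.leaf [6, 78794, 97384]))) (.node (.node (.leaf [6, 18138, 18504]) (.leaf [6, 76106, 79016])) (.node (.leaf [6, 28474, 47736]) (.leaf [3, 7305])))) (.node (.node (.node (.leaf [5, 7320, 2744]) (.leaf [6, 50282, 74408])) (.node (.leaf [8, 8, 1251432, 4, 9, 5, 826490, 2, 37338, 1, 2, 2, 1, 0, 5, 43066, 1, 2]) (.leaf [8, 5, 5481646, 4, 0, 8, 16648, 925190218, 1, 2, 3400, 925998522, 2, 1, 2, 0, 5, 895034, 2, 1]))) (.node (.node (.leaf [8, 16, 263776, 4, 6, 7, 15528, 3423386, 1, 2, 2072, 3165642, 2, 1, 2, 0, 5, 15656, 33580858, 2, 1]) (.leaf [6, 71898, 92056])) (.node (.leaf [6, 51498, 57192]) (.leaf []))))) (.node (.node (.node (.node (.leaf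 [5, 3512, 296]) (.leaf [5, 70072, 62664])) (.node (.leaf [5, 39064]) (.leaf [3, 6537]))) (.node (.node (.leaf [3, 1417]) (.leaf [6, 60298, 87992])) (.node (.leaf [8, 42, 1787352, 3, 3, 17, 839194, 1, 2, 3, 31368, 34372138, 1, 2, 3, 3456618, 1, 2, 3, 3456906, 1, 2, 3, 3, 2, 1]) (.leaf [])))) (.node (.node (.node (.leaf [3, 905]) (.leaf [6, 57930, 79016])) (.node (.leaf [6, 44426, 46584]) (.leaf [8, 5, 5891842, 4, 0, 7, 921013658, 1, 2, 56296, 33911594, 2, 1, 2, 0, 5, 16936, 931500378, 2, 1]))) (.node (.node (.leaf [3, 1929]) (.leaf [6, 96249, 78634])) (.node (.leaf [5, 62952, 14344]) (.leaf []))))))) (.node (.node (.node (.node (.node (.node (.leaf [5, 1176]) (.leaf [5, 64552, 14632])) (.node (.leaf [3, 2121]) (.leaf [6, 81674, 97384]))) (.node (.node (.leaf [8, 5, 1317126, 5, 0, 6, 3147498, 4, 3, 17546, 3, 4, 3, 0, 5, 1992, 3147498, 3, 4]) (.leaf [6, 78282, 79016])) (.node (.leaf [6, 29802, 47736]) (.leaf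 [8, 5, 2809156, 5, 9, 6, 923624314, 3, 16968, 929383562, 4, 3, 3, 4, 0, 5, 2184, 928596186, 4, 3])))) (.node (.node (.node (.leaf [5, 6344, 264]) (.leaf [6, 74409, 21242])) (.node (.leaf [6, 41866, 42008]) (.leaf [3, 6729]))) (.node (.node (.leaf [8, 23, 678, 4, 0, 6, 3163562, 1, 2, 21786, 2, 1, 2, 0, 5, 33841514, 2, 1]) (.leaf [6, 86474, 87992])) (.node (.leaf [6, 22826, 57192]) (.leaf []))))) (.node (.node (.node (.node (.leaf [5, 3144, 296]) (.leaf [5, 67640, 62664])) (.node (.leaf [6, 14970, 37992]) (.leaf [3, 6473]))) (.node (.node (.leaf [8, 23, 1008, 4, 3, 3, 21578, 2, 1, 2, 1, 0, 5, 3429194, 2, 0, 5, 2056, 34093946, 2, 1]) (.leaf [6, 87033, 75274])) (.node (.leaf [8, 17, 2963520, 5, 6, 3, 52378, 4, 3, 4, 3, 0, 5, 17528, 3199914, 3, 4, 0, 5, 54058, 3]) (.leaf [])))) (.node (.node (.node (.leaf [3, 841]) (.leaf [5, 57065])) (.node (.leaf [6, 45241, 40938]) (.leaf [3, 6985]))) (.node (.node (.leaf [6,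 27402, 28824]) (.leaf [6, 86442, 92056])) (.node (.leaf [6, 60106, 60120]) (.leaf [])))))) (.node (.node (.node (.node (.node (.leaf [5, 888, 2744]) (.leaf [5, 65816, 62664])) (.node (.leaf [3, 2249]) (.leaf [6, 97385, 94746]))) (.node (.node (.leaf [5, 19576, 19576]) (.leaf [6, 79017, 72378])) (.node (.leaf [3, 3273]) (.leaf [])))) (.node (.node (.node (.leaf [5, 8840, 136]) (.leaf [6, 76521, 57546])) (.node (.leaf [6, 39898, 44056]) (.leaf [8, 2, 5146354, 4, 0, 8, 6648, 928335962, 1, 2, 16520, 108394, 2, 1, 2, 0, 5, 7736, 922581034, 2, 1]))) (.node (.node (.leaf [3, 1737]) (.leaf [6, 92057, 78938])) (.node (.leaf [6, 45258, 60120]) (.leaf []))))) (.node (.node (.node (.node (.leaf [5, 4280, 296]) (.leaf [6, 71881, 33018])) (.node (.leaf [3, 2505]) (.leaf [8, 2, 1791632, 3, 3, 15, 4072, 932805322, 1, 2, 3, 16552, 930715834, 1, 2, 3, 17032, 927301770, 1, 2, 3, 3, 2, 1, 0, 5, 7576, 921541226, 3, 2, 1]))) (.node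 (.node (.leaf [6, 22138, 23208]) (.leaf [6, 74058, 87992])) (.node (.leaf [5, 56360, 200]) (.leaf [])))) (.node (.node (.node (.leaf [5, 15496]) (.leaf [6, 79017, 75482])) (.node (.leaf [6, 24954, 47736]) (.leaf [8, 1, 669986, 4, 0, 7, 923635114, 1, 2, 16632, 929931178, 2, 1, 2, 0, 5, 56472, 922066954, 2, 1]))) (.node (.node (.leaf [3, 1993]) (.leaf [6, 97385, 13050])) (.node (.leaf [5, 63384, 14632]) (.leaf [])))))))) (.node (.node (.node (.node (.node (.node (.node (.leaf [5, 264, 648]) (.leaf [5, 64216, 62664])) (.node (.leaf [8, 23, 1317122, 4, 9, 6, 3164666, 2, 14360, 3177882, 1, 2, 2, 1, 0, 5, 25882, 1, 2]) (.leaf [6, 97385, 77514]))) (.node (.node (.leaf [5, 16616, 16232]) (.leaf [6, 79017, 49402])) (.node (.leaf [6, 29290, 47736]) (.leaf [8, 5, 5258000, 5, 0, 7, 920751562, 4, 3, 56184, 932557946, 3, 4, 3, 0, 5, 931774010, 3, 4])))) (.node (.node (.node (.leaf [5, 5800, 472]) (.leaf [5, 57097])) (.node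 (.leaf [6, 41369, 38650, 41368]) (.leaf [3, 6697]))) (.node (.node (.leaf [3, 1577]) (.leaf [6, 47370, 87992])) (.node (.leaf [6, 57193, 22010]) (.leaf []))))) (.node (.node (.node (.node (.leaf [5, 3048, 136]) (.leaf [5, 67064, 14344])) (.node (.leaf [3, 2345]) (.leaf [8, 5, 4532488, 4, 3, 3, 34180490, 2, 1, 2, 1, 0, 5, 16680, 924411658, 2, 0, 5, 16328, 931238538, 2, 1]))) (.node (.node (.leaf [6, 20921, 18826]) (.leaf [6, 79017, 73722])) (.node (.leaf [3, 3369]) (.leaf [])))) (.node (.node (.node (.leaf [5, 11352, 264]) (.leaf [6, 76521, 51370])) (.node (.leaf [6, 41754, 45240]) (.leaf [8, 5, 863522, 3, 3, 19, 16616, 924416602, 1, 2, 3, 8360, 933056682, 1, 2, 3, 3226618, 1, 2, 3, 2104, 931242666, 1, 2, 3, 3, 2, 1]))) (.node (.node (.leaf [6, 28825, 26858]) (.leaf [6, 53178, 92056])) (.node (.leaf [6, 60121, 54938]) (.leaf [])))))) (.node (.node (.node (.node (.node (.leaf [7, 1, 592872, 2, 2104, 90, 34343578])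 (.leaf [5, 65464, 14344])) (.node (.leaf [8, 5, 806744, 4, 9, 9, 821738, 2, 34714, 1, 2, 2088, 33589354, 2, 1, 2, 1]) (.leaf [6, 97385, 47162, 97384]))) (.node (.node (.leaf [2]) (.leaf [6, 79017, 78538])) (.node (.leaf [6, 32618, 47736]) (.leaf [8, 1, 5323102, 4, 3, 7, 919703034, 2, 1, 56168, 931511514, 1, 2, 2, 1, 0, 5, 56120, 929917962, 2])))) (.node (.node (.node (.leaf [5, 7960, 2744]) (.leaf [6, 74409, 62410])) (.node (.leaf [6, 41498, 43448]) (.leaf [8, 5, 5735440, 3, 3, 15, 16648, 929122378, 1, 2, 3, 10408, 931232506, 1, 2, 3, 16456, 34447610, 1, 2, 3, 3, 2, 1, 0, 5, 16616, 929652570, 3, 2, 1]))) (.node (.node (.leaf [3, 1705]) (.leaf [6, 78858, 92056])) (.node (.leaf [6, 57193, 55466]) (.leaf []))))) (.node (.node (.node (.node (.leaf [5, 3816, 264]) (.leaf [6, 51850, 71880])) (.node (.leaf [6, 39289, 35274]) (.leaf [3, 6569]))) (.node (.node (.leaf [5, 23192]) (.leaf [6, 87993, 60810, 87992])) (.node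 (.leaf [3, 3497]) (.leaf [])))) (.node (.node (.node (.leaf [7, 1, 2181838, 1, 34355786, 34355866]) (.leaf [6, 79017, 75450])) (.node (.leaf [6, 47737, 24410]) (.leaf [3, 7081]))) (.node (.node (.leaf [3, 1961]) (.leaf [6, 88554, 96248])) (.node (.leaf [5, 63160, 14632]) (.leaf []))))))) (.node (.node (.node (.node (.node (.node (.leaf [5, 1528, 1592]) (.leaf [5, 64872, 62664])) (.node (.leaf [3, 2153]) (.leaf [6, 83178, 97384]))) (.node (.node (.leaf [8, 1, 395490, 5, 6, 9, 13530, 4, 3, 2376, 33568122, 3, 18058, 4, 3, 4, 3]) (.leaf [6, 79017, 75994])) (.node (.leaf [6, 30330, 47736]) (.leaf [8, 5, 5576400, 4, 0, 7, 921002906, 1, 2, 16904, 925743018, 2, 1, 2, 0, 5, 17096, 925717754, 2, 1])))) (.node (.node (.node (.leaf [5, 6840, 2744]) (.leaf [6, 74409, 58298])) (.node (.leaf [6, 42009, 41098]) (.leaf [3, 6761]))) (.node (.node (.leaf [8, 16, 922660, 1, 7, 4, 25994, 3, 2, 3, 5, 0, 3, 0, 5, 33580618, 5, 0,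 2, 0, 5, 26250, 3]) (.leaf [6, 76458, 87992])) (.node (.leaf [6, 57193, 49210]) (.leaf []))))) (.node (.node (.node (.node (.leaf [5, 3240, 2744]) (.leaf [5, 68392, 62664])) (.node (.leaf [6, 38521, 34890]) (.leaf [8, 5, 4274590, 5, 9, 9, 921537930, 3, 33657642, 4, 3, 68136, 930969018, 3, 4, 3, 4]))) (.node (.node (.leaf [3, 1385]) (.leaf [6, 84762, 87624])) (.node (.leaf [8, 42, 4283000, 4, 3, 9, 3460506, 2, 1, 19480, 33603802, 1, 2, 835514, 2, 2, 1]) (.leaf [])))) (.node (.node (.node (.leaf [8, 1, 987840, 3, 3, 4, 3421402, 1, 2, 3, 3, 2, 1, 0, 5, 56, 26, 3, 6, 2, 6, 1, 6, 0, 5, 7, 3, 2, 1, 0, 5, 200, 13578, 3, 2, 1]) (.leaf [6, 79017, 76906])) (.node (.leaf [6, 46585, 44090]) (.leaf [3, 7017]))) (.node (.node (.leaf [6, 28825, 27962]) (.leaf [6, 95721, 88410])) (.node (.leaf [5, 62760, 14152]) (.leaf [])))))) (.node (.node (.node (.node (.node (.leaf [5, 2840, 264]) (.leaf [5, 66184, 62664])) (.node (.leaf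 [3, 2281]) (.leaf [6, 97385, 86138]))) (.node (.node (.leaf [8, 16, 263774, 4, 6, 5, 3426426, 1, 2, 33836698, 2, 1, 2, 0, 5, 15672, 33573594, 2, 1]) (.leaf [6, 79017, 73338])) (.node (.leaf [3, 3305]) (.leaf [])))) (.node (.node (.node (.leaf [5, 9336, 2744]) (.leaf [6, 75386, 76520])) (.node (.leaf [8, 4, 85010, 5, 9, 5, 3190090, 3, 831114, 4, 3, 3, 4, 0, 5, 1656, 3421930, 4, 3]) (.leaf [8, 2, 2375492, 3, 3, 15, 6648, 932005978, 1, 2, 3, 2216, 3506682, 1, 2, 3, 56328, 921004762, 1, 2, 3, 3, 2, 1, 0, 5, 7288, 931450362, 3, 2, 1]))) (.node (.node (.leaf [3, 1769]) (.leaf [6, 92057, 85738])) (.node (.leaf [6, 60121, 45770]) (.leaf []))))) (.node (.node (.node (.node (.leaf [5, 4728, 2744]) (.leaf [6, 71881, 33546])) (.node (.leaf [6, 40537, 35434]) (.leaf [8, 2, 3009270, 5, 3, 8, 4072, 926776010, 3, 4, 16408, 929119850, 4, 3, 3, 4, 0, 5, 9560, 923638538, 3]))) (.node (.node (.leaf [3, 1513]) (.leaf [6, 87993,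 61210, 87992])) (.node (.leaf [7, 1, 6422552, 2, 56920, 90, 933508074]) (.leaf [])))) (.node (.node (.node (.leaf [3, 1001]) (.leaf [6, 79017, 75642])) (.node (.leaf [6, 47737, 25498]) (.leaf [3, 7145]))) (.node (.node (.leaf [8, 23, 198246, 4, 0, 7, 3425706, 1, 2, 2104, 818202, 2, 1, 2, 0, 5, 33579370, 2, 1]) (.leaf [6, 76618, 97384])) (.node (.leaf [5, 63656, 14632]) (.leaf []))))))))) (.node (.node (.node (.node (.node (.node (.node (.node (.leaf [8, 1, 0, 4, 6, 11, 26, 1, 6, 2, 6, 7, 2, 216, 90, 1, 2, 1, 2]) (.leaf [5, 64072, 14632])) (.node (.leaf [8, 23, 133230, 3, 3, 9, 3164586, 1, 2, 3, 1400, 33034, 1, 2, 3, 3, 2, 1, 0, 5, 33838698, 3, 2, 1, 0, 5, 19656, 33847434, 3, 2, 1]) (.leaf [6, 97385, 87194]))) (.node (.node (.leaf [5, 16360, 1992]) (.leaf [6, 75770, 79016])) (.node (.leaf [6, 29034, 47736]) (.leaf [3, 7193])))) (.node (.node (.node (.leaf [5, 5480, 472]) (.leaf [6, 39226, 73832])) (.node (.leaf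 [6, 34698, 41368]) (.leaf [8, 2, 2690238, 3, 3, 5, 4072, 921008842, 1, 2, 3, 3, 2, 1, 0, 5, 2808, 932803530, 3, 2, 1, 0, 5, 932538426, 3, 2, 1, 0, 5, 56440, 932279146, 3, 2, 1]))) (.node (.node (.leaf [3, 1561]) (.leaf [6, 87993, 43290])) (.node (.leaf [6, 57193, 20762]) (.leaf []))))) (.node (.node (.node (.node (.leaf [5, 2984, 2744]) (.leaf [5, 66856, 14344])) (.node (.leaf [8, 32, 271672, 5, 0, 3, 3182442, 4, 3, 3, 0, 5, 3432186, 3, 4, 0, 5, 2072, 34097322, 4, 3]) (.leaf [3, 6425]))) (.node (.node (.leaf [7, 8, 2774206, 1, 18794, 34361754]) (.leaf [6, 79017, 54458])) (.node (.leaf [8, 2, 552220, 4, 3, 7, 3193242, 2, 1, 1528, 833178, 1, 2, 2, 1, 0, 5, 488, 839034, 2]) (.leaf [])))) (.node (.node (.node (.leaf [5, 10920, 136]) (.leaf [6, 49850, 76520])) (.node (.leaf [6, 45241, 41434]) (.leaf [8, 5, 6607302, 4, 6, 7, 16616, 34175578, 1, 2, 10408, 926261338, 2, 1, 2, 0, 5, 16232, 927808058, 2, 1]))) (.node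 (.node (.leaf [6, 26570, 28824]) (.leaf [6, 90842, 92056])) (.node (.leaf [6, 60121, 53082]) (.leaf [])))))) (.node (.node (.node (.node (.node (.leaf [3, 153]) (.leaf [5, 65336, 62664])) (.node (.leaf [8, 49, 741234, 1, 7, 7, 34906, 3, 2, 3, 200, 34376058, 3, 5, 0, 3, 0, 5, 33589450, 5, 0, 2]) (.leaf [6, 46794, 97384]))) (.node (.node (.leaf [8, 16, 131718, 3, 3, 8, 3161274, 1, 2, 3, 3425674, 1, 2, 3, 3, 2, 1, 0, 5, 15528, 33835162, 3, 2, 1, 0, 5, 216, 33830234, 3, 2, 1]) (.leaf [6, 79017, 51210, 79016])) (.node (.leaf [6, 47737, 30778]) (.leaf [8, 1, 3982522, 5, 9, 7, 56152, 928868714, 3, 200, 930719338, 4, 3, 3, 4, 0, 5, 56408, 922565146, 4, 3])))) (.node (.node (.node (.leaf [5, 7576, 472]) (.leaf [6, 74409, 72026])) (.node (.leaf [7, 22, 864362, 1, 829530, 34384282]) (.leaf [8, 5, 6996990, 4, 3, 8, 16648, 927025226, 2, 1, 6216, 921276794, 1, 2, 2, 1, 0, 5, 33663322, 2]))) (.node (.node (.leaf [8, 12,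 659238, 3, 3, 8, 3166794, 1, 2, 3, 3433754, 1, 2, 3, 3, 2, 1, 0, 5, 23898, 3, 2, 1, 0, 5, 15336, 26538, 3, 2, 1]) (.leaf [6, 76234, 92056])) (.node (.leaf [6, 57193, 32826]) (.leaf []))))) (.node (.node (.node (.node (.leaf [5, 3656, 472]) (.leaf [6, 71881, 32090])) (.node (.leaf [6, 39289, 34106]) (.leaf [3, 6553]))) (.node (.node (.leaf [3, 1433]) (.leaf [6, 87993, 73946])) (.node (.leaf [3, 3481]) (.leaf [])))) (.node (.node (.node (.leaf [8, 5, 329632, 3, 3, 9, 3147482, 1, 2, 3, 200, 800682, 1, 2, 3, 3, 2, 1, 0, 5, 2184, 788202, 3, 2, 1, 0, 5, 2088, 3422122, 3, 2, 1]) (.leaf [6, 77386, 79016])) (.node (.leaf [6, 44746, 46584]) (.leaf [3, 7065]))) (.node (.node (.leaf [3, 1945]) (.leaf [6, 93274, 96248])) (.node (.leaf [5, 63048, 62664]) (.leaf []))))))) (.node (.node (.node (.node (.node (.node (.leaf [3, 89]) (.leaf [5, 64696, 14632])) (.node (.leaf [3, 2137]) (.leaf [6, 78154, 97384]))) (.node (.node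 (.leaf [8, 1, 996078, 4, 9, 9, 13018, 2, 1528, 3158762, 1, 2, 17802, 2, 1, 2, 1]) (.leaf [6, 79017, 59274, 79016])) (.node (.leaf [6, 30058, 47736]) (.leaf [8, 5, 3691014, 3, 3, 9, 920216458, 1, 2, 3, 2200, 919451514, 1, 2, 3, 3, 2, 1, 0, 5, 16728, 927295050, 3, 2, 1, 0, 5, 17080, 925980154, 3, 2, 1])))) (.node (.node (.node (.leaf [5, 6600, 2744]) (.leaf [6, 74409, 21610])) (.node (.leaf [6, 41898, 42008]) (.leaf [3, 6745]))) (.node (.node (.leaf [8, 12, 1317470, 4, 6, 5, 3166938, 1, 2, 3168090, 2, 1, 2, 0, 5, 33579642, 2, 1]) (.leaf [6, 87993, 86602])) (.node (.leaf [6, 48762, 57192]) (.leaf []))))) (.node (.node (.node (.node (.leaf [5, 3192, 472]) (.leaf [5, 68008, 14344])) (.node (.leaf [3, 2393]) (.leaf [8, 5, 38100, 5, 0, 3, 920489354, 4, 3, 3, 0, 5, 2168, 925976138, 3, 4, 0, 5, 17176, 930182538, 4, 3]))) (.node (.node (.leaf [8, 8, 1193662, 5, 9, 6, 3428602, 3, 19256, 34360218, 4, 3, 3, 4, 0, 5, 14648,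 3429002, 4, 3]) (.leaf [6, 87033, 84266])) (.node (.leaf [8, 42, 3029384, 4, 3, 8, 3460442, 2, 1, 3193770, 1, 2, 33578218, 2, 2, 1]) (.leaf [])))) (.node (.node (.node (.leaf [8, 1, 1382982, 3, 3, 13, 1354, 1, 2, 3, 2280, 3159274, 1, 2, 3, 3408234, 1, 2, 3, 3, 2, 1, 0, 5, 56, 788218, 3, 2, 1]) (.leaf [6, 79017, 57226])) (.node (.leaf [3, 2905]) (.leaf [8, 5, 5792020, 4, 0, 3, 3247514, 1, 2, 2, 0, 5, 933575306, 2, 1, 0, 5, 56984, 922588602, 1, 2]))) (.node (.node (.leaf [6, 28825, 27706]) (.leaf [6, 92057, 73770])) (.node (.leaf [5, 62664, 14632]) (.leaf [])))))) (.node (.node (.node (.node (.node (.leaf [5, 2792, 136]) (.leaf [5, 65976, 62664])) (.node (.leaf [3, 2265]) (.leaf [6, 97385, 85978]))) (.node (.node (.leaf [8, 1, 1056396, 4, 9, 5, 3427642, 2, 806282, 1, 2, 2, 1, 0, 5, 200, 18570, 1, 2]) (.leaf [6, 79017, 72986])) (.node (.leaf [3, 3289]) (.leaf [])))) (.node (.node (.node (.leaf [5, 9080, 264])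 (.leaf [6, 76521, 57866])) (.node (.leaf [6, 43978, 44056]) (.leaf [3, 6873]))) (.node (.node (.leaf [3, 1753]) (.leaf [6, 85514, 92056])) (.node (.leaf [6, 60121, 45546, 60120]) (.leaf []))))) (.node (.node (.node (.node (.leaf [5, 4520, 472]) (.leaf [6, 71881, 59898])) (.node (.leaf [8, 5, 634210, 4, 3, 3, 3183306, 2, 1, 2, 1, 0, 5, 3183354, 2, 0, 5, 3445770, 2, 1]) (.leaf [8, 2, 1188962, 4, 9, 11, 4072, 933067466, 2, 16840, 927809882, 1, 2, 16584, 931225706, 2, 1, 2, 1]))) (.node (.node (.leaf [6, 23209, 23130]) (.leaf [6, 87993, 36746])) (.node (.leaf [5, 56616, 200]) (.leaf [])))) (.node (.node (.node (.leaf [5, 15640, 15736]) (.leaf [6, 79017, 77866])) (.node (.leaf [6, 25210, 47736]) (.leaf [8, 1, 1012222, 3, 3, 4, 928353706, 1, 2, 3, 3, 2, 1, 0, 5, 56888, 919711866, 3, 2, 1, 0, 5, 56456, 927314810, 3, 2, 1, 0, 5, 56440, 927052986, 3, 2, 1]))) (.node (.node (.leaf [8, 8, 214386, 4, 3, 7, 33571706,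 2, 1, 2072, 3177498, 1, 2, 2, 1, 0, 5, 33586586, 2]) (.leaf [6, 97385, 14186])) (.node (.leaf [5, 63528, 14152]) (.leaf [])))))))) (.node (.node (.node (.node (.node (.node (.node (.leaf [3, 56]) (.leaf [5, 64376, 14632])) (.node (.leaf [3, 2105]) (.leaf [6, 97385, 77770, 97384]))) (.node (.node (.leaf [6, 15962, 17240]) (.leaf [6, 79017, 59114, 79016])) (.node (.leaf [6, 29546, 47736]) (.leaf [3, 7225])))) (.node (.node (.node (.leaf [5, 6056, 2744]) (.leaf [6, 21402, 74408])) (.node (.leaf [6, 41369, 38442]) (.leaf [3, 6713]))) (.node (.node (.leaf [3, 1593]) (.leaf [6, 86042, 87992])) (.node (.leaf [6, 57193, 22474]) (.leaf []))))) (.node (.node (.node (.node (.leaf [5, 3096, 264]) (.leaf [5, 67320, 14344])) (.node (.leaf [8, 22, 1317120, 4, 6, 6, 33853354, 1, 2, 36968, 37610, 2, 1, 2, 0, 5, 33592122, 2, 1]) (.leaf [3, 6457]))) (.node (.node (.leaf [6, 20394, 21272]) (.leaf [6, 79017, 73754])) (.node (.leaf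 [8, 17, 2118162, 4, 6, 9, 838714, 1, 2, 2408, 3454874, 2, 3191674, 1, 2, 1, 2]) (.leaf [])))) (.node (.node (.node (.leaf [3, 825]) (.leaf [6, 76521, 31450])) (.node (.leaf [6, 37882, 45240]) (.leaf [8, 2, 4114794, 4, 6, 7, 7864, 928348746, 1, 2, 16920, 921263930, 2, 1, 2, 0, 5, 3352, 922066394, 2, 1]))) (.node (.node (.leaf [6, 27130, 28824]) (.leaf [6, 92057, 54074, 92056])) (.node (.leaf [6, 60074, 60120]) (.leaf [])))))) (.node (.node (.node (.node (.node (.leaf [5, 584, 2744]) (.leaf [5, 65640, 14152])) (.node (.leaf [3, 2233]) (.leaf [6, 97385, 47466, 97384]))) (.node (.node (.leaf [8, 1, 1926642, 3, 3, 20, 56, 13018, 1, 2, 3, 1640, 34092394, 1, 2, 3, 56, 34097914, 1, 2, 3, 19256, 3427226, 1, 2, 3, 3, 2, 1]) (.leaf [6, 59690, 79016])) (.node (.leaf [6, 33578, 47736]) (.leaf [8, 5, 6727432, 3, 3, 20, 16472, 927549242, 1, 2, 3, 17096, 919686938, 1, 2, 3, 11080, 921270346, 1, 2, 3, 17000, 926250522, 1,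 2, 3, 3, 2, 1])))) (.node (.node (.node (.leaf [5, 8344, 2744]) (.leaf [6, 76521, 74890])) (.node (.leaf [8, 31, 1399788, 4, 3, 8, 43034, 2, 1, 43066, 1, 2, 43194, 2, 2, 1]) (.leaf [8, 5, 1472690, 3, 3, 15, 16648, 927811658, 1, 2, 3, 9624, 933578842, 1, 2, 3, 16408, 34157898, 1, 2, 3, 3, 2, 1, 0, 5, 2024, 923107706, 3, 2, 1]))) (.node (.node (.leaf [8, 23, 790280, 4, 0, 3, 805498, 1, 2, 2, 0, 5, 33575930, 2, 1, 0, 5, 34367658, 1, 2]) (.leaf [6, 85306, 92056])) (.node (.leaf [6, 60121, 39338]) (.leaf []))))) (.node (.node (.node (.node (.leaf [5, 4008, 2744]) (.leaf [6, 59786, 71880])) (.node (.leaf [6, 39769, 35706]) (.leaf [8, 2, 5034342, 5, 0, 4, 4072, 926513866, 4, 3, 3, 0, 5, 12536, 930970602, 3, 4, 0, 5, 16424, 920206970, 4, 3]))) (.node (.node (.leaf [6, 20218, 23208]) (.leaf [6, 87993, 42042])) (.node (.leaf [5, 56104, 200]) (.leaf [])))) (.node (.node (.node (.leaf [3, 953]) (.leaf [6, 79017, 58570]))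 (.node (.leaf [6, 47737, 24698]) (.leaf [3, 7097]))) (.node (.node (.leaf [3, 1977]) (.leaf [6, 96249, 94410])) (.node (.leaf [5, 63272, 62664]) (.leaf []))))))) (.node (.node (.node (.node (.node (.node (.leaf [3, 121]) (.leaf [5, 65016, 14152])) (.node (.leaf [3, 2169]) (.leaf [6, 84650, 97384]))) (.node (.node (.leaf [5, 15208, 18296]) (.leaf [6, 79017, 50682, 79016])) (.node (.leaf [6, 28218, 47736]) (.leaf [3, 7289])))) (.node (.node (.node (.leaf [5, 7080, 264]) (.leaf [6, 74409, 48650])) (.node (.leaf [3, 2681]) (.leaf [3, 6777]))) (.node (.node (.leaf [8, 16, 790276, 4, 6, 6, 3164282, 1, 2, 2056, 33839882, 2, 1, 2, 0, 5, 15656, 34105162, 2, 1]) (.leaf [6, 15834, 92056])) (.node (.leaf [6, 57193, 50202]) (.leaf []))))) (.node (.node (.node (.node (.leaf [5, 3368, 2744]) (.leaf [5, 68952, 14632])) (.node (.leaf [6, 38521, 35802]) (.leaf [8, 5, 316930, 4, 9, 6, 923635082, 2, 56120, 933596698, 1, 2, 2,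 1, 0, 5, 16568, 922042474, 1, 2]))) (.node (.node (.leaf [3, 1401]) (.leaf [7, 5, 475536, 2, 16712, 922304554, 933581770])) (.node (.leaf [3, 3449]) (.leaf [])))) (.node (.node (.node (.leaf [3, 889]) (.leaf [6, 79017, 75098])) (.node (.leaf [6, 46585, 45962]) (.leaf [3, 7033]))) (.node (.node (.leaf [6, 28394, 28824]) (.leaf [6, 95721, 43866])) (.node (.leaf [5, 62840, 14344]) (.leaf [])))))) (.node (.node (.node (.node (.node (.leaf [5, 2888, 296]) (.leaf [5, 66408, 14152])) (.node (.leaf [3, 2297]) (.leaf [6, 102201, 100458]))) (.node (.node (.leaf [8, 1, 1366680, 1, 7, 6, 20042, 3, 2, 3, 33574618, 3, 5, 0, 3, 0, 5, 216, 804474, 5, 0, 2]) (.leaf [6, 52858, 79016])) (.node (.leaf [3, 3321]) (.leaf [])))) (.node (.node (.node (.leaf [5, 9736, 136]) (.leaf [6, 76521, 58634])) (.node (.leaf [8, 5, 346090, 5, 9, 5, 3451082, 3, 33597674, 4, 3, 3, 4, 0, 5, 830282, 4, 3]) (.leaf [3, 6905]))) (.node (.node (.leaf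 [3, 1785]) (.leaf [6, 74138, 92056])) (.node (.leaf [6, 46202, 60120]) (.leaf []))))) (.node (.node (.node (.node (.leaf [5, 4936, 472]) (.leaf [6, 62202, 71880])) (.node (.leaf [8, 47, 2306472, 5, 0, 3, 3183530, 4, 3, 3, 0, 5, 824570, 3, 4, 0, 5, 16920, 34116842, 4, 3]) (.leaf [8, 2, 3190374, 5, 9, 6, 4072, 927038154, 3, 34446314, 4, 3, 3, 4, 0, 5, 3160, 919698330, 4, 3]))) (.node (.node (.leaf [3, 1529]) (.leaf [6, 87993, 40362])) (.node (.leaf [6, 19962, 57192]) (.leaf [])))) (.node (.node (.node (.leaf [5, 2008, 16232]) (.leaf [6, 79017, 48634, 79016])) (.node (.leaf [6, 25770, 47736]) (.leaf [8, 1, 2298388, 4, 0, 7, 920751546, 1, 2, 2184, 922335626, 2, 1, 2, 0, 5, 56568, 927826074, 2, 1]))) (.node (.node (.leaf [3, 2041]) (.leaf [6, 97385, 79082])) (.node (.leaf [5, 63800, 14152]) (.leaf []))))))))))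

/-- their proofs, part 11 -/
def proofTab11 : WTab :=
  (.node (.node (.node (.node (.node (.node (.node (.node (.node (.leaf [8, 1, 0, 2, 7, 18, 26, 2, 6, 3, 6, 2, 6, 7, 2, 56, 170, 3, 0, 5, 122, 2, 0, 5]) (.leaf [5, 63928, 62664])) (.node (.leaf [8, 23, 132068, 4, 0, 7, 807818, 1, 2, 2056, 34111642, 2, 1, 2, 0, 5, 809994, 2, 1]) (.leaf [6, 77050, 97384]))) (.node (.node (.leaf [5, 16280, 1992]) (.leaf [6, 79017, 58874, 79016])) (.node (.leaf [6, 26122, 47736]) (.leaf [3, 7178])))) (.node (.node (.node (.leaf [5, 5176, 296]) (.leaf [6, 60522, 73832])) (.node (.leaf [3, 2570]) (.leaf [3, 6666]))) (.node (.node (.leaf [8, 11, 131718, 4, 3, 6, 3160842, 2, 1, 34102714, 1, 2, 2, 1, 0, 5, 18312, 811162, 2]) (.leaf [6, 87993, 61386, 87992])) (.node (.leaf [6, 57193, 23482]) (.leaf []))))) (.node (.node (.node (.node (.leaf [5, 2936, 2744]) (.leaf [5, 66648, 62664])) (.node (.leaf [3, 2314]) (.leaf [6, 102201,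 85082]))) (.node (.node (.leaf [3, 1290]) (.leaf [6, 79017, 53610])) (.node (.leaf [3, 3338]) (.leaf [])))) (.node (.node (.node (.leaf [5, 10680, 136]) (.leaf [6, 25994, 76520])) (.node (.leaf [5, 45225]) (.leaf [3, 6922]))) (.node (.node (.leaf [6, 28825, 26330]) (.leaf [6, 92057, 90282])) (.node (.leaf [6, 46442, 60120]) (.leaf [])))))) (.node (.node (.node (.node (.node (.leaf [5, 2024, 2152]) (.leaf [5, 65176, 62664])) (.node (.leaf [8, 1, 922164, 5, 3, 6, 3159738, 3, 4, 34730, 4, 3, 3, 4, 0, 5, 216, 33851498, 3]) (.leaf [6, 97385, 78810]))) (.node (.node (.leaf [6, 18154, 18504]) (.leaf [6, 79017, 76122])) (.node (.leaf [6, 47737, 28490]) (.leaf [8, 1, 1389616, 4, 3, 8, 56952, 923101658, 2, 1, 56440, 930161546, 1, 2, 2, 1, 0, 5, 56904, 932297034, 2])))) (.node (.node (.node (.leaf [5, 7336, 472]) (.leaf [6, 74409, 50298])) (.node (.leaf [3, 2698]) (.leaf [3, 6794]))) (.node (.node (.leaf [3, 1674])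 (.leaf [6, 92057, 71914])) (.node (.leaf [6, 57193, 51514]) (.leaf []))))) (.node (.node (.node (.node (.leaf [5, 3512, 472]) (.leaf [5, 70280, 62664])) (.node (.leaf [6, 17674, 39080]) (.leaf [8, 5, 851264, 4, 3, 9, 924159370, 2, 1, 56424, 932023802, 1, 2, 933596266, 2, 2, 1]))) (.node (.node (.leaf [8, 16, 527188, 4, 0, 6, 33576330, 1, 2, 33839258, 2, 1, 2, 0, 5, 15528, 33838474, 2, 1]) (.leaf [6, 87993, 60314])) (.node (.leaf [3, 3466]) (.leaf [])))) (.node (.node (.node (.leaf [8, 2, 922152, 3, 3, 15, 664, 410, 1, 2, 3, 216, 800890, 1, 2, 3, 14152, 800666, 1, 2, 3, 3, 2, 1, 0, 5, 824, 3160154, 3, 2, 1]) (.leaf [6, 79017, 57946])) (.node (.leaf [6, 44458, 46584]) (.leaf [8, 5, 5891842, 4, 6, 10, 921013658, 1, 2, 56296, 33911594, 2, 16456, 919447978, 1, 2, 1, 2]))) (.node (.node (.leaf [8, 8, 115264, 3, 3, 17, 3164634, 1, 2, 3, 33584410, 1, 2, 3, 3175946, 1, 2, 3, 19592, 817290, 1, 2, 3, 3, 2, 1]) (.leaf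 [6, 78650, 96248])) (.node (.leaf [5, 62952, 14632]) (.leaf []))))))) (.node (.node (.node (.node (.node (.node (.leaf [5, 968, 1192]) (.leaf [5, 64552, 62664])) (.node (.leaf [8, 1, 330800, 5, 3, 7, 13786, 3, 4, 2072, 33588330, 4, 3, 3, 4, 0, 5, 820346, 3]) (.leaf [6, 97385, 81754]))) (.node (.node (.leaf [3, 1098]) (.leaf [6, 78298, 79016])) (.node (.leaf [6, 47737, 29818]) (.leaf [8, 5, 2612596, 4, 3, 3, 924148602, 2, 1, 2, 1, 0, 5, 16904, 927574538, 2, 0, 5, 16408, 921524970, 2, 1])))) (.node (.node (.node (.leaf [5, 6344, 472]) (.leaf [6, 74409, 19050, 74408])) (.node (.leaf [6, 42009, 35866]) (.leaf [8, 5, 7020008, 4, 9, 7, 16376, 923892442, 2, 12232, 920746986, 1, 2, 2, 1, 0, 5, 1896, 921255530, 1, 2]))) (.node (.node (.leaf [3, 1610]) (.leaf [6, 54538, 87992])) (.node (.leaf [6, 22842, 57192]) (.leaf []))))) (.node (.node (.node (.node (.leaf [5, 3144, 472]) (.leaf [5, 67656, 62664])) (.node (.leaf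 [6, 37993, 37930]) (.leaf [8, 5, 316660, 5, 3, 3, 919965066, 3, 4, 3, 4, 0, 5, 16472, 923367210, 3, 0, 5, 62664, 930960858, 3, 4]))) (.node (.node (.leaf [3, 1354]) (.leaf [6, 75290, 87032])) (.node (.leaf [8, 17, 2963520, 5, 9, 6, 52378, 3, 16984, 54442, 4, 3, 3, 4, 0, 5, 17528, 33608826, 4, 3]) (.leaf [])))) (.node (.node (.node (.leaf [7, 1, 1383330, 2, 2072, 3158810, 34354346]) (.leaf [6, 19306, 79016])) (.node (.leaf [6, 40970, 45240]) (.leaf [8, 2, 4110852, 5, 0, 8, 7864, 34175562, 4, 3, 2168, 930187834, 3, 4, 3, 0, 5, 7864, 926251034, 3, 4]))) (.node (.node (.leaf [6, 28825, 27418]) (.leaf [6, 92057, 86458])) (.node (.leaf [6, 55978, 60120]) (.leaf [])))))) (.node (.node (.node (.node (.node (.leaf [5, 2744, 136]) (.leaf [5, 65832, 14152])) (.node (.leaf [8, 5, 1581722, 5, 9, 5, 33590106, 3, 33852538, 4, 3, 3, 4, 0, 5, 2232, 33852474, 4, 3]) (.leaf [6, 97385, 94762]))) (.node (.node (.leaf [5, 19592,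 19576]) (.leaf [6, 72394, 79016])) (.node (.leaf [8, 4, 5009090, 5, 0, 7, 833738, 4, 3, 2184, 33601258, 3, 4, 3, 0, 5, 838618, 3, 4]) (.leaf [])))) (.node (.node (.node (.leaf [5, 8888, 136]) (.leaf [6, 76521, 57562])) (.node (.leaf [6, 44057, 39914]) (.leaf [3, 6858]))) (.node (.node (.leaf [8, 1, 412468, 4, 6, 6, 3165466, 1, 2, 19592, 22234, 2, 1, 2, 0, 5, 200, 3173226, 2, 1]) (.leaf [6, 76378, 92056])) (.node (.leaf [6, 60121, 45274]) (.leaf []))))) (.node (.node (.node (.node (.leaf [5, 4280, 472]) (.leaf [6, 33034, 71880])) (.node (.leaf [8, 47, 865872, 4, 0, 3, 823818, 1, 2, 2, 0, 5, 3182618, 2, 1, 0, 5, 36968, 824506, 1, 2]) (.leaf [3, 6602]))) (.node (.node (.leaf [6, 23209, 22154]) (.leaf [6, 87993, 36058])) (.node (.leaf [5, 56360, 2056]) (.leaf [])))) (.node (.node (.node (.leaf [8, 1, 1382982, 5, 3, 9, 1354, 3, 4, 2280, 799482, 4, 3, 15482, 3, 3, 4]) (.leaf [6, 47882, 79016])) (.node (.leaf [6,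 47737, 24970]) (.leaf [3, 7114]))) (.node (.node (.leaf [8, 4, 1055214, 3, 3, 19, 14042, 1, 2, 3, 1512, 19866, 1, 2, 3, 19608, 33574218, 1, 2, 3, 760, 3439786, 1, 2, 3, 3, 2, 1]) (.leaf [6, 13066, 97384])) (.node (.leaf [5, 63384, 62664]) (.leaf [])))))))) (.node (.node (.node (.node (.node (.node (.node (.leaf [5, 280, 648]) (.leaf [5, 64232, 62664])) (.node (.leaf [3, 2090]) (.leaf [6, 97385, 80570]))) (.node (.node (.leaf [5, 16664, 16232]) (.leaf [6, 79017, 49418, 79016])) (.node (.leaf [6, 47737, 29306]) (.leaf [3, 7210])))) (.node (.node (.node (.leaf [5, 5832, 2744]) (.leaf [6, 17802, 74408])) (.node (.leaf [6, 41369, 38666, 41368]) (.leaf [8, 5, 5517076, 4, 6, 7, 16376, 921008858, 1, 2, 12312, 922590826, 2, 1, 2, 0, 5, 16696, 34445674, 2, 1]))) (.node (.node (.leaf [8, 12, 512, 4, 3, 7, 3428826, 2, 1, 56, 3432410, 1, 2, 2, 1, 0, 5, 15336, 34363066, 2]) (.leaf [6, 87993, 47658])) (.node (.leaf [6,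 22026, 57192]) (.leaf []))))) (.node (.node (.node (.node (.leaf [5, 3048, 264]) (.leaf [5, 67064, 62664])) (.node (.leaf [8, 17, 1317122, 5, 0, 3, 823274, 4, 3, 3, 0, 5, 35658, 3, 4, 0, 5, 2184, 13802, 4, 3]) (.leaf [3, 6442]))) (.node (.node (.leaf [6, 18842, 20920]) (.leaf [6, 73738, 79016])) (.node (.leaf [8, 4, 2445410, 4, 3, 7, 3193434, 2, 1, 2440, 33601194, 1, 2, 2, 1, 0, 5, 1656, 33869578, 2]) (.leaf [])))) (.node (.node (.node (.leaf [8, 6, 197568, 5, 3, 13, 788986, 3, 4, 56, 90, 4, 3, 3112, 122, 3, 1354, 4, 3]) (.leaf [6, 51386, 76520])) (.node (.leaf [6, 42106, 45240]) (.leaf [3, 6954]))) (.node (.node (.leaf [6, 26874, 28824]) (.leaf [6, 92057, 53194])) (.node (.leaf [6, 60010, 60120]) (.leaf [])))))) (.node (.node (.node (.node (.node (.leaf [5, 2728]) (.leaf [5, 65496, 62664])) (.node (.leaf [3, 2218]) (.leaf [6, 97385, 90586]))) (.node (.node (.leaf [3, 1194]) (.leaf [6, 78554, 79016])) (.node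 (.leaf [6, 32762, 47736]) (.leaf [3, 7338])))) (.node (.node (.node (.leaf [5, 7992, 2744]) (.leaf [6, 62426, 74408])) (.node (.leaf [6, 43449, 41674]) (.leaf [3, 6826]))) (.node (.node (.leaf [8, 23, 133228, 4, 0, 7, 3429066, 1, 2, 15336, 33838570, 2, 1, 2, 0, 5, 3435146, 2, 1]) (.leaf [6, 92057, 78874])) (.node (.leaf [6, 55482, 57192]) (.leaf []))))) (.node (.node (.node (.node (.leaf [5, 3816, 296]) (.leaf [6, 32458, 71880])) (.node (.leaf [6, 35290, 39288]) (.leaf [8, 2, 5337952, 4, 6, 7, 4072, 931494602, 1, 2, 16824, 34183530, 2, 1, 2, 0, 5, 8408, 923368474, 2, 1]))) (.node (.node (.leaf [6, 19114, 23208]) (.leaf [6, 87993, 60826, 87992])) (.node (.leaf [8, 29, 1654800, 5, 9, 5, 3460714, 3, 841050, 4, 3, 3, 4, 0, 5, 19496, 33866026, 4, 3]) (.leaf [])))) (.node (.node (.node (.leaf [5, 15016]) (.leaf [6, 77530, 79016])) (.node (.leaf [6, 24426, 47736]) (.leaf [8, 1, 4875252, 4, 6, 6, 3247530, 1, 2, 2200,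 930456506, 2, 1, 2, 0, 5, 898474, 2, 1]))) (.node (.node (.leaf [8, 23, 659066, 4, 0, 7, 3167098, 1, 2, 216, 3439098, 2, 1, 2, 0, 5, 810010, 2, 1]) (.leaf [6, 96249, 88570])) (.node (.leaf [5, 63160, 62664]) (.leaf []))))))) (.node (.node (.node (.node (.node (.node (.leaf [0]) (.leaf [5, 64888, 14152])) (.node (.leaf [8, 1, 1317804, 5, 3, 6, 3159498, 3, 4, 34458, 4, 3, 3, 4, 0, 5, 820746, 3]) (.leaf [6, 83226, 97384]))) (.node (.node (.leaf [3, 1130]) (.leaf [6, 76010, 79016])) (.node (.leaf [6, 30346, 47736]) (.leaf [3, 7274])))) (.node (.node (.node (.leaf [5, 6856, 2744]) (.leaf [6, 58314, 74408])) (.node (.leaf [6, 41114, 42008]) (.leaf [8, 5, 1689702, 3, 3, 10, 16376, 932018906, 1, 2, 3, 12136, 921795338, 1, 2, 3, 3, 2, 1, 0, 5, 16920, 926762826, 3, 2, 1, 0, 5, 216, 33662586, 3, 2, 1]))) (.node (.node (.leaf [3, 1642]) (.leaf [6, 87993, 76474])) (.node (.leaf [6, 57193, 49226]) (.leaf []))))) (.node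 (.node (.node (.node (.leaf [5, 3256, 264]) (.leaf [5, 68424, 14152])) (.node (.leaf [6, 38521, 34906]) (.leaf [3, 6506]))) (.node (.node (.leaf [8, 29, 660072, 4, 6, 9, 3429578, 1, 2, 3425690, 2, 2104, 34099706, 1, 2, 1, 2]) (.leaf [6, 31162, 87624])) (.node (.leaf [3, 3434]) (.leaf [])))) (.node (.node (.node (.leaf [8, 1, 987840, 4, 3, 9, 3421402, 2, 1, 13914, 1, 2, 1992, 3159658, 2, 2, 1]) (.leaf [6, 76922, 79016])) (.node (.leaf [6, 46585, 44106]) (.leaf [8, 5, 7014856, 1, 7, 4, 919702938, 3, 2, 3, 5, 0, 3, 0, 5, 16648, 919963066, 5, 0, 2, 0, 5, 56632, 920724586, 3]))) (.node (.node (.leaf [6, 27978, 28824]) (.leaf [6, 95721, 88586])) (.node (.leaf [5, 62760, 14344]) (.leaf [])))))) (.node (.node (.node (.node (.node (.leaf [5, 2840, 296]) (.leaf [5, 66200, 62664])) (.node (.leaf [7, 22, 263778, 1, 36058, 34377386]) (.leaf [6, 97385, 86218]))) (.node (.node (.leaf [3, 1258]) (.leaf [6, 73354, 79016]))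 (.node (.leaf [8, 29, 8578, 5, 0, 8, 19640, 34128314, 4, 3, 1688, 52714, 3, 4, 3, 0, 5, 19640, 34129546, 3, 4]) (.leaf [])))) (.node (.node (.node (.leaf [5, 9352, 2744]) (.leaf [6, 75402, 76520])) (.node (.leaf [3, 2794]) (.leaf [3, 6890]))) (.node (.node (.leaf [8, 33, 725094, 5, 6, 9, 24522, 4, 3, 14680, 3435354, 3, 26346, 4, 3, 4, 3]) (.leaf [6, 85754, 92056])) (.node (.leaf [6, 60121, 45786]) (.leaf []))))) (.node (.node (.node (.node (.leaf [5, 4760, 296]) (.leaf [6, 52122, 71880])) (.node (.leaf [6, 35450, 40536]) (.leaf [3, 6634]))) (.node (.node (.leaf [8, 1, 1523278, 5, 0, 7, 801354, 4, 3, 15032, 801386, 3, 4, 3, 0, 5, 2072, 33578666, 3, 4]) (.leaf [6, 87993, 61226, 87992])) (.node (.leaf [7, 1, 5858516, 2, 56696, 927512074, 933541450]) (.leaf [])))) (.node (.node (.node (.leaf [7, 1, 2775204, 2, 56, 3161674, 34356906]) (.leaf [6, 79017, 58714, 79016])) (.node (.leaf [6, 25514, 47736]) (.leaf [8,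 1, 4117802, 4, 0, 7, 919440826, 1, 2, 16248, 928364410, 2, 1, 2, 0, 5, 56568, 928350362, 2, 1]))) (.node (.node (.leaf [3, 2026]) (.leaf [6, 76634, 97384])) (.node (.leaf [5, 63656, 62664]) (.leaf []))))))))) (.node (.node (.node (.node (.node (.node (.node (.node (.leaf [3, 26]) (.leaf [5, 64088, 14152])) (.node (.leaf [3, 2074]) (.leaf [6, 80090, 97384]))) (.node (.node (.leaf [5, 16360, 2152]) (.leaf [6, 75786, 79016])) (.node (.leaf [6, 47737, 29050]) (.leaf [8, 5, 5562584, 4, 0, 7, 919440842, 1, 2, 56936, 919094282, 2, 1, 2, 0, 5, 17096, 928339194, 2, 1])))) (.node (.node (.node (.leaf [5, 5496, 296]) (.leaf [6, 73833, 40650])) (.node (.leaf [6, 41369, 34714]) (.leaf [3, 6682]))) (.node (.node (.leaf [8, 1, 246960, 3, 3, 9, 3423146, 1, 2, 3, 15336, 21210, 1, 2, 3, 3, 2, 1, 0, 5, 2056, 33577658, 3, 2, 1, 0, 5, 15336, 3170490, 3, 2, 1]) (.leaf [6, 87993, 61546, 87992])) (.node (.leaf [6, 57193, 20778])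 (.leaf []))))) (.node (.node (.node (.node (.leaf [5, 3000, 136]) (.leaf [5, 66856, 14632])) (.node (.leaf [3, 2330]) (.leaf [8, 5, 4993480, 5, 0, 7, 3247498, 4, 3, 56760, 919955962, 3, 4, 3, 0, 5, 34442570, 3, 4]))) (.node (.node (.leaf [5, 20904]) (.leaf [6, 54474, 79016])) (.node (.leaf [3, 3354]) (.leaf [])))) (.node (.node (.node (.leaf [5, 10952, 472]) (.leaf [6, 49898, 76520])) (.node (.leaf [6, 45241, 41450, 45240]) (.leaf [3, 6938]))) (.node (.node (.leaf [6, 28825, 26586]) (.leaf [6, 92057, 90858])) (.node (.leaf [6, 53098, 60120]) (.leaf [])))))) (.node (.node (.node (.node (.node (.leaf [8, 2, 678, 4, 3, 3, 3146106, 2, 1, 2, 1, 0, 5, 568, 3408282, 2, 0, 5, 216, 3147514, 2, 1]) (.leaf [5, 65352, 14344])) (.node (.leaf [3, 2202]) (.leaf [6, 97385, 46810]))) (.node (.node (.leaf [3, 1178]) (.leaf [6, 79017, 51226, 79016])) (.node (.leaf [6, 30794, 47736]) (.leaf [3, 7322])))) (.node (.node (.node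 (.leaf [5, 7608, 2744]) (.leaf [6, 72042, 74408])) (.node (.leaf [5, 43433]) (.leaf [3, 6810]))) (.node (.node (.leaf [8, 12, 659238, 4, 3, 6, 3166794, 2, 1, 19098, 1, 2, 2, 1, 0, 5, 15336, 3172650, 2]) (.leaf [6, 92057, 76250])) (.node (.leaf [6, 32842, 57192]) (.leaf []))))) (.node (.node (.node (.node (.leaf [5, 3656, 2744]) (.leaf [6, 71881, 32170, 71880])) (.node (.leaf [6, 34122, 39288]) (.leaf [8, 5, 1267236, 3, 3, 19, 932547978, 1, 2, 3, 56104, 932019626, 1, 2, 3, 14392, 932201562, 1, 2, 3, 2056, 932014170, 1, 2, 3, 3, 2, 1]))) (.node (.node (.leaf [8, 16, 765932, 4, 3, 6, 3167818, 2, 1, 34101242, 1, 2, 2, 1, 0, 5, 3430170, 2]) (.leaf [6, 73962, 87992])) (.node (.leaf [8, 42, 1194648, 3, 3, 16, 839242, 1, 2, 3, 33605258, 1, 2, 3, 33865594, 1, 2, 3, 33606138, 1, 2, 3, 3, 2, 1]) (.leaf [])))) (.node (.node (.node (.leaf [3, 922]) (.leaf [6, 77402, 79016])) (.node (.leaf [6, 46585, 44762]) (.leaf [8,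 5, 1082076, 5, 6, 6, 923635098, 4, 3, 56120, 880826, 3, 4, 3, 0, 5, 16616, 923351818, 3, 4]))) (.node (.node (.leaf [8, 11, 396652, 4, 9, 8, 811162, 2, 24778, 1, 2, 33585418, 2, 1, 2, 1]) (.leaf [6, 96249, 93290])) (.node (.leaf [5, 63064, 14344]) (.leaf []))))))) (.node (.node (.node (.node (.node (.node (.leaf [7, 1, 460998, 2, 216, 1354, 3409322]) (.leaf [5, 64712, 14632])) (.node (.leaf [8, 44, 1786518, 5, 6, 8, 3441898, 4, 3, 3441994, 3, 3442058, 4, 3, 4, 3]) (.leaf [6, 82746, 97384]))) (.node (.node (.leaf [3, 1114]) (.leaf [6, 79017, 59290, 79016])) (.node (.leaf [6, 47737, 30074, 47736]) (.leaf [3, 7258])))) (.node (.node (.node (.leaf [5, 6632, 136]) (.leaf [6, 21626, 74408])) (.node (.leaf [6, 42009, 41914]) (.leaf [8, 5, 6282316, 4, 3, 11, 16376, 928086746, 2, 1, 9816, 921008202, 1, 2, 16264, 919443018, 2, 2, 1]))) (.node (.node (.leaf [8, 23, 263782, 4, 6, 5, 19066, 1, 2, 21610, 2, 1, 2, 0, 5,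 25882, 2, 1]) (.leaf [6, 87993, 62170, 87992])) (.node (.leaf [6, 48778, 57192]) (.leaf []))))) (.node (.node (.node (.node (.leaf [5, 3192, 2744]) (.leaf [5, 68056, 14632])) (.node (.leaf [8, 50, 8234, 1, 7, 10, 37098, 3, 2, 3, 3443178, 3, 34376218, 2, 0, 5, 5, 0, 3]) (.leaf [3, 6490]))) (.node (.node (.leaf [3, 1370]) (.leaf [6, 84282, 87032])) (.node (.leaf [3, 3418]) (.leaf [])))) (.node (.node (.node (.leaf [3, 858]) (.leaf [6, 79017, 57242])) (.node (.leaf [8, 4, 480146, 5, 9, 9, 3190154, 3, 3190394, 4, 3, 36984, 3190602, 3, 4, 3, 4]) (.leaf [3, 7002]))) (.node (.node (.leaf [6, 27722, 28824]) (.leaf [6, 73786, 92056])) (.node (.leaf [5, 62680, 14152]) (.leaf [])))))) (.node (.node (.node (.node (.node (.leaf [5, 2792, 264]) (.leaf [5, 65992, 14344])) (.node (.leaf [8, 9, 658918, 5, 0, 3, 36010, 4, 3, 3, 0, 5, 3443258, 3, 4, 0, 5, 2232, 35594, 4, 3]) (.leaf [6, 97385, 90970]))) (.node (.node (.leaf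 [3, 1242]) (.leaf [6, 73002, 79016])) (.node (.leaf [8, 4, 2247842, 5, 0, 8, 1704, 34390442, 4, 3, 19480, 34390458, 3, 4, 3, 0, 5, 1704, 34389706, 3, 4]) (.leaf [])))) (.node (.node (.node (.leaf [5, 9080, 472]) (.leaf [6, 21866, 76520])) (.node (.leaf [6, 44057, 43994]) (.leaf [8, 2, 5157920, 4, 6, 7, 6648, 925976666, 1, 2, 16520, 933341594, 2, 1, 2, 0, 5, 9256, 925214682, 2, 1]))) (.node (.node (.leaf [8, 12, 593382, 4, 0, 6, 34361930, 1, 2, 34106122, 2, 1, 2, 0, 5, 807578, 2, 1]) (.leaf [6, 92057, 85530])) (.node (.leaf [6, 45562, 60120]) (.leaf []))))) (.node (.node (.node (.node (.leaf [5, 4536, 296]) (.leaf [6, 51994, 71880])) (.node (.leaf [3, 2522]) (.leaf [3, 6618]))) (.node (.node (.leaf [6, 23146, 23208]) (.leaf [6, 46938, 87992])) (.node (.leaf [5, 56616, 2056]) (.leaf [])))) (.node (.node (.node (.leaf [5, 15656, 15736]) (.leaf [6, 77882, 79016])) (.node (.leaf [6, 47737, 25226]) (.leaf [3, 7130])))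 (.node (.node (.leaf [3, 2010]) (.leaf [6, 46602, 97384])) (.node (.leaf [5, 63528, 14344]) (.leaf [])))))))) (.node (.node (.node (.node (.node (.node (.node (.leaf [5, 920]) (.leaf [5, 64376, 62664])) (.node (.leaf [8, 29, 2379052, 3, 3, 4, 3427722, 1, 2, 3, 3, 2, 1, 0, 5, 19608, 34373322, 3, 2, 1, 0, 5, 818746, 3, 2, 1, 0, 5, 3440106, 3, 2, 1]) (.leaf [6, 80986, 97384]))) (.node (.node (.leaf [6, 17241, 15978]) (.leaf [6, 79017, 59130, 79016])) (.node (.leaf [6, 47737, 29562]) (.leaf [8, 5, 390302, 4, 3, 3, 919692154, 2, 1, 2, 1, 0, 5, 16760, 920751882, 2, 0, 5, 56456, 923112170, 2, 1])))) (.node (.node (.node (.leaf [5, 6072, 472]) (.leaf [6, 21066, 74408])) (.node (.leaf [6, 38458, 41368]) (.leaf [8, 5, 6282326, 3, 3, 15, 16376, 883418, 1, 2, 3, 4280, 924424970, 1, 2, 3, 2088, 923109018, 1, 2, 3, 3, 2, 1, 0, 5, 1880, 927030058, 3, 2, 1]))) (.node (.node (.leaf [8, 8, 2774192, 4, 0, 3, 3425258, 1, 2,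 2, 0, 5, 14360, 34096154, 2, 1, 0, 5, 200, 34365818, 1, 2]) (.leaf [6, 53370, 87992])) (.node (.leaf [6, 22554, 57192]) (.leaf []))))) (.node (.node (.node (.node (.leaf [5, 3096, 296]) (.leaf [5, 67368, 14632])) (.node (.leaf [3, 2362]) (.leaf [8, 5, 849262, 4, 3, 3, 919702922, 2, 1, 2, 1, 0, 5, 16904, 928865210, 2, 0, 5, 56248, 930704266, 2, 1]))) (.node (.node (.leaf [6, 21273, 20410]) (.leaf [6, 79017, 62634])) (.node (.leaf [3, 3386]) (.leaf [])))) (.node (.node (.node (.leaf [8, 1, 921984, 5, 6, 9, 394, 4, 3, 8216, 3408282, 3, 799514, 4, 3, 4, 3]) (.leaf [6, 31466, 76520])) (.node (.leaf [6, 38074, 45240]) (.leaf [8, 2, 3390882, 5, 0, 8, 7864, 927824458, 4, 3, 16728, 930189802, 3, 4, 3, 0, 5, 6696, 921795322, 3, 4]))) (.node (.node (.leaf [6, 28825, 27146]) (.leaf [6, 92057, 54090, 92056])) (.node (.leaf [6, 60121, 60090]) (.leaf [])))))) (.node (.node (.node (.node (.node (.leaf [5, 648, 2744]) (.leaf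 [5, 65640, 14344])) (.node (.leaf [8, 5, 1523100, 4, 6, 9, 821882, 1, 2, 3425498, 2, 56, 33572106, 1, 2, 1, 2]) (.leaf [6, 97385, 47482, 97384]))) (.node (.node (.leaf [3, 1210]) (.leaf [6, 79017, 59706])) (.node (.leaf [6, 33594, 47736]) (.leaf [8, 1, 3766996, 4, 3, 3, 924159578, 2, 1, 2, 1, 0, 5, 56792, 919708314, 2, 0, 5, 2072, 922044586, 2, 1])))) (.node (.node (.node (.leaf [5, 8376, 2744]) (.leaf [6, 76521, 74906])) (.node (.leaf [3, 2746]) (.leaf [3, 6842]))) (.node (.node (.leaf [3, 1722]) (.leaf [6, 92057, 72682])) (.node (.leaf [6, 39354, 60120]) (.leaf []))))) (.node (.node (.node (.node (.leaf [5, 4040, 296]) (.leaf [6, 71881, 59802])) (.node (.leaf [6, 35722, 39768]) (.leaf [3, 6586]))) (.node (.node (.leaf [6, 20234, 23208]) (.leaf [6, 87993, 42058])) (.node (.leaf [5, 56104, 2056]) (.leaf [])))) (.node (.node (.node (.leaf [8, 1, 2766126, 4, 9, 10, 3421466, 2, 2376, 34092394, 1, 2, 2072, 3161002,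 2, 1, 2, 1]) (.leaf [6, 77658, 79016])) (.node (.leaf [6, 24714, 47736]) (.leaf [8, 1, 6096342, 4, 6, 6, 920227242, 1, 2, 16248, 923879402, 2, 1, 2, 0, 5, 56936, 925451578, 2, 1]))) (.node (.node (.leaf [8, 8, 4618154, 1, 3, 8, 18954, 3, 0, 5, 808682, 3, 2, 3, 5, 0, 2, 0, 5, 817818, 3]) (.leaf [6, 94426, 96248])) (.node (.leaf [5, 63288, 14344]) (.leaf []))))))) (.node (.node (.node (.node (.node (.node (.leaf [7, 1, 659580, 2, 216, 3147546, 3409834]) (.leaf [5, 65016, 14344])) (.node (.leaf [8, 1, 330800, 5, 6, 5, 13786, 4, 3, 34682, 3, 4, 3, 0, 5, 820218, 3, 4]) (.leaf [6, 97385, 84666]))) (.node (.node (.leaf [5, 18312, 15096]) (.leaf [6, 79017, 50698, 79016])) (.node (.leaf [6, 47737, 28234]) (.leaf [8, 5, 7171964, 3, 3, 9, 931750826, 1, 2, 3, 16648, 924662362, 1, 2, 3, 3, 2, 1, 0, 5, 16872, 922834538, 3, 2, 1, 0, 5, 16648, 927547002, 3, 2, 1])))) (.node (.node (.node (.leaf [5, 7080, 2744]) (.leaf [6,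 48666, 74408])) (.node (.leaf [8, 1, 2766128, 5, 3, 3, 3450362, 3, 4, 3, 4, 0, 5, 2056, 34382890, 3, 0, 5, 42090, 3, 4]) (.leaf [8, 5, 5918508, 5, 0, 4, 16648, 923093066, 4, 3, 3, 0, 5, 34180506, 3, 4, 0, 5, 56136, 920218106, 4, 3]))) (.node (.node (.leaf [3, 1658]) (.leaf [6, 92057, 15850])) (.node (.leaf [6, 57193, 50314]) (.leaf []))))) (.node (.node (.node (.node (.leaf [5, 3400, 296]) (.leaf [5, 68968, 62664])) (.node (.leaf [6, 35818, 38520]) (.leaf [3, 6522]))) (.node (.node (.leaf [8, 1, 798524, 5, 9, 5, 21754, 3, 3427930, 4, 3, 3, 4, 0, 5, 216, 3165770, 4, 3]) (.leaf [5, 87977])) (.node (.leaf [8, 29, 4149270, 4, 9, 5, 3198378, 2, 34133722, 1, 2, 2, 1, 0, 5, 19624, 3195162, 1, 2]) (.leaf [])))) (.node (.node (.node (.leaf [8, 2, 678, 3, 3, 9, 3146106, 1, 2, 3, 2104, 800442, 1, 2, 3, 3, 2, 1, 0, 5, 680, 3159706, 3, 2, 1, 0, 5, 3159914, 3, 2, 1]) (.leaf [6, 75146, 79016])) (.node (.leaf [6, 46585,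 45978]) (.leaf [8, 5, 5788384, 5, 6, 6, 920227226, 4, 3, 56936, 924665146, 3, 4, 3, 0, 5, 16328, 927296250, 3, 4]))) (.node (.node (.leaf [6, 28825, 28442]) (.leaf [6, 94538, 95720])) (.node (.leaf [5, 62840, 14632]) (.leaf [])))))) (.node (.node (.node (.node (.node (.leaf [5, 2888, 472]) (.leaf [5, 66408, 14344])) (.node (.leaf [8, 47, 601110, 1, 3, 11, 36250, 3, 0, 5, 801242, 3, 2, 3, 2056, 15834, 3, 5, 0, 2]) (.leaf [6, 100474, 102200]))) (.node (.node (.leaf [3, 1274]) (.leaf [6, 79017, 52874])) (.node (.leaf [8, 5, 1582902, 5, 3, 3, 833754, 3, 4, 3, 4, 0, 5, 16264, 47322, 3, 0, 5, 53114, 3, 4]) (.leaf [])))) (.node (.node (.node (.leaf [5, 9768, 2744]) (.leaf [6, 76521, 24042, 76520])) (.node (.leaf [3, 2810]) (.leaf [8, 5, 4528426, 4, 6, 11, 16616, 925465178, 1, 2, 7752, 924667658, 2, 16856, 920757642, 1, 2, 1, 2]))) (.node (.node (.leaf [8, 33, 1008, 5, 0, 7, 811466, 4, 3, 22920, 33843594, 3, 4, 3,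 0, 5, 33579882, 3, 4]) (.leaf [6, 92057, 74154])) (.node (.leaf [6, 60121, 46250]) (.leaf []))))) (.node (.node (.node (.node (.leaf [5, 4952, 296]) (.leaf [6, 62250, 71880])) (.node (.leaf [3, 2554]) (.leaf [3, 6650]))) (.node (.node (.leaf [8, 4, 609522, 4, 9, 6, 800074, 2, 2056, 3162986, 1, 2, 2, 1, 0, 5, 33578858, 1, 2]) (.leaf [6, 40378, 87992])) (.node (.leaf [6, 57193, 19978]) (.leaf [])))) (.node (.node (.node (.leaf [5, 2024, 16232]) (.leaf [6, 75690, 79016])) (.node (.leaf [6, 47737, 25786]) (.leaf [3, 7162]))) (.node (.node (.leaf [8, 23, 790628, 4, 9, 9, 3163626, 2, 2056, 3425786, 1, 2, 32682, 2, 1, 2, 1]) (.leaf [6, 79226, 97384])) (.node (.leaf [5, 63800, 14344]) (.leaf []))))))))))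

/-- their proofs, part 12 -/
def proofTab12 : WTab :=
  (.node (.node (.node (.node (.node (.node (.node (.node (.node (.leaf [5, 184]) (.leaf [5, 63944, 62664])) (.node (.leaf [3, 2059]) (.leaf [6, 97385, 77066]))) (.node (.node (.leaf [5, 16280, 2152]) (.leaf [6, 79017, 58890, 79016])) (.node (.leaf [6, 47737, 26138]) (.leaf [8, 1, 3416822, 4, 3, 7, 924421562, 2, 1, 16856, 925468090, 1, 2, 2, 1, 0, 5, 932561002, 2])))) (.node (.node (.node (.leaf [5, 5208, 2744]) (.leaf [6, 73833, 60538])) (.node (.leaf [8, 5, 750128, 5, 9, 5, 3446234, 3, 34379258, 4, 3, 3, 4, 0, 5, 2008, 33593594, 4, 3]) (.leaf [8, 2, 4717368, 3, 3, 10, 4072, 925727434, 1, 2, 3, 16600, 924946074, 1, 2, 3, 3, 2, 1, 0, 5, 7976, 932804842, 3, 2, 1, 0, 5, 16344, 931491210, 3, 2, 1]))) (.node (.node (.leaf [3, 1547]) (.leaf [6, 87993, 61402, 87992])) (.node (.leaf [6, 23498, 57192]) (.leaf []))))) (.node (.node (.node (.node (.leaf [5, 2952,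 136]) (.leaf [5, 66680, 14152])) (.node (.leaf [8, 32, 1992498, 5, 3, 3, 822858, 3, 4, 3, 4, 0, 5, 33578746, 3, 0, 5, 33831370, 3, 4]) (.leaf [6, 102201, 87770]))) (.node (.node (.leaf [8, 26, 197920, 4, 0, 3, 20410, 1, 2, 2, 0, 5, 18026, 2, 1, 0, 5, 3423098, 1, 2]) (.leaf [6, 53626, 79016])) (.node (.leaf [8, 29, 1911184, 5, 3, 3, 3195274, 3, 4, 3, 4, 0, 5, 19496, 49546, 3, 0, 5, 835322, 3, 4]) (.leaf [])))) (.node (.node (.node (.leaf [5, 10680, 264]) (.leaf [6, 76521, 26010])) (.node (.leaf [6, 34458, 45240]) (.leaf [8, 5, 4529978, 3, 3, 20, 16616, 928086618, 1, 2, 3, 4792, 924154090, 1, 2, 3, 2232, 919959306, 1, 2, 3, 16584, 3517114, 1, 2, 3, 3, 2, 1]))) (.node (.node (.leaf [6, 28825, 26346]) (.leaf [6, 74234, 92056])) (.node (.leaf [6, 46458, 60120]) (.leaf [])))))) (.node (.node (.node (.node (.node (.leaf [5, 2120]) (.leaf [5, 65192, 62664])) (.node (.leaf [3, 2187]) (.leaf [6, 78826, 97384]))) (.node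 (.node (.leaf [6, 18505, 18170]) (.leaf [6, 78394, 79016])) (.node (.leaf [6, 47737, 30682]) (.leaf [8, 1, 4591852, 4, 0, 8, 56952, 928606682, 1, 2, 56360, 931734634, 2, 1, 2, 0, 5, 56888, 927563338, 2, 1])))) (.node (.node (.node (.leaf [5, 7368, 2744]) (.leaf [6, 74409, 50410])) (.node (.leaf [8, 22, 2, 4, 0, 3, 3448218, 1, 2, 2, 0, 5, 34383722, 2, 1, 0, 5, 14664, 36106, 1, 2]) (.leaf [8, 5, 5481646, 5, 6, 11, 16648, 925190218, 4, 3, 9304, 927309530, 3, 56, 920226170, 4, 3, 4, 3]))) (.node (.node (.leaf [8, 1, 1588782, 4, 3, 8, 2056, 801914, 2, 1, 15800, 3172170, 1, 2, 2, 1, 0, 5, 56, 806426, 2]) (.leaf [6, 71930, 92056])) (.node (.leaf [6, 57193, 51530]) (.leaf []))))) (.node (.node (.node (.node (.leaf [5, 3528, 2744]) (.leaf [5, 57128])) (.node (.leaf [6, 39081, 17690]) (.leaf [3, 6539]))) (.node (.node (.leaf [3, 1419]) (.leaf [6, 87993, 60330])) (.node (.leaf [8, 42, 1514864, 4, 3, 9, 3460634, 2, 1,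 31352, 34372746, 1, 2, 33586986, 2, 2, 1]) (.leaf [])))) (.node (.node (.node (.leaf [3, 907]) (.leaf [6, 57962, 79016])) (.node (.leaf [6, 46585, 44474]) (.leaf [3, 7051]))) (.node (.node (.leaf [3, 1931]) (.leaf [6, 76138, 96248])) (.node (.leaf [5, 62952, 62664]) (.leaf []))))))) (.node (.node (.node (.node (.node (.node (.leaf [5, 984, 1192]) (.leaf [5, 64568, 62664])) (.node (.leaf [3, 2123]) (.leaf [6, 81770, 97384]))) (.node (.node (.leaf [2]) (.leaf [6, 79017, 78314])) (.node (.leaf [6, 47737, 29834]) (.leaf [3, 7243])))) (.node (.node (.node (.leaf [5, 6344, 2744]) (.leaf [6, 74409, 19066, 74408])) (.node (.leaf [6, 35882, 42008]) (.leaf [3, 6731]))) (.node (.node (.leaf [8, 1, 378674, 3, 3, 17, 3429226, 1, 2, 3, 22250, 1, 2, 3, 19592, 807962, 1, 2, 3, 33841914, 1, 2, 3, 3, 2, 1]) (.leaf [6, 87993, 54554])) (.node (.leaf [6, 57193, 22858]) (.leaf []))))) (.node (.node (.node (.node (.leaf [5, 3144,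 2744]) (.leaf [5, 67672, 14344])) (.node (.leaf [8, 2, 1335936, 5, 0, 3, 3444874, 4, 3, 3, 0, 5, 8184, 3182730, 3, 4, 0, 5, 37338, 4, 3]) (.leaf [3, 6475]))) (.node (.node (.leaf [8, 23, 198576, 3, 3, 8, 808010, 1, 2, 3, 806506, 1, 2, 3, 3, 2, 1, 0, 5, 33838186, 3, 2, 1, 0, 5, 14376, 18954, 3, 2, 1]) (.leaf [6, 87033, 77434])) (.node (.leaf [3, 3403]) (.leaf [])))) (.node (.node (.node (.leaf [5, 13496]) (.leaf [6, 79017, 19322])) (.node (.leaf [6, 41066, 45240]) (.leaf [3, 6987]))) (.node (.node (.leaf [6, 27434, 28824]) (.leaf [6, 86490, 92056])) (.node (.leaf [5, 57144]) (.leaf [])))))) (.node (.node (.node (.node (.node (.leaf [5, 2744, 264]) (.leaf [5, 65832, 14344])) (.node (.leaf [3, 2251]) (.leaf [6, 94778, 97384]))) (.node (.node (.leaf [5, 19608, 19576]) (.leaf [6, 72474, 79016])) (.node (.leaf [3, 3275]) (.leaf [])))) (.node (.node (.node (.leaf [5, 8888, 264]) (.leaf [6, 57578, 76520])) (.node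 (.leaf [6, 44057, 39962]) (.leaf [8, 2, 5146354, 4, 9, 7, 6648, 928335962, 2, 16520, 933069514, 1, 2, 2, 1, 0, 5, 5128, 921795002, 1, 2]))) (.node (.node (.leaf [3, 1739]) (.leaf [6, 85386, 92056])) (.node (.leaf [6, 60121, 45290]) (.leaf []))))) (.node (.node (.node (.node (.leaf [5, 4296, 296]) (.leaf [6, 33050, 71880])) (.node (.leaf [3, 2507]) (.leaf [8, 2, 1791632, 4, 6, 11, 4072, 932805322, 1, 2, 16600, 921515802, 2, 1896, 922829066, 1, 2, 1, 2]))) (.node (.node (.leaf [6, 23209, 22490]) (.leaf [6, 36074, 87992])) (.node (.leaf [5, 56376, 200]) (.leaf [])))) (.node (.node (.node (.leaf [3, 971]) (.leaf [6, 79017, 47898])) (.node (.leaf [6, 47737, 24986]) (.leaf [8, 1, 1395752, 4, 0, 7, 923897258, 1, 2, 16792, 927554474, 2, 1, 2, 0, 5, 56472, 921280522, 2, 1]))) (.node (.node (.leaf [3, 1995]) (.leaf [6, 13594, 97384])) (.node (.leaf [5, 63400, 14344]) (.leaf [])))))))) (.node (.node (.node (.node (.node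 (.node (.node (.leaf [5, 296, 648]) (.leaf [5, 64248, 14152])) (.node (.leaf [8, 8, 5342586, 4, 0, 6, 805386, 1, 2, 3440954, 2, 1, 2, 0, 5, 817818, 2, 1]) (.leaf [6, 80586, 97384]))) (.node (.node (.leaf [5, 16712, 16232]) (.leaf [6, 79017, 49434, 79016])) (.node (.leaf [6, 29322, 47736]) (.leaf [8, 5, 5105824, 3, 3, 9, 921013706, 1, 2, 3, 56968, 921810026, 1, 2, 3, 3, 2, 1, 0, 5, 16520, 930693834, 3, 2, 1, 0, 5, 16584, 928616410, 3, 2, 1])))) (.node (.node (.node (.leaf [5, 5848, 2744]) (.leaf [6, 74409, 17818])) (.node (.leaf [6, 38698, 41368]) (.leaf [3, 6699]))) (.node (.node (.leaf [3, 1579]) (.leaf [6, 47674, 87992])) (.node (.leaf [6, 57193, 22042]) (.leaf []))))) (.node (.node (.node (.node (.leaf [5, 3048, 296]) (.leaf [5, 67080, 14632])) (.node (.leaf [3, 2347]) (.leaf [8, 5, 4801438, 1, 7, 12, 919178634, 3, 2, 3, 56664, 920469130, 3, 17064, 923092538, 2, 0, 5, 5, 0, 3]))) (.node (.node (.leaf [6,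 18986, 20920]) (.leaf [6, 62314, 79016])) (.node (.leaf [3, 3371]) (.leaf [])))) (.node (.node (.node (.leaf [5, 12985]) (.leaf [6, 51466, 76520])) (.node (.leaf [6, 45241, 42122]) (.leaf [8, 2, 701240, 3, 3, 5, 7864, 926251594, 1, 2, 3, 3, 2, 1, 0, 5, 11816, 929838506, 3, 2, 1, 0, 5, 2232, 928070986, 3, 2, 1, 0, 5, 56328, 923109258, 3, 2, 1]))) (.node (.node (.leaf [6, 26890, 28824]) (.leaf [6, 92057, 53210])) (.node (.leaf [6, 60121, 60026]) (.leaf [])))))) (.node (.node (.node (.node (.node (.leaf [5, 136, 2744]) (.leaf [5, 65528, 14152])) (.node (.leaf [8, 5, 806744, 5, 0, 3, 821738, 4, 3, 3, 0, 5, 1896, 35290, 3, 4, 0, 5, 821834, 4, 3]) (.leaf [6, 90602, 97384]))) (.node (.node (.leaf [8, 3, 16806, 3, 3, 8, 3146826, 1, 2, 3, 19114, 1, 2, 3, 3, 2, 1, 0, 5, 13448, 787562, 3, 2, 1, 0, 5, 805050, 3, 2, 1]) (.leaf [6, 79017, 59562, 79016])) (.node (.leaf [6, 47737, 32778]) (.leaf [8, 1, 5999638, 1, 7, 7,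 919178778, 3, 2, 3, 56248, 920748282, 3, 5, 0, 3, 0, 5, 56120, 919966506, 5, 0, 2])))) (.node (.node (.node (.leaf [5, 8040, 136]) (.leaf [6, 74409, 62602])) (.node (.leaf [8, 22, 1185410, 4, 6, 3, 42826, 1, 2, 1, 2, 0, 5, 42138, 2, 1, 0, 5, 827946, 2]) (.leaf [8, 5, 5741660, 3, 3, 20, 16648, 928860234, 1, 2, 3, 6408, 930446378, 1, 2, 3, 16392, 928879562, 1, 2, 3, 56536, 924158986, 1, 2, 3, 3, 2, 1]))) (.node (.node (.leaf [3, 1707]) (.leaf [6, 76298, 92056])) (.node (.leaf [6, 57193, 55882]) (.leaf []))))) (.node (.node (.node (.node (.leaf [5, 3816, 472]) (.leaf [6, 71881, 32474])) (.node (.leaf [8, 42, 1382976, 5, 3, 9, 823626, 3, 4, 1880, 33853818, 4, 3, 34377530, 3, 3, 4]) (.leaf [3, 6571]))) (.node (.node (.leaf [6, 23209, 19130]) (.leaf [6, 87993, 60842, 87992])) (.node (.leaf [3, 3499]) (.leaf [])))) (.node (.node (.node (.leaf [2]) (.leaf [6, 79017, 77546])) (.node (.leaf [6, 47737, 24442]) (.leaf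 [3, 7083]))) (.node (.node (.leaf [3, 1963]) (.leaf [6, 96249, 88922])) (.node (.leaf [5, 63176, 62664]) (.leaf []))))))) (.node (.node (.node (.node (.node (.node (.leaf [2]) (.leaf [5, 64904, 14152])) (.node (.leaf [3, 2155]) (.leaf [6, 97385, 83242]))) (.node (.node (.leaf [8, 1, 527022, 1, 7, 12, 13594, 3, 2, 3, 2376, 34354538, 3, 2072, 3425978, 2, 0, 5, 5, 0, 3]) (.leaf [6, 79017, 76026])) (.node (.leaf [6, 47737, 30362]) (.leaf [8, 5, 5015472, 4, 3, 3, 922313626, 2, 1, 2, 1, 0, 5, 33670778, 2, 0, 5, 64568, 923851370, 2, 1])))) (.node (.node (.node (.leaf [5, 6888, 2744]) (.leaf [6, 74409, 47850])) (.node (.leaf [6, 42009, 41130]) (.leaf [3, 6763]))) (.node (.node (.leaf [2]) (.leaf [6, 87993, 87594])) (.node (.leaf [6, 49242, 57192]) (.leaf []))))) (.node (.node (.node (.node (.leaf [5, 3256, 296]) (.leaf [5, 68488, 62664])) (.node (.leaf [6, 34922, 38520]) (.leaf [8, 5, 103956, 5, 3, 3, 922324362,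 3, 4, 3, 4, 0, 5, 33920410, 3, 0, 5, 925382730, 3, 4]))) (.node (.node (.leaf [3, 1387]) (.leaf [6, 87625, 31178])) (.node (.leaf [8, 42, 3301390, 4, 0, 10, 33607066, 1, 2, 19656, 839834, 2, 1, 54858, 1, 2, 2]) (.leaf [])))) (.node (.node (.node (.leaf [8, 2, 461504, 5, 0, 7, 13722, 4, 3, 4904, 3159706, 3, 4, 3, 0, 5, 888, 13978, 3, 4]) (.leaf [6, 79017, 76938])) (.node (.leaf [6, 35370, 46584]) (.leaf [3, 7019]))) (.node (.node (.leaf [6, 27994, 28824]) (.leaf [6, 88602, 95720])) (.node (.leaf [5, 62760, 14632]) (.leaf [])))))) (.node (.node (.node (.node (.node (.leaf [5, 2840, 472]) (.leaf [5, 66216, 14152])) (.node (.leaf [5, 36536]) (.leaf [6, 86234, 97384]))) (.node (.node (.leaf [8, 1, 1185582, 4, 3, 7, 805034, 2, 1, 15656, 33835738, 1, 2, 2, 1, 0, 5, 2072, 34098762, 2]) (.leaf [6, 79017, 73402])) (.node (.leaf [3, 3307]) (.leaf [])))) (.node (.node (.node (.leaf [5, 9368, 472]) (.leaf [6, 76521, 75418]))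 (.node (.leaf [8, 9, 1136372, 5, 6, 10, 44378, 4, 3, 2296, 13994, 3, 1528, 13962, 4, 3, 4, 3]) (.leaf [8, 2, 2375492, 4, 3, 8, 6648, 932005978, 2, 1, 16632, 927545946, 1, 2, 2, 1, 0, 5, 2808, 34187002, 2]))) (.node (.node (.leaf [3, 1771]) (.leaf [6, 92057, 73466])) (.node (.leaf [6, 45802, 60120]) (.leaf []))))) (.node (.node (.node (.node (.leaf [5, 4760, 472]) (.leaf [6, 71881, 52138])) (.node (.leaf [6, 36474, 40536]) (.leaf [8, 2, 3009270, 5, 6, 10, 4072, 926776010, 4, 3, 106122, 3, 56984, 924418298, 4, 3, 4, 3]))) (.node (.node (.leaf [3, 1515]) (.leaf [6, 42442, 87992])) (.node (.leaf [7, 1, 7171198, 2, 56952, 3409610, 933513050]) (.leaf [])))) (.node (.node (.node (.leaf [5, 16056]) (.leaf [6, 79017, 58730, 79016])) (.node (.leaf [6, 25530, 47736]) (.leaf [3, 7147]))) (.node (.node (.leaf [8, 1, 814988, 4, 6, 5, 3425722, 1, 2, 33576554, 2, 1, 2, 0, 5, 2104, 31770, 2, 1]) (.leaf [6, 97385, 76650]))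 (.node (.leaf [5, 63672, 62664]) (.leaf []))))))))) (.node (.node (.node (.node (.node (.node (.node (.node (.leaf [7, 1, 592712, 1, 3408266, 3408314]) (.leaf [5, 64088, 14344])) (.node (.leaf [8, 4, 3359010, 3, 3, 13, 805306, 1, 2, 3, 808154, 1, 2, 3, 19592, 34371722, 1, 2, 3, 3, 2, 1, 0, 5, 2376, 33849610, 3, 2, 1]) (.leaf [6, 97385, 80106]))) (.node (.node (.leaf [5, 16360, 16232]) (.leaf [6, 79017, 75802])) (.node (.leaf [6, 29066, 47736]) (.leaf [8, 5, 5562584, 5, 9, 6, 919440842, 3, 56568, 922583194, 4, 3, 3, 4, 0, 5, 17000, 3489706, 4, 3])))) (.node (.node (.node (.leaf [5, 5528, 2744]) (.leaf [6, 40666, 73832])) (.node (.leaf [6, 34730, 41368]) (.leaf [8, 2, 2690238, 4, 3, 7, 4072, 921008842, 2, 1, 33923418, 1, 2, 2, 1, 0, 5, 6472, 925202714, 2]))) (.node (.node (.leaf [3, 1563]) (.leaf [6, 87993, 61562, 87992])) (.node (.leaf [6, 20794, 57192]) (.leaf []))))) (.node (.node (.node (.node (.leaf [5,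 3000, 264]) (.leaf [5, 66872, 62664])) (.node (.leaf [8, 22, 930216, 4, 0, 3, 823178, 1, 2, 2, 0, 5, 33834346, 2, 1, 0, 5, 33588890, 1, 2]) (.leaf [3, 6427]))) (.node (.node (.leaf [6, 15354, 20920]) (.leaf [6, 79017, 54490])) (.node (.leaf [8, 2, 2042556, 3, 3, 13, 3193258, 1, 2, 3, 1528, 833402, 1, 2, 3, 3189370, 1, 2, 3, 3, 2, 1, 0, 5, 8024, 33869514, 3, 2, 1]) (.leaf [])))) (.node (.node (.node (.leaf [5, 10984, 136]) (.leaf [6, 76521, 49914])) (.node (.leaf [6, 45241, 41466, 45240]) (.leaf [8, 5, 6607302, 5, 6, 4, 16616, 34175578, 4, 3, 4, 3, 0, 5, 16792, 929925690, 3, 4, 0, 5, 56792, 924160810, 3]))) (.node (.node (.leaf [6, 28825, 26602]) (.leaf [6, 90874, 92056])) (.node (.leaf [6, 53418, 60120]) (.leaf [])))))) (.node (.node (.node (.node (.node (.leaf [3, 155]) (.leaf [5, 65352, 62664])) (.node (.leaf [8, 1, 16970, 5, 9, 5, 35146, 3, 34113946, 4, 3, 3, 4, 0, 5, 800314, 4, 3]) (.leaf [6, 46826, 97384])))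 (.node (.node (.leaf [8, 8, 82674, 4, 9, 10, 17274, 2, 2056, 3421498, 1, 2, 2424, 33835450, 2, 1, 2, 1]) (.leaf [6, 79017, 51242, 79016])) (.node (.leaf [6, 28762, 47736]) (.leaf [8, 1, 7452672, 3, 3, 20, 56152, 933325162, 1, 2, 3, 56984, 921021562, 1, 2, 3, 56520, 932298794, 1, 2, 3, 56488, 930191306, 1, 2, 3, 3, 2, 1])))) (.node (.node (.node (.leaf [5, 7656, 136]) (.leaf [6, 74409, 72154])) (.node (.leaf [6, 33850, 43448]) (.leaf [8, 5, 2490124, 1, 7, 8, 16648, 920995914, 3, 2, 3, 6152, 922066538, 3, 5, 0, 3, 0, 5, 16600, 925208650, 5, 0, 2]))) (.node (.node (.leaf [3, 1691]) (.leaf [6, 92057, 72186, 92056])) (.node (.leaf [6, 32890, 57192]) (.leaf []))))) (.node (.node (.node (.node (.leaf [5, 3672, 296]) (.leaf [6, 71881, 32186, 71880])) (.node (.leaf [6, 39289, 34138]) (.leaf [3, 6555]))) (.node (.node (.leaf [3, 1435]) (.leaf [6, 60586, 87992])) (.node (.leaf [3, 3483]) (.leaf [])))) (.node (.node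 (.node (.leaf [2]) (.leaf [6, 79017, 77418])) (.node (.leaf [6, 44778, 46584]) (.leaf [3, 7067]))) (.node (.node (.leaf [3, 1947]) (.leaf [6, 93482, 96248])) (.node (.leaf [5, 63064, 14632]) (.leaf []))))))) (.node (.node (.node (.node (.node (.node (.leaf [5, 1464]) (.leaf [5, 64712, 62664])) (.node (.leaf [3, 2139]) (.leaf [6, 97385, 82762]))) (.node (.node (.leaf [8, 1, 758856, 4, 0, 7, 801786, 1, 2, 15464, 801818, 2, 1, 2, 0, 5, 2088, 33834426, 2, 1]) (.leaf [6, 79017, 59306, 79016])) (.node (.leaf [6, 47737, 30090, 47736]) (.leaf [8, 5, 5119780, 3, 3, 14, 921002890, 1, 2, 3, 16632, 3499306, 1, 2, 3, 16552, 932025978, 1, 2, 3, 3, 2, 1, 0, 5, 16712, 924690938, 3, 2, 1])))) (.node (.node (.node (.leaf [5, 6632, 264]) (.leaf [6, 21706, 74408])) (.node (.leaf [6, 38890, 42008]) (.leaf [3, 6747]))) (.node (.node (.leaf [3, 1627]) (.leaf [6, 73626, 87992])) (.node (.leaf [6, 57193, 48794]) (.leaf []))))) (.node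 (.node (.node (.node (.leaf [5, 3208, 136]) (.leaf [5, 68056, 62664])) (.node (.leaf [3, 2395]) (.leaf [8, 5, 38100, 5, 3, 3, 920489354, 3, 4, 3, 4, 0, 5, 16952, 926499450, 3, 0, 5, 1896, 921778682, 3, 4]))) (.node (.node (.leaf [8, 12, 593212, 3, 3, 13, 3428618, 1, 2, 3, 34099194, 1, 2, 3, 200, 34098762, 1, 2, 3, 3, 2, 1, 0, 5, 15336, 34361834, 3, 2, 1]) (.leaf [6, 84458, 87032])) (.node (.leaf [8, 29, 2903124, 3, 3, 4, 3198314, 1, 2, 3, 3, 2, 1, 0, 5, 33606218, 3, 2, 1, 0, 5, 34112202, 3, 2, 1, 0, 5, 31352, 33607210, 3, 2, 1]) (.leaf [])))) (.node (.node (.node (.leaf [8, 1, 922494, 3, 3, 9, 3409610, 1, 2, 3, 2152, 3410346, 1, 2, 3, 3, 2, 1, 0, 5, 800010, 3, 2, 1, 0, 5, 1704, 13546, 3, 2, 1]) (.leaf [6, 57258, 79016])) (.node (.leaf [8, 4, 636554, 5, 0, 7, 3452298, 4, 3, 36984, 3452538, 3, 4, 3, 0, 5, 831274, 3, 4]) (.leaf [8, 5, 5792020, 5, 9, 6, 3247514, 3, 56952, 3509674, 4, 3, 3, 4, 0, 5, 16440, 920493402,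 4, 3]))) (.node (.node (.leaf [6, 27738, 28824]) (.leaf [6, 92057, 73802])) (.node (.leaf [5, 62680, 14344]) (.leaf [])))))) (.node (.node (.node (.node (.node (.leaf [5, 2792, 296]) (.leaf [5, 65992, 14632])) (.node (.leaf [3, 2267]) (.leaf [6, 90986, 97384]))) (.node (.node (.leaf [2]) (.leaf [6, 79017, 73114])) (.node (.leaf [3, 3291]) (.leaf [])))) (.node (.node (.node (.leaf [5, 9096, 296]) (.leaf [6, 76521, 21882])) (.node (.leaf [8, 8, 1251264, 5, 3, 3, 830730, 3, 4, 3, 4, 0, 5, 14344, 3163178, 3, 0, 5, 3165530, 3, 4]) (.leaf [3, 6875]))) (.node (.node (.leaf [3, 1755]) (.leaf [6, 92057, 85546])) (.node (.leaf [6, 60121, 45578]) (.leaf []))))) (.node (.node (.node (.node (.leaf [5, 4536, 472]) (.leaf [6, 71881, 52010])) (.node (.leaf [8, 5, 938800, 5, 3, 3, 37626, 3, 4, 3, 4, 0, 5, 16952, 33590106, 3, 0, 5, 33590394, 3, 4]) (.leaf [8, 2, 1854410, 3, 3, 20, 4072, 933329610, 1, 2, 3, 16792, 920469898,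 1, 2, 3, 16296, 920739706, 1, 2, 3, 16312, 922588474, 1, 2, 3, 3, 2, 1]))) (.node (.node (.leaf [8, 12, 725936, 5, 9, 9, 23898, 3, 33577770, 4, 3, 15336, 810330, 3, 4, 3, 4]) (.leaf [6, 87993, 46954])) (.node (.leaf [5, 56632, 200]) (.leaf [])))) (.node (.node (.node (.leaf [5, 15672, 15736]) (.leaf [6, 79017, 77898])) (.node (.leaf [6, 47737, 25274]) (.leaf [8, 1, 4028334, 3, 3, 19, 929140138, 1, 2, 3, 16664, 3518506, 1, 2, 3, 16616, 926509818, 1, 2, 3, 2072, 927841194, 1, 2, 3, 3, 2, 1]))) (.node (.node (.leaf [8, 1, 742056, 4, 6, 5, 3163050, 1, 2, 18922, 2, 1, 2, 0, 5, 818474, 2, 1]) (.leaf [6, 97385, 46618])) (.node (.leaf [5, 63528, 14632]) (.leaf [])))))))) (.node (.node (.node (.node (.node (.node (.node (.leaf [5, 952, 952]) (.leaf [5, 64392, 62664])) (.node (.leaf [3, 2107]) (.leaf [6, 97385, 81002]))) (.node (.node (.leaf [6, 17241, 15994]) (.leaf [6, 79017, 59146, 79016])) (.node (.leaf [6, 47737,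 29578, 47736]) (.leaf [8, 5, 390302, 5, 3, 3, 919692154, 3, 4, 3, 4, 0, 5, 16664, 925975994, 3, 0, 5, 16792, 930452954, 3, 4])))) (.node (.node (.node (.leaf [5, 6072, 2744]) (.leaf [6, 74409, 21082])) (.node (.leaf [6, 41369, 41194]) (.leaf [3, 6715]))) (.node (.node (.leaf [3, 1595]) (.leaf [6, 87993, 53386])) (.node (.leaf [6, 57193, 22570]) (.leaf []))))) (.node (.node (.node (.node (.leaf [5, 3096, 472]) (.leaf [5, 67368, 62664])) (.node (.leaf [8, 2, 700728, 5, 3, 3, 37002, 3, 4, 3, 4, 0, 5, 2840, 33591434, 3, 0, 5, 34378458, 3, 4]) (.leaf [3, 6459]))) (.node (.node (.leaf [6, 21273, 20426]) (.leaf [6, 79017, 62650])) (.node (.leaf [8, 17, 1927464, 4, 0, 7, 3460154, 1, 2, 1656, 33607434, 2, 1, 2, 0, 5, 17528, 33862714, 2, 1]) (.leaf [])))) (.node (.node (.node (.leaf [3, 827]) (.leaf [6, 31546, 76520])) (.node (.leaf [6, 38106, 45240]) (.leaf [3, 6971]))) (.node (.node (.leaf [6, 28825, 27162]) (.leaf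 [6, 54106, 92056])) (.node (.leaf [6, 55498, 60120]) (.leaf [])))))) (.node (.node (.node (.node (.node (.leaf [5, 664, 2744]) (.leaf [5, 65656, 14344])) (.node (.leaf [3, 2235]) (.leaf [6, 97385, 47498]))) (.node (.node (.leaf [8, 1, 12, 5, 3, 7, 14106, 3, 4, 14152, 803722, 4, 3, 3, 4, 0, 5, 2056, 34098026, 3]) (.leaf [6, 51690, 79016])) (.node (.leaf [6, 47737, 33610]) (.leaf [8, 1, 1859518, 5, 3, 7, 920751786, 3, 4, 17096, 919953130, 4, 3, 3, 4, 0, 5, 56744, 932819690, 3])))) (.node (.node (.node (.leaf [5, 8392, 136]) (.leaf [6, 74922, 76520])) (.node (.leaf [8, 31, 930218, 5, 6, 9, 829466, 4, 3, 14152, 14170, 3, 13914, 4, 3, 4, 3]) (.leaf [8, 5, 1983296, 3, 3, 10, 16648, 927549514, 1, 2, 3, 7096, 922066202, 1, 2, 3, 3, 2, 1, 0, 5, 33653466, 3, 2, 1, 0, 5, 56280, 929375082, 3, 2, 1]))) (.node (.node (.leaf [8, 23, 659064, 4, 3, 6, 19082, 2, 1, 3435274, 1, 2, 2, 1, 0, 5, 3171626, 2]) (.leaf [6, 72698,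 92056])) (.node (.leaf [6, 60121, 39370, 60120]) (.leaf []))))) (.node (.node (.node (.node (.leaf [5, 4040, 472]) (.leaf [6, 71881, 51898])) (.node (.leaf [6, 39769, 36218]) (.leaf [8, 2, 5034342, 5, 6, 6, 4072, 926513866, 4, 3, 105386, 3, 4, 3, 0, 5, 10168, 930192138, 3, 4]))) (.node (.node (.leaf [6, 23209, 20250]) (.leaf [6, 42074, 87992])) (.node (.leaf [5, 56120, 200]) (.leaf [])))) (.node (.node (.node (.leaf [3, 955]) (.leaf [6, 79017, 77674])) (.node (.leaf [6, 24730, 47736]) (.leaf [3, 7099]))) (.node (.node (.leaf [3, 1979]) (.leaf [6, 90650, 96248])) (.node (.leaf [5, 63288, 14632]) (.leaf []))))))) (.node (.node (.node (.node (.node (.node (.leaf [5, 1976]) (.leaf [5, 65032, 14344])) (.node (.leaf [8, 42, 724422, 5, 0, 7, 3441674, 4, 3, 2072, 34375322, 3, 4, 3, 0, 5, 3442570, 3, 4]) (.leaf [6, 84778, 97384]))) (.node (.node (.leaf [5, 18328, 15192]) (.leaf [6, 50714, 79016])) (.node (.leaf [6,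 47737, 30554]) (.leaf [8, 1, 5595640, 3, 3, 10, 56968, 927033802, 1, 2, 3, 56584, 926263834, 1, 2, 3, 3, 2, 1, 0, 5, 56200, 33655274, 3, 2, 1, 0, 5, 67160, 924155450, 3, 2, 1])))) (.node (.node (.node (.leaf [5, 7096, 472]) (.leaf [6, 48682, 74408])) (.node (.leaf [3, 2683]) (.leaf [3, 6779]))) (.node (.node (.leaf [8, 1, 798512, 4, 3, 7, 805002, 2, 1, 15656, 33836538, 1, 2, 2, 1, 0, 5, 2072, 33580826, 2]) (.leaf [6, 92057, 15866])) (.node (.leaf [6, 50330, 57192]) (.leaf []))))) (.node (.node (.node (.node (.leaf [5, 3400, 472]) (.leaf [5, 68984, 62664])) (.node (.leaf [6, 35834, 38520]) (.leaf [8, 5, 316930, 5, 3, 3, 923635082, 3, 4, 3, 4, 0, 5, 16312, 927555210, 3, 0, 5, 16328, 925450058, 3, 4]))) (.node (.node (.leaf [3, 1403]) (.leaf [6, 17738, 87992])) (.node (.leaf [3, 3451]) (.leaf [])))) (.node (.node (.node (.leaf [3, 891]) (.leaf [6, 79017, 75162])) (.node (.leaf [6, 46585, 46010]) (.leaf [3, 7035])))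 (.node (.node (.leaf [6, 28458, 28824]) (.leaf [6, 95721, 94554])) (.node (.leaf [5, 62856, 14344]) (.leaf [])))))) (.node (.node (.node (.node (.node (.leaf [5, 2888, 2744]) (.leaf [5, 66424, 14344])) (.node (.leaf [3, 2299]) (.leaf [6, 100490, 102200]))) (.node (.node (.leaf [8, 30, 66206, 1, 3, 9, 20106, 3, 0, 5, 2056, 17994, 3, 2, 3, 5, 0, 2, 0, 5, 33574570, 3]) (.leaf [6, 79017, 52986])) (.node (.leaf [3, 3323]) (.leaf [])))) (.node (.node (.node (.leaf [5, 9800, 472]) (.leaf [6, 76521, 24058, 76520])) (.node (.leaf [8, 46, 197570, 5, 3, 10, 3451098, 3, 4, 1992, 3159658, 4, 3, 2072, 33599386, 3, 3, 4]) (.leaf [3, 6907]))) (.node (.node (.leaf [3, 1787]) (.leaf [6, 74170, 92056])) (.node (.leaf [6, 60121, 46298]) (.leaf []))))) (.node (.node (.node (.node (.leaf [5, 4968, 2744]) (.leaf [6, 71881, 62266])) (.node (.leaf [8, 17, 2115624, 5, 9, 9, 824250, 3, 3183866, 4, 3, 16312, 33592554, 3, 4, 3, 4]) (.leaf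 [8, 2, 1725776, 3, 3, 5, 4072, 932543178, 1, 2, 3, 3, 2, 1, 0, 5, 7880, 932805530, 3, 2, 1, 0, 5, 16392, 921001850, 3, 2, 1, 0, 5, 16536, 929930778, 3, 2, 1]))) (.node (.node (.leaf [3, 1531]) (.leaf [6, 87993, 61338, 87992])) (.node (.leaf [6, 19994, 57192]) (.leaf [])))) (.node (.node (.node (.leaf [5, 2152, 16232]) (.leaf [6, 79017, 75706])) (.node (.leaf [6, 47737, 25834]) (.leaf [8, 1, 2298388, 4, 3, 10, 920751546, 2, 1, 16984, 923878378, 1, 2, 16920, 928103914, 2, 2, 1]))) (.node (.node (.leaf [3, 2043]) (.leaf [6, 97385, 79242])) (.node (.leaf [5, 63800, 14632]) (.leaf []))))))))))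

/-- their proofs, part 13 -/
def proofTab13 : WTab :=
  (.node (.node (.node (.node (.node (.node (.node (.node (.node (.leaf [5, 56, 200]) (.leaf [5, 63960, 14632])) (.node (.leaf [8, 1, 635040, 4, 3, 7, 3426394, 2, 1, 15624, 33848570, 1, 2, 2, 1, 0, 5, 200, 3176794, 2]) (.leaf [6, 97385, 77082]))) (.node (.node (.leaf [5, 16280, 16232]) (.leaf [6, 79017, 58906, 79016])) (.node (.leaf [6, 26154, 47736]) (.leaf [3, 7180])))) (.node (.node (.node (.leaf [5, 5240, 296]) (.leaf [6, 60554, 73832])) (.node (.leaf [3, 2572]) (.leaf [3, 6668]))) (.node (.node (.leaf [8, 11, 131718, 4, 6, 6, 3160842, 1, 2, 200, 3431834, 2, 1, 2, 0, 5, 15096, 34103450, 2, 1]) (.leaf [6, 87993, 61418, 87992])) (.node (.leaf [6, 23514, 57192]) (.leaf []))))) (.node (.node (.node (.node (.leaf [5, 2952, 264]) (.leaf [5, 66680, 14344])) (.node (.leaf [3, 2316]) (.leaf [6, 100586, 102200]))) (.node (.node (.leaf [3, 1292]) (.leaf [6,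 79017, 53642])) (.node (.leaf [3, 3340]) (.leaf [])))) (.node (.node (.node (.leaf [5, 10696, 472]) (.leaf [6, 76521, 49290])) (.node (.leaf [6, 45241, 34474]) (.leaf [3, 6924]))) (.node (.node (.leaf [6, 26362, 28824]) (.leaf [6, 92057, 74250])) (.node (.leaf [6, 60121, 46474]) (.leaf [])))))) (.node (.node (.node (.node (.node (.leaf [5, 1384, 2248]) (.leaf [5, 65208, 14152])) (.node (.leaf [8, 1, 1655640, 5, 0, 6, 820218, 4, 3, 34058, 3, 4, 3, 0, 5, 34922, 3, 4]) (.leaf [6, 97385, 78842]))) (.node (.node (.leaf [6, 18505, 18202]) (.leaf [6, 79017, 78410])) (.node (.leaf [6, 30698, 47736]) (.leaf [8, 1, 4443676, 4, 6, 7, 56952, 929393114, 1, 2, 56664, 34451562, 2, 1, 2, 0, 5, 56200, 925742458, 2, 1])))) (.node (.node (.node (.leaf [5, 7400, 136]) (.leaf [6, 50426, 74408])) (.node (.leaf [3, 2700]) (.leaf [3, 6796]))) (.node (.node (.leaf [3, 1676]) (.leaf [6, 92057, 71946])) (.node (.leaf [6, 51546, 57192])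 (.leaf []))))) (.node (.node (.node (.node (.leaf [5, 3560, 296]) (.leaf [6, 31770, 71880])) (.node (.leaf [6, 39081, 17706]) (.leaf [8, 5, 851264, 4, 6, 10, 924159370, 1, 2, 56920, 929655578, 2, 16424, 928331098, 1, 2, 1, 2]))) (.node (.node (.leaf [8, 28, 1580544, 4, 3, 7, 21914, 2, 1, 15528, 18666, 1, 2, 2, 1, 0, 5, 33577162, 2]) (.leaf [6, 60346, 87992])) (.node (.leaf [3, 3468]) (.leaf [])))) (.node (.node (.node (.leaf [8, 1, 198246, 4, 0, 6, 3408234, 1, 2, 14426, 2, 1, 2, 0, 5, 2056, 3147466, 2, 1]) (.leaf [6, 79017, 77274])) (.node (.leaf [6, 44522, 46584]) (.leaf [8, 5, 5891842, 5, 9, 6, 921013658, 3, 56456, 925994666, 4, 3, 3, 4, 0, 5, 17096, 926239386, 4, 3]))) (.node (.node (.leaf [8, 12, 2117644, 4, 6, 9, 3431130, 1, 2, 15528, 3165690, 2, 34371754, 1, 2, 1, 2]) (.leaf [6, 96249, 76154])) (.node (.leaf [5, 62968, 14344]) (.leaf []))))))) (.node (.node (.node (.node (.node (.node (.leaf [8, 1,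 0, 5, 9, 9, 26, 3, 6, 7, 4, 3, 1114, 3, 4, 3, 4]) (.leaf [5, 64584, 14152])) (.node (.leaf [8, 1, 330800, 5, 9, 6, 13786, 3, 56, 3421722, 4, 3, 3, 4, 0, 5, 820346, 4, 3]) (.leaf [6, 97385, 82042]))) (.node (.node (.leaf [3, 1100]) (.leaf [6, 78330, 79016])) (.node (.leaf [6, 29850, 47736]) (.leaf [8, 5, 2612596, 5, 3, 10, 924148602, 3, 4, 2008, 921517962, 4, 3, 16840, 928364570, 3, 3, 4])))) (.node (.node (.node (.leaf [5, 6360, 472]) (.leaf [6, 74409, 19082, 74408])) (.node (.leaf [6, 42009, 36154]) (.leaf [8, 5, 7042558, 4, 0, 8, 16376, 923368154, 1, 2, 3976, 933338842, 2, 1, 2, 0, 5, 16376, 932813802, 2, 1]))) (.node (.node (.leaf [3, 1612]) (.leaf [6, 86522, 87992])) (.node (.leaf [6, 22938, 57192]) (.leaf []))))) (.node (.node (.node (.node (.leaf [5, 3160, 136]) (.leaf [5, 67720, 14632])) (.node (.leaf [3, 2380]) (.leaf [8, 5, 316660, 5, 6, 5, 919965066, 4, 3, 103578, 3, 4, 3, 0, 5, 16664, 920749178,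 3, 4]))) (.node (.node (.leaf [3, 1356]) (.leaf [6, 77450, 87032])) (.node (.leaf [8, 17, 4609920, 5, 9, 6, 3460250, 3, 16984, 3200170, 4, 3, 3, 4, 0, 5, 17528, 33607770, 4, 3]) (.leaf [])))) (.node (.node (.node (.leaf [6, 13082, 13512]) (.leaf [6, 79017, 76826])) (.node (.leaf [6, 45241, 42762]) (.leaf [8, 2, 4110852, 5, 6, 7, 7864, 34175562, 4, 3, 2168, 930187834, 3, 4, 3, 0, 5, 6744, 928086538, 3, 4]))) (.node (.node (.leaf [6, 28825, 27450]) (.leaf [6, 92057, 86506])) (.node (.leaf [5, 14152, 62664]) (.leaf [])))))) (.node (.node (.node (.node (.node (.leaf [5, 2744, 296]) (.leaf [5, 65832, 14632])) (.node (.leaf [8, 44, 1852374, 5, 3, 8, 35690, 3, 4, 3148202, 4, 3, 17738, 3, 3, 4]) (.leaf [6, 94794, 97384]))) (.node (.node (.leaf [8, 1, 2379222, 5, 0, 7, 3425130, 4, 3, 14632, 3163018, 3, 4, 3, 0, 5, 2104, 805738, 3, 4]) (.leaf [6, 79017, 72490])) (.node (.leaf [8, 4, 3699678, 4, 0, 6, 3193034, 1, 2,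 52394, 2, 1, 2, 0, 5, 1528, 33863914, 2, 1]) (.leaf [])))) (.node (.node (.node (.leaf [5, 8904, 2744]) (.leaf [6, 76521, 74986])) (.node (.leaf [6, 44057, 40042]) (.leaf [3, 6860]))) (.node (.node (.leaf [8, 1, 412468, 4, 9, 5, 3165466, 2, 19786, 1, 2, 2, 1, 0, 5, 200, 3435514, 1, 2]) (.leaf [6, 92057, 85402])) (.node (.leaf [6, 45306, 60120]) (.leaf []))))) (.node (.node (.node (.node (.leaf [5, 4296, 2744]) (.leaf [6, 71881, 33066])) (.node (.leaf [8, 47, 865872, 4, 6, 5, 823818, 1, 2, 40122, 2, 1, 2, 0, 5, 40138, 2, 1]) (.leaf [3, 6604]))) (.node (.node (.leaf [6, 22506, 23208]) (.leaf [6, 87993, 42202])) (.node (.leaf [5, 56392, 200]) (.leaf [])))) (.node (.node (.node (.leaf [8, 1, 1382982, 5, 6, 8, 1354, 4, 3, 799466, 3, 15562, 4, 3, 4, 3]) (.leaf [6, 79017, 75498])) (.node (.leaf [6, 25002, 47736]) (.leaf [3, 7116]))) (.node (.node (.leaf [8, 4, 1325354, 4, 6, 6, 3159786, 1, 2, 744, 33842282, 2, 1,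 2, 0, 5, 1400, 33586250, 2, 1]) (.leaf [6, 97385, 13610])) (.node (.leaf [5, 63400, 14632]) (.leaf [])))))))) (.node (.node (.node (.node (.node (.node (.node (.leaf [5, 312, 648]) (.leaf [5, 64248, 14344])) (.node (.leaf [8, 23, 988010, 4, 3, 6, 805402, 2, 1, 3167754, 1, 2, 2, 1, 0, 5, 33178, 2]) (.leaf [6, 80602, 97384]))) (.node (.node (.leaf [5, 16760, 16232]) (.leaf [6, 79017, 49450])) (.node (.leaf [6, 47737, 29338]) (.leaf [3, 7212])))) (.node (.node (.node (.leaf [5, 5880, 2744]) (.leaf [6, 74409, 17834])) (.node (.leaf [6, 38714, 41368]) (.leaf [8, 5, 5789564, 4, 6, 7, 16376, 924154586, 1, 2, 5560, 920746538, 2, 1, 2, 0, 5, 16376, 933075882, 2, 1]))) (.node (.node (.leaf [8, 12, 462508, 4, 0, 7, 3428842, 1, 2, 2056, 810810, 2, 1, 2, 0, 5, 3170362, 2, 1]) (.leaf [6, 87993, 61674])) (.node (.leaf [6, 22058, 57192]) (.leaf []))))) (.node (.node (.node (.node (.leaf [5, 3048, 472]) (.leaf [5, 67096,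 14632])) (.node (.leaf [8, 47, 1721498, 1, 7, 7, 36858, 3, 2, 3, 504, 3182730, 3, 5, 0, 3, 0, 5, 823498, 5, 0, 2]) (.leaf [3, 6444]))) (.node (.node (.leaf [6, 20921, 19002]) (.leaf [6, 79017, 62330])) (.node (.leaf [8, 4, 4555806, 5, 6, 9, 838618, 4, 3, 52218, 3, 1416, 3199354, 4, 3, 4, 3]) (.leaf [])))) (.node (.node (.node (.leaf [6, 2522, 13000]) (.leaf [6, 76521, 51482])) (.node (.leaf [6, 45241, 41818]) (.leaf [3, 6956]))) (.node (.node (.leaf [6, 28825, 26906]) (.leaf [6, 53226, 92056])) (.node (.leaf [6, 60121, 54986, 60120]) (.leaf [])))))) (.node (.node (.node (.node (.node (.leaf [5, 264, 2744]) (.leaf [5, 65528, 14344])) (.node (.leaf [3, 2220]) (.leaf [6, 47210, 97384]))) (.node (.node (.leaf [3, 1196]) (.leaf [6, 79017, 59578, 79016])) (.node (.leaf [6, 47737, 33098]) (.leaf [3, 7340])))) (.node (.node (.node (.leaf [5, 8040, 472]) (.leaf [6, 62618, 74408])) (.node (.leaf [3, 2732]) (.leaf [3,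 6828]))) (.node (.node (.leaf [8, 12, 790442, 1, 7, 6, 21226, 3, 2, 3, 34105674, 3, 5, 0, 3, 0, 5, 15336, 34100410, 5, 0, 2]) (.leaf [6, 92057, 76314])) (.node (.leaf [5, 57161]) (.leaf []))))) (.node (.node (.node (.node (.leaf [5, 3816, 2744]) (.leaf [6, 32506, 71880])) (.node (.leaf [3, 2476]) (.leaf [8, 2, 5337952, 5, 0, 4, 4072, 931494602, 4, 3, 3, 0, 5, 12536, 928873162, 3, 4, 0, 5, 16280, 924940170, 4, 3]))) (.node (.node (.leaf [6, 23209, 19146]) (.leaf [6, 60858, 87992])) (.node (.leaf [8, 4, 1581056, 1, 7, 4, 52858, 3, 2, 3, 5, 0, 3, 0, 5, 1384, 53162, 5, 0, 2, 0, 5, 17528, 34117834, 3]) (.leaf [])))) (.node (.node (.node (.leaf [7, 1, 1061946, 2, 2056, 3422922, 34355914]) (.leaf [6, 79017, 77562])) (.node (.leaf [6, 24458, 47736]) (.leaf [8, 1, 4027418, 5, 3, 7, 3509674, 3, 4, 16440, 920231258, 4, 3, 3, 4, 0, 5, 56792, 922587818, 3]))) (.node (.node (.leaf [8, 1, 609508, 4, 9, 5, 3167130, 2, 3431434,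 1, 2, 2, 1, 0, 5, 2104, 33585658, 1, 2]) (.leaf [6, 88938, 96248])) (.node (.leaf [5, 63192, 14344]) (.leaf []))))))) (.node (.node (.node (.node (.node (.node (.leaf [3, 108]) (.leaf [5, 64904, 14344])) (.node (.leaf [8, 1, 198084, 5, 3, 7, 3159514, 3, 4, 2072, 33588746, 4, 3, 3, 4, 0, 5, 820890, 3]) (.leaf [6, 97385, 84074]))) (.node (.node (.leaf [3, 1132]) (.leaf [6, 50474, 79016])) (.node (.leaf [6, 47737, 30378]) (.leaf [3, 7276])))) (.node (.node (.node (.leaf [5, 6920, 136]) (.leaf [6, 47866, 74408])) (.node (.leaf [6, 41146, 42008]) (.leaf [8, 5, 2459000, 3, 3, 20, 16376, 924678874, 1, 2, 3, 12568, 921542074, 1, 2, 3, 16792, 931747322, 1, 2, 3, 63592, 921012858, 1, 2, 3, 3, 2, 1]))) (.node (.node (.leaf [3, 1644]) (.leaf [6, 87610, 87992])) (.node (.leaf [6, 57193, 49642]) (.leaf []))))) (.node (.node (.node (.node (.leaf [5, 3256, 472]) (.leaf [5, 68600, 62664])) (.node (.leaf [6, 38521, 34938])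 (.leaf [3, 6508]))) (.node (.node (.leaf [8, 23, 460994, 4, 3, 3, 21722, 2, 1, 2, 1, 0, 5, 34358762, 2, 0, 5, 2056, 34358778, 2, 1]) (.leaf [6, 31722, 87624])) (.node (.leaf [3, 3436]) (.leaf [])))) (.node (.node (.node (.leaf [3, 876]) (.leaf [6, 79017, 76954])) (.node (.leaf [6, 46585, 35386]) (.leaf [8, 5, 7014856, 5, 3, 7, 919702938, 3, 4, 56648, 924427738, 4, 3, 3, 4, 0, 5, 16968, 921788042, 3]))) (.node (.node (.leaf [6, 28825, 28010]) (.leaf [6, 88954, 95720])) (.node (.leaf [5, 62776, 14152]) (.leaf [])))))) (.node (.node (.node (.node (.node (.leaf [5, 2840, 2744]) (.leaf [5, 66232, 14152])) (.node (.leaf [8, 44, 1341990, 5, 9, 9, 3443946, 3, 3425626, 4, 3, 2072, 34358522, 3, 4, 3, 4]) (.leaf [6, 86314, 97384]))) (.node (.node (.leaf [3, 1260]) (.leaf [6, 73418, 79016])) (.node (.leaf [8, 29, 8578, 5, 6, 7, 19640, 34128314, 4, 3, 1688, 52714, 3, 4, 3, 0, 5, 3165514, 3, 4]) (.leaf [])))) (.node (.node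 (.node (.leaf [5, 9432, 2744]) (.leaf [6, 76521, 58330])) (.node (.leaf [3, 2796]) (.leaf [3, 6892]))) (.node (.node (.leaf [8, 33, 593384, 5, 0, 7, 3432490, 4, 3, 2376, 27978, 3, 4, 3, 0, 5, 33579290, 3, 4]) (.leaf [6, 73482, 92056])) (.node (.leaf [6, 45818, 60120]) (.leaf []))))) (.node (.node (.node (.node (.leaf [5, 4776, 296]) (.leaf [6, 71881, 52154])) (.node (.leaf [6, 40537, 36490]) (.leaf [3, 6636]))) (.node (.node (.leaf [8, 1, 1523278, 5, 6, 10, 801354, 4, 3, 15032, 801386, 3, 2072, 33840778, 4, 3, 4, 3]) (.leaf [6, 87993, 42458])) (.node (.leaf [7, 1, 6769814, 2, 56936, 3421978, 933513466]) (.leaf [])))) (.node (.node (.node (.leaf [8, 4, 600936, 4, 9, 6, 13610, 2, 56, 33832522, 1, 2, 2, 1, 0, 5, 2392, 800474, 1, 2]) (.leaf [6, 79017, 48426])) (.node (.leaf [6, 47737, 25546]) (.leaf [8, 1, 4117802, 4, 6, 10, 919440826, 1, 2, 16248, 928364410, 2, 56552, 927839274, 1, 2, 1, 2]))) (.node (.node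 (.leaf [3, 2028]) (.leaf [6, 97385, 76666])) (.node (.leaf [5, 63688, 14152]) (.leaf []))))))))) (.node (.node (.node (.node (.node (.node (.node (.node (.leaf [5, 456]) (.leaf [5, 64088, 14632])) (.node (.leaf [3, 2076]) (.leaf [6, 97385, 80154]))) (.node (.node (.leaf [5, 16376, 1992]) (.leaf [6, 79017, 59034, 79016])) (.node (.leaf [6, 47737, 29082]) (.leaf [3, 7196])))) (.node (.node (.node (.leaf [5, 5560, 296]) (.leaf [6, 43210, 73832])) (.node (.leaf [6, 41369, 34746]) (.leaf [3, 6684]))) (.node (.node (.leaf [8, 1, 3762192, 4, 3, 7, 200, 3423098, 2, 1, 33838266, 1, 2, 2, 1, 0, 5, 200, 811386, 2]) (.leaf [6, 47178, 87992])) (.node (.leaf [6, 21642, 57192]) (.leaf []))))) (.node (.node (.node (.node (.leaf [5, 3000, 296]) (.leaf [5, 66888, 14344])) (.node (.leaf [3, 2332]) (.leaf [8, 5, 4993480, 5, 3, 10, 3247498, 3, 4, 2056, 927295818, 4, 3, 56568, 924155674, 3, 3, 4]))) (.node (.node (.leaf [6, 20921,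 15370]) (.leaf [6, 79017, 54506])) (.node (.leaf [3, 3356]) (.leaf [])))) (.node (.node (.node (.leaf [5, 11016, 472]) (.leaf [6, 76521, 49930])) (.node (.leaf [6, 43674, 45240]) (.leaf [3, 6940]))) (.node (.node (.leaf [6, 26618, 28824]) (.leaf [6, 92057, 90890])) (.node (.leaf [6, 60121, 53434]) (.leaf [])))))) (.node (.node (.node (.node (.node (.leaf [2]) (.leaf [5, 65368, 14344])) (.node (.leaf [3, 2204]) (.leaf [6, 97385, 46842]))) (.node (.node (.leaf [3, 1180]) (.leaf [6, 79017, 51258, 79016])) (.node (.leaf [6, 47737, 28778]) (.leaf [3, 7324])))) (.node (.node (.node (.leaf [5, 7656, 472]) (.leaf [6, 72170, 74408])) (.node (.leaf [6, 43449, 33866]) (.leaf [3, 6812]))) (.node (.node (.leaf [8, 12, 659238, 4, 9, 5, 3166794, 2, 3170906, 1, 2, 2, 1, 0, 5, 15336, 3172650, 1, 2]) (.leaf [6, 92057, 72202, 92056])) (.node (.leaf [6, 57193, 32906]) (.leaf []))))) (.node (.node (.node (.node (.leaf [5, 3672,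 472]) (.leaf [6, 32202, 71880])) (.node (.leaf [6, 34154, 39288]) (.leaf [8, 2, 3173364, 4, 3, 10, 4072, 928611018, 2, 1, 925977242, 1, 2, 16584, 919423450, 2, 2, 1]))) (.node (.node (.leaf [8, 29, 864368, 4, 3, 6, 22138, 2, 1, 33839258, 1, 2, 2, 1, 0, 5, 19656, 808570, 2]) (.leaf [6, 87993, 60602])) (.node (.leaf [8, 42, 1194648, 5, 3, 7, 839242, 3, 4, 19496, 3457274, 4, 3, 3, 4, 0, 5, 842090, 3]) (.leaf [])))) (.node (.node (.node (.leaf [3, 924]) (.leaf [6, 79017, 75306])) (.node (.leaf [6, 46585, 44794]) (.leaf [8, 5, 1676772, 4, 0, 3, 923897242, 1, 2, 2, 0, 5, 16984, 927554618, 2, 1, 0, 5, 16616, 34439674, 1, 2]))) (.node (.node (.leaf [8, 11, 462508, 4, 3, 6, 33579162, 2, 1, 3171418, 1, 2, 2, 1, 0, 5, 18360, 3176906, 2]) (.leaf [6, 96249, 93498])) (.node (.leaf [5, 63064, 62664]) (.leaf []))))))) (.node (.node (.node (.node (.node (.node (.leaf [5, 1384, 1480]) (.leaf [5, 64728, 62664])) (.node (.leaf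 [2]) (.leaf [6, 97385, 82778]))) (.node (.node (.leaf [3, 1116]) (.leaf [6, 50218, 79016])) (.node (.leaf [6, 47737, 30122]) (.leaf [3, 7260])))) (.node (.node (.node (.leaf [5, 6632, 472]) (.leaf [6, 74409, 21722])) (.node (.leaf [6, 42009, 38906]) (.leaf [8, 5, 6282316, 4, 6, 7, 16376, 928086746, 1, 2, 3976, 106586, 2, 1, 2, 0, 5, 2008, 930178266, 2, 1]))) (.node (.node (.leaf [8, 1, 296692, 3, 3, 4, 809658, 1, 2, 3, 3, 2, 1, 0, 5, 2056, 21338, 3, 2, 1, 0, 5, 804314, 3, 2, 1, 0, 5, 2088, 26026, 3, 2, 1]) (.leaf [6, 87993, 73642])) (.node (.leaf [6, 48810, 57192]) (.leaf []))))) (.node (.node (.node (.node (.leaf [5, 3208, 264]) (.leaf [5, 68088, 14152])) (.node (.leaf [8, 50, 8234, 5, 0, 7, 37098, 4, 3, 1896, 13834, 3, 4, 3, 0, 5, 38346, 3, 4]) (.leaf [3, 6492]))) (.node (.node (.leaf [3, 1372]) (.leaf [6, 87033, 84474])) (.node (.leaf [8, 29, 3183012, 5, 0, 7, 52618, 4, 3, 792, 839722, 3, 4, 3, 0, 5, 52906,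 3, 4]) (.leaf [])))) (.node (.node (.node (.leaf [3, 860]) (.leaf [6, 79017, 57274])) (.node (.leaf [3, 2908]) (.leaf [3, 7004]))) (.node (.node (.leaf [6, 28825, 27754]) (.leaf [6, 73818, 92056])) (.node (.leaf [5, 62680, 14632]) (.leaf [])))))) (.node (.node (.node (.node (.node (.leaf [5, 2792, 472]) (.leaf [5, 65992, 62664])) (.node (.leaf [8, 9, 395490, 5, 0, 3, 822442, 4, 3, 3, 0, 5, 3181114, 3, 4, 0, 5, 2184, 3159482, 4, 3]) (.leaf [6, 97385, 94890]))) (.node (.node (.leaf [3, 1244]) (.leaf [6, 73130, 79016])) (.node (.leaf [8, 4, 2247842, 5, 6, 10, 1704, 34390442, 4, 3, 19480, 34390458, 3, 34389706, 4, 3, 4, 3]) (.leaf [])))) (.node (.node (.node (.leaf [5, 9128, 136]) (.leaf [6, 21930, 76520])) (.node (.leaf [3, 2780]) (.leaf [8, 2, 5157920, 5, 0, 8, 6648, 925976666, 4, 3, 16792, 919694698, 3, 4, 3, 0, 5, 4536, 931219498, 3, 4]))) (.node (.node (.leaf [8, 33, 1318640, 5, 0, 7, 810842, 4, 3, 1528,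 33582362, 3, 4, 3, 0, 5, 3170570, 3, 4]) (.leaf [6, 85562, 92056])) (.node (.leaf [6, 60121, 45594]) (.leaf []))))) (.node (.node (.node (.node (.leaf [5, 4552, 296]) (.leaf [6, 52026, 71880])) (.node (.leaf [3, 2524]) (.leaf [3, 6620]))) (.node (.node (.leaf [3, 1500]) (.leaf [6, 87993, 36826])) (.node (.leaf [5, 56648, 2056]) (.leaf [])))) (.node (.node (.node (.leaf [2]) (.leaf [6, 48170, 79016])) (.node (.leaf [6, 25290, 47736]) (.leaf [8, 1, 3422254, 3, 3, 4, 932285866, 1, 2, 3, 3, 2, 1, 0, 5, 56104, 932809898, 3, 2, 1, 0, 5, 932538442, 3, 2, 1, 0, 5, 56872, 921286666, 3, 2, 1]))) (.node (.node (.leaf [3, 2012]) (.leaf [6, 97385, 46634])) (.node (.leaf [5, 63544, 14632]) (.leaf [])))))))) (.node (.node (.node (.node (.node (.node (.node (.leaf [5, 968, 952]) (.leaf [5, 64408, 14632])) (.node (.leaf [8, 30, 132390, 4, 0, 7, 3166506, 1, 2, 14392, 34371786, 2, 1, 2, 0, 5, 33402, 2, 1]) (.leaf [6, 81018,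 97384]))) (.node (.node (.leaf [6, 16010, 17240]) (.leaf [6, 79017, 59162, 79016])) (.node (.leaf [6, 47737, 29594, 47736]) (.leaf [3, 7228])))) (.node (.node (.node (.leaf [5, 6120, 2744]) (.leaf [6, 74409, 21098])) (.node (.leaf [6, 41210, 41368]) (.leaf [8, 5, 6282326, 4, 6, 7, 16376, 883418, 1, 2, 12216, 924678666, 2, 1, 2, 0, 5, 16728, 920744842, 2, 1]))) (.node (.node (.leaf [8, 4, 414628, 4, 9, 10, 3425274, 2, 14360, 34096154, 1, 2, 200, 34365866, 2, 1, 2, 1]) (.leaf [6, 61898, 87992])) (.node (.leaf [6, 22586, 57192]) (.leaf []))))) (.node (.node (.node (.node (.leaf [5, 3096, 2744]) (.leaf [5, 67400, 14152])) (.node (.leaf [3, 2364]) (.leaf [8, 5, 849262, 5, 0, 3, 919702922, 4, 3, 3, 0, 5, 2168, 925451850, 3, 4, 0, 5, 2232, 922062970, 4, 3]))) (.node (.node (.leaf [6, 20442, 21272]) (.leaf [6, 79017, 55994])) (.node (.leaf [8, 17, 1927464, 4, 6, 9, 3460154, 1, 2, 1656, 33607434, 2, 840394, 1, 2,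 1, 2]) (.leaf [])))) (.node (.node (.node (.leaf [8, 1, 263778, 4, 3, 3, 906, 2, 1, 2, 1, 0, 5, 200, 13130, 2, 0, 5, 799530, 2, 1]) (.leaf [6, 76521, 31562])) (.node (.leaf [6, 44234, 45240]) (.leaf [8, 2, 2263098, 4, 9, 7, 7864, 928086602, 2, 16984, 933343258, 1, 2, 2, 1, 0, 5, 8776, 921270746, 1, 2]))) (.node (.node (.leaf [6, 27178, 28824]) (.leaf [6, 92057, 54122])) (.node (.leaf [6, 60121, 55514]) (.leaf [])))))) (.node (.node (.node (.node (.node (.leaf [5, 680, 2744]) (.leaf [5, 65656, 14632])) (.node (.leaf [8, 42, 988196, 5, 3, 7, 35466, 3, 4, 2232, 35514, 4, 3, 3, 4, 0, 5, 822170, 3]) (.leaf [6, 47514, 97384]))) (.node (.node (.leaf [3, 1212]) (.leaf [6, 79017, 51706])) (.node (.leaf [8, 5, 732652, 1, 3, 4, 47290, 3, 0, 5, 5, 0, 2, 0, 5, 34386858, 3, 0, 5, 34386922, 3, 2, 3]) (.leaf [8, 2, 3127564, 3, 3, 14, 929386666, 1, 2, 3, 16664, 930203162, 1, 2, 3, 56344, 3524010, 1, 2, 3, 3, 2, 1, 0, 5, 7752,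 923892490, 3, 2, 1])))) (.node (.node (.node (.leaf [5, 8440, 2744]) (.leaf [6, 76521, 23258])) (.node (.leaf [3, 2748]) (.leaf [3, 6844]))) (.node (.node (.leaf [3, 1724]) (.leaf [6, 85322, 92056])) (.node (.leaf [6, 60121, 39386, 60120]) (.leaf []))))) (.node (.node (.node (.node (.leaf [5, 4056, 296]) (.leaf [6, 51914, 71880])) (.node (.leaf [6, 36234, 39768]) (.leaf [3, 6588]))) (.node (.node (.leaf [6, 23209, 20266]) (.leaf [6, 87993, 61050])) (.node (.leaf [5, 56120, 2056]) (.leaf [])))) (.node (.node (.node (.leaf [7, 1, 4412526, 2, 200, 33831802, 34356170]) (.leaf [6, 79017, 77722])) (.node (.leaf [6, 47737, 24746]) (.leaf [8, 1, 6096342, 5, 9, 10, 920227242, 3, 17128, 33657834, 4, 3, 56920, 919151514, 3, 4, 3, 4]))) (.node (.node (.leaf [8, 12, 1910500, 3, 3, 13, 809690, 1, 2, 3, 15768, 33579306, 1, 2, 3, 3170810, 1, 2, 3, 3, 2, 1, 0, 5, 817882, 3, 2, 1]) (.leaf [6, 96249, 90666])) (.node (.leaf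 [5, 63288, 62664]) (.leaf []))))))) (.node (.node (.node (.node (.node (.node (.leaf [5, 1880, 1992]) (.leaf [5, 65032, 14632])) (.node (.leaf [3, 2172]) (.leaf [6, 97385, 84794]))) (.node (.node (.leaf [5, 18344, 15096]) (.leaf [6, 79017, 50730])) (.node (.leaf [6, 30570, 47736]) (.leaf [3, 7292])))) (.node (.node (.node (.leaf [5, 7128, 2744]) (.leaf [6, 74409, 48698])) (.node (.leaf [8, 46, 74096, 4, 0, 11, 39016, 820730, 1, 2, 2088, 33858650, 2, 1, 33595450, 1, 2, 2]) (.leaf [8, 5, 5918508, 5, 3, 4, 16648, 923093066, 3, 4, 3, 4, 0, 5, 16616, 926774938, 3, 0, 5, 16728, 933339514, 3, 4]))) (.node (.node (.leaf [3, 1660]) (.leaf [6, 15882, 92056])) (.node (.leaf [6, 57193, 50346]) (.leaf []))))) (.node (.node (.node (.node (.leaf [5, 3416, 264]) (.leaf [5, 69000, 14344])) (.node (.leaf [6, 38521, 35850]) (.leaf [8, 5, 316930, 5, 9, 6, 923635082, 3, 56776, 930704330, 4, 3, 3, 4, 0, 5, 16312, 927555210, 4,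 3]))) (.node (.node (.leaf [8, 23, 66532, 4, 6, 9, 21802, 1, 2, 200, 33836618, 2, 3428058, 1, 2, 1, 2]) (.leaf [6, 87993, 17754])) (.node (.leaf [8, 29, 4288886, 4, 9, 5, 3460522, 2, 34395866, 1, 2, 2, 1, 0, 5, 19480, 33865946, 1, 2]) (.leaf [])))) (.node (.node (.node (.leaf [8, 2, 198246, 3, 3, 14, 3408250, 1, 2, 3, 200, 3159498, 1, 2, 3, 200, 3422122, 1, 2, 3, 3, 2, 1, 0, 5, 536, 3408282, 3, 2, 1]) (.leaf [6, 77178, 79016])) (.node (.leaf [6, 46585, 46042]) (.leaf [8, 5, 5765834, 3, 3, 14, 920489370, 1, 2, 3, 56952, 921805066, 1, 2, 3, 16456, 919176122, 1, 2, 3, 3, 2, 1, 0, 5, 17096, 931234778, 3, 2, 1]))) (.node (.node (.leaf [6, 28825, 28506]) (.leaf [6, 94602, 95720])) (.node (.leaf [5, 62856, 14632]) (.leaf [])))))) (.node (.node (.node (.node (.node (.leaf [5, 2904, 136]) (.leaf [5, 66424, 62664])) (.node (.leaf [8, 47, 601110, 4, 0, 6, 36250, 1, 2, 822442, 2, 1, 2, 0, 5, 36810, 2, 1]) (.leaf [6,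 102201, 100506]))) (.node (.node (.leaf [3, 1276]) (.leaf [6, 53002, 79016])) (.node (.leaf [8, 5, 1582902, 5, 9, 5, 833754, 3, 53114, 4, 3, 3, 4, 0, 5, 16264, 47322, 4, 3]) (.leaf [])))) (.node (.node (.node (.leaf [5, 9864, 2744]) (.leaf [6, 47818, 76520])) (.node (.leaf [3, 2812]) (.leaf [8, 5, 236000, 4, 6, 7, 16616, 921270874, 1, 2, 9848, 928858410, 2, 1, 2, 0, 5, 16328, 924690714, 2, 1]))) (.node (.node (.leaf [8, 33, 1008, 5, 6, 9, 811466, 4, 3, 22920, 33843594, 3, 813242, 4, 3, 4, 3]) (.leaf [6, 92057, 74186])) (.node (.leaf [6, 46314, 60120]) (.leaf []))))) (.node (.node (.node (.node (.leaf [5, 5000, 296]) (.leaf [6, 55146, 71880])) (.node (.leaf [8, 5, 1407678, 5, 3, 3, 3183610, 3, 4, 3, 4, 0, 5, 16920, 3181402, 3, 0, 5, 3443834, 3, 4]) (.leaf [3, 6652]))) (.node (.node (.leaf [8, 4, 938806, 4, 0, 3, 3421514, 1, 2, 2, 0, 5, 2280, 800122, 2, 1, 0, 5, 2056, 3432250, 1, 2]) (.leaf [6, 87993, 61354,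 87992])) (.node (.leaf [6, 20010, 57192]) (.leaf [])))) (.node (.node (.node (.leaf [5, 2168, 16232]) (.leaf [6, 79017, 75722])) (.node (.leaf [6, 25850, 47736]) (.leaf [3, 7164]))) (.node (.node (.leaf [8, 23, 724772, 4, 3, 7, 34358762, 2, 1, 200, 3429658, 1, 2, 2, 1, 0, 5, 33587146, 2]) (.leaf [6, 97385, 87114])) (.node (.leaf [5, 63816, 14632]) (.leaf []))))))))))

/-- their proofs, part 14 -/
def proofTab14 : WTab :=
  (.node (.node (.node (.node (.node (.node (.node (.node (.node (.leaf [7, 1, 395136, 2, 216, 90, 786602]) (.leaf [5, 63976, 14152])) (.node (.leaf [3, 2061]) (.leaf [6, 77098, 97384]))) (.node (.node (.leaf [5, 16296, 1992]) (.leaf [6, 79017, 58922, 79016])) (.node (.leaf [6, 28842, 47736]) (.leaf [8, 1, 2300156, 3, 3, 19, 924945850, 1, 2, 3, 17144, 923121482, 1, 2, 3, 56648, 922331738, 1, 2, 3, 56296, 932295882, 1, 2, 3, 3, 2, 1])))) (.node (.node (.node (.leaf [5, 5240, 472]) (.leaf [6,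 73833, 60570])) (.node (.leaf [8, 50, 1786346, 4, 9, 5, 3446282, 2, 38682, 1, 2, 2, 1, 0, 5, 3448954, 1, 2]) (.leaf [8, 2, 3663354, 3, 3, 15, 4072, 925989578, 1, 2, 3, 16312, 928605738, 1, 2, 3, 16360, 924673530, 1, 2, 3, 3, 2, 1, 0, 5, 11880, 929392378, 3, 2, 1]))) (.node (.node (.leaf [3, 1549]) (.leaf [6, 87993, 61434, 87992])) (.node (.leaf [6, 57193, 23530]) (.leaf []))))) (.node (.node (.node (.node (.leaf [5, 2952, 296]) (.leaf [5, 66680, 14632])) (.node (.leaf [8, 8, 733326, 5, 3, 3, 3182330, 3, 4, 3, 4, 0, 5, 3422618, 3, 0, 5, 2024, 3421706, 3, 4]) (.leaf [6, 102201, 100602]))) (.node (.node (.leaf [8, 26, 352, 4, 0, 3, 806842, 1, 2, 2, 0, 5, 804458, 2, 1, 0, 5, 200, 3425178, 1, 2]) (.leaf [6, 74362, 79016])) (.node (.leaf [8, 29, 1911184, 5, 9, 5, 3195274, 3, 3456762, 4, 3, 3, 4, 0, 5, 19496, 49546, 4, 3]) (.leaf [])))) (.node (.node (.node (.leaf [5, 10728, 136]) (.leaf [6, 49306, 76520])) (.node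 (.leaf [6, 45241, 34490]) (.leaf [8, 5, 4529978, 4, 0, 8, 16616, 928086618, 1, 2, 4824, 106682, 2, 1, 2, 0, 5, 16744, 921799370, 2, 1]))) (.node (.node (.leaf [6, 28825, 26378]) (.leaf [6, 90682, 92056])) (.node (.leaf [6, 60121, 45098]) (.leaf [])))))) (.node (.node (.node (.node (.node (.leaf [5, 1416, 2248]) (.leaf [5, 65208, 14344])) (.node (.leaf [8, 1, 1451688, 5, 0, 6, 3441658, 4, 3, 34113146, 3, 4, 3, 0, 5, 3442794, 3, 4]) (.leaf [6, 97385, 31738]))) (.node (.node (.leaf [6, 18505, 18234]) (.leaf [6, 79017, 51018])) (.node (.leaf [6, 28538, 47736]) (.leaf [3, 7309])))) (.node (.node (.node (.leaf [5, 7400, 264]) (.leaf [6, 74409, 50442])) (.node (.leaf [8, 22, 724774, 1, 7, 6, 40362, 3, 2, 3, 34384074, 3, 5, 0, 3, 0, 5, 40458, 5, 0, 2]) (.leaf [8, 5, 6724846, 5, 0, 8, 16648, 924928074, 4, 3, 11976, 926263258, 3, 4, 3, 0, 5, 16488, 927557114, 3, 4]))) (.node (.node (.leaf [8, 12, 1384494, 3, 3, 17,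 3166762, 1, 2, 3, 34366122, 1, 2, 3, 3432618, 1, 2, 3, 18296, 33843322, 1, 2, 3, 3, 2, 1]) (.leaf [6, 92057, 71962])) (.node (.leaf [6, 51626, 57192]) (.leaf []))))) (.node (.node (.node (.node (.leaf [5, 3560, 472]) (.leaf [6, 71881, 31786])) (.node (.leaf [6, 17722, 39080]) (.leaf [3, 6541]))) (.node (.node (.leaf [3, 1421]) (.leaf [6, 87993, 60362, 87992])) (.node (.leaf [8, 37, 988356, 3, 3, 4, 52778, 1, 2, 3, 3, 2, 1, 0, 5, 31352, 31402, 3, 2, 1, 0, 5, 14376, 34099514, 3, 2, 1, 0, 5, 806378, 3, 2, 1]) (.leaf [])))) (.node (.node (.node (.leaf [3, 909]) (.leaf [6, 77290, 79016])) (.node (.leaf [6, 46585, 44538]) (.leaf [3, 7053]))) (.node (.node (.leaf [3, 1933]) (.leaf [6, 96249, 84938])) (.node (.leaf [5, 62968, 14632]) (.leaf []))))))) (.node (.node (.node (.node (.node (.node (.leaf [3, 77]) (.leaf [5, 64584, 14344])) (.node (.leaf [3, 2125]) (.leaf [6, 82058, 97384]))) (.node (.node (.leaf [8, 1,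 1383484, 5, 9, 9, 2458, 3, 1992, 2506, 4, 3, 17610, 3, 4, 3, 4]) (.leaf [6, 79017, 78346])) (.node (.leaf [6, 29866, 47736]) (.leaf [3, 7245])))) (.node (.node (.node (.leaf [5, 6360, 2744]) (.leaf [6, 23546, 74408])) (.node (.leaf [6, 36170, 42008]) (.leaf [3, 6733]))) (.node (.node (.leaf [8, 12, 1318128, 1, 7, 6, 21066, 3, 2, 3, 3170906, 3, 5, 0, 3, 0, 5, 3430810, 5, 0, 2]) (.leaf [6, 87993, 86538])) (.node (.leaf [6, 57193, 22954]) (.leaf []))))) (.node (.node (.node (.node (.leaf [5, 3160, 264]) (.leaf [5, 67720, 62664])) (.node (.leaf [8, 47, 1186920, 4, 0, 10, 3182746, 1, 2, 264, 3444746, 2, 1, 37898, 1, 2, 2]) (.leaf [3, 6477]))) (.node (.node (.leaf [8, 23, 724932, 3, 3, 12, 3429450, 1, 2, 3, 806906, 1, 2, 3, 34098634, 1, 2, 3, 3, 2, 1, 0, 5, 34358698, 3, 2, 1]) (.leaf [6, 87033, 81370])) (.node (.leaf [8, 17, 3367062, 3, 3, 18, 52442, 1, 2, 3, 16376, 33601754, 1, 2, 3, 3197914, 1, 2, 3, 17528, 34132778,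 1, 2, 3, 3, 2, 1]) (.leaf [])))) (.node (.node (.node (.leaf [6, 13513, 13098]) (.leaf [6, 76842, 79016])) (.node (.leaf [6, 42778, 45240]) (.leaf [3, 6989]))) (.node (.node (.leaf [6, 27498, 28824]) (.leaf [6, 92057, 54746])) (.node (.leaf [5, 14344, 62664]) (.leaf [])))))) (.node (.node (.node (.node (.node (.leaf [5, 2744, 472]) (.leaf [5, 65848, 14152])) (.node (.leaf [3, 2253]) (.leaf [6, 97385, 94810]))) (.node (.node (.leaf [3, 1229]) (.leaf [6, 79017, 72506])) (.node (.leaf [8, 4, 2639506, 3, 3, 8, 33863818, 1, 2, 3, 3188698, 1, 2, 3, 3, 2, 1, 0, 5, 2440, 834074, 3, 2, 1, 0, 5, 2376, 33863274, 3, 2, 1]) (.leaf [])))) (.node (.node (.node (.leaf [5, 8920, 2744]) (.leaf [6, 75002, 76520])) (.node (.leaf [6, 44057, 43034]) (.leaf [8, 2, 5146354, 5, 3, 8, 6648, 928335962, 3, 4, 16776, 922846250, 4, 3, 3, 4, 0, 5, 6648, 894938, 3]))) (.node (.node (.leaf [3, 1741]) (.leaf [6, 85418, 92056])) (.node (.leaf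 [6, 45354, 60120]) (.leaf []))))) (.node (.node (.node (.node (.leaf [5, 4328, 2744]) (.leaf [6, 33082, 71880])) (.node (.leaf [3, 2509]) (.leaf [8, 2, 2376052, 4, 0, 4, 4072, 933591754, 1, 2, 2, 0, 5, 4136, 924154698, 2, 1, 0, 5, 2088, 921538026, 1, 2]))) (.node (.node (.leaf [6, 22522, 23208]) (.leaf [6, 42218, 87992])) (.node (.leaf [5, 56424, 200]) (.leaf [])))) (.node (.node (.node (.leaf [3, 973]) (.leaf [6, 75514, 79016])) (.node (.leaf [6, 25018, 47736]) (.leaf [8, 1, 407912, 3, 3, 13, 924159402, 1, 2, 3, 924677962, 1, 2, 3, 16952, 919421018, 1, 2, 3, 3, 2, 1, 0, 5, 56328, 920743706, 3, 2, 1]))) (.node (.node (.leaf [8, 1, 765930, 3, 3, 12, 15274, 1, 2, 3, 34103834, 1, 2, 3, 33848538, 1, 2, 3, 3, 2, 1, 0, 5, 3426442, 3, 2, 1]) (.leaf [6, 13626, 97384])) (.node (.leaf [5, 63400, 62664]) (.leaf [])))))))) (.node (.node (.node (.node (.node (.node (.node (.leaf [5, 328, 648]) (.leaf [5, 64248, 14632]))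 (.node (.leaf [3, 2093]) (.leaf [6, 97385, 80618]))) (.node (.node (.leaf [5, 16808, 16232]) (.leaf [6, 49466, 79016])) (.node (.leaf [6, 47737, 29354]) (.leaf [8, 5, 3656916, 4, 9, 6, 923635146, 2, 56568, 931495962, 1, 2, 2, 1, 0, 5, 16792, 924685514, 1, 2])))) (.node (.node (.node (.leaf [5, 5912, 136]) (.leaf [6, 17850, 74408])) (.node (.leaf [6, 41369, 38730]) (.leaf [3, 6701]))) (.node (.node (.leaf [3, 1581]) (.leaf [6, 61690, 87992])) (.node (.leaf [6, 57193, 22074]) (.leaf []))))) (.node (.node (.node (.node (.leaf [5, 3048, 2744]) (.leaf [5, 67112, 62664])) (.node (.leaf [3, 2349]) (.leaf [8, 5, 4801438, 4, 0, 11, 919178634, 1, 2, 56152, 926509898, 2, 1, 56488, 919956538, 1, 2, 2]))) (.node (.node (.leaf [6, 20921, 19018]) (.leaf [6, 62346, 79016])) (.node (.leaf [3, 3373]) (.leaf [])))) (.node (.node (.node (.leaf [6, 13001, 2554]) (.leaf [6, 51594, 76520])) (.node (.leaf [6, 41834, 45240]) (.leaf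 [8, 2, 701240, 5, 3, 8, 7864, 926251594, 3, 4, 17080, 928098730, 4, 3, 3, 4, 0, 5, 8216, 928356058, 3]))) (.node (.node (.leaf [6, 26922, 28824]) (.leaf [6, 92057, 53242])) (.node (.leaf [6, 55018, 60120]) (.leaf [])))))) (.node (.node (.node (.node (.node (.leaf [5, 280, 2744]) (.leaf [5, 65528, 14632])) (.node (.leaf [8, 5, 83504, 5, 9, 5, 3443178, 3, 34376218, 4, 3, 3, 4, 0, 5, 2184, 34114202, 4, 3]) (.leaf [6, 97385, 47226]))) (.node (.node (.leaf [8, 3, 82674, 3, 3, 14, 1130, 1, 2, 3, 2056, 3164250, 1, 2, 3, 15528, 3427034, 1, 2, 3, 3, 2, 1, 0, 5, 13448, 1098, 3, 2, 1]) (.leaf [6, 79017, 59594, 79016])) (.node (.leaf [6, 33114, 47736]) (.leaf [8, 1, 5999638, 4, 0, 3, 919178778, 1, 2, 2, 0, 5, 56424, 924663146, 2, 1, 0, 5, 16568, 929678010, 1, 2])))) (.node (.node (.node (.leaf [5, 8056, 2744]) (.leaf [5, 57081])) (.node (.leaf [8, 22, 1457420, 4, 6, 5, 829306, 1, 2, 3451546, 2, 1, 2, 0, 5, 42602, 2,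 1]) (.leaf [8, 5, 6995780, 3, 3, 15, 16648, 929384522, 1, 2, 3, 8952, 924425434, 1, 2, 3, 11128, 926513370, 1, 2, 3, 3, 2, 1, 0, 5, 16376, 926504394, 3, 2, 1]))) (.node (.node (.leaf [3, 1709]) (.leaf [6, 92057, 85194])) (.node (.leaf [6, 43466, 60120]) (.leaf []))))) (.node (.node (.node (.node (.leaf [5, 3832, 296]) (.leaf [6, 71881, 32522])) (.node (.leaf [8, 5, 734172, 5, 9, 2, 37210, 3, 3, 4, 0, 5, 3421738, 4, 3, 0, 5, 216, 33853226, 3, 4]) (.leaf [3, 6573]))) (.node (.node (.leaf [6, 19162, 23208]) (.leaf [6, 87993, 60874])) (.node (.leaf [3, 3501]) (.leaf [])))) (.node (.node (.node (.leaf [3, 940]) (.leaf [6, 77578, 79016])) (.node (.leaf [6, 24474, 47736]) (.leaf [3, 7085]))) (.node (.node (.leaf [3, 1965]) (.leaf [6, 89242, 96248])) (.node (.leaf [5, 63192, 14632]) (.leaf []))))))) (.node (.node (.node (.node (.node (.node (.leaf [8, 1, 988194, 4, 3, 8, 90, 2, 1, 378, 1, 2, 1738, 2, 2, 1]) (.leaf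 [5, 64904, 14632])) (.node (.leaf [3, 2157]) (.leaf [6, 84090, 97384]))) (.node (.node (.leaf [8, 1, 527022, 5, 0, 6, 13594, 4, 3, 799994, 3, 4, 3, 0, 5, 18138, 3, 4]) (.leaf [6, 79017, 50490])) (.node (.leaf [6, 30394, 47736]) (.leaf [8, 5, 4719712, 1, 3, 12, 923362202, 3, 0, 5, 16760, 928077130, 3, 2, 3, 70936, 920502938, 3, 5, 0, 2])))) (.node (.node (.node (.leaf [5, 6920, 264]) (.leaf [6, 47914, 74408])) (.node (.leaf [6, 42009, 41162]) (.leaf [3, 6765]))) (.node (.node (.leaf [8, 4, 955270, 3, 3, 8, 3159338, 1, 2, 3, 26314, 1, 2, 3, 3, 2, 1, 0, 5, 2312, 33568122, 3, 2, 1, 0, 5, 2104, 33835962, 3, 2, 1]) (.leaf [6, 87993, 62474])) (.node (.leaf [6, 49658, 57192]) (.leaf []))))) (.node (.node (.node (.node (.leaf [5, 3256, 2744]) (.leaf [5, 68616, 14344])) (.node (.leaf [6, 34954, 38520]) (.leaf [8, 5, 232258, 3, 3, 19, 923372938, 1, 2, 3, 56920, 34179034, 1, 2, 3, 16632, 929916234, 1, 2, 3, 56632, 926497258,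 1, 2, 3, 3, 2, 1]))) (.node (.node (.leaf [3, 1389]) (.leaf [5, 57016])) (.node (.leaf [8, 42, 3095590, 1, 3, 9, 33869210, 3, 0, 5, 19608, 818842, 3, 2, 3, 5, 0, 2, 0, 5, 841434, 3]) (.leaf [])))) (.node (.node (.node (.leaf [8, 2, 461504, 5, 6, 10, 13722, 4, 3, 4904, 3159706, 3, 1384, 13994, 4, 3, 4, 3]) (.leaf [6, 76970, 79016])) (.node (.leaf [6, 44122, 46584]) (.leaf [3, 7021]))) (.node (.node (.leaf [6, 28026, 28824]) (.leaf [6, 95721, 88970])) (.node (.leaf [5, 62776, 14344]) (.leaf [])))))) (.node (.node (.node (.node (.node (.leaf [5, 2856, 136]) (.leaf [5, 66232, 14344])) (.node (.leaf [3, 2285]) (.leaf [6, 97385, 86330]))) (.node (.node (.leaf [8, 1, 74102, 4, 0, 6, 3164842, 1, 2, 33835866, 2, 1, 2, 0, 5, 806426, 2, 1]) (.leaf [6, 73434, 79016])) (.node (.leaf [3, 3309]) (.leaf [])))) (.node (.node (.node (.leaf [5, 9448, 136]) (.leaf [6, 58346, 76520])) (.node (.leaf [8, 9, 881180, 5, 3, 3, 830810,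 3, 4, 3, 4, 0, 5, 831050, 3, 0, 5, 664, 44634, 3, 4]) (.leaf [8, 2, 5222072, 3, 3, 15, 6648, 930695258, 1, 2, 3, 16840, 924411050, 1, 2, 3, 16392, 924147546, 1, 2, 3, 3, 2, 1, 0, 5, 9000, 924163274, 3, 2, 1]))) (.node (.node (.leaf [3, 1773]) (.leaf [6, 87562, 92056])) (.node (.leaf [6, 60121, 45834]) (.leaf []))))) (.node (.node (.node (.node (.leaf [5, 4776, 472]) (.leaf [6, 52170, 71880])) (.node (.leaf [6, 40537, 36570]) (.leaf [8, 2, 3190374, 3, 3, 15, 4072, 927038154, 1, 2, 3, 16728, 926245194, 1, 2, 3, 17064, 921778506, 1, 2, 3, 3, 2, 1, 0, 5, 8600, 919877034, 3, 2, 1]))) (.node (.node (.leaf [2]) (.leaf [6, 87993, 42474])) (.node (.leaf [7, 1, 6158488, 2, 56568, 923797194, 933514330]) (.leaf [])))) (.node (.node (.node (.leaf [3, 1005]) (.leaf [6, 48442, 79016])) (.node (.leaf [6, 47737, 25562]) (.leaf [3, 7149]))) (.node (.node (.leaf [8, 1, 50754, 4, 3, 3, 3425738, 2, 1, 2, 1, 0, 5, 3177770, 2,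 0, 5, 3178026, 2, 1]) (.leaf [6, 76682, 97384])) (.node (.leaf [5, 63688, 14344]) (.leaf []))))))))) (.node (.node (.node (.node (.node (.node (.node (.node (.leaf [5, 136, 472]) (.leaf [5, 64104, 14632])) (.node (.leaf [8, 23, 923508, 1, 3, 9, 18890, 3, 0, 5, 14152, 33576074, 3, 2, 3, 5, 0, 2, 0, 5, 32122, 3]) (.leaf [6, 80170, 97384]))) (.node (.node (.leaf [5, 16376, 2152]) (.leaf [6, 79017, 59050, 79016])) (.node (.leaf [6, 29098, 47736]) (.leaf [8, 5, 4664794, 4, 3, 7, 919702986, 2, 1, 56440, 931245674, 1, 2, 2, 1, 0, 5, 919943642, 2])))) (.node (.node (.node (.leaf [5, 5560, 472]) (.leaf [6, 73833, 43226])) (.node (.leaf [6, 34762, 41368]) (.leaf [8, 2, 3686982, 3, 3, 15, 4072, 919173834, 1, 2, 3, 16376, 3506890, 1, 2, 3, 56280, 930685802, 1, 2, 3, 3, 2, 1, 0, 5, 5480, 928091002, 3, 2, 1]))) (.node (.node (.leaf [3, 1565]) (.leaf [6, 87993, 47194])) (.node (.leaf [6, 57193, 21658]) (.leaf []))))) (.node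 (.node (.node (.node (.leaf [5, 3000, 472]) (.leaf [5, 66888, 62664])) (.node (.leaf [8, 17, 263778, 5, 0, 3, 36794, 4, 3, 3, 0, 5, 802282, 3, 4, 0, 5, 3409610, 4, 3]) (.leaf [3, 6429]))) (.node (.node (.leaf [6, 20921, 15386]) (.leaf [6, 54522, 79016])) (.node (.leaf [8, 4, 1138706, 4, 3, 7, 3193306, 2, 1, 1400, 52714, 1, 2, 2, 1, 0, 5, 2344, 33863658, 2]) (.leaf [])))) (.node (.node (.node (.leaf [5, 11048, 136]) (.leaf [6, 49946, 76520])) (.node (.leaf [6, 45241, 43690]) (.leaf [8, 5, 38300, 4, 0, 8, 16616, 932018778, 1, 2, 10040, 929149386, 2, 1, 2, 0, 5, 16616, 933590586, 2, 1]))) (.node (.node (.leaf [6, 26634, 28824]) (.leaf [6, 92057, 45162])) (.node (.leaf [6, 54218, 60120]) (.leaf [])))))) (.node (.node (.node (.node (.node (.leaf [7, 1, 477808, 2, 2056, 3410394, 34343386]) (.leaf [5, 65368, 14632])) (.node (.leaf [8, 50, 741234, 5, 0, 6, 35178, 4, 3, 3421818, 3, 4, 3, 0, 5, 34376106, 3, 4]) (.leaf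 [6, 97385, 46858]))) (.node (.node (.leaf [8, 1, 742056, 4, 0, 3, 3163050, 1, 2, 2, 0, 5, 33568138, 2, 1, 0, 5, 1608, 805306, 1, 2]) (.leaf [6, 79017, 51274])) (.node (.leaf [6, 31034, 47736]) (.leaf [8, 1, 5309358, 4, 3, 3, 920489434, 2, 1, 2, 1, 0, 5, 56440, 922540186, 2, 0, 5, 68136, 924698826, 2, 1])))) (.node (.node (.node (.leaf [5, 7672, 2744]) (.leaf [6, 72218, 74408])) (.node (.leaf [6, 43449, 33882]) (.leaf [8, 5, 2490124, 4, 9, 7, 16648, 920995914, 2, 6152, 920755818, 1, 2, 2, 1, 0, 5, 16584, 931226858, 1, 2]))) (.node (.node (.leaf [3, 1693]) (.leaf [6, 92057, 76266])) (.node (.leaf [6, 57193, 33258]) (.leaf []))))) (.node (.node (.node (.node (.leaf [5, 3688, 2744]) (.leaf [6, 71881, 32218])) (.node (.leaf [6, 34170, 39288]) (.leaf [3, 6557]))) (.node (.node (.leaf [3, 1437]) (.leaf [6, 87993, 73978])) (.node (.leaf [3, 3485]) (.leaf [])))) (.node (.node (.node (.leaf [8, 1, 678, 5, 9, 9, 3146090,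 3, 264, 3408250, 4, 3, 14794, 3, 4, 3, 4]) (.leaf [6, 75322, 79016])) (.node (.leaf [6, 46585, 44874, 46584]) (.leaf [8, 5, 1676772, 4, 3, 3, 923897242, 2, 1, 2, 1, 0, 5, 16392, 928865370, 2, 0, 5, 16936, 922064410, 2, 1]))) (.node (.node (.leaf [3, 1949]) (.leaf [6, 96249, 93514])) (.node (.leaf [5, 63080, 62664]) (.leaf []))))))) (.node (.node (.node (.node (.node (.node (.leaf [5, 1400, 1480]) (.leaf [5, 64744, 14632])) (.node (.leaf [3, 2141]) (.leaf [6, 82794, 97384]))) (.node (.node (.leaf [8, 1, 758856, 4, 6, 10, 801786, 1, 2, 15464, 801818, 2, 2088, 33572234, 1, 2, 1, 2]) (.leaf [6, 79017, 50234])) (.node (.leaf [6, 30138, 47736]) (.leaf [8, 5, 2663996, 4, 6, 6, 923886474, 1, 2, 16568, 925736922, 2, 1, 2, 0, 5, 16904, 932548522, 2, 1])))) (.node (.node (.node (.leaf [5, 6632, 2744]) (.leaf [6, 74409, 21802])) (.node (.leaf [6, 42009, 38922]) (.leaf [3, 6749]))) (.node (.node (.leaf [3, 1629]) (.leaf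 [6, 62218, 87992])) (.node (.leaf [6, 57193, 48826]) (.leaf []))))) (.node (.node (.node (.node (.leaf [5, 3208, 296]) (.leaf [5, 68120, 14632])) (.node (.leaf [8, 5, 930574, 5, 6, 3, 37114, 4, 3, 4, 3, 0, 5, 1896, 800266, 3, 4, 0, 5, 2216, 33854938, 3]) (.leaf [8, 5, 38100, 5, 6, 5, 920489354, 4, 3, 103850, 3, 4, 3, 0, 5, 17080, 928003578, 3, 4]))) (.node (.node (.leaf [8, 30, 396648, 3, 3, 9, 807194, 1, 2, 3, 15336, 33837610, 1, 2, 3, 3, 2, 1, 0, 5, 33574714, 3, 2, 1, 0, 5, 3428042, 3, 2, 1]) (.leaf [6, 87033, 84490])) (.node (.leaf [3, 3421]) (.leaf [])))) (.node (.node (.node (.leaf [8, 5, 724422, 4, 9, 10, 3409626, 2, 2056, 3146090, 1, 2, 264, 3159466, 2, 1, 2, 1]) (.leaf [6, 57290, 79016])) (.node (.leaf [7, 9, 1004482, 1, 832954, 34387418]) (.leaf [8, 5, 5767514, 5, 3, 10, 3509658, 3, 4, 56792, 923112106, 4, 3, 56216, 927037306, 3, 3, 4]))) (.node (.node (.leaf [6, 27770, 28824]) (.leaf [5, 87945]))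 (.node (.leaf [5, 62696, 14152]) (.leaf [])))))) (.node (.node (.node (.node (.node (.leaf [5, 2792, 2744]) (.leaf [5, 66024, 62664])) (.node (.leaf [3, 2269]) (.leaf [6, 94906, 97384]))) (.node (.node (.leaf [8, 4, 2765952, 3, 3, 8, 3158778, 1, 2, 3, 19914, 1, 2, 3, 3, 2, 1, 0, 5, 2296, 13642, 3, 2, 1, 0, 5, 2072, 18522, 3, 2, 1]) (.leaf [6, 79017, 73146])) (.node (.leaf [3, 3293]) (.leaf [])))) (.node (.node (.node (.leaf [5, 9128, 296]) (.leaf [6, 76521, 21946])) (.node (.leaf [8, 9, 1070516, 5, 6, 9, 44314, 4, 3, 14344, 3159898, 3, 3421786, 4, 3, 4, 3]) (.leaf [3, 6877]))) (.node (.node (.leaf [3, 1757]) (.leaf [6, 92057, 85578])) (.node (.leaf [6, 45610, 60120]) (.leaf []))))) (.node (.node (.node (.node (.leaf [5, 4568, 2744]) (.leaf [6, 71881, 52042])) (.node (.leaf [8, 5, 485700, 5, 0, 3, 3183354, 4, 3, 3, 0, 5, 16376, 37626, 3, 4, 0, 5, 826826, 4, 3]) (.leaf [8, 2, 1854410, 4, 0, 7, 4072, 933329610,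 1, 2, 932010746, 2, 1, 2, 0, 5, 4136, 923892554, 2, 1]))) (.node (.node (.leaf [8, 12, 330288, 5, 9, 5, 810330, 3, 33839914, 4, 3, 3, 4, 0, 5, 15336, 33577754, 4, 3]) (.leaf [6, 36842, 87992])) (.node (.leaf [5, 56680, 200]) (.leaf [])))) (.node (.node (.node (.leaf [3, 989]) (.leaf [6, 79017, 48186])) (.node (.leaf [6, 47737, 25306, 47736]) (.leaf [3, 7133]))) (.node (.node (.leaf [8, 1, 338874, 4, 6, 5, 3425194, 1, 2, 33848410, 2, 1, 2, 0, 5, 818506, 2, 1]) (.leaf [6, 46650, 97384])) (.node (.leaf [5, 63544, 62664]) (.leaf [])))))))) (.node (.node (.node (.node (.node (.node (.node (.leaf [8, 1, 0, 1, 7, 13, 26, 3, 6, 2, 6, 3, 6, 7, 3, 906, 2, 0, 5, 5, 0, 3]) (.leaf [5, 64424, 14344])) (.node (.leaf [3, 2109]) (.leaf [6, 97385, 81034]))) (.node (.node (.leaf [6, 17241, 16090]) (.leaf [6, 79017, 59178, 79016])) (.node (.leaf [6, 29610, 47736]) (.leaf [8, 5, 777950, 3, 3, 19, 919954298, 1, 2, 3, 16472, 930695194,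 1, 2, 3, 56360, 930456410, 1, 2, 3, 17000, 928860026, 1, 2, 3, 3, 2, 1])))) (.node (.node (.node (.leaf [5, 6136, 2744]) (.leaf [6, 21114, 74408])) (.node (.leaf [6, 41226, 41368]) (.leaf [3, 6717]))) (.node (.node (.leaf [3, 1597]) (.leaf [6, 87993, 61914])) (.node (.leaf [6, 57193, 22602]) (.leaf []))))) (.node (.node (.node (.node (.leaf [5, 3112, 136]) (.leaf [5, 67432, 14632])) (.node (.leaf [8, 2, 700728, 5, 9, 5, 37002, 3, 3183322, 4, 3, 3, 4, 0, 5, 2840, 33591434, 4, 3]) (.leaf [3, 6461]))) (.node (.node (.leaf [6, 20490, 21272]) (.leaf [6, 56010, 79016])) (.node (.leaf [3, 3389]) (.leaf [])))) (.node (.node (.node (.leaf [3, 829]) (.leaf [6, 31578, 76520])) (.node (.leaf [6, 45241, 38266]) (.leaf [3, 6973]))) (.node (.node (.leaf [6, 27194, 28824]) (.leaf [6, 92057, 54186, 92056])) (.node (.leaf [6, 60121, 55530]) (.leaf [])))))) (.node (.node (.node (.node (.node (.leaf [5, 696, 2744]) (.leaf [5,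 65656, 62664])) (.node (.leaf [3, 2237]) (.leaf [6, 47530, 97384]))) (.node (.node (.leaf [8, 1, 12, 5, 9, 10, 14106, 3, 14648, 3159866, 4, 3, 2104, 33835978, 3, 4, 3, 4]) (.leaf [6, 79017, 59722])) (.node (.leaf [3, 3261]) (.leaf [8, 1, 1567540, 4, 3, 10, 919441082, 2, 1, 16248, 920729386, 1, 2, 16536, 928088554, 2, 2, 1])))) (.node (.node (.node (.leaf [5, 8456, 136]) (.leaf [6, 23274, 76520])) (.node (.leaf [8, 8, 1590138, 5, 0, 10, 43050, 4, 3, 43994, 3, 4, 16264, 3451850, 4, 3, 3]) (.leaf [8, 5, 1456058, 3, 3, 14, 16648, 928073802, 1, 2, 3, 9624, 932803530, 1, 2, 3, 932800586, 1, 2, 3, 3, 2, 1, 0, 5, 2184, 925475258, 3, 2, 1]))) (.node (.node (.leaf [8, 23, 1317636, 4, 6, 5, 3426954, 1, 2, 3435258, 2, 1, 2, 0, 5, 808794, 2, 1]) (.leaf [6, 92057, 85338])) (.node (.leaf [6, 60121, 39402, 60120]) (.leaf []))))) (.node (.node (.node (.node (.leaf [5, 4056, 2744]) (.leaf [6, 71881, 32794])) (.node (.leaf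 [6, 39769, 36298]) (.leaf [8, 2, 5034342, 5, 9, 3, 4072, 926513866, 3, 3, 4, 0, 5, 7976, 33912938, 4, 3, 0, 5, 68296, 925976826, 3, 4]))) (.node (.node (.leaf [6, 20282, 23208]) (.leaf [6, 61066, 87992])) (.node (.leaf [5, 56136, 200]) (.leaf [])))) (.node (.node (.node (.leaf [5, 15320]) (.leaf [6, 77738, 79016])) (.node (.leaf [6, 24762, 47736]) (.leaf [3, 7101]))) (.node (.node (.leaf [8, 11, 988854, 3, 3, 18, 3170458, 1, 2, 3, 25546, 1, 2, 3, 2408, 28794, 1, 2, 3, 15336, 31562, 1, 2, 3, 3, 2, 1]) (.leaf [6, 96249, 90714])) (.node (.leaf [5, 63304, 14344]) (.leaf []))))))) (.node (.node (.node (.node (.node (.node (.leaf [5, 1896, 1992]) (.leaf [5, 65032, 62664])) (.node (.leaf [8, 1, 1054572, 5, 0, 3, 3441722, 4, 3, 3, 0, 5, 3442330, 3, 4, 0, 5, 33851338, 4, 3]) (.leaf [6, 96394, 97384]))) (.node (.node (.leaf [5, 18360, 18296]) (.leaf [6, 79017, 50746, 79016])) (.node (.leaf [6, 28282, 47736]) (.leaf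 [8, 1, 2688518, 3, 3, 10, 56968, 923101642, 1, 2, 3, 56776, 921284586, 1, 2, 3, 3, 2, 1, 0, 5, 56856, 920479738, 3, 2, 1, 0, 5, 56792, 928104874, 3, 2, 1])))) (.node (.node (.node (.leaf [5, 7160, 136]) (.leaf [6, 49130, 74408])) (.node (.leaf [3, 2685]) (.leaf [3, 6781]))) (.node (.node (.leaf [8, 1, 90552, 4, 6, 6, 3426442, 1, 2, 15656, 34367306, 2, 1, 2, 0, 5, 33574554, 2, 1]) (.leaf [6, 40810, 92056])) (.node (.leaf [6, 50362, 57192]) (.leaf []))))) (.node (.node (.node (.node (.leaf [5, 3416, 296]) (.leaf [5, 69048, 14632])) (.node (.leaf [8, 50, 403370, 4, 9, 9, 37162, 2, 216, 33589162, 1, 2, 38810, 2, 1, 2, 1]) (.leaf [3, 6525]))) (.node (.node (.leaf [3, 1405]) (.leaf [6, 87993, 17770])) (.node (.leaf [3, 3453]) (.leaf [])))) (.node (.node (.node (.leaf [3, 893]) (.leaf [6, 79017, 77194])) (.node (.leaf [6, 46585, 46122]) (.leaf [8, 5, 5765834, 4, 3, 3, 920489370, 2, 1, 2, 1, 0, 5, 16344, 923382458,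 2, 0, 5, 56808, 927839530, 2, 1]))) (.node (.node (.leaf [6, 28522, 28824]) (.leaf [6, 95721, 94618])) (.node (.leaf [5, 62856, 62664]) (.leaf [])))))) (.node (.node (.node (.node (.node (.leaf [5, 2904, 264]) (.leaf [5, 66472, 62664])) (.node (.leaf [3, 2301]) (.leaf [6, 102201, 31482]))) (.node (.node (.leaf [8, 30, 1318632, 4, 6, 8, 3428106, 1, 2, 20442, 2, 3425882, 1, 2, 1, 2]) (.leaf [6, 79017, 61834])) (.node (.leaf [3, 3325]) (.leaf [])))) (.node (.node (.node (.leaf [5, 9880, 136]) (.leaf [6, 76521, 47834])) (.node (.leaf [8, 46, 329636, 1, 3, 4, 43242, 3, 0, 5, 5, 0, 2, 0, 5, 39000, 830058, 3, 0, 5, 33860138, 3, 2, 3]) (.leaf [3, 6909]))) (.node (.node (.leaf [3, 1789]) (.leaf [6, 92057, 40682])) (.node (.leaf [6, 46330, 60120]) (.leaf []))))) (.node (.node (.node (.node (.leaf [5, 5000, 472]) (.leaf [6, 71881, 55162])) (.node (.leaf [8, 5, 1021118, 5, 0, 3, 34116602, 4, 3, 3, 0, 5, 16376, 34116602,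 3, 4, 0, 5, 33857498, 4, 3]) (.leaf [8, 2, 1725776, 4, 3, 4, 4072, 932543178, 2, 1, 2, 1, 0, 5, 33660346, 2, 0, 5, 16680, 928619930, 2, 1]))) (.node (.node (.leaf [3, 1533]) (.leaf [6, 87993, 40458])) (.node (.leaf [6, 57193, 20026]) (.leaf [])))) (.node (.node (.node (.leaf [5, 2184, 16232]) (.leaf [6, 75738, 79016])) (.node (.leaf [6, 47737, 25866]) (.leaf [8, 1, 3417170, 4, 9, 5, 921013690, 2, 33668666, 1, 2, 2, 1, 0, 5, 56552, 923878746, 1, 2]))) (.node (.node (.leaf [3, 2045]) (.leaf [6, 87130, 97384])) (.node (.leaf [5, 63816, 62664]) (.leaf []))))))))))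

/-- their proofs, part 15 -/
def proofTab15 : WTab :=
  (.node (.node (.node (.node (.node (.node (.node (.node (.node (.leaf [7, 1, 1317126, 2, 56, 90, 3408042]) (.leaf [5, 63976, 14344])) (.node (.leaf [8, 4, 823558, 3, 3, 18, 807450, 1, 2, 3, 15336, 808634, 1, 2, 3, 33577786, 1, 2, 3, 15336, 3440842, 1, 2, 3, 3, 2, 1]) (.leaf [6, 97385, 77114, 97384]))) (.node (.node (.leaf [5, 16296, 2152]) (.leaf [6, 48970, 79016])) (.node (.leaf [6, 47737, 28858]) (.leaf [8, 1, 6847566, 3, 3, 9, 927567290, 1, 2, 3, 17160, 920739178, 1, 2, 3, 3, 2, 1, 0, 5, 56824, 930983530, 3, 2, 1, 0, 5, 16712, 34430618, 3, 2, 1])))) (.node (.node (.node (.leaf [5, 5256, 296]) (.leaf [6, 60618, 73832])) (.node (.leaf [3, 2574]) (.leaf [3, 6670]))) (.node (.node (.leaf [8, 11, 131718, 4, 9, 6, 3160842, 2, 200, 3423434, 1, 2, 2, 1, 0, 5, 18312, 811162, 1, 2]) (.leaf [6, 42842, 87992])) (.node (.leaf [6, 57193, 20298, 57192]) (.leaf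 []))))) (.node (.node (.node (.node (.leaf [5, 2952, 472]) (.leaf [5, 66696, 62664])) (.node (.leaf [3, 2318]) (.leaf [6, 92394, 102200]))) (.node (.node (.leaf [3, 1294]) (.leaf [6, 79017, 74378])) (.node (.leaf [3, 3342]) (.leaf [])))) (.node (.node (.node (.leaf [5, 10744, 136]) (.leaf [6, 49322, 76520])) (.node (.leaf [6, 34506, 45240]) (.leaf [3, 6926]))) (.node (.node (.leaf [6, 26394, 28824]) (.leaf [6, 92057, 90698])) (.node (.leaf [6, 45114, 60120]) (.leaf [])))))) (.node (.node (.node (.node (.node (.leaf [5, 1480, 2248]) (.leaf [5, 65208, 14632])) (.node (.leaf [3, 2190]) (.leaf [6, 31754, 97384]))) (.node (.node (.leaf [6, 18474, 18504]) (.leaf [6, 51034, 79016])) (.node (.leaf [6, 47737, 28554]) (.leaf [8, 1, 664362, 3, 3, 20, 56952, 922315226, 1, 2, 3, 56328, 920497738, 1, 2, 3, 16888, 930169098, 1, 2, 3, 3832, 919435898, 1, 2, 3, 3, 2, 1])))) (.node (.node (.node (.leaf [5, 7400, 2744]) (.leaf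 [6, 50458, 74408])) (.node (.leaf [3, 2702]) (.leaf [3, 6798]))) (.node (.node (.leaf [3, 1678]) (.leaf [6, 71978, 92056])) (.node (.leaf [6, 57193, 51642]) (.leaf []))))) (.node (.node (.node (.node (.leaf [5, 3576, 264]) (.leaf [6, 31834, 71880])) (.node (.leaf [6, 35786, 39080]) (.leaf [8, 5, 851264, 5, 3, 10, 924159370, 3, 4, 56856, 929663946, 4, 3, 7480, 929654522, 3, 3, 4]))) (.node (.node (.leaf [8, 29, 24696, 4, 3, 7, 3167658, 2, 1, 15336, 3430458, 1, 2, 2, 1, 0, 5, 19656, 808362, 2]) (.leaf [6, 87993, 60378, 87992])) (.node (.leaf [3, 3470]) (.leaf [])))) (.node (.node (.node (.leaf [8, 1, 461160, 3, 3, 14, 1738, 1, 2, 3, 2152, 2506, 1, 2, 3, 2056, 3159946, 1, 2, 3, 3, 2, 1, 0, 5, 2088, 3159610, 3, 2, 1]) (.leaf [6, 79017, 57978])) (.node (.leaf [6, 44554, 46584]) (.leaf [8, 5, 5518204, 4, 0, 6, 922848666, 1, 2, 33929050, 2, 1, 2, 0, 5, 17128, 933336042, 2, 1]))) (.node (.node (.leaf [8, 12, 2117644,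 4, 9, 9, 3431130, 2, 15528, 3169002, 1, 2, 30954, 2, 1, 2, 1]) (.leaf [6, 84954, 96248])) (.node (.leaf [5, 62968, 62664]) (.leaf []))))))) (.node (.node (.node (.node (.node (.node (.leaf [7, 1, 214374, 1, 3408954, 3409130]) (.leaf [5, 64584, 14632])) (.node (.leaf [8, 42, 197568, 5, 6, 8, 820234, 4, 3, 33914, 3, 820426, 4, 3, 4, 3]) (.leaf [6, 82074, 97384]))) (.node (.node (.leaf [3, 1102]) (.leaf [6, 75818, 79016])) (.node (.leaf [6, 47737, 29882]) (.leaf [8, 5, 2612596, 5, 6, 10, 924148602, 4, 3, 2152, 931772970, 3, 16904, 919445322, 4, 3, 4, 3])))) (.node (.node (.node (.leaf [5, 6408, 2744]) (.leaf [6, 74409, 23562])) (.node (.leaf [6, 36602, 42008]) (.leaf [8, 5, 7042558, 4, 3, 8, 16376, 923368154, 2, 1, 10776, 927308554, 1, 2, 2, 1, 0, 5, 16632, 928597786, 2]))) (.node (.node (.leaf [3, 1614]) (.leaf [6, 78986, 87992])) (.node (.leaf [6, 57193, 23914]) (.leaf []))))) (.node (.node (.node (.node (.leaf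 [5, 3160, 296]) (.leaf [5, 67752, 14152])) (.node (.leaf [3, 2382]) (.leaf [8, 5, 316660, 5, 9, 5, 919965066, 3, 889914, 4, 3, 3, 4, 0, 5, 16472, 923367210, 4, 3]))) (.node (.node (.leaf [3, 1358]) (.leaf [6, 81386, 87032])) (.node (.leaf [3, 3406]) (.leaf [])))) (.node (.node (.node (.leaf [6, 13513, 13114]) (.leaf [6, 79017, 19370])) (.node (.leaf [6, 42794, 45240]) (.leaf [8, 2, 3791324, 3, 3, 20, 7864, 932018762, 1, 2, 3, 2216, 923115354, 1, 2, 3, 17048, 923631706, 1, 2, 3, 56888, 920236890, 1, 2, 3, 3, 2, 1]))) (.node (.node (.leaf [6, 28825, 27514]) (.leaf [6, 54762, 92056])) (.node (.leaf [5, 14360, 62664]) (.leaf [])))))) (.node (.node (.node (.node (.node (.leaf [5, 2744, 2744]) (.leaf [5, 65848, 14344])) (.node (.leaf [8, 44, 1185576, 5, 3, 7, 822122, 3, 4, 2232, 35898, 4, 3, 3, 4, 0, 5, 35946, 3]) (.leaf [6, 94826, 97384]))) (.node (.node (.leaf [8, 1, 214032, 5, 0, 7, 17322, 4, 3, 14696, 33571786,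 3, 4, 3, 0, 5, 216, 33573818, 3, 4]) (.leaf [6, 72522, 79016])) (.node (.leaf [3, 3278]) (.leaf [])))) (.node (.node (.node (.leaf [5, 8936, 264]) (.leaf [6, 75018, 76520])) (.node (.leaf [6, 43050, 44056]) (.leaf [3, 6862]))) (.node (.node (.leaf [8, 29, 791796, 4, 0, 7, 3427626, 1, 2, 200, 3435370, 2, 1, 2, 0, 5, 19786, 2, 1]) (.leaf [6, 92057, 85434])) (.node (.leaf [6, 60121, 45370]) (.leaf []))))) (.node (.node (.node (.node (.leaf [5, 4360, 296]) (.leaf [6, 51930, 71880])) (.node (.leaf [8, 17, 148530, 4, 0, 9, 37402, 1, 2, 826570, 2, 1, 823834, 1, 2, 2]) (.leaf [3, 6606]))) (.node (.node (.leaf [6, 23209, 22538]) (.leaf [6, 87993, 74106])) (.node (.leaf [5, 56424, 2056]) (.leaf [])))) (.node (.node (.node (.leaf [7, 1, 2115624, 1, 3161210, 34356458]) (.leaf [6, 47946, 79016])) (.node (.leaf [6, 47737, 25034]) (.leaf [3, 7118]))) (.node (.node (.leaf [3, 1998]) (.leaf [6, 97385, 13642])) (.node (.leaf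 [5, 63416, 62664]) (.leaf [])))))))) (.node (.node (.node (.node (.node (.node (.node (.leaf [5, 344, 648]) (.leaf [5, 64264, 14632])) (.node (.leaf [8, 23, 988010, 4, 9, 5, 805402, 2, 817818, 1, 2, 2, 1, 0, 5, 33178, 1, 2]) (.leaf [6, 97385, 80666]))) (.node (.node (.leaf [5, 16856, 16232]) (.leaf [6, 79017, 49482])) (.node (.leaf [6, 29370, 47736]) (.leaf [3, 7214])))) (.node (.node (.node (.leaf [5, 5912, 264]) (.leaf [6, 17866, 74408])) (.node (.leaf [6, 38762, 41368]) (.leaf [8, 5, 5763176, 4, 9, 7, 16376, 923630298, 2, 12232, 919174122, 1, 2, 2, 1, 0, 5, 16728, 930190282, 1, 2]))) (.node (.node (.leaf [8, 12, 462508, 4, 9, 6, 3428842, 2, 2088, 34358666, 1, 2, 2, 1, 0, 5, 811642, 1, 2]) (.leaf [6, 87993, 61706])) (.node (.leaf [6, 57193, 22170]) (.leaf []))))) (.node (.node (.node (.node (.leaf [5, 3064, 136]) (.leaf [5, 67128, 62664])) (.node (.leaf [8, 2, 1787862, 4, 9, 5, 3444746, 2, 37354, 1, 2,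 2, 1, 0, 5, 264, 3182730, 1, 2]) (.leaf [3, 6446]))) (.node (.node (.leaf [6, 19034, 20920]) (.leaf [6, 79017, 62362])) (.node (.leaf [8, 4, 3230978, 5, 3, 8, 3460058, 3, 4, 52266, 4, 3, 33870570, 3, 3, 4]) (.leaf [])))) (.node (.node (.node (.leaf [6, 13001, 2586]) (.leaf [6, 76521, 51610])) (.node (.leaf [6, 42138, 45240]) (.leaf [3, 6958]))) (.node (.node (.leaf [6, 28825, 26938]) (.leaf [6, 53258, 92056])) (.node (.leaf [6, 60121, 55034]) (.leaf [])))))) (.node (.node (.node (.node (.node (.leaf [5, 296, 2744]) (.leaf [5, 65544, 62664])) (.node (.leaf [3, 2222]) (.leaf [6, 97385, 47274, 97384]))) (.node (.node (.leaf [3, 1198]) (.leaf [6, 79017, 59610, 79016])) (.node (.leaf [6, 47737, 33130]) (.leaf [8, 1, 274824, 4, 3, 3, 920489498, 2, 1, 2, 1, 0, 5, 56296, 923106938, 2, 0, 5, 56744, 921551274, 2, 1])))) (.node (.node (.node (.leaf [5, 8088, 2744]) (.leaf [6, 76521, 21002])) (.node (.leaf [3, 2734])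 (.leaf [3, 6830]))) (.node (.node (.leaf [8, 12, 132386, 3, 3, 4, 3429098, 1, 2, 3, 3, 2, 1, 0, 5, 15336, 810106, 3, 2, 1, 0, 5, 15336, 26122, 3, 2, 1, 0, 5, 34367914, 3, 2, 1]) (.leaf [6, 85210, 92056])) (.node (.leaf [6, 60121, 43482]) (.leaf []))))) (.node (.node (.node (.node (.leaf [5, 3832, 472]) (.leaf [6, 32538, 71880])) (.node (.leaf [3, 2478]) (.leaf [8, 2, 5337952, 5, 6, 10, 4072, 931494602, 4, 3, 105178, 3, 56216, 926513722, 4, 3, 4, 3]))) (.node (.node (.leaf [6, 23209, 19178]) (.leaf [6, 87993, 60890])) (.node (.leaf [8, 4, 1581056, 4, 3, 6, 52858, 2, 1, 34394634, 1, 2, 2, 1, 0, 5, 1704, 33853306, 2]) (.leaf [])))) (.node (.node (.node (.leaf [5, 15064]) (.leaf [6, 58394, 79016])) (.node (.leaf [6, 47737, 24490]) (.leaf [8, 1, 3457672, 4, 0, 3, 919178666, 1, 2, 2, 0, 5, 56456, 925208234, 2, 1, 0, 5, 930195146, 1, 2]))) (.node (.node (.leaf [8, 1, 1400616, 3, 3, 19, 804954, 1, 2, 3, 15784, 3165626,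 1, 2, 3, 2392, 3425274, 1, 2, 3, 14376, 33847962, 1, 2, 3, 3, 2, 1]) (.leaf [6, 96249, 89258])) (.node (.leaf [5, 63192, 62664]) (.leaf []))))))) (.node (.node (.node (.node (.node (.node (.leaf [3, 110]) (.leaf [5, 64920, 62664])) (.node (.leaf [8, 1, 198084, 5, 9, 6, 3159514, 3, 56, 800282, 4, 3, 3, 4, 0, 5, 820890, 4, 3]) (.leaf [6, 84106, 97384]))) (.node (.node (.leaf [3, 1134]) (.leaf [6, 79017, 59418, 79016])) (.node (.leaf [6, 30410, 47736]) (.leaf [3, 7278])))) (.node (.node (.node (.leaf [5, 6920, 472]) (.leaf [6, 74409, 47930])) (.node (.leaf [6, 41178, 42008]) (.leaf [8, 5, 2441800, 3, 3, 5, 16376, 931494618, 1, 2, 3, 3, 2, 1, 0, 5, 1880, 921254570, 3, 2, 1, 0, 5, 56728, 928588650, 3, 2, 1, 0, 5, 56936, 924683434, 3, 2, 1]))) (.node (.node (.leaf [3, 1646]) (.leaf [6, 62490, 87992])) (.node (.leaf [6, 49674, 57192]) (.leaf []))))) (.node (.node (.node (.node (.leaf [5, 3272, 296]) (.leaf [5, 68616,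 14632])) (.node (.leaf [6, 38521, 34970]) (.leaf [3, 6510]))) (.node (.node (.leaf [8, 23, 922330, 4, 6, 3, 3429594, 1, 2, 1, 2, 0, 5, 3163546, 2, 1, 0, 5, 808218, 2]) (.leaf [5, 2280, 87784])) (.node (.leaf [3, 3438]) (.leaf [])))) (.node (.node (.node (.leaf [3, 878]) (.leaf [6, 76986, 79016])) (.node (.leaf [6, 46585, 44138]) (.leaf [8, 5, 7038940, 3, 3, 4, 919965082, 1, 2, 3, 3, 2, 1, 0, 5, 2232, 925211882, 3, 2, 1, 0, 5, 56824, 933586602, 3, 2, 1, 0, 5, 16312, 921539274, 3, 2, 1]))) (.node (.node (.leaf [6, 28825, 28042]) (.leaf [6, 35674, 95720])) (.node (.leaf [5, 62776, 14632]) (.leaf [])))))) (.node (.node (.node (.node (.node (.leaf [5, 2856, 264]) (.leaf [5, 66248, 14344])) (.node (.leaf [8, 46, 1382984, 4, 0, 3, 36090, 1, 2, 2, 0, 5, 36392, 34376954, 2, 1, 0, 5, 3444042, 1, 2]) (.leaf [6, 97385, 91386]))) (.node (.node (.leaf [3, 1262]) (.leaf [6, 79017, 73450])) (.node (.leaf [8, 29, 8578, 5,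 9, 6, 19640, 34128314, 3, 34127562, 4, 3, 3, 4, 0, 5, 19480, 19850, 4, 3]) (.leaf [])))) (.node (.node (.node (.leaf [5, 9480, 2744]) (.leaf [6, 58362, 76520])) (.node (.leaf [3, 2798]) (.leaf [3, 6894]))) (.node (.node (.leaf [8, 33, 593384, 5, 6, 9, 3432490, 4, 3, 2376, 27978, 3, 3172186, 4, 3, 4, 3]) (.leaf [6, 92057, 87578])) (.node (.leaf [6, 60121, 37194]) (.leaf []))))) (.node (.node (.node (.node (.leaf [5, 4792, 296]) (.leaf [6, 71881, 33626])) (.node (.leaf [6, 36586, 40536]) (.leaf [3, 6638]))) (.node (.node (.leaf [8, 4, 199088, 5, 0, 6, 3159290, 4, 3, 24298, 3, 4, 3, 0, 5, 1608, 3159290, 3, 4]) (.leaf [6, 42490, 87992])) (.node (.leaf [7, 2, 3422728, 2, 2872, 921450138, 933521050]) (.leaf [])))) (.node (.node (.node (.leaf [8, 4, 469232, 4, 3, 3, 800042, 2, 1, 2, 1, 0, 5, 2424, 33568106, 2, 0, 5, 56, 33832586, 2, 1]) (.leaf [6, 77946, 79016])) (.node (.leaf [6, 25578, 47736]) (.leaf [8, 1, 470518,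 4, 0, 3, 919702970, 1, 2, 2, 0, 5, 56616, 923110842, 2, 1, 0, 5, 2216, 33920890, 1, 2]))) (.node (.node (.leaf [8, 1, 50754, 4, 9, 5, 3425738, 2, 3429050, 1, 2, 2, 1, 0, 5, 3177770, 1, 2]) (.leaf [6, 74778, 97384])) (.node (.leaf [5, 63688, 14632]) (.leaf []))))))))) (.node (.node (.node (.node (.node (.node (.node (.node (.leaf [5, 264, 472]) (.leaf [5, 64104, 62664])) (.node (.leaf [3, 2078]) (.leaf [6, 80250, 97384]))) (.node (.node (.leaf [5, 16376, 16232]) (.leaf [6, 79017, 59066, 79016])) (.node (.leaf [6, 47737, 29114]) (.leaf [3, 7198])))) (.node (.node (.node (.leaf [5, 5576, 296]) (.leaf [6, 73833, 43242])) (.node (.leaf [6, 41369, 34778]) (.leaf [3, 6686]))) (.node (.node (.leaf [8, 1, 354150, 4, 9, 5, 20938, 2, 810890, 1, 2, 2, 1, 0, 5, 3146842, 1, 2]) (.leaf [6, 87993, 61578, 87992])) (.node (.leaf [6, 57193, 21674]) (.leaf []))))) (.node (.node (.node (.node (.leaf [5, 3000, 2744]) (.leaf [5,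 66904, 62664])) (.node (.leaf [3, 2334]) (.leaf [8, 5, 4993480, 5, 6, 10, 3247498, 4, 3, 56760, 919955962, 3, 56456, 928857098, 4, 3, 4, 3]))) (.node (.node (.leaf [6, 15402, 20920]) (.leaf [6, 79017, 61946])) (.node (.leaf [3, 3358]) (.leaf [])))) (.node (.node (.node (.leaf [5, 11080, 472]) (.leaf [6, 76521, 49962])) (.node (.leaf [6, 41530, 45240]) (.leaf [3, 6942]))) (.node (.node (.leaf [6, 28825, 26650]) (.leaf [6, 45178, 92056])) (.node (.leaf [6, 54634, 60120]) (.leaf [])))))) (.node (.node (.node (.node (.node (.leaf [3, 157]) (.leaf [5, 65368, 62664])) (.node (.leaf [3, 2206]) (.leaf [6, 46874, 97384]))) (.node (.node (.leaf [3, 1182]) (.leaf [6, 51290, 79016])) (.node (.leaf [6, 47737, 31050]) (.leaf [3, 7326])))) (.node (.node (.node (.leaf [5, 7704, 2744]) (.leaf [6, 74409, 72234])) (.node (.leaf [6, 33898, 43448]) (.leaf [3, 6814]))) (.node (.node (.leaf [8, 12, 395652, 3, 3, 8, 3428938, 1,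 2, 3, 3429370, 1, 2, 3, 3, 2, 1, 0, 5, 808426, 3, 2, 1, 0, 5, 26842, 3, 2, 1]) (.leaf [6, 76282, 92056])) (.node (.leaf [6, 33274, 57192]) (.leaf []))))) (.node (.node (.node (.node (.leaf [5, 3720, 296]) (.leaf [6, 71881, 32234, 71880])) (.node (.leaf [6, 39289, 34186]) (.leaf [8, 2, 3173364, 4, 9, 7, 4072, 928611018, 2, 16376, 933069530, 1, 2, 2, 1, 0, 5, 891370, 1, 2]))) (.node (.node (.leaf [8, 29, 1119906, 4, 9, 5, 808570, 2, 23018, 1, 2, 2, 1, 0, 5, 33836266, 1, 2]) (.leaf [6, 73994, 87992])) (.node (.leaf [8, 42, 1194648, 5, 9, 5, 839242, 3, 3459866, 4, 3, 3, 4, 0, 5, 842090, 4, 3]) (.leaf [])))) (.node (.node (.node (.leaf [3, 926]) (.leaf [6, 79017, 58138, 79016])) (.node (.leaf [6, 44890, 46584]) (.leaf [8, 5, 1098540, 3, 3, 9, 924159386, 1, 2, 3, 56936, 919446186, 1, 2, 3, 3, 2, 1, 0, 5, 17112, 928857418, 3, 2, 1, 0, 5, 56456, 33925706, 3, 2, 1]))) (.node (.node (.leaf [2]) (.leaf [6, 93530, 96248]))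 (.node (.leaf [5, 63096, 14344]) (.leaf []))))))) (.node (.node (.node (.node (.node (.node (.leaf [5, 1416, 1480]) (.leaf [5, 64760, 14344])) (.node (.leaf [8, 1, 1317804, 5, 9, 9, 3159498, 3, 2104, 800442, 4, 3, 34266, 3, 4, 3, 4]) (.leaf [6, 97385, 82810]))) (.node (.node (.leaf [3, 1118]) (.leaf [6, 79017, 75914])) (.node (.leaf [6, 47737, 30154, 47736]) (.leaf [3, 7262])))) (.node (.node (.node (.leaf [5, 6648, 472]) (.leaf [6, 21818, 74408])) (.node (.leaf [6, 38938, 42008]) (.leaf [8, 5, 6282316, 4, 9, 7, 16376, 928086746, 2, 648, 932805098, 1, 2, 2, 1, 0, 5, 894410, 1, 2]))) (.node (.node (.leaf [8, 12, 4094160, 3, 3, 18, 809722, 1, 2, 3, 2056, 3167018, 1, 2, 3, 3425770, 1, 2, 3, 2088, 26026, 1, 2, 3, 3, 2, 1]) (.leaf [6, 87993, 62234])) (.node (.leaf [6, 57193, 48906]) (.leaf []))))) (.node (.node (.node (.node (.leaf [5, 3208, 472]) (.leaf [5, 68136, 14632])) (.node (.leaf [3, 2398]) (.leaf [3,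 6494]))) (.node (.node (.leaf [3, 1374]) (.leaf [6, 84506, 87032])) (.node (.leaf [8, 42, 2642830, 5, 6, 10, 52634, 4, 3, 19592, 836922, 3, 216, 34126474, 4, 3, 4, 3]) (.leaf [])))) (.node (.node (.node (.leaf [3, 862]) (.leaf [6, 79017, 57306, 79016])) (.node (.leaf [5, 46569]) (.leaf [8, 5, 5528672, 5, 6, 5, 34180506, 4, 3, 109866, 3, 4, 3, 0, 5, 33928650, 3, 4]))) (.node (.node (.leaf [6, 28825, 27786]) (.leaf [6, 33914, 95720])) (.node (.leaf [5, 62696, 14344]) (.leaf [])))))) (.node (.node (.node (.node (.node (.leaf [5, 2808, 136]) (.leaf [5, 66040, 14152])) (.node (.leaf [8, 22, 214386, 1, 7, 4, 36026, 3, 2, 3, 5, 0, 3, 0, 5, 33834346, 5, 0, 2, 0, 5, 56, 804218, 3]) (.leaf [6, 94922, 97384]))) (.node (.node (.leaf [3, 1246]) (.leaf [6, 73162, 79016])) (.node (.leaf [8, 4, 2247842, 5, 9, 6, 1704, 34390442, 3, 34129546, 4, 3, 3, 4, 0, 5, 1528, 3192954, 4, 3]) (.leaf [])))) (.node (.node (.node (.leaf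 [5, 9144, 2744]) (.leaf [6, 76521, 58010])) (.node (.leaf [3, 2782]) (.leaf [8, 2, 5157920, 5, 3, 8, 6648, 925976666, 3, 4, 16520, 933341530, 4, 3, 3, 4, 0, 5, 4376, 931239642, 3]))) (.node (.node (.leaf [8, 33, 1318640, 5, 6, 9, 810842, 4, 3, 1528, 33582362, 3, 26410, 4, 3, 4, 3]) (.leaf [6, 85594, 92056])) (.node (.leaf [6, 60121, 45626, 60120]) (.leaf []))))) (.node (.node (.node (.node (.leaf [5, 4600, 296]) (.leaf [6, 71881, 59914])) (.node (.leaf [3, 2526]) (.leaf [3, 6622]))) (.node (.node (.leaf [3, 1502]) (.leaf [6, 87993, 42298])) (.node (.leaf [5, 56680, 2056]) (.leaf [])))) (.node (.node (.node (.leaf [8, 1, 461160, 5, 9, 9, 1738, 3, 1992, 3409626, 4, 3, 15834, 3, 4, 3, 4]) (.leaf [6, 79017, 48202])) (.node (.leaf [6, 47737, 25322, 47736]) (.leaf [8, 1, 1012162, 5, 0, 7, 3509690, 4, 3, 2168, 922065418, 3, 4, 3, 0, 5, 34441482, 3, 4]))) (.node (.node (.leaf [3, 2014]) (.leaf [6, 46682, 97384]))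 (.node (.leaf [5, 63560, 62664]) (.leaf [])))))))) (.node (.node (.node (.node (.node (.node (.node (.leaf [3, 62]) (.leaf [5, 64440, 14632])) (.node (.leaf [2]) (.leaf [6, 97385, 81146]))) (.node (.node (.leaf [6, 16106, 17240]) (.leaf [6, 79017, 59194, 79016])) (.node (.leaf [6, 47737, 29626]) (.leaf [3, 7230])))) (.node (.node (.node (.leaf [5, 6168, 2744]) (.leaf [6, 21162, 74408])) (.node (.leaf [6, 41369, 41242]) (.leaf [8, 5, 6282326, 5, 6, 6, 16376, 883418, 4, 3, 34175642, 3, 4, 3, 0, 5, 17048, 929401674, 3, 4]))) (.node (.node (.leaf [8, 1, 1649100, 4, 6, 5, 3163146, 1, 2, 22058, 2, 1, 2, 0, 5, 200, 3432874, 2, 1]) (.leaf [6, 87993, 53882])) (.node (.leaf [6, 57193, 22618]) (.leaf []))))) (.node (.node (.node (.node (.leaf [5, 3112, 264]) (.leaf [5, 67448, 14632])) (.node (.leaf [8, 2, 997592, 4, 0, 6, 3182730, 1, 2, 37642, 2, 1, 2, 0, 5, 536, 3444746, 2, 1]) (.leaf [8, 5, 849262, 5, 3, 3, 919702922,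 3, 4, 3, 4, 0, 5, 17032, 919437354, 3, 0, 5, 56824, 924677466, 3, 4]))) (.node (.node (.leaf [6, 21273, 20506]) (.leaf [5, 57049])) (.node (.leaf [8, 4, 2848778, 4, 0, 6, 3198026, 1, 2, 54250, 2, 1, 2, 0, 5, 1528, 33869802, 2, 1]) (.leaf [])))) (.node (.node (.node (.leaf [7, 1, 197574, 2, 2088, 906, 34354154]) (.leaf [6, 76521, 31594])) (.node (.leaf [6, 45241, 38314]) (.leaf [8, 2, 2263098, 5, 0, 8, 7864, 928086602, 4, 3, 16936, 932290490, 3, 4, 3, 0, 5, 6696, 921271034, 3, 4]))) (.node (.node (.leaf [6, 28825, 27210]) (.leaf [6, 92057, 54202, 92056])) (.node (.leaf [6, 55546, 60120]) (.leaf [])))))) (.node (.node (.node (.node (.node (.leaf [5, 712, 2744]) (.leaf [5, 65672, 14344])) (.node (.leaf [8, 5, 1787360, 5, 0, 6, 3181210, 4, 3, 33590010, 3, 4, 3, 0, 5, 1880, 3181242, 3, 4]) (.leaf [6, 97385, 47546]))) (.node (.node (.leaf [3, 1214]) (.leaf [6, 59738, 79016])) (.node (.leaf [8, 5, 732652, 5, 9,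 5, 47290, 3, 838618, 4, 3, 3, 4, 0, 5, 13898, 4, 3]) (.leaf [8, 5, 5112150, 5, 6, 6, 924149402, 4, 3, 2216, 924416378, 3, 4, 3, 0, 5, 16712, 931483418, 3, 4])))) (.node (.node (.node (.leaf [5, 8504, 2744]) (.leaf [6, 76521, 23322, 76520])) (.node (.leaf [3, 2750]) (.leaf [3, 6846]))) (.node (.node (.leaf [3, 1726]) (.leaf [6, 72746, 92056])) (.node (.leaf [6, 60121, 39418, 60120]) (.leaf []))))) (.node (.node (.node (.node (.leaf [5, 4088, 2744]) (.leaf [6, 32810, 71880])) (.node (.leaf [6, 37258, 39768]) (.leaf [3, 6590]))) (.node (.node (.leaf [6, 23209, 21418]) (.leaf [6, 87993, 61082, 87992])) (.node (.leaf [5, 56136, 2056]) (.leaf [])))) (.node (.node (.node (.leaf [2]) (.leaf [6, 79017, 58650])) (.node (.leaf [6, 47737, 24778]) (.leaf [8, 1, 6841288, 4, 3, 10, 920489386, 2, 1, 16280, 927030938, 1, 2, 16808, 924693146, 2, 2, 1]))) (.node (.node (.leaf [8, 33, 2700776, 4, 6, 3, 3174730, 1, 2, 1, 2, 0,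 5, 30202, 2, 1, 0, 5, 13432, 31706, 2]) (.leaf [6, 90730, 96248])) (.node (.leaf [5, 63304, 14632]) (.leaf []))))))) (.node (.node (.node (.node (.node (.node (.leaf [8, 1, 329448, 4, 0, 12, 786794, 1, 2, 648, 410, 2, 1, 1930, 1, 2, 788186, 2]) (.leaf [5, 65048, 14344])) (.node (.leaf [3, 2174]) (.leaf [6, 97385, 96410]))) (.node (.node (.leaf [8, 1, 1992498, 3, 3, 15, 2056, 15050, 1, 2, 3, 18312, 3422986, 1, 2, 3, 2056, 34094074, 1, 2, 3, 3, 2, 1, 0, 5, 200, 13594, 3, 2, 1]) (.leaf [6, 79017, 50762, 79016])) (.node (.leaf [6, 47737, 28298]) (.leaf [8, 1, 1556146, 4, 3, 11, 56968, 929130954, 2, 1, 56552, 925219162, 1, 2, 17048, 926262506, 2, 2, 1])))) (.node (.node (.node (.leaf [5, 7160, 264]) (.leaf [6, 74409, 49146])) (.node (.leaf [8, 46, 139952, 1, 3, 10, 39016, 34298, 3, 0, 5, 2088, 33850586, 3, 2, 3, 5, 0, 2, 0, 5, 829418, 3]) (.leaf [8, 5, 6307142, 4, 3, 4, 16648, 922306634, 2, 1, 2, 1, 0, 5, 16280,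 928870570, 2, 0, 5, 2056, 921020202, 2, 1]))) (.node (.node (.leaf [3, 1662]) (.leaf [6, 92057, 40826])) (.node (.leaf [6, 50378, 57192]) (.leaf []))))) (.node (.node (.node (.node (.leaf [5, 3416, 472]) (.leaf [5, 69080, 14152])) (.node (.leaf [3, 2430]) (.leaf [8, 5, 34690, 4, 0, 3, 923897226, 1, 2, 2, 0, 5, 104218, 2, 1, 0, 5, 16424, 923877562, 1, 2]))) (.node (.node (.leaf [8, 1, 230844, 4, 3, 3, 808250, 2, 1, 2, 1, 0, 5, 2056, 34098842, 2, 0, 5, 3428010, 2, 1]) (.leaf [6, 17786, 87992])) (.node (.leaf [8, 4, 102828, 4, 3, 3, 839098, 2, 1, 2, 1, 0, 5, 1624, 34125962, 2, 0, 5, 832602, 2, 1]) (.leaf [])))) (.node (.node (.node (.leaf [7, 1, 922994, 2, 200, 3422090, 34355178]) (.leaf [6, 79017, 57786])) (.node (.leaf [6, 46585, 44266]) (.leaf [3, 7038]))) (.node (.node (.leaf [6, 28825, 28570]) (.leaf [5, 87929])) (.node (.leaf [5, 62872, 14344]) (.leaf [])))))) (.node (.node (.node (.node (.node (.leaf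 [5, 2904, 296]) (.leaf [5, 66504, 14152])) (.node (.leaf [8, 9, 263778, 5, 0, 3, 36266, 4, 3, 3, 0, 5, 801242, 3, 4, 0, 5, 3408234, 4, 3]) (.leaf [6, 31498, 102200]))) (.node (.node (.leaf [3, 1278]) (.leaf [6, 61850, 79016])) (.node (.leaf [8, 5, 2454150, 5, 9, 5, 3455194, 3, 3460986, 4, 3, 3, 4, 0, 5, 16856, 833226, 4, 3]) (.leaf [])))) (.node (.node (.node (.leaf [5, 9912, 2744]) (.leaf [6, 76521, 47978])) (.node (.leaf [3, 2814]) (.leaf [8, 5, 38432, 5, 9, 7, 16616, 921795162, 3, 5512, 34175802, 4, 3, 3, 4, 0, 5, 2024, 930979370, 4, 3]))) (.node (.node (.leaf [8, 33, 593712, 5, 6, 9, 811514, 4, 3, 1336, 33582202, 3, 26730, 4, 3, 4, 3]) (.leaf [6, 40698, 92056])) (.node (.leaf [6, 60121, 46346]) (.leaf []))))) (.node (.node (.node (.node (.leaf [5, 5016, 296]) (.leaf [6, 55194, 71880])) (.node (.leaf [8, 8, 2767464, 5, 3, 3, 3183898, 3, 4, 3, 4, 0, 5, 14152, 3163226, 3, 0, 5, 2072, 34098458, 3, 4]) (.leaf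 [3, 6654]))) (.node (.node (.leaf [8, 4, 938806, 4, 6, 5, 3421514, 1, 2, 24538, 2, 1, 2, 0, 5, 2424, 33573306, 2, 1]) (.leaf [6, 40474, 87992])) (.node (.leaf [6, 20042, 57192]) (.leaf [])))) (.node (.node (.node (.leaf [5, 2200, 16232]) (.leaf [6, 79017, 58746, 79016])) (.node (.leaf [6, 25882, 47736]) (.leaf [3, 7166]))) (.node (.node (.leaf [8, 1, 773982, 4, 6, 5, 3425786, 1, 2, 32682, 2, 1, 2, 0, 5, 816106, 2, 1]) (.leaf [6, 79482, 97384])) (.node (.leaf [5, 63832, 62664]) (.leaf []))))))))))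

/-- their proofs -/
def proofTab : WTab :=
  (.node (.node (.node (.node proofTab0 proofTab8) (.node proofTab4 proofTab12)) (.node (.node proofTab2 proofTab10) (.node proofTab6 proofTab14))) (.node (.node (.node proofTab1 proofTab9) (.node proofTab5 proofTab13)) (.node (.node proofTab3 proofTab11) (.node proofTab7 proofTab15))))

end

end Cfsg.Agent.ONan
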