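import Mathlib.Data.Matrix.Basic
import Mathlib.Data.Matrix.Mul
import Mathlib.Data.ZMod.Basic
import Mathlib.Algebra.BigOperators.Fin

/-!
Matrices of size 45 over the field with seven elements, a row being packed into one number with sixteen
bits to the entry, for evaluation in the kernel.
-/

set_option autoImplicit false

namespace Cfsg.Agent.ONan.Rep

noncomputable section

/-- Square matrices of size 45 over the field with seven elements. -/
abbrev M45 : Type := Matrix (Fin 45) (Fin 45) (ZMod 7)

/-- Entry `j` of a packed row. -/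
def lane (v j : ℕ) : ℕ := Nat.land (Nat.shiftRight v (Nat.mul 16 j)) 65535

theorem lane_eq (v j : ℕ) : lane v j = v / 65536 ^ j % 65536 := by
  show (v >>> (16 * j)) &&& 65535 = _
  rw [show (65535 : ℕ) = 2 ^ 16 - 1 by norm_num, Nat.and_two_pow_sub_one_eq_mod,
    Nat.shiftRight_eq_div_pow, pow_mul]
  norm_num

/-- Pack `f 0, …, f (n-1)`. -/
def packF (f : ℕ → ℕ) (n : ℕ) : ℕ :=
  Nat.rec 0 (fun i r => Nat.add r (Nat.shiftLeft (f i) (Nat.mul 16 i))) n

theorem packF_succ (f : ℕ → ℕ) (n : ℕ) : packF f (n + 1) = packF f n + f n * 65536 ^ n := by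
  show packF f n + (f n <<< (16 * n)) = _
  rw [Nat.shiftLeft_eq, pow_mul]
  norm_num

theorem packF_lt {f : ℕ → ℕ} : ∀ {n : ℕ}, (∀ i < n, f i < 65536) → packF f n < 65536 ^ n := by
  intro n
  induction n with
  | zero => intro _; simp [packF]
  | succ n ih =>
    intro h
    have h1 := ih fun i hi => h i (by omega)
    have h2 : f n * 65536 ^ n ≤ 65535 * 65536 ^ n :=
      Nat.mul_le_mul_right _ (Nat.le_of_lt_succ (h n (by omega)))
    rw [packF_succ, pow_succ]
    omega

theorem lane_packF {f : ℕ → ℕ} : ∀ {n : ℕ}, (∀ i < n, f i < 65536) → ∀ j < n, lane (packF f n) j = f j := by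
  intro n
  induction n with
  | zero => intro _ j hj; omega
  | succ n ih =>
    intro h j hj
    rw [lane_eq, packF_succ]
    rcases Nat.lt_succ_iff_lt_or_eq.1 hj with hj' | rfl
    · have := ih (fun i hi => h i (by omega)) j hj'
      rw [lane_eq] at this
      obtain ⟨d, rfl⟩ : ∃ d, n = j + 1 + d := ⟨n - (j + 1), by omega⟩
      rw [show f (j + 1 + d) * 65536 ^ (j + 1 + d) = 65536 ^ j * (f (j + 1 + d) * 65536 ^ d * 65536) by
        rw [pow_add, pow_succ]; ring, Nat.add_mul_div_left _ _ (Nat.pow_pos (by norm_num)), Nat.add_mul_mod_self_right]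
      exact this
    · rw [Nat.add_mul_div_right _ _ (Nat.pow_pos (by norm_num)),
        Nat.div_eq_of_lt (packF_lt fun i hi => h i (by omega)), Nat.zero_add, Nat.mod_eq_of_lt (h j hj)]

theorem packF_lane : ∀ (n v : ℕ), v < 65536 ^ n → packF (lane v) n = v := by
  have key : ∀ n v, packF (lane v) n = v % 65536 ^ n := by
    intro n v
    induction n with
    | zero => simp [packF, Nat.mod_one]
    | succ n ih =>
      rw [packF_succ, ih, lane_eq, pow_succ, Nat.mod_mul, Nat.mul_comm]
  intro n v hv
  rw [key, Nat.mod_eq_of_lt hv]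

/-- The bound on a packed row. -/
def rowBound : ℕ := Nat.shiftLeft 1 720

theorem rowBound_eq : rowBound = 65536 ^ 45 := by
  show (1 : ℕ) <<< 720 = _
  rw [Nat.shiftLeft_eq, one_mul, show (65536 : ℕ) = 2 ^ 16 by norm_num, ← pow_mul]

/-- `f i` for all `i < n`. -/
def allLt (f : ℕ → Bool) (n : ℕ) : Bool := Nat.rec true (fun i r => Bool.rec false r (f i)) n

theorem allLt_spec {f : ℕ → Bool} : ∀ {n : ℕ}, allLt f n = true → ∀ i < n, f i = true := by
  intro n
  induction n with
  | zero => intro _ i hi; omega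
  | succ n ih =>
    intro h i hi
    change Bool.rec false (allLt f n) (f n) = true at h
    cases hf : f n with
    | false => rw [hf] at h; exact Bool.noConfusion h
    | true =>
      rw [hf] at h
      rcases Nat.lt_succ_iff_lt_or_eq.1 hi with h1 | h1
      · exact ih h i h1
      · exact h1 ▸ hf

/-- A row in normal form: 45 entries below 7. -/
def rowOK (r : ℕ) : Bool := Nat.blt r rowBound && allLt (fun j => Nat.blt (lane r j) 7) 45

/-- A matrix in normal form. -/
def matOK (A : List ℕ) : Bool := Nat.beq A.length 45 && A.all rowOK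

/-- The sum of `v_i * A_i` as a number. -/
def rowSum (v : ℕ) (A : List ℕ) : ℕ :=
  List.rec (fun _ => 0)
    (fun r _ ih v => Nat.add (Nat.mul (Nat.land v 65535) r) (ih (Nat.shiftRight v 16))) A v

/-- Reduce every entry modulo 7. -/
def reduce7 (v : ℕ) : ℕ := packF (fun j => Nat.mod (lane v j) 7) 45

/-- A row times a matrix. -/
def vecMat (v : ℕ) (A : List ℕ) : ℕ := reduce7 (rowSum v A)

/-- The product of two matrices. -/
def mulP (A B : List ℕ) : List ℕ := A.map fun r => vecMat r B

/-- The scalar matrix `c`. -/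
def scP (c : ℕ) : List ℕ := (List.range 45).map fun i => Nat.shiftLeft c (Nat.mul 16 i)

/-- Equality of lists of numbers. -/
def eqL : List ℕ → List ℕ → Bool
  | [], [] => true
  | x :: u, y :: v => Nat.beq x y && eqL u v
  | _, _ => false

theorem eq_of_eqL : ∀ {u v : List ℕ}, eqL u v = true → u = v := by
  intro u
  induction u with
  | nil => intro v h; cases v <;> simp [eqL] at h ⊢
  | cons x u ih =>
    intro v h
    cases v with
    | nil => simp [eqL] at h
    | cons y v =>
      simp only [eqL, Bool.and_eq_true] at h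
      rw [Nat.eq_of_beq_eq_true h.1, ih h.2]

/-- The row encoded by a number. -/
def toV (v : ℕ) : Fin 45 → ZMod 7 := fun j => (lane v j : ZMod 7)

/-- The matrix encoded by a list. -/
def toM (A : List ℕ) : M45 := Matrix.of fun i => toV (A.getD i 0)

theorem rowSum_cons (r : ℕ) (A : List ℕ) (v : ℕ) :
    rowSum v (r :: A) = v % 65536 * r + rowSum (v / 65536) A := by
  show (v &&& 65535) * r + rowSum (v >>> 16) A = _
  rw [show (65535 : ℕ) = 2 ^ 16 - 1 by norm_num, Nat.and_two_pow_sub_one_eq_mod, Nat.shiftRight_eq_div_pow]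

theorem rowOK_spec {r : ℕ} (h : rowOK r = true) : r < 65536 ^ 45 ∧ ∀ j < 45, lane r j < 7 := by
  simp only [rowOK, Bool.and_eq_true, Nat.blt_eq] at h
  refine ⟨rowBound_eq ▸ h.1, fun j hj => ?_⟩
  simpa [Nat.blt_eq] using allLt_spec h.2 j hj

theorem packF_add (f g : ℕ → ℕ) : ∀ n, packF f n + packF g n = packF (fun j => f j + g j) n := by
  intro n
  induction n with
  | zero => rfl
  | succ n ih => rw [packF_succ, packF_succ, packF_succ, ← ih, Nat.add_mul]; omega

theorem mul_packF (c : ℕ) (f : ℕ → ℕ) : ∀ n, c * packF f n = packF (fun j => c * f j) n := by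
  intro n
  induction n with
  | zero => rfl
  | succ n ih => rw [packF_succ, packF_succ, Nat.mul_add, ih, Nat.mul_assoc]

/-- Entry `j` of the sum, before reduction. -/
def entrySum (v : ℕ) (A : List ℕ) (j : ℕ) : ℕ := ∑ i : Fin A.length, lane v i * lane (A.get i) j

theorem lane_succ (v i : ℕ) : lane v (i + 1) = lane (v / 65536) i := by
  rw [lane_eq, lane_eq, pow_succ', Nat.div_div_eq_div_mul]

theorem entrySum_cons (r : ℕ) (A : List ℕ) (v j : ℕ) :
    entrySum v (r :: A) j = v % 65536 * lane r j + entrySum (v / 65536) A j := by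
  have h0 : lane v 0 = v % 65536 := by simp [lane_eq]
  show (∑ i : Fin (A.length + 1), lane v i * lane ((r :: A).get i) j) = _
  rw [Fin.sum_univ_succ]
  simp [entrySum, h0, lane_succ]

theorem rowSum_eq : ∀ (A : List ℕ) (v : ℕ), (∀ r ∈ A, r < 65536 ^ 45) →
    rowSum v A = packF (entrySum v A) 45 := by
  intro A
  induction A with
  | nil =>
    intro v _
    have : ∀ n, packF (entrySum v []) n = 0 := by
      intro n
      induction n with
      | zero => rfl
      | succ n ih => rw [packF_succ, ih]; simp [entrySum]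
    rw [this]; rfl
  | cons r A ih =>
    intro v h
    rw [rowSum_cons, ih _ fun q hq => h q (List.mem_cons_of_mem _ hq)]
    conv_lhs => rw [← packF_lane 45 r (h r List.mem_cons_self)]
    rw [mul_packF, packF_add]
    congr 1
    funext j
    rw [entrySum_cons]

theorem entrySum_le {v : ℕ} {A : List ℕ} (hl : A.length = 45) (hA : ∀ r ∈ A, rowOK r = true)
    (hv : rowOK v = true) {j : ℕ} (hj : j < 45) : entrySum v A j < 65536 := by
  have h : ∀ i : Fin A.length, lane v i * lane (A.get i) j ≤ 36 := by
    intro i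
    have h1 := (rowOK_spec hv).2 i (hl ▸ i.2)
    have h2 := (rowOK_spec (hA _ (List.get_mem A i))).2 j hj
    exact (Nat.mul_le_mul (Nat.le_of_lt_succ h1) (Nat.le_of_lt_succ h2)).trans (le_of_eq rfl)
  calc entrySum v A j ≤ ∑ _i : Fin A.length, 36 := Finset.sum_le_sum fun i _ => h i
    _ < 65536 := by simp [hl]

theorem reduce7_rowOK (v : ℕ) : rowOK (reduce7 v) = true := by
  have h7 : ∀ i < 45, Nat.mod (lane v i) 7 < 65536 := fun i _ =>
    (Nat.mod_lt _ (by norm_num : 7 > 0)).trans (by omega)
  simp only [rowOK, Bool.and_eq_true, Nat.blt_eq]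
  refine ⟨by rw [rowBound_eq]; exact packF_lt h7, ?_⟩
  have : ∀ j, j ≤ 45 → allLt (fun i => Nat.blt (lane (reduce7 v) i) 7) j = true := by
    intro j
    induction j with
    | zero => intro _; rfl
    | succ j ih =>
      intro hj
      show Bool.rec false (allLt (fun i => Nat.blt (lane (reduce7 v) i) 7) j)
        (Nat.blt (lane (reduce7 v) j) 7) = true
      rw [reduce7, lane_packF h7 j (by omega), show Nat.blt (Nat.mod (lane v j) 7) 7 = true by
        rw [Nat.blt_eq]; exact Nat.mod_lt _ (by norm_num)]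
      exact ih (by omega)
  exact this 45 le_rfl

theorem toV_vecMat {v : ℕ} {A : List ℕ} (hA : matOK A = true) (hv : rowOK v = true) :
    toV (vecMat v A) = Matrix.vecMul (toV v) (toM A) := by
  simp only [matOK, Bool.and_eq_true, Nat.beq_eq, List.all_eq_true] at hA
  obtain ⟨hl, hA⟩ := hA
  funext j
  have h7 : ∀ i < 45, Nat.mod (lane (rowSum v A) i) 7 < 65536 := fun i _ =>
    (Nat.mod_lt _ (by norm_num : 7 > 0)).trans (by omega)
  rw [toV, vecMat, reduce7, lane_packF h7 _ j.2,
    show Nat.mod (lane (rowSum v A) j) 7 = lane (rowSum v A) j % 7 from rfl, ZMod.natCast_mod,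
    rowSum_eq A v fun r hr => (rowOK_spec (hA r hr)).1,
    lane_packF (fun i hi => entrySum_le hl hA hv hi) _ j.2, entrySum, Nat.cast_sum]
  show _ = ∑ i : Fin 45, toV v i * toM A i j
  rw [← (finCongr hl).sum_comp]
  refine Finset.sum_congr rfl fun i _ => ?_
  simp [toV, toM]

theorem vecMat_rowOK (v : ℕ) (A : List ℕ) : rowOK (vecMat v A) = true := reduce7_rowOK _

theorem mulP_matOK {A : List ℕ} (B : List ℕ) (hA : matOK A = true) : matOK (mulP A B) = true := by
  simp only [matOK, Bool.and_eq_true, Nat.beq_eq, List.all_eq_true] at hA ⊢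
  refine ⟨by simpa [mulP] using hA.1, fun r hr => ?_⟩
  obtain ⟨q, -, rfl⟩ := List.mem_map.1 hr
  exact vecMat_rowOK _ _

theorem toM_mulP {A B : List ℕ} (hA : matOK A = true) (hB : matOK B = true) :
    toM (mulP A B) = toM A * toM B := by
  have hA' := hA
  simp only [matOK, Bool.and_eq_true, Nat.beq_eq, List.all_eq_true] at hA'
  obtain ⟨hl, hrow⟩ := hA'
  ext i j
  have hi : (i : ℕ) < A.length := by omega
  have e : (mulP A B).getD i 0 = vecMat (A.getD i 0) B := by
    simp [mulP, hi]
  have hr : rowOK (A.getD i 0) = true := by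
    rw [List.getD_eq_getElem?_getD, List.getElem?_eq_getElem hi]
    exact hrow _ (List.getElem_mem hi)
  show toV ((mulP A B).getD i 0) j = _
  rw [e, toV_vecMat hB hr, Matrix.mul_apply]
  rfl

theorem toM_scP {c : ℕ} (hc : c < 7) : toM (scP c) = Matrix.scalar (Fin 45) (c : ZMod 7) := by
  ext i j
  show toV ((scP c).getD i 0) j = _
  have e : (scP c).getD i 0 = packF (fun k => if k = (i : ℕ) then c else 0) 45 := by
    rw [scP, List.getD_eq_getElem?_getD, List.getElem?_map, List.getElem?_range i.2]
    simp only [Option.map_some, Option.getD_some]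
    have key : ∀ n, packF (fun k => if k = (i : ℕ) then c else 0) n =
        if (i : ℕ) < n then c * 65536 ^ (i : ℕ) else 0 := by
      intro n
      induction n with
      | zero => simp [packF]
      | succ n ih =>
        rw [packF_succ, ih]
        rcases lt_trichotomy (i : ℕ) n with h | h | h
        · simp [h, Nat.ne_of_gt h, Nat.lt_succ_of_lt h]
        · simp [h]
        · simp [Nat.ne_of_lt h, not_lt.2 h.le, show ¬ (i : ℕ) < n + 1 by omega]
    rw [key, if_pos i.2]
    show c <<< (16 * (i : ℕ)) = _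
    rw [Nat.shiftLeft_eq, pow_mul]
    norm_num
  rw [e, toV, lane_packF (fun k _ => by split <;> omega) _ j.2, Matrix.scalar_apply]
  by_cases h : i = j
  · subst h; simp
  · simp [h, Fin.val_ne_of_ne (Ne.symm h)]

theorem scP_matOK : matOK (scP 1) = true ∧ matOK (scP 2) = true ∧ matOK (scP 4) = true :=
  ⟨by decide +kernel, by decide +kernel, by decide +kernel⟩

end

end Cfsg.Agent.ONan.Rep
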