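import Cfsg.Agent.Lib.ONan.RepBase
import Cfsg.Agent.Lib.ONan.RepData
import Cfsg.Agent.Lib.ONan.Presentation
import Mathlib.Algebra.Group.Subgroup.ZPowers.Basic
import Mathlib.GroupTheory.QuotientGroup.Basic

/-!
The representation of the triple cover of the O'Nan group of degree 45 over the field with seven elements, as
a homomorphism from the presented group to matrices modulo the scalars of order dividing 3.
-/

set_option autoImplicit false
set_option maxRecDepth 100000

namespace Cfsg.Agent.ONan.Rep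

open Cfsg.Agent.CosetCert
open Cfsg.Spor

noncomputable section

/-- A generator. -/
def genL (x : ℕ) : List ℕ := Bool.rec (scP 1) (genMats.getD x []) (Nat.blt x 7)

/-- The product along a word. -/
def wordMat (w : List ℕ) : List ℕ :=
  List.rec (fun acc => acc) (fun x _ r acc => r (mulP acc (genL x))) w (scP 1)

/-- The checks on the generators. -/
def genCheck : Bool :=
  allLt (fun x => matOK (genL x)) 7 &&
  allLt (fun x => eqL (mulP (genL x) (genL x)) (scP 1)) 6 &&
  eqL (mulP (genL 6) (mulP (genL 0) (mulP (genL 5) (genL 6)))) (scP 1) &&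
  eqL (mulP (mulP (genL 0) (mulP (genL 5) (genL 6))) (genL 6)) (scP 1)

theorem genCheck_ok : genCheck = true := by decide +kernel

theorem genL_ok (x : ℕ) : matOK (genL x) = true := by
  cases h : Nat.blt x 7
  · rw [genL, h]; exact scP_matOK.1
  · have hg := genCheck_ok
    simp only [genCheck, Bool.and_eq_true] at hg
    exact allLt_spec hg.1.1.1 x (by simpa [Nat.blt_eq] using h)

theorem toM_one : toM (scP 1) = 1 := by
  rw [toM_scP (by norm_num), Nat.cast_one, map_one]

/-- The matrix of a generator as a unit. -/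
def genU (x : ℕ) : M45ˣ :=
  if hx : x < 6 then
    ⟨toM (genL x), toM (genL x), by
      have hg := genCheck_ok
      simp only [genCheck, Bool.and_eq_true] at hg
      rw [← toM_mulP (genL_ok x) (genL_ok x), eq_of_eqL (allLt_spec hg.1.1.2 x hx), toM_one], by
      have hg := genCheck_ok
      simp only [genCheck, Bool.and_eq_true] at hg
      rw [← toM_mulP (genL_ok x) (genL_ok x), eq_of_eqL (allLt_spec hg.1.1.2 x hx), toM_one]⟩
  else if x = 6 then
    ⟨toM (genL 6), toM (mulP (genL 0) (mulP (genL 5) (genL 6))), by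
      have hg := genCheck_ok
      simp only [genCheck, Bool.and_eq_true] at hg
      rw [← toM_mulP (genL_ok _) (mulP_matOK _ (genL_ok _)), eq_of_eqL hg.1.2, toM_one], by
      have hg := genCheck_ok
      simp only [genCheck, Bool.and_eq_true] at hg
      rw [← toM_mulP (mulP_matOK _ (genL_ok _)) (genL_ok _), eq_of_eqL hg.2, toM_one]⟩
  else 1

theorem val_genU (x : ℕ) : (genU x : M45) = toM (genL x) := by
  unfold genU
  split
  · rfl
  · split
    · next h => subst h; rfl
    · rw [genL, show Nat.blt x 7 = false by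
        cases hb : Nat.blt x 7
        · rfl
        · rw [Nat.blt_eq] at hb; omega]
      exact toM_one.symm

theorem wordMat_aux : ∀ (w acc : List ℕ), matOK acc = true →
    matOK (List.rec (fun a => a) (fun x _ r a => r (mulP a (genL x))) w acc) = true ∧
      toM (List.rec (fun a => a) (fun x _ r a => r (mulP a (genL x))) w acc) =
        toM acc * (wprod genU w : M45ˣ) := by
  intro w
  induction w with
  | nil => intro acc h; exact ⟨h, by simp [wprod]⟩
  | cons x w ih =>
    intro acc h
    obtain ⟨h1, h2⟩ := ih (mulP acc (genL x)) (mulP_matOK _ h)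
    refine ⟨h1, ?_⟩
    rw [h2, toM_mulP h (genL_ok x), wprod_cons, Units.val_mul, val_genU, mul_assoc]

theorem wordMat_spec (w : List ℕ) :
    matOK (wordMat w) = true ∧ toM (wordMat w) = (wprod genU w : M45ˣ) := by
  obtain ⟨h1, h2⟩ := wordMat_aux w (scP 1) scP_matOK.1
  exact ⟨h1, by rw [wordMat, h2, toM_one, one_mul]⟩

/-- The unit scalar `2`. -/
def two45 : M45ˣ :=
  ⟨Matrix.scalar (Fin 45) (2 : ZMod 7), Matrix.scalar (Fin 45) (4 : ZMod 7),
    by rw [← map_mul, show (2 : ZMod 7) * 4 = 1 from by decide, map_one],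
    by rw [← map_mul, show (4 : ZMod 7) * 2 = 1 from by decide, map_one]⟩

theorem two45_pow (n : ℕ) : ((two45 ^ n : M45ˣ) : M45) = Matrix.scalar (Fin 45) ((2 : ZMod 7) ^ n) := by
  rw [Units.val_pow_eq_pow_val, map_pow]; rfl

/-- The scalars of order dividing 3. -/
abbrev Z3 : Subgroup M45ˣ := Subgroup.zpowers two45

theorem scalar_comm (c : ZMod 7) (A : M45) : Matrix.scalar (Fin 45) c * A = A * Matrix.scalar (Fin 45) c :=
  (Matrix.scalar_commute c (fun r => mul_comm _ _) A).eq

theorem mem_center_of_Z3 {u : M45ˣ} (hu : u ∈ Z3) : u ∈ Subgroup.center M45ˣ := by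
  refine (Subgroup.zpowers_le.2 ?_) hu
  rw [Subgroup.mem_center_iff]
  intro v
  exact Units.ext (scalar_comm (2 : ZMod 7) (v : M45)).symm

instance : Z3.Normal :=
  ⟨fun u hu v => by rw [Subgroup.mem_center_iff.1 (mem_center_of_Z3 hu) v, mul_inv_cancel_right]; exact hu⟩

/-- Matrices modulo the scalars of order dividing 3. -/
abbrev Q45 : Type := M45ˣ ⧸ Z3

/-- The scalar with code `c`. -/
def scU (c : ℕ) : M45ˣ := if c = 2 then two45 else if c = 4 then two45 ^ 2 else 1

theorem scU_mem (c : ℕ) : scU c ∈ Z3 := by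
  unfold scU
  split
  · exact Subgroup.mem_zpowers _
  · split
    · exact pow_mem (Subgroup.mem_zpowers _) _
    · exact one_mem _

/-- The allowed scalars. -/
def scalarOK (c : ℕ) : Bool := Nat.beq c 1 || Nat.beq c 2 || Nat.beq c 4

theorem toM_scU {c : ℕ} (h : scalarOK c = true) : toM (scP c) = (scU c : M45) := by
  simp only [scalarOK, Bool.or_eq_true, Nat.beq_eq] at h
  rcases h with (rfl | rfl) | rfl
  · simp [scU, toM_one]
  · rw [toM_scP (by norm_num)]; rfl
  · rw [toM_scP (by norm_num), scU, if_neg (by norm_num), if_pos rfl, two45_pow]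
    rfl

theorem scP_ok {c : ℕ} (h : scalarOK c = true) : matOK (scP c) = true := by
  simp only [scalarOK, Bool.or_eq_true, Nat.beq_eq] at h
  rcases h with (rfl | rfl) | rfl
  exacts [scP_matOK.1, scP_matOK.2.1, scP_matOK.2.2]

theorem mem_Z3_cases {u : M45ˣ} (hu : u ∈ Z3) : ∃ c, scalarOK c = true ∧ u = scU c := by
  have h3 : two45 ^ 3 = 1 := Units.ext (by rw [two45_pow, show (2 : ZMod 7) ^ 3 = 1 by decide, map_one]; rfl)
  obtain ⟨k, rfl⟩ := Subgroup.mem_zpowers_iff.1 hu
  obtain ⟨q, r, hr, rfl⟩ : ∃ q r : ℤ, (r = 0 ∨ r = 1 ∨ r = 2) ∧ k = 3 * q + r :=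
    ⟨k / 3, k % 3, by omega, by omega⟩
  have e : two45 ^ (3 * q + r) = two45 ^ r := by
    rw [zpow_add, zpow_mul, show two45 ^ (3 : ℤ) = 1 by exact_mod_cast h3, one_zpow, one_mul]
  rw [e]
  rcases hr with rfl | rfl | rfl
  · exact ⟨1, rfl, by simp [scU]⟩
  · exact ⟨2, rfl, by simp [scU]⟩
  · exact ⟨4, rfl, by simp [scU]⟩

/-- A word is the scalar `c`. -/
def isScalarWord (c : ℕ) (w : List ℕ) : Bool := scalarOK c && eqL (wordMat w) (scP c)

theorem isScalarWord_spec {c : ℕ} {w : List ℕ} (h : isScalarWord c w = true) :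
    wprod genU w = scU c := by
  simp only [isScalarWord, Bool.and_eq_true] at h
  apply Units.ext
  rw [← (wordMat_spec w).2, eq_of_eqL h.2, toM_scU h.1]

/-- A word maps to the identity of the quotient. -/
def isTrivWord (w : List ℕ) : Bool := isScalarWord 1 w || isScalarWord 2 w || isScalarWord 4 w

/-- The image of a word in the quotient. -/
def qw (w : List ℕ) : Q45 := wprod (fun x => ((genU x : M45ˣ) : Q45)) w

theorem qw_eq (w : List ℕ) : qw w = ((wprod genU w : M45ˣ) : Q45) :=
  (wprod_map (QuotientGroup.mk' Z3) genU w).symm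

theorem qw_triv {w : List ℕ} (h : isTrivWord w = true) : qw w = 1 := by
  rw [qw_eq, QuotientGroup.eq_one_iff]
  simp only [isTrivWord, Bool.or_eq_true] at h
  rcases h with (h | h) | h <;> rw [isScalarWord_spec h] <;> exact scU_mem _

/-- The number of a generator. -/
def genIdx : ON.Gen → ℕ
  | .a => 0
  | .b => 1
  | .c => 2
  | .d => 3
  | .e => 4
  | .f => 5
  | .g => 6

/-- The word of a Coxeter relator. -/
def coxWord (x y : ON.Gen) : List ℕ :=
  (List.replicate (coxLabel ON.edges x y) [genIdx x, genIdx y]).flatten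

/-- The words of the further relators. -/
def extraWords : List (List ℕ) := [
  [0, 5] ++ [6, 6, 6] ++ [6, 6, 6],
  [0, 5] ++ [3, 2, 3, 2, 3, 2, 3, 2],
  [2] ++ [6, 6, 6, 3, 6, 6, 6, 3] ++ [2] ++ [3, 6, 3, 6],
  [3] ++ [6, 6, 6, 2, 6, 6, 6, 2] ++ [3] ++ [2, 6, 2, 6],
  [1, 2, 3, 6, 1, 2, 3, 6, 1, 2, 3, 6, 1, 2, 3, 6, 1, 2, 3, 6],
  [6, 1] ++ [2, 6, 2] ++ [1, 6, 1] ++ [2, 6, 2],
  [6, 4] ++ [3, 6, 3] ++ [4, 6, 4] ++ [3, 6, 3]]

theorem coxWords_ok :
    ((coxNodes ON.edges).all fun x => (coxNodes ON.edges).all fun y => isTrivWord (coxWord x y)) = true := by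
  decide +kernel

theorem extraWords_ok : extraWords.all isTrivWord = true := by decide +kernel

theorem g4_ok : isTrivWord [6, 6, 6, 6] = true := by decide +kernel

/-- The images of the generators. -/
def genQ (x : ON.Gen) : Q45 := (genU (genIdx x) : Q45)

theorem rel_of_words {Q : Type*} [Group Q] (u : ℕ → Q) (hinv : ∀ x < 6, (u x)⁻¹ = u x)
    (hg : (u 6)⁻¹ = u 6 * (u 6 * u 6))
    (hcox : ∀ x ∈ coxNodes ON.edges, ∀ y ∈ coxNodes ON.edges, wprod u (coxWord x y) = 1)
    (hextra : ∀ w ∈ extraWords, wprod u w = 1) :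
    ∀ r ∈ relON, FreeGroup.lift (fun x => u (genIdx x)) r = 1 := by
  rintro r (⟨x, hx, y, hy, rfl⟩ | hr)
  · have := hcox x hx y hy
    rw [map_pow, map_mul, FreeGroup.lift_apply_of, FreeGroup.lift_apply_of]
    have key : ∀ n, wprod u (List.replicate n [genIdx x, genIdx y]).flatten =
        (u (genIdx x) * u (genIdx y)) ^ n := by
      intro n
      induction n with
      | zero => simp [wprod]
      | succ n ih =>
        rw [List.replicate_succ, List.flatten_cons, wprod_append, ih, pow_succ']
        simp [wprod]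
    rwa [coxWord, key] at this
  · simp only [extraWords, List.mem_cons, List.not_mem_nil, or_false, forall_eq_or_imp,
      forall_eq] at hextra
    obtain ⟨e1, e2, e3, e4, e5, e6, e7⟩ := hextra
    simp only [wprod, List.cons_append, List.nil_append, List.map_cons, List.map_nil, List.prod_cons,
      List.prod_nil, mul_one] at e1 e2 e3 e4 e5 e6 e7
    have i0 := hinv 0 (by norm_num); have i1 := hinv 1 (by norm_num); have i2 := hinv 2 (by norm_num)
    have i3 := hinv 3 (by norm_num); have i4 := hinv 4 (by norm_num); have i5 := hinv 5 (by norm_num)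
    change r ∈ ON.extra at hr
    simp only [ON.extra, List.mem_cons, List.not_mem_nil, or_false] at hr
    rcases hr with rfl | rfl | rfl | rfl | rfl | rfl | rfl <;>
      simp only [map_mul, map_inv, map_pow, FreeGroup.lift_apply_of, mul_inv_rev, genIdx, i0, i1, i2, i3, i4,
        i5, hg, pow_succ, pow_zero, one_mul, mul_assoc] <;>
      first | exact e1 | exact e2 | exact e3 | exact e4 | exact e5 | exact e6 | exact e7

theorem genQ_inv {x : ℕ} (hx : x < 6) : ((genU x : Q45))⁻¹ = (genU x : Q45) := by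
  refine inv_eq_of_mul_eq_one_right ?_
  rw [← QuotientGroup.mk_mul]
  have : genU x * genU x = 1 := by
    have hg := genCheck_ok
    simp only [genCheck, Bool.and_eq_true] at hg
    apply Units.ext
    rw [Units.val_mul, val_genU, ← toM_mulP (genL_ok _) (genL_ok _),
      eq_of_eqL (allLt_spec hg.1.1.2 _ hx), toM_one, Units.val_one]
  rw [this, QuotientGroup.mk_one]

theorem genQ_g_inv : ((genU 6 : Q45))⁻¹ = (genU 6 : Q45) * ((genU 6 : Q45) * (genU 6 : Q45)) := by
  refine inv_eq_of_mul_eq_one_right ?_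
  have e : qw [6, 6, 6, 6] = (genU 6 : Q45) * ((genU 6 : Q45) * ((genU 6 : Q45) * (genU 6 : Q45))) := by
    rw [qw, wprod_cons, wprod_cons, wprod_cons, wprod_cons, wprod, List.map_nil, List.prod_nil, mul_one]
  rw [← e]
  exact qw_triv g4_ok

theorem relON_one : ∀ r ∈ relON, FreeGroup.lift genQ r = 1 :=
  rel_of_words (fun x => (genU x : Q45)) (fun _ h => genQ_inv h) genQ_g_inv
    (fun x hx y hy => qw_triv (List.all_eq_true.1 (List.all_eq_true.1 coxWords_ok x hx) y hy))
    (fun w hw => qw_triv (List.all_eq_true.1 extraWords_ok w hw))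

/-- The representation. -/
def rho : Cfsg.Spor.ON →* Q45 := PresentedGroup.toGroup relON_one

theorem rho_ofON {x : ℕ} (hx : x < 7) : rho (ofON x) = (genU x : Q45) := by
  rw [ofON, if_pos hx, rho]
  show PresentedGroup.toGroup relON_one (PresentedGroup.of (gON x)) = _
  rw [PresentedGroup.toGroup.of, genQ]
  interval_cases x <;> rfl

theorem rho_word {w : List ℕ} (hw : ∀ x ∈ w, x < 7) : rho (wprod ofON w) = qw w := by
  rw [wprod_map, qw, wprod, wprod]
  congr 1
  exact List.map_congr_left fun x hx => rho_ofON (hw x hx)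

end

end Cfsg.Agent.ONan.Rep
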