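import Cfsg.Agent.Lib.ONan.RepGroup
import Cfsg.Agent.Lib.ONan.PCGroup
import Mathlib.GroupTheory.OrderOfElement

/-!
Certificates for subgroups of prime power order in the image of the representation: relations showing that
the order is at most `p ^ k`, and a row with `p ^ k` distinct images up to scalars showing equality.
-/

set_option autoImplicit false

namespace Cfsg.Agent.ONan.Rep

open Cfsg.Agent.CosetCert

noncomputable section

/-- The product of powers of matrices. -/
def prodExp : List (List ℕ) → List ℕ → List ℕ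
  | A :: l, n :: es => mulP (Nat.rec (scP 1) (fun _ r => mulP r A) n) (prodExp l es)
  | _, _ => scP 1

/-- A relation `T = U * (product) * scalar`, the code listing the scalar, then the exponents. -/
def relCheck (T U : List ℕ) (l : List (List ℕ)) : List ℕ → Bool
  | c :: es => scalarOK c && eqL T (mulP (mulP U (prodExp l es)) (scP c))
  | [] => false

/-- Power and conjugation relations of a sequence. -/
def pcCheck (p : ℕ) : List (List ℕ) → List (List ℕ) → List (List ℕ) → Bool
  | [], _, _ => true
  | A :: l, pows, conjs =>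
    match pows with
    | [] => false
    | pw :: pows =>
      relCheck (Nat.rec (scP 1) (fun _ r => mulP r A) p) (scP 1) l pw &&
        allLt (fun j => relCheck (mulP (l.getD j []) A) A l (conjs.getD j [])) l.length &&
        pcCheck p l pows (conjs.drop l.length)

/-- Extend a list of rows by the powers of a matrix. -/
def extend (p : ℕ) (A : List ℕ) (o : List ℕ) : List ℕ :=
  Nat.rec (fun _ => []) (fun _ r cur => cur ++ r (cur.map fun w => vecMat w A)) p o

/-- The images of a row under the products of powers. -/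
def orbitRows (p : ℕ) : List (List ℕ) → List ℕ → List ℕ
  | [], o => o
  | A :: l, o => orbitRows p l (extend p A o)

/-- A row times a scalar. -/
def scRow (c v : ℕ) : ℕ := reduce7 (Nat.mul c v)

/-- No two rows agree up to an allowed scalar. -/
def distinctUpTo : List ℕ → Bool
  | [] => true
  | v :: l => (l.all fun w => !(Nat.beq v w) && !(Nat.beq (scRow 2 v) w) && !(Nat.beq (scRow 4 v) w)) &&
      distinctUpTo l

/-- A subgroup certificate. -/
def groupCheck (p : ℕ) (mats words pows conjs : List (List ℕ)) (v : ℕ) : Bool :=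
  Nat.blt 0 p && Nat.beq mats.length words.length && rowOK v &&
    allLt (fun i => eqL (wordMat (words.getD i [])) (mats.getD i []) &&
      (words.getD i []).all fun x => Nat.blt x 7) words.length &&
    pcCheck p mats pows conjs &&
    Nat.beq (orbitRows p mats [v]).length (p ^ mats.length) && distinctUpTo (orbitRows p mats [v])

/-- A checked matrix as the image of a unit of the listed elements. -/
def IsMat (A : List ℕ) (u : M45ˣ) : Prop := matOK A = true ∧ toM A = (u : M45)

theorem IsMat.mul {A B : List ℕ} {u w : M45ˣ} (hA : IsMat A u) (hB : IsMat B w) :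
    IsMat (mulP A B) (u * w) :=
  ⟨mulP_matOK _ hA.1, by rw [toM_mulP hA.1 hB.1, hA.2, hB.2, Units.val_mul]⟩

theorem isMat_one : IsMat (scP 1) 1 := ⟨scP_matOK.1, toM_one⟩

theorem isMat_scU {c : ℕ} (h : scalarOK c = true) : IsMat (scP c) (scU c) := ⟨scP_ok h, toM_scU h⟩

theorem IsMat.powRec {A : List ℕ} {u : M45ˣ} (hA : IsMat A u) :
    ∀ n : ℕ, IsMat (Nat.rec (scP 1) (fun _ r => mulP r A) n) (u ^ n) := by
  intro n
  induction n with
  | zero => simpa using isMat_one
  | succ n ih => rw [pow_succ]; exact ih.mul hA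

theorem IsMat.unique {A : List ℕ} {u w : M45ˣ} (h : IsMat A u) (h' : IsMat A w) : u = w :=
  Units.ext (h.2.symm.trans h'.2)

theorem prodExp_mem {l : List (List ℕ)} {us : List M45ˣ} (hl : List.Forall₂ IsMat l us) :
    ∀ es : List ℕ, ∃ u, IsMat (prodExp l es) u ∧ (u : Q45) ∈ PC.span (us.map fun w : M45ˣ => (w : Q45)) := by
  induction hl with
  | nil => intro es; exact ⟨1, by simpa [prodExp] using isMat_one, one_mem _⟩
  | @cons A u l us hA _ ih =>
    intro es
    cases es with
    | nil => exact ⟨1, by simpa [prodExp] using isMat_one, one_mem _⟩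
    | cons n es =>
      obtain ⟨w, hw, hwm⟩ := ih es
      refine ⟨u ^ n * w, (hA.powRec n).mul hw, ?_⟩
      rw [QuotientGroup.mk_mul, QuotientGroup.mk_pow]
      refine mul_mem (pow_mem (Subgroup.subset_closure ?_) n) (Subgroup.closure_mono ?_ hwm)
      · simp
      · intro z hz
        simp only [Set.mem_ofPred_eq, List.map_cons, List.mem_cons] at hz ⊢
        exact Or.inr hz

theorem relCheck_spec {T U : List ℕ} {t s : M45ˣ} (hT : IsMat T t) (hU : IsMat U s) {l : List (List ℕ)}
    {us : List M45ˣ} (hl : List.Forall₂ IsMat l us) {code : List ℕ} (h : relCheck T U l code = true) :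
    (s : Q45)⁻¹ * (t : Q45) ∈ PC.span (us.map fun w : M45ˣ => (w : Q45)) := by
  cases code with
  | nil => simp [relCheck] at h
  | cons c es =>
    simp only [relCheck, Bool.and_eq_true] at h
    obtain ⟨w, hw, hwm⟩ := prodExp_mem hl es
    have e := hT.unique (eq_of_eqL h.2 ▸ (hU.mul hw).mul (isMat_scU h.1))
    rw [e, QuotientGroup.mk_mul, QuotientGroup.mk_mul, (QuotientGroup.eq_one_iff _).2 (scU_mem c),
      mul_one, inv_mul_cancel_left]
    exact hwm

theorem pcCheck_spec {p : ℕ} : ∀ {l : List (List ℕ)} {us : List M45ˣ}, List.Forall₂ IsMat l us →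
    ∀ {pows conjs : List (List ℕ)}, pcCheck p l pows conjs = true →
      PC.IsPC p (us.map fun w : M45ˣ => (w : Q45)) := by
  intro l us hl
  induction hl with
  | nil => intro _ _ _; trivial
  | @cons A u l us hA hl ih =>
    intro pows conjs h
    cases pows with
    | nil => simp [pcCheck] at h
    | cons pw pows =>
      simp only [pcCheck, Bool.and_eq_true] at h
      obtain ⟨⟨h1, h2⟩, h3⟩ := h
      refine ⟨?_, ?_, ih h3⟩
      · have := relCheck_spec (hA.powRec p) isMat_one hl h1
        simpa [QuotientGroup.mk_pow] using this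
      · intro z hz
        obtain ⟨w, hw, rfl⟩ := List.mem_map.1 hz
        obtain ⟨i, hi, rfl⟩ := List.getElem_of_mem hw
        have hlen := hl.length_eq
        have hil : i < l.length := by omega
        have hget : IsMat (l.getD i []) us[i] := by
          rw [List.getD_eq_getElem?_getD, List.getElem?_eq_getElem hil]
          exact List.Forall₂.get hl hil hi
        have := relCheck_spec (hget.mul hA) hA hl (allLt_spec h2 i hil)
        rw [QuotientGroup.mk_mul] at this
        rw [mul_assoc]
        exact this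

/-- A row is the image of `v` under an element of `K`, up to scalars. -/
def InOrbit (K : Subgroup Q45) (v w : ℕ) : Prop :=
  ∃ u : M45ˣ, (u : Q45) ∈ K ∧ rowOK w = true ∧ Matrix.vecMul (toV v) (u : M45) = toV w

theorem extend_orbit {K : Subgroup Q45} {v : ℕ} {A : List ℕ} {u : M45ˣ} (hA : IsMat A u)
    (hu : (u : Q45) ∈ K) : ∀ (p : ℕ) (o : List ℕ), (∀ w ∈ o, InOrbit K v w) →
      ∀ w ∈ extend p A o, InOrbit K v w := by
  intro p
  induction p with
  | zero => intro o _ w hw; simp [extend] at hw
  | succ p ih =>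
    intro o ho w hw
    change w ∈ o ++ extend p A (o.map fun z => vecMat z A) at hw
    rcases List.mem_append.1 hw with hw | hw
    · exact ho w hw
    · refine ih _ (fun z hz => ?_) w hw
      obtain ⟨y, hy, rfl⟩ := List.mem_map.1 hz
      obtain ⟨s, hs, hok, hsy⟩ := ho y hy
      refine ⟨s * u, by rw [QuotientGroup.mk_mul]; exact mul_mem hs hu, vecMat_rowOK _ _, ?_⟩
      rw [Units.val_mul, ← Matrix.vecMul_vecMul, hsy, toV_vecMat hA.1 hok, hA.2]

theorem orbitRows_orbit {K : Subgroup Q45} {v p : ℕ} : ∀ {l : List (List ℕ)} {us : List M45ˣ},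
    List.Forall₂ IsMat l us → (∀ u ∈ us, (u : Q45) ∈ K) →
      ∀ o : List ℕ, (∀ w ∈ o, InOrbit K v w) → ∀ w ∈ orbitRows p l o, InOrbit K v w := by
  intro l us hl
  induction hl with
  | nil => intro _ o ho w hw; exact ho w hw
  | @cons A u l us hA _ ih =>
    intro hmem o ho w hw
    exact ih (fun z hz => hmem z (List.mem_cons_of_mem _ hz)) _
      (extend_orbit hA (hmem u List.mem_cons_self) p o ho) w hw

theorem toV_injective {v w : ℕ} (hv : rowOK v = true) (hw : rowOK w = true) (h : toV v = toV w) :
    v = w := by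
  obtain ⟨hv1, hv2⟩ := rowOK_spec hv
  obtain ⟨hw1, hw2⟩ := rowOK_spec hw
  rw [← packF_lane 45 v hv1, ← packF_lane 45 w hw1]
  have key : ∀ n ≤ 45, packF (lane v) n = packF (lane w) n := by
    intro n
    induction n with
    | zero => intro _; rfl
    | succ n ih =>
      intro hn
      rw [packF_succ, packF_succ, ih (by omega)]
      have e : (lane v n : ZMod 7) = (lane w n : ZMod 7) := congrFun h ⟨n, by omega⟩
      rw [ZMod.natCast_eq_natCast_iff', Nat.mod_eq_of_lt (hv2 n (by omega)),
        Nat.mod_eq_of_lt (hw2 n (by omega))] at e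
      rw [e]
  exact key 45 le_rfl

theorem toV_scRow {c v : ℕ} (hc : c ≤ 4) (hv : rowOK v = true) :
    toV (scRow c v) = fun j => (c : ZMod 7) * toV v j := by
  obtain ⟨hv1, hv2⟩ := rowOK_spec hv
  funext j
  have h7 : ∀ i < 45, Nat.mod (lane (Nat.mul c v) i) 7 < 65536 := fun i _ =>
    (Nat.mod_lt _ (by norm_num : 7 > 0)).trans (by omega)
  have hb : ∀ i < 45, c * lane v i < 65536 := fun i hi => by
    have := hv2 i hi
    have := Nat.mul_le_mul hc (Nat.le_of_lt this)
    omega
  rw [toV, scRow, reduce7, lane_packF h7 _ j.2,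
    show Nat.mod (lane (Nat.mul c v) j) 7 = lane (c * v) j % 7 from rfl, ZMod.natCast_mod]
  conv_lhs => rw [← packF_lane 45 v hv1, mul_packF, lane_packF hb _ j.2]
  rw [Nat.cast_mul]
  rfl

theorem vecMul_scU {c : ℕ} (h : scalarOK c = true) (z : Fin 45 → ZMod 7) :
    Matrix.vecMul z (scU c : M45) = fun j => (c : ZMod 7) * z j := by
  rw [← toM_scU h, toM_scP (by
    simp only [scalarOK, Bool.or_eq_true, Nat.beq_eq] at h
    rcases h with (rfl | rfl) | rfl <;> norm_num)]
  funext j
  rw [Matrix.scalar_apply, Matrix.vecMul_diagonal, mul_comm]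

theorem distinctUpTo_spec : ∀ {l : List ℕ}, distinctUpTo l = true →
    l.Pairwise (fun a b => a ≠ b ∧ scRow 2 a ≠ b ∧ scRow 4 a ≠ b) := by
  intro l
  induction l with
  | nil => intro _; exact List.Pairwise.nil
  | cons v l ih =>
    intro h
    simp only [distinctUpTo, Bool.and_eq_true, List.all_eq_true, Bool.not_eq_true'] at h
    refine List.pairwise_cons.2 ⟨fun w hw => ?_, ih h.2⟩
    obtain ⟨⟨a, b⟩, c⟩ := h.1 w hw
    exact ⟨Nat.ne_of_beq_eq_false a, Nat.ne_of_beq_eq_false b, Nat.ne_of_beq_eq_false c⟩

/-- A certificate gives a subgroup of the image of exactly `p ^ k` elements. -/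
theorem groupCheck_spec {p : ℕ} {mats words pows conjs : List (List ℕ)} {v : ℕ}
    (h : groupCheck p mats words pows conjs v = true) :
    ∃ K : Subgroup Q45, K ≤ rho.range ∧ Nat.card K = p ^ mats.length := by
  simp only [groupCheck, Bool.and_eq_true, Nat.beq_eq, Nat.blt_eq] at h
  obtain ⟨⟨⟨⟨⟨⟨hp, hlen⟩, hv⟩, hw⟩, hpc⟩, horb⟩, hdist⟩ := h
  have hw' : ∀ i (hi : i < words.length),
      mats.getD i [] = wordMat (words.getD i []) ∧ ∀ x ∈ words.getD i [], x < 7 := fun i hi => by
    have := allLt_spec hw i hi
    simp only [Bool.and_eq_true, List.all_eq_true, Nat.blt_eq] at this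
    exact ⟨(eq_of_eqL this.1).symm, this.2⟩
  let us : List M45ˣ := words.map (wprod genU)
  have hl : List.Forall₂ IsMat mats us := by
    rw [List.forall₂_iff_get]
    refine ⟨by simp [us, hlen], fun i hi hi' => ?_⟩
    have hiw : i < words.length := by omega
    have := (hw' i hiw).1
    rw [List.getD_eq_getElem?_getD, List.getElem?_eq_getElem hi, Option.getD_some] at this
    simp only [List.get_eq_getElem, us, List.getElem_map]
    rw [this, List.getD_eq_getElem?_getD, List.getElem?_eq_getElem hiw, Option.getD_some]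
    exact wordMat_spec _
  let K : Subgroup Q45 := PC.span (us.map fun w : M45ˣ => (w : Q45))
  have hle : K ≤ rho.range := by
    rw [Subgroup.closure_le]
    intro z hz
    simp only [us, Set.mem_ofPred_eq, List.map_map, List.mem_map] at hz
    obtain ⟨w, hwm, rfl⟩ := hz
    obtain ⟨i, hi, rfl⟩ := List.getElem_of_mem hwm
    have h7 := (hw' i hi).2
    rw [List.getD_eq_getElem?_getD, List.getElem?_eq_getElem hi, Option.getD_some] at h7
    refine ⟨wprod ofON words[i], ?_⟩
    rw [rho_word h7, qw_eq]
    rfl
  obtain ⟨hfin, hcard⟩ := PC.card_le_of_isPC hp (pcCheck_spec hl hpc)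
  rw [List.length_map, show us.length = mats.length from hl.length_eq.symm] at hcard
  refine ⟨K, hle, le_antisymm hcard ?_⟩
  set O := orbitRows p mats [v] with hO
  have hone : InOrbit K v v := ⟨1, by simp, hv, by rw [Units.val_one, Matrix.vecMul_one]⟩
  have horbit := orbitRows_orbit (K := K) (v := v) (p := p) hl
    (fun u hu => Subgroup.subset_closure (List.mem_map.2 ⟨u, hu, rfl⟩)) [v]
    (fun w hw => by rw [List.mem_singleton.1 hw]; exact hone)
  have hsel : ∀ i : Fin O.length, InOrbit K v (O.get i) := fun i => horbit _ (List.get_mem O i)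
  choose u huK hok huv using hsel
  have hpair := distinctUpTo_spec hdist
  have key : ∀ i j : Fin O.length, i < j → (u i : Q45) ≠ (u j : Q45) := by
    intro i j hij e
    obtain ⟨c, hc, hcu⟩ := mem_Z3_cases (QuotientGroup.eq.1 e)
    have ej : u j = u i * scU c := by rw [← hcu, mul_inv_cancel_left]
    have hrow := huv j
    rw [ej, Units.val_mul, ← Matrix.vecMul_vecMul, huv i, vecMul_scU hc] at hrow
    obtain ⟨h1, h2, h4⟩ := List.pairwise_iff_getElem.1 hpair i j i.2 j.2 hij
    simp only [scalarOK, Bool.or_eq_true, Nat.beq_eq] at hc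
    rcases hc with (rfl | rfl) | rfl
    · exact h1 (toV_injective (hok i) (hok j) (Eq.trans (funext fun k => by simp) hrow))
    · exact h2 (toV_injective (reduce7_rowOK _) (hok j)
        ((toV_scRow (by norm_num) (hok i)).trans hrow))
    · exact h4 (toV_injective (reduce7_rowOK _) (hok j)
        ((toV_scRow (by norm_num) (hok i)).trans hrow))
  have hinj : Function.Injective fun i : Fin O.length => (⟨(u i : Q45), huK i⟩ : K) := by
    intro i j e
    have e' : (u i : Q45) = (u j : Q45) := congrArg Subtype.val e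
    rcases lt_trichotomy i j with hij | hij | hij
    · exact absurd e' (key i j hij)
    · exact hij
    · exact absurd e'.symm (key j i hij)
  have := Nat.card_le_card_of_injective _ hinj
  rwa [Nat.card_fin, horb] at this

/-- A word whose image has prime order. -/
def orderCheck (p : ℕ) (w A : List ℕ) : Bool :=
  (w.all fun x => Nat.blt x 7) && eqL (wordMat w) A &&
    !(eqL A (scP 1)) && !(eqL A (scP 2)) && !(eqL A (scP 4)) &&
    (eqL (Nat.rec (scP 1) (fun _ r => mulP r A) p) (scP 1) ||
      eqL (Nat.rec (scP 1) (fun _ r => mulP r A) p) (scP 2) ||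
      eqL (Nat.rec (scP 1) (fun _ r => mulP r A) p) (scP 4))

theorem eqL_refl : ∀ l : List ℕ, eqL l l = true := by
  intro l
  induction l with
  | nil => rfl
  | cons x l ih => simp [eqL, ih]

theorem list_eq_of_toM {A B : List ℕ} (hA : matOK A = true) (hB : matOK B = true) (h : toM A = toM B) :
    A = B := by
  simp only [matOK, Bool.and_eq_true, Nat.beq_eq, List.all_eq_true] at hA hB
  refine List.ext_getElem (by omega) fun i hi hi' => ?_
  refine toV_injective (hA.2 _ (List.getElem_mem hi)) (hB.2 _ (List.getElem_mem hi')) ?_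
  have h' : toV (A.getD i 0) = toV (B.getD i 0) := congrFun h ⟨i, by omega⟩
  simpa [hi, hi'] using h'

theorem orderCheck_spec {p : ℕ} (hp : p.Prime) {w A : List ℕ} (h : orderCheck p w A = true) :
    ∃ z ∈ rho.range, orderOf z = p := by
  simp only [orderCheck, Bool.and_eq_true, List.all_eq_true, Nat.blt_eq, Bool.or_eq_true,
    Bool.not_eq_true'] at h
  obtain ⟨⟨⟨⟨⟨hlt, hA⟩, n1⟩, n2⟩, n4⟩, hpow⟩ := h
  have hm : IsMat A (wprod genU w) := eq_of_eqL hA ▸ wordMat_spec w
  refine ⟨qw w, ⟨wprod ofON w, rho_word hlt⟩, ?_⟩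
  rw [qw_eq]
  haveI : Fact p.Prime := ⟨hp⟩
  refine orderOf_eq_prime ?_ ?_
  · rw [← QuotientGroup.mk_pow, QuotientGroup.eq_one_iff]
    rcases hpow with (h | h) | h
    · exact (hm.powRec p).unique (eq_of_eqL h ▸ isMat_scU (c := 1) rfl) ▸ scU_mem 1
    · exact (hm.powRec p).unique (eq_of_eqL h ▸ isMat_scU (c := 2) rfl) ▸ scU_mem 2
    · exact (hm.powRec p).unique (eq_of_eqL h ▸ isMat_scU (c := 4) rfl) ▸ scU_mem 4
  · intro e
    obtain ⟨c, hc, hcu⟩ := mem_Z3_cases ((QuotientGroup.eq_one_iff _).1 e)
    have hAc : A = scP c := list_eq_of_toM hm.1 (scP_ok hc) (by rw [hm.2, hcu, toM_scU hc])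
    simp only [scalarOK, Bool.or_eq_true, Nat.beq_eq] at hc
    rcases hc with (rfl | rfl) | rfl
    · rw [hAc, eqL_refl] at n1; exact Bool.noConfusion n1
    · rw [hAc, eqL_refl] at n2; exact Bool.noConfusion n2
    · rw [hAc, eqL_refl] at n4; exact Bool.noConfusion n4

end

end Cfsg.Agent.ONan.Rep
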