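import Cfsg.Agent.Lib.ONan.Deduce
import Cfsg.Agent.Lib.ONan.FactData
import Cfsg.Agent.Lib.ONan.ProofData

/-! The deduction data for the presented O'Nan group. -/

set_option autoImplicit false

namespace Cfsg.Agent.ONan

noncomputable section

/-- The relators involving `g`, with `g⁻¹` written as `a f g`. -/
def relsG : List (List ℕ) :=
  [[0, 5, 0, 5, 6, 0, 5, 6], [2, 0, 5, 6, 3, 0, 5, 6, 3, 2, 3, 6, 3, 6], [3, 0, 5, 6, 2, 0, 5, 6, 2, 3, 2, 6, 2, 6], [1, 2, 3, 6, 1, 2, 3, 6, 1, 2, 3, 6, 1, 2, 3, 6, 1, 2, 3, 6], [6, 1, 2, 6, 2, 1, 6, 1, 2, 6, 2], [6, 4, 3, 6, 3, 4, 6, 4, 3, 6, 3]]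

/-- The definitions `x k = x i * h * g`. -/
def defsG : List (List ℕ) :=
  [[2, 1, 988194], [3, 1, 263778], [4, 1, 1382982], [5, 1, 461160], [6, 1, 996078], [7, 1, 395490], [8, 1, 12], [9, 1, 609846], [10, 1, 1713776], [11, 1, 1654632], [12, 1, 938790], [15, 1, 354150], [16, 1, 1909840], [17, 1, 1588944], [18, 1, 1712424], [19, 1, 149190], [20, 1, 610188], [21, 1, 17140], [22, 1, 1712764], [23, 1, 683262], [26, 1, 683272], [27, 1, 930570], [28, 1, 814984], [29, 1, 16808], [30, 1, 510400], [31, 1, 997592], [32, 1, 148680], [33, 1, 1367522], [34, 1, 4686544], [36, 1, 4619172], [37, 1, 4026468], [39, 1, 512066], [42, 1, 1647920], [43, 1, 1976196], [44, 1, 527856], [45, 1, 1515204], [46, 1, 421352], [47, 1, 1449348], [48, 1, 1845492], [49, 1, 1926458], [50, 1, 16970]]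

/-- The deduction data. -/
def dataON : DData := ⟨factTab, proofTab, relsG, defsG⟩

end

end Cfsg.Agent.ONan
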