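import Cfsg.Agent.Lib.ONan.SubPres
import Cfsg.Agent.Lib.ONan.SubData
import Cfsg.Agent.Lib.ONan.ChainJ1
import Cfsg.Agent.Lib.ONan.ChainJ1Low
import Cfsg.Agent.Lib.ONan.ChainM11
import Cfsg.Agent.Lib.J1.Simple
import Cfsg.Agent.Lib.Golay.Mathieu

/-! Presentations of J1 and M11 by involutions. -/

set_option autoImplicit false
set_option maxRecDepth 100000

namespace Cfsg.Agent.ONan.Sub

open Cfsg.Agent.CosetCert

noncomputable section

/-- The relators for J1. -/
def relsJ : List (List ℕ) := ChainJ1.base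

/-- The relators for M11, with the order of the product of the first two generators. -/
def relsM : List (List ℕ) := ChainM11.base ++ [[0, 1, 0, 1, 0, 1, 0, 1, 0, 1, 0, 1]]

theorem ltJ : ∀ w ∈ withSq 3 relsJ, ∀ x ∈ w, x < 3 := by decide +kernel

theorem ltM : ∀ w ∈ withSq 4 relsM, ∀ x ∈ w, x < 4 := by decide +kernel

theorem cardLe_J : CardLe (⊤ : Subgroup (PG 3 relsJ)) 175560 := by
  have h1 := cardLe_of_cert (P := ChainJ1Low.P) (pgen_sq (k := 3) (rels := relsJ))
    (fun w hw => pgen_rel (List.mem_append_right _ (by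
      have : ∀ w ∈ ChainJ1Low.base, w ∈ relsJ := by decide +kernel
      exact this w hw)))
    ChainJ1Low.rots_ok (sw := ChainJ1Low.sw) (H := ⊥)
    (by intro w hw; simp [ChainJ1Low.sw] at hw) ChainJ1Low.subs_ok
    ChainJ1Low.cert_ok ChainJ1Low.tab_ok cardLe_bot
  have h2 := cardLe_of_cert (P := ChainJ1.P) (pgen_sq (k := 3) (rels := relsJ))
    (fun w hw => pgen_rel (List.mem_append_right _ hw)) ChainJ1.rots_ok
    (sw := ChainJ1.sw) (H := Subgroup.closure (pgen 3 relsJ '' {x | x < ChainJ1Low.P.k}))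
    (by
      intro w hw
      simp only [ChainJ1.sw, List.mem_cons, List.not_mem_nil, or_false] at hw
      rcases hw with rfl | rfl
      · exact Subgroup.subset_closure ⟨0, (by decide +kernel : (0 : ℕ) < 2), by simp [wprod]⟩
      · exact Subgroup.subset_closure ⟨1, (by decide +kernel : (1 : ℕ) < 2), by simp [wprod]⟩)
    ChainJ1.subs_ok ChainJ1.cert_ok ChainJ1.tab_ok h1
  rw [← closure_pgen (k := 3) (rels := relsJ)]
  exact h2

theorem cardLe_M : CardLe (⊤ : Subgroup (PG 4 relsM)) 7920 := by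
  set z : PG 4 relsM := pgen 4 relsM 0 * pgen 4 relsM 1 with hz
  have hz6 : z ^ 6 = 1 := by
    have := pgen_rel (k := 4) (rels := relsM) (w := [0, 1, 0, 1, 0, 1, 0, 1, 0, 1, 0, 1])
      (by decide +kernel)
    simpa [hz, wprod, pow_succ, pow_zero, mul_assoc] using this
  have h1 : CardLe (Subgroup.zpowers z) 6 := by
    have hfo : IsOfFinOrder z := isOfFinOrder_iff_pow_eq_one.2 ⟨6, by norm_num, hz6⟩
    refine ⟨hfo.finite_zpowers, ?_⟩
    rw [Nat.card_zpowers]
    exact Nat.le_of_dvd (by norm_num) (orderOf_dvd_of_pow_eq_one hz6)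
  have h2 := cardLe_of_cert (P := ChainM11.P) (pgen_sq (k := 4) (rels := relsM))
    (fun w hw => pgen_rel (List.mem_append_right _ (List.mem_append_left _ hw))) ChainM11.rots_ok
    (sw := ChainM11.sw) (H := Subgroup.zpowers z)
    (by
      intro w hw
      simp only [ChainM11.sw, List.mem_cons, List.not_mem_nil, or_false] at hw
      subst hw
      simp [wprod, hz])
    ChainM11.subs_ok ChainM11.cert_ok ChainM11.tab_ok h1
  rw [← closure_pgen (k := 4) (rels := relsM)]
  exact h2

/-! ### J1 -/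

open Cfsg.Spor Cfsg.Agent.J1Cert Cfsg.Agent.J1Mat

/-- A product of packed matrices. -/
def evJ (gs : List ℕ) (w : List ℕ) : ℕ := w.foldr (fun x r => mul (gs.getD x 0) r) idCode

/-- The generator `i` of J1. -/
def uJ (i : ℕ) : GL (Fin 7) (ZMod 11) :=
  CosetCert.wprod (fun x => J1.wordElt (jabWords.getD x [])) (gwJ.getD i [])

/-- Equality of lists of packed matrices. -/
def natListEq : List ℕ → List ℕ → Bool
  | [], [] => true
  | x :: u, y :: v => Nat.beq x y && natListEq u v
  | _, _ => false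

/-- The checks on the generators of J1. -/
def jCheck : Bool :=
  natListEq ((List.range 3).map fun i => evJ (jabWords.map wordVal) (gwJ.getD i [])) jGens &&
    ((gwJ.all fun w => w.all fun x => Nat.blt x 2) &&
      (withSq 3 relsJ).all (fun w => Nat.beq (evJ jGens w) idCode) &&
      Nat.beq (evJ jGens (jBack.getD 0 [])) xCode && Nat.beq (evJ jGens (jBack.getD 1 [])) yCode &&
      jBack.all (fun w => w.all fun x => Nat.blt x 3))

theorem jCheck_ok : jCheck = true := by decide +kernel

theorem evJ_spec (gs : List ℕ) (u : ℕ → GL (Fin 7) (ZMod 11)) :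
    ∀ w : List ℕ, (∀ x ∈ w, J1.code (u x) = gs.getD x 0) → J1.code (CosetCert.wprod u w) = evJ gs w := by
  intro w
  induction w with
  | nil => intro _; simpa [CosetCert.wprod, evJ] using J1.code_one
  | cons x w ih =>
    intro h
    rw [wprod_cons, J1.code_mul, h x List.mem_cons_self,
      ih fun y hy => h y (List.mem_cons_of_mem _ hy)]
    rfl

theorem code_uJ {i : ℕ} (hi : i < 3) : J1.code (uJ i) = jGens.getD i 0 := by
  have h := jCheck_ok
  simp only [jCheck, Bool.and_eq_true] at h
  obtain ⟨h1, ⟨⟨⟨h2, -⟩, -⟩, -⟩, -⟩ := h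
  have e : J1.code (uJ i) = evJ (jabWords.map wordVal) (gwJ.getD i []) := by
    refine evJ_spec _ _ _ fun x hx => ?_
    have hx2 : x < 2 := by
      simp only [List.all_eq_true, Nat.blt_eq] at h2
      have hg : gwJ.getD i [] ∈ gwJ := by
        have hl : gwJ.length = 3 := rfl
        rw [List.getD_eq_getElem?_getD, List.getElem?_eq_getElem (by omega)]
        exact List.getElem_mem _
      exact h2 _ hg x hx
    rw [J1.code_wordElt]
    have hl : jabWords.length = 2 := rfl
    simp [hl, hx2]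
  have heq : ∀ {u v : List ℕ}, natListEq u v = true → u = v := by
    intro u
    induction u with
    | nil => intro v h; cases v <;> simp [natListEq] at h ⊢
    | cons x u ih =>
      intro v h
      cases v with
      | nil => simp [natListEq] at h
      | cons y v =>
        simp only [natListEq, Bool.and_eq_true] at h
        rw [Nat.eq_of_beq_eq_true h.1, ih h.2]
  rw [e, ← heq h1]
  simp [hi]

theorem uJ_rel : ∀ w ∈ withSq 3 relsJ, CosetCert.wprod uJ w = 1 := by
  intro w hw
  have h := jCheck_ok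
  simp only [jCheck, Bool.and_eq_true, List.all_eq_true, Nat.beq_eq] at h
  obtain ⟨-, ⟨⟨⟨-, h2⟩, -⟩, -⟩, -⟩ := h
  apply J1.code_injective
  rw [evJ_spec jGens uJ w fun x hx => code_uJ (ltJ w hw x hx), h2 w hw, J1.code_one]

/-- The map to J1. -/
def homJ : PG 3 relsJ →* GL (Fin 7) (ZMod 11) := pgHom uJ ltJ uJ_rel

theorem J1_le_range : J1 ≤ homJ.range := by
  have h := jCheck_ok
  simp only [jCheck, Bool.and_eq_true, List.all_eq_true, Nat.beq_eq, Nat.blt_eq] at h
  obtain ⟨-, ⟨⟨⟨-, -⟩, hX⟩, hY⟩, hlt⟩ := h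
  rw [Spor.J1, Subgroup.closure_le]
  have key : ∀ (w : List ℕ) (g : GL (Fin 7) (ZMod 11)), w ∈ jBack → evJ jGens w = J1.code g →
      g ∈ homJ.range := by
    intro w g hw e
    refine ⟨CosetCert.wprod (pgen 3 relsJ) w, ?_⟩
    rw [wprod_map]
    apply J1.code_injective
    rw [evJ_spec jGens _ w, e]
    intro x hx
    rw [homJ, pgHom_gen _ _ _ (hlt w hw x hx), code_uJ (hlt w hw x hx)]
  rintro g (rfl | rfl)
  · exact key _ _ (by decide +kernel) (hX.trans J1.code_X.symm)
  · exact key _ _ (by decide +kernel) (hY.trans J1.code_Y.symm)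

theorem homJ_range : homJ.range = J1 := by
  refine le_antisymm ?_ J1_le_range
  rw [MonoidHom.range_eq_map, ← closure_pgen, MonoidHom.map_closure, Subgroup.closure_le]
  rintro _ ⟨_, ⟨x, hx, rfl⟩, rfl⟩
  rw [homJ, pgHom_gen _ _ _ hx]
  have : ∀ w : List ℕ, CosetCert.wprod (fun x => J1.wordElt (jabWords.getD x [])) w ∈ J1 := by
    intro w
    induction w with
    | nil => exact one_mem _
    | cons y w ih => rw [wprod_cons]; exact mul_mem (J1.wordElt_mem _) ih
  exact this _

instance : Finite (PG 3 relsJ) := (cardLe_J.of_top).1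

/-- The presented group is J1. -/
def equivJ : PG 3 relsJ ≃* J1 :=
  ((MulEquiv.ofBijective homJ.rangeRestrict ((Nat.bijective_iff_surjective_and_card _).2
    ⟨homJ.rangeRestrict_surjective, le_antisymm
      (by rw [homJ_range, J1.card_J1]; exact (cardLe_J.of_top).2)
      (Nat.card_le_card_of_surjective _ homJ.rangeRestrict_surjective)⟩))).trans
    (MulEquiv.subgroupCongr homJ_range)

theorem isJ1_PG : IsSimpleGroup (PG 3 relsJ) ∧ Nat.card (PG 3 relsJ) = 175560 :=
  haveI := J1.isSimple_J1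
  ⟨equivJ.isSimpleGroup, by rw [Nat.card_congr equivJ.toEquiv, J1.card_J1]⟩

/-! ### M11 -/

open Cfsg.Agent.PermCert Cfsg.Agent.Golay Cfsg.Agent.Golay.Cert

/-- The coded generator `i` of M11. -/
def eM (i : ℕ) : Elt := mGens.getD i (one 5 24)

/-- A product of coded permutations. -/
def evM (w : List ℕ) : Elt := w.foldr (fun x r => PermCert.mul 5 24 (eM x) r) (one 5 24)

/-- The generator `i` of M11. -/
def uM (i : ℕ) : Equiv.Perm GolayPt := permOf (eM i)

/-- The checks on the generators of M11. -/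
def mCheck : Bool :=
  ((List.range 4).all fun i => validElt 5 24 (eM i) && inStabB m11Inv (eM i)) &&
    ((withSq 4 relsM).all (fun w => Nat.beq (evM w).1 (one 5 24).1) &&
      Nat.beq (evM (mBack.getD 0 []).reverse).1 (m11Gens.getD 0 (one 5 24)).1 &&
      Nat.beq (evM (mBack.getD 1 []).reverse).1 (m11Gens.getD 1 (one 5 24)).1 &&
      mBack.all (fun w => w.all fun x => Nat.blt x 4) &&
      m11Gens.all (fun e => validElt 5 24 e) && Nat.beq m11Gens.length 2)

theorem mCheck_ok : mCheck = true := by decide +kernel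

theorem evM_rep : ∀ w : List ℕ, (∀ x ∈ w, x < 4) →
    Rep 5 (n := 24) (evM w) (CosetCert.wprod (fun x => toPerm 5 24 (eM x)) w) := by
  intro w
  induction w with
  | nil => intro _; simpa [evM, CosetCert.wprod] using rep_one (w := 5) (n := 24) (by norm_num)
  | cons x w ih =>
    intro h
    rw [wprod_cons]
    refine rep_mul (rep_toPerm ?_) (ih fun y hy => h y (List.mem_cons_of_mem _ hy))
    have hm := mCheck_ok
    simp only [mCheck, Bool.and_eq_true, List.all_eq_true] at hm
    exact (hm.1 x (List.mem_range.2 (h x List.mem_cons_self))).1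

theorem evM_perm {w : List ℕ} (hw : ∀ x ∈ w, x < 4) {e : Elt} (he : validElt 5 24 e = true)
    (h : (evM w).1 = e.1) : CosetCert.wprod uM w = permOf e := by
  have := rep_eq_code (evM_rep w hw) (rep_toPerm he) h
  rw [permOf, ← this, show (phi (CosetCert.wprod (fun x => toPerm 5 24 (eM x)) w)) =
    phi.toMonoidHom (CosetCert.wprod (fun x => toPerm 5 24 (eM x)) w) from rfl, wprod_map]
  rfl

theorem uM_rel : ∀ w ∈ withSq 4 relsM, CosetCert.wprod uM w = 1 := by
  intro w hw
  have h := mCheck_ok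
  simp only [mCheck, Bool.and_eq_true, List.all_eq_true, Nat.beq_eq] at h
  obtain ⟨-, ⟨⟨⟨⟨h2, -⟩, -⟩, -⟩, -⟩, -⟩ := h
  have := rep_eq_code (evM_rep w (ltM w hw)) (rep_one (w := 5) (n := 24) (by norm_num)) (h2 w hw)
  have e : CosetCert.wprod uM w = phi (CosetCert.wprod (fun x => toPerm 5 24 (eM x)) w) := by
    rw [show (phi (CosetCert.wprod (fun x => toPerm 5 24 (eM x)) w)) =
      phi.toMonoidHom (CosetCert.wprod (fun x => toPerm 5 24 (eM x)) w) from rfl, wprod_map]
    rfl
  rw [e, this, map_one]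

/-- The map to M11. -/
def homM : PG 4 relsM →* Equiv.Perm GolayPt := pgHom uM ltM uM_rel

theorem homM_range : homM.range = Spor.M11 := by
  have h := mCheck_ok
  simp only [mCheck, Bool.and_eq_true, List.all_eq_true, Nat.beq_eq, Nat.blt_eq] at h
  obtain ⟨hgen, ⟨⟨⟨⟨-, hA⟩, hB⟩, hlt⟩, hval⟩, hlen⟩ := h
  rw [sporM11_eq, ← stabIn_m11]
  refine le_antisymm ?_ ?_
  · rw [MonoidHom.range_eq_map, ← closure_pgen, MonoidHom.map_closure, Subgroup.closure_le]
    rintro _ ⟨_, ⟨x, hx, rfl⟩, rfl⟩
    rw [homM, pgHom_gen _ _ _ hx]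
    exact permOf_mem_stabIn (hgen x (List.mem_range.2 hx)).1 (hgen x (List.mem_range.2 hx)).2
  · rw [← (stabCert_spec m11_ok).1, Golay.genPerm, genGroup, Subgroup.map_le_iff_le_comap,
      Subgroup.closure_le]
    intro σ hσ
    obtain ⟨e, he, rfl⟩ := List.mem_map.1 hσ
    show permOf e ∈ homM.range
    have key : ∀ w : List ℕ, (∀ x ∈ w, x < 4) → (evM w).1 = e.1 → permOf e ∈ homM.range := by
      intro w hw e'
      refine ⟨CosetCert.wprod (pgen 4 relsM) w, ?_⟩
      rw [wprod_map, ← evM_perm hw (hval e he) e', CosetCert.wprod, CosetCert.wprod]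
      congr 1
      exact List.map_congr_left fun x hx => pgHom_gen _ _ _ (hw x hx)
    obtain ⟨i, hi, rfl⟩ := List.getElem_of_mem he
    have hb : ∀ j < 2, mBack.getD j [] ∈ mBack := by decide +kernel
    rcases (by omega : i = 0 ∨ i = 1) with rfl | rfl
    · refine key _ (fun x hx => hlt _ (hb 0 (by norm_num)) x (List.mem_reverse.1 hx)) (hA.trans ?_)
      simp [hi]
    · refine key _ (fun x hx => hlt _ (hb 1 (by norm_num)) x (List.mem_reverse.1 hx)) (hB.trans ?_)
      simp [hi]

instance : Finite (PG 4 relsM) := (cardLe_M.of_top).1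

/-- The presented group is M11. -/
def equivM : PG 4 relsM ≃* Spor.M11 :=
  ((MulEquiv.ofBijective homM.rangeRestrict ((Nat.bijective_iff_surjective_and_card _).2
    ⟨homM.rangeRestrict_surjective, le_antisymm
      (by rw [homM_range, card_sporM11]; exact (cardLe_M.of_top).2)
      (Nat.card_le_card_of_surjective _ homM.rangeRestrict_surjective)⟩))).trans
    (MulEquiv.subgroupCongr homM_range)

theorem isM11_PG : IsSimpleGroup (PG 4 relsM) ∧ Nat.card (PG 4 relsM) = 7920 :=
  haveI := Golay.isSimpleGroup_sporM11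
  ⟨equivM.isSimpleGroup, by rw [Nat.card_congr equivM.toEquiv, card_sporM11]⟩

end

end Cfsg.Agent.ONan.Sub
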