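import Cfsg.Agent.Lib.ONan.SubGroups
import Cfsg.Agent.Lib.ONan.IsON
import Cfsg.Agent.Lib.ONan.RepSylow

/-! Subgroups J1 and M11 of the presented O'Nan group. -/

set_option autoImplicit false
set_option maxRecDepth 100000

namespace Cfsg.Agent.ONan.Sub

open Cfsg.Agent.CosetCert
open Cfsg.Agent.ONan.Rep

noncomputable section

/-- A product of matrices along a word. -/
def evR (ms : List (List ℕ)) : List ℕ → List ℕ
  | [] => scP 1
  | x :: w => mulP (ms.getD x (scP 1)) (evR ms w)

/-- The checks on generators of a subgroup: `b` is the word of the second letter, `gw` lists the words. -/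
def subCheck (k : ℕ) (rels : List (List ℕ)) (b : List ℕ) (bMat : List ℕ) (gw : List (List ℕ))
    (mats : List (List ℕ)) : Bool :=
  eqL (wordMat b) bMat && (b.all fun x => Nat.blt x 7) &&
    allLt (fun i => eqL (evR [genL 0, bMat] (gw.getD i [])) (mats.getD i [])) k &&
    (gw.all fun w => w.all fun x => Nat.blt x 2) && Nat.beq gw.length k && Nat.beq mats.length k &&
    (withSq k rels).all (fun w => eqL (evR mats w) (scP 1) || eqL (evR mats w) (scP 2) ||
      eqL (evR mats w) (scP 4)) &&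
    !(eqL (mats.getD 0 []) (scP 1)) && !(eqL (mats.getD 0 []) (scP 2)) &&
    !(eqL (mats.getD 0 []) (scP 4))

/-- The second letter. -/
def letON (b : List ℕ) (x : ℕ) : Cfsg.Spor.ON := if x = 0 then ofON 0 else wprod ofON b

/-- The generator `i` in the O'Nan group. -/
def uON (b : List ℕ) (gw : List (List ℕ)) (i : ℕ) : Cfsg.Spor.ON := wprod (letON b) (gw.getD i [])

/-- A unit lifting the image of an element. -/
def Lifts (z : Cfsg.Spor.ON) (A : List ℕ) : Prop := ∃ u, IsMat A u ∧ rho z = (u : Q45)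

theorem lifts_one : Lifts 1 (scP 1) := ⟨1, isMat_one, by simp⟩

theorem Lifts.mul {z z' : Cfsg.Spor.ON} {A B : List ℕ} (h : Lifts z A) (h' : Lifts z' B) :
    Lifts (z * z') (mulP A B) := by
  obtain ⟨u, hu, e⟩ := h
  obtain ⟨v, hv, e'⟩ := h'
  exact ⟨u * v, hu.mul hv, by rw [map_mul, e, e', QuotientGroup.mk_mul]⟩

theorem evR_lifts {ms : List (List ℕ)} {u : ℕ → Cfsg.Spor.ON} :
    ∀ w : List ℕ, (∀ x ∈ w, Lifts (u x) (ms.getD x (scP 1))) → Lifts (wprod u w) (evR ms w) := by
  intro w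
  induction w with
  | nil => intro _; exact lifts_one
  | cons x w ih =>
    intro h
    rw [wprod_cons]
    exact (h x List.mem_cons_self).mul (ih fun y hy => h y (List.mem_cons_of_mem _ hy))

theorem eq_one_of_lifts {z : Cfsg.Spor.ON} {c : ℕ} (hc : scalarOK c = true) (h : Lifts z (scP c)) :
    z = 1 := by
  obtain ⟨u, hu, e⟩ := h
  refine rho_injective ?_
  rw [e, map_one, QuotientGroup.eq_one_iff, hu.unique (isMat_scU hc)]
  exact scU_mem c

theorem scalar_of_lifts_one {A : List ℕ} (h : Lifts 1 A) : ∃ c, scalarOK c = true ∧ A = scP c := by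
  obtain ⟨u, hu, e⟩ := h
  rw [map_one, eq_comm, QuotientGroup.eq_one_iff] at e
  obtain ⟨c, hc, rfl⟩ := mem_Z3_cases e
  exact ⟨c, hc, list_eq_of_toM hu.1 (scP_ok hc) (by rw [hu.2, toM_scU hc])⟩

theorem exists_subgroup {k : ℕ} {rels : List (List ℕ)} {b bMat : List ℕ} {gw mats : List (List ℕ)}
    (hlt : ∀ w ∈ withSq k rels, ∀ x ∈ w, x < k) (h : subCheck k rels b bMat gw mats = true) (hk : 0 < k)
    [IsSimpleGroup (PG k rels)] :
    ∃ K : Subgroup Cfsg.Spor.ON, Nonempty (PG k rels ≃* K) := by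
  simp only [subCheck, Bool.and_eq_true, List.all_eq_true, Bool.or_eq_true, Nat.blt_eq, Nat.beq_eq,
    Bool.not_eq_true'] at h
  obtain ⟨⟨⟨⟨⟨⟨⟨⟨⟨hb, hblt⟩, hgw⟩, hgwlt⟩, hgl⟩, hml⟩, hrel⟩, n1⟩, n2⟩, n4⟩ := h
  have hB : Lifts (wprod ofON b) bMat :=
    ⟨wprod genU b, eq_of_eqL hb ▸ wordMat_spec b, by rw [rho_word hblt, qw_eq]⟩
  have hA : Lifts (ofON 0) (genL 0) :=
    ⟨genU 0, ⟨genL_ok 0, (val_genU 0).symm⟩, rho_ofON (by norm_num)⟩
  have hgen : ∀ i < k, Lifts (uON b gw i) (mats.getD i []) := by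
    intro i hi
    rw [← eq_of_eqL (allLt_spec hgw i hi)]
    refine evR_lifts _ fun x hx => ?_
    have hg : gw.getD i [] ∈ gw := by
      rw [List.getD_eq_getElem?_getD, List.getElem?_eq_getElem (by omega)]
      exact List.getElem_mem _
    have hx2 : x < 2 := hgwlt _ hg x hx
    interval_cases x
    · simpa [letON] using hA
    · simpa [letON] using hB
  have hr : ∀ w ∈ withSq k rels, wprod (uON b gw) w = 1 := by
    intro w hw
    have hl : Lifts (wprod (uON b gw) w) (evR mats w) := by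
      refine evR_lifts _ fun x hx => ?_
      have hxk := hlt w hw x hx
      have := hgen x hxk
      have e : mats.getD x (scP 1) = mats.getD x [] := by
        rw [List.getD_eq_getElem?_getD, List.getD_eq_getElem?_getD,
          List.getElem?_eq_getElem (by omega)]
        rfl
      rwa [e]
    rcases hrel w hw with (e | e) | e <;> rw [eq_of_eqL e] at hl
    · exact eq_one_of_lifts (c := 1) rfl hl
    · exact eq_one_of_lifts (c := 2) rfl hl
    · exact eq_one_of_lifts (c := 4) rfl hl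
  let φ : PG k rels →* Cfsg.Spor.ON := pgHom (uON b gw) hlt hr
  have hne : φ (pgen k rels 0) ≠ 1 := by
    rw [pgHom_gen _ _ _ hk]
    intro e
    obtain ⟨c, hc, hA'⟩ := scalar_of_lifts_one (e ▸ hgen 0 hk)
    simp only [scalarOK, Bool.or_eq_true, Nat.beq_eq] at hc
    rcases hc with (rfl | rfl) | rfl
    · rw [hA', eqL_refl] at n1; exact Bool.noConfusion n1
    · rw [hA', eqL_refl] at n2; exact Bool.noConfusion n2
    · rw [hA', eqL_refl] at n4; exact Bool.noConfusion n4
  have hinj : Function.Injective φ := by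
    rcases φ.normal_ker.eq_bot_or_eq_top with h | h
    · exact (φ.ker_eq_bot_iff).1 h
    · exact absurd (MonoidHom.mem_ker.1 (h ▸ Subgroup.mem_top (pgen k rels 0))) hne
  exact ⟨φ.range, ⟨MonoidHom.ofInjective hinj⟩⟩

theorem subCheckJ : subCheck 3 relsJ bWordJ bMatJ gwJ onGensJ = true := by decide +kernel

theorem subCheckM : subCheck 4 relsM bWordM bMatM gwM onGensM = true := by decide +kernel

theorem exists_J1 : ∃ K : Subgroup Cfsg.Spor.ON, IsSimpleGroup K ∧ Nat.card K = 175560 := by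
  haveI := isJ1_PG.1
  obtain ⟨K, ⟨e⟩⟩ := exists_subgroup ltJ subCheckJ (by norm_num)
  exact ⟨K, e.symm.isSimpleGroup, by rw [← Nat.card_congr e.toEquiv, isJ1_PG.2]⟩

theorem exists_M11 : ∃ K : Subgroup Cfsg.Spor.ON, IsSimpleGroup K ∧ Nat.card K = 7920 := by
  haveI := isM11_PG.1
  obtain ⟨K, ⟨e⟩⟩ := exists_subgroup ltM subCheckM (by norm_num)
  exact ⟨K, e.symm.isSimpleGroup, by rw [← Nat.card_congr e.toEquiv, isM11_PG.2]⟩

end

end Cfsg.Agent.ONan.Sub
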