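import Cfsg.Agent.Lib.ONan.HGroup

/-! Groups presented by words in numbered involutions. -/

set_option autoImplicit false

namespace Cfsg.Agent.ONan.Sub

open Cfsg.Agent.CosetCert

noncomputable section

/-- The relator list with the squares. -/
def withSq (k : ℕ) (rels : List (List ℕ)) : List (List ℕ) := (List.range k).map (fun i => [i, i]) ++ rels

/-- The free generator with number `x`. -/
def fgen (k x : ℕ) : FreeGroup (Fin k) := if h : x < k then FreeGroup.of ⟨x, h⟩ else 1

/-- The relators in the free group. -/
def relSet (k : ℕ) (rels : List (List ℕ)) : Set (FreeGroup (Fin k)) :=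
  {r | ∃ w ∈ withSq k rels, r = wprod (fgen k) w}

/-- The group presented by involutions and words. -/
abbrev PG (k : ℕ) (rels : List (List ℕ)) : Type := PresentedGroup (relSet k rels)

/-- The generator with number `x`. -/
def pgen (k : ℕ) (rels : List (List ℕ)) (x : ℕ) : PG k rels :=
  if h : x < k then PresentedGroup.of ⟨x, h⟩ else 1

variable {k : ℕ} {rels : List (List ℕ)}

theorem mk_fgen (x : ℕ) : PresentedGroup.mk (relSet k rels) (fgen k x) = pgen k rels x := by
  unfold fgen pgen
  split
  · rfl
  · exact map_one _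

theorem pgen_rel {w : List ℕ} (h : w ∈ withSq k rels) : wprod (pgen k rels) w = 1 := by
  rw [← funext (mk_fgen (k := k) (rels := rels)), ← wprod_map]
  exact PresentedGroup.one_of_mem ⟨w, h, rfl⟩

theorem pgen_sq (x : ℕ) : pgen k rels x * pgen k rels x = 1 := by
  by_cases h : x < k
  · have := pgen_rel (k := k) (rels := rels) (w := [x, x])
      (List.mem_append_left _ (List.mem_map.2 ⟨x, List.mem_range.2 h, rfl⟩))
    simpa [wprod] using this
  · rw [pgen, dif_neg h, one_mul]

theorem closure_pgen : Subgroup.closure (pgen k rels '' {x | x < k}) = ⊤ := by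
  rw [eq_top_iff, ← PresentedGroup.closure_range_of (relSet k rels), Subgroup.closure_le]
  rintro _ ⟨i, rfl⟩
  exact Subgroup.subset_closure ⟨i, i.2, by simp [pgen]⟩

/-- The map given by elements satisfying the relators. -/
def pgHom {G : Type*} [Group G] (u : ℕ → G) (hlt : ∀ w ∈ withSq k rels, ∀ x ∈ w, x < k)
    (h : ∀ w ∈ withSq k rels, wprod u w = 1) : PG k rels →* G :=
  PresentedGroup.toGroup (f := fun i : Fin k => u i) (by
    rintro r ⟨w, hw, rfl⟩
    rw [wprod_map]
    have : wprod (fun x => FreeGroup.lift (fun i : Fin k => u i) (fgen k x)) w = wprod u w := by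
      rw [wprod, wprod]
      congr 1
      exact List.map_congr_left fun x hx => by simp [fgen, hlt w hw x hx]
    rw [this]
    exact h w hw)

theorem pgHom_gen {G : Type*} [Group G] (u : ℕ → G) (hlt : ∀ w ∈ withSq k rels, ∀ x ∈ w, x < k)
    (h : ∀ w ∈ withSq k rels, wprod u w = 1) {x : ℕ} (hx : x < k) :
    pgHom u hlt h (pgen k rels x) = u x := by
  simp [pgHom, pgen, hx]

end

end Cfsg.Agent.ONan.Sub
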